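import Mathlib.GroupTheory.PGroup
import Mathlib.LinearAlgebra.Quotient.Basic
import Mathlib.Algebra.Algebra.Subalgebra.Basic
import Mathlib.Algebra.Algebra.Bilinear
import Mathlib.Tactic

/-!
# Lie rows of EH3, three layer modules: two orthogonal moving nodes are impossible (helper576; bb OMEGA #14149 (R4) (iii))

`E` a field of characteristic two (`F_4` in shape (iii), `F_2` in shape (iv) of THEOREM CL), `ρ : Y →* GL_E(V)`, a line `E a`,
`B ≤ U = X_k X_l O` with `C_V(B) ≤ E a` and `[V', B] ≤ E a`; `A ≥ X_k`, `C ≥ X_l` commute, normalise `O`, both move the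
line `E a`, and `A C a ≤ V'`. Then `False`.
-/

set_option autoImplicit false
set_option linter.unusedSectionVars false

namespace Cfsg.Agent.Omega.EH3.Kf.TwoNodes

variable {E Y V : Type*} [Field E] [Group Y] [AddCommGroup V] [Module E V] (ρ : Y →* (V ≃ₗ[E] V))

theorem rho_mul (g k : Y) (v : V) : ρ (g * k) v = ρ g (ρ k v) := by
  rw [map_mul, LinearEquiv.mul_apply]

theorem rho_one (v : V) : ρ 1 v = v := by rw [map_one]; rfl

/-- a 2-group acting on a section of a vector space of characteristic two has a fixed vector -/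
theorem exists_fix_mod [Finite V] (h2 : ∀ v : V, v + v = 0) {P : Subgroup Y} (hP : IsPGroup 2 P)
    {W₁ W₂ : Submodule E V} (h₁ : ∀ u ∈ P, ∀ v ∈ W₁, ρ u v ∈ W₁) (h₂ : ∀ u ∈ P, ∀ v ∈ W₂, ρ u v ∈ W₂)
    {f : V} (hf : f ∈ W₂) (hf1 : f ∉ W₁) : ∃ v ∈ W₂, v ∉ W₁ ∧ ∀ u ∈ P, ρ u v - v ∈ W₁ := by
  classical
  have h1' : ∀ u : P, W₁ ≤ W₁.comap ((ρ (u : Y) : V ≃ₗ[E] V) : V →ₗ[E] V) := fun u v hv => h₁ u u.2 v hv
  let S : Set (V ⧸ W₁) := {x | ∃ v ∈ W₂, W₁.mkQ v = x}
  let act : MulAction P S :=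
    { smul := fun u x => ⟨W₁.mapQ W₁ ((ρ (u : Y) : V ≃ₗ[E] V) : V →ₗ[E] V) (h1' u) x, by
        obtain ⟨v, hv, e⟩ := x.2
        refine ⟨ρ (u : Y) v, h₂ u u.2 v hv, ?_⟩
        rw [← e]; rfl⟩
      one_smul := fun x => by
        apply Subtype.ext
        obtain ⟨x, v, hv, rfl⟩ := x
        change W₁.mkQ (ρ ((1 : P) : Y) v) = W₁.mkQ v
        rw [Subgroup.coe_one, rho_one]
      mul_smul := fun g k x => by
        apply Subtype.ext
        obtain ⟨x, v, hv, rfl⟩ := x
        change W₁.mkQ (ρ ((g * k : P) : Y) v) = W₁.mkQ (ρ (g : Y) (ρ (k : Y) v))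
        rw [Subgroup.coe_mul, rho_mul] }
  have hsm : ∀ (u : P) (v : V) (hv : v ∈ W₂), ((u • (⟨W₁.mkQ v, v, hv, rfl⟩ : S) : S) : V ⧸ W₁) =
      W₁.mkQ (ρ (u : Y) v) := fun _ _ _ => rfl
  have : Fact (Nat.Prime 2) := ⟨Nat.prime_two⟩
  have : Finite (V ⧸ W₁) := Finite.of_surjective _ W₁.mkQ_surjective
  have : Finite S := inferInstance
  -- `S` is a nontrivial elementary abelian 2-group
  let SA : AddSubgroup (V ⧸ W₁) :=
    { carrier := S
      add_mem' := by
        rintro _ _ ⟨v, hv, rfl⟩ ⟨w, hw, rfl⟩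
        exact ⟨v + w, W₂.add_mem hv hw, map_add _ _ _⟩
      zero_mem' := ⟨0, W₂.zero_mem, map_zero _⟩
      neg_mem' := by
        rintro _ ⟨v, hv, rfl⟩
        exact ⟨-v, W₂.neg_mem hv, map_neg _ _⟩ }
  have hcard : 2 ∣ Nat.card S := by
    have hx : addOrderOf (⟨W₁.mkQ f, f, hf, rfl⟩ : SA) = 2 := by
      apply addOrderOf_eq_prime
      · apply Subtype.ext
        change (2 : ℕ) • (W₁.mkQ f) = 0
        rw [two_nsmul, ← map_add, h2, map_zero]
      · intro h
        apply hf1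
        have : W₁.mkQ f = 0 := congrArg Subtype.val h
        rwa [Submodule.mkQ_apply, Submodule.Quotient.mk_eq_zero] at this
    have := addOrderOf_dvd_natCard (⟨W₁.mkQ f, f, hf, rfl⟩ : SA)
    rw [hx] at this
    exact this
  have h1 := hP.card_modEq_card_fixedPoints S
  have h3 : 2 ∣ Nat.card (MulAction.fixedPoints P S) := (h1.dvd_iff (dvd_refl 2)).1 hcard
  let z : S := ⟨W₁.mkQ 0, 0, W₂.zero_mem, rfl⟩
  have h0f : z ∈ MulAction.fixedPoints P S := by
    intro u
    apply Subtype.ext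
    rw [hsm u 0 W₂.zero_mem, map_zero]
  have h4 : 1 < Nat.card (MulAction.fixedPoints P S) := by
    have h5 : 0 < Nat.card (MulAction.fixedPoints P S) := by
      have : Nonempty (MulAction.fixedPoints P S) := ⟨⟨z, h0f⟩⟩
      exact Nat.card_pos
    exact Nat.lt_of_lt_of_le (by norm_num) (Nat.le_of_dvd h5 h3)
  have : Nontrivial (MulAction.fixedPoints P S) := Finite.one_lt_card_iff_nontrivial.1 h4
  obtain ⟨⟨⟨x, v, hv, rfl⟩, hfix⟩, hne⟩ := exists_ne (⟨z, h0f⟩ : MulAction.fixedPoints P S)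
  refine ⟨v, hv, ?_, ?_⟩
  · intro h
    apply hne
    apply Subtype.ext
    apply Subtype.ext
    change W₁.mkQ v = W₁.mkQ 0
    rw [map_zero, Submodule.mkQ_apply, Submodule.Quotient.mk_eq_zero]
    exact h
  · intro u hu
    have h6 : W₁.mkQ (ρ u v) = W₁.mkQ v := congrArg Subtype.val (hfix ⟨u, hu⟩)
    have h7 : W₁.mkQ (ρ u v - v) = 0 := by rw [map_sub, h6, sub_self]
    rwa [Submodule.mkQ_apply, Submodule.Quotient.mk_eq_zero] at h7

/-- the algebra of operators generated by a subgroup -/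
def Alg (A : Subgroup Y) : Submodule E (V →ₗ[E] V) := Submodule.span E {f | ∃ g ∈ A, f = (ρ g : V ≃ₗ[E] V)}

variable {ρ}

theorem mem_Alg {A : Subgroup Y} {g : Y} (hg : g ∈ A) : ((ρ g : V ≃ₗ[E] V) : V →ₗ[E] V) ∈ Alg ρ A :=
  Submodule.subset_span ⟨g, hg, rfl⟩

theorem Alg_comm {A C : Subgroup Y} (h : ∀ g ∈ A, ∀ k ∈ C, g * k = k * g) {α β : V →ₗ[E] V} (hα : α ∈ Alg ρ A)
    (hβ : β ∈ Alg ρ C) (v : V) : α (β v) = β (α v) := by
  induction hα using Submodule.span_induction with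
  | mem f hf =>
    obtain ⟨g, hg, rfl⟩ := hf
    induction hβ using Submodule.span_induction with
    | mem f' hf' =>
      obtain ⟨k, hk, rfl⟩ := hf'
      change ρ g (ρ k v) = ρ k (ρ g v)
      rw [← rho_mul, ← rho_mul, h g hg k hk]
    | zero => rw [LinearMap.zero_apply, LinearMap.zero_apply, map_zero]
    | add x y _ _ hx hy => rw [LinearMap.add_apply, LinearMap.add_apply, map_add, hx, hy]
    | smul c x _ hx => rw [LinearMap.smul_apply, LinearMap.smul_apply, map_smul, hx]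
  | zero => rw [LinearMap.zero_apply, LinearMap.zero_apply, map_zero]
  | add x y _ _ hx hy => rw [LinearMap.add_apply, LinearMap.add_apply, map_add, hx, hy]
  | smul c x _ hx => rw [LinearMap.smul_apply, LinearMap.smul_apply, map_smul, hx]

/-- the module generated by `a` -/
def Orb (ρ : Y →* (V ≃ₗ[E] V)) (A : Subgroup Y) (a : V) : Submodule E V :=
  (Alg ρ A).map ((LinearMap.applyₗ (R := E) (M := V) (M₂ := V)) a)

theorem mem_Orb {A : Subgroup Y} {a v : V} : v ∈ Orb ρ A a ↔ ∃ α ∈ Alg ρ A, α a = v := by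
  unfold Orb
  rw [Submodule.mem_map]
  rfl

theorem Orb_inv {A : Subgroup Y} {a : V} {g : Y} (hg : g ∈ A) {v : V} (hv : v ∈ Orb ρ A a) : ρ g v ∈ Orb ρ A a := by
  rw [mem_Orb] at hv ⊢
  obtain ⟨α, hα, rfl⟩ := hv
  refine ⟨((ρ g : V ≃ₗ[E] V) : V →ₗ[E] V) ∘ₗ α, ?_, rfl⟩
  induction hα using Submodule.span_induction with
  | mem f hf =>
    obtain ⟨k, hk, rfl⟩ := hf
    refine Submodule.subset_span ⟨g * k, mul_mem hg hk, ?_⟩
    ext v
    change ρ g (ρ k v) = ρ (g * k) v
    rw [rho_mul]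
  | zero => rw [LinearMap.comp_zero]; exact Submodule.zero_mem _
  | add x y _ _ hx hy => rw [LinearMap.comp_add]; exact Submodule.add_mem _ hx hy
  | smul c x _ hx => rw [LinearMap.comp_smul]; exact Submodule.smul_mem _ c hx

/-- a subgroup acting trivially on the `A`-orbit of `a` is trivial on `Orb` -/
theorem fix_Orb {A : Subgroup Y} {a : V} {o : Y} (h : ∀ g ∈ A, ρ o (ρ g a) = ρ g a) {v : V} (hv : v ∈ Orb ρ A a) :
    ρ o v = v := by
  rw [mem_Orb] at hv
  obtain ⟨α, hα, rfl⟩ := hv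
  induction hα using Submodule.span_induction with
  | mem f hf =>
    obtain ⟨k, hk, rfl⟩ := hf
    exact h k hk
  | zero => rw [LinearMap.zero_apply, map_zero]
  | add x y _ _ hx hy => rw [LinearMap.add_apply, map_add, hx, hy]
  | smul c x _ hx => rw [LinearMap.smul_apply, map_smul, hx]

/-- the hypotheses for one pair of commuting groups moving the line `E a` -/
structure Pair (ρ : Y →* (V ≃ₗ[E] V)) (A C Xk Xl O B : Subgroup Y) (a : V) (V' : Submodule E V) : Prop where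
  char : ∀ v : V, v + v = 0
  leA : Xk ≤ A
  leC : Xl ≤ C
  comm : ∀ g ∈ A, ∀ k ∈ C, g * k = k * g
  OA : ∀ g ∈ A, ∀ o ∈ O, g⁻¹ * o * g ∈ O
  OC : ∀ g ∈ C, ∀ o ∈ O, g⁻¹ * o * g ∈ O
  dec : ∀ y ∈ B, ∃ u ∈ Xk, ∃ u' ∈ Xl, ∃ o ∈ O, y = u * u' * o
  Oa : ∀ o ∈ O, ρ o a = a
  ka : ∀ u ∈ Xk, ρ u a = a
  la : ∀ u ∈ Xl, ρ u a = a
  fix : ∀ v, (∀ y ∈ B, ρ y v = v) → v ∈ Submodule.span E {a}
  movA : ∃ g ∈ A, ρ g a ∉ Submodule.span E {a}
  movC : ∃ g ∈ C, ρ g a ∉ Submodule.span E {a}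
  pk : IsPGroup 2 Xk
  pl : IsPGroup 2 Xl
  sub : ∀ g ∈ A, ∀ k ∈ C, ρ g (ρ k a) ∈ V'
  lay : ∀ y ∈ B, ∀ v ∈ V', ρ y v - v ∈ Submodule.span E {a}

namespace Pair

variable {A C Xk Xl O B : Subgroup Y} {a : V} {V' : Submodule E V}

theorem line_inv {P : Subgroup Y} (h : ∀ u ∈ P, ρ u a = a) : ∀ u ∈ P, ∀ v ∈ Submodule.span E {a},
    ρ u v ∈ Submodule.span E {a} := by
  intro u hu v hv
  obtain ⟨c, rfl⟩ := Submodule.mem_span_singleton.1 hv
  rw [map_smul, h u hu]
  exact hv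

theorem O_fix (h : Pair ρ A C Xk Xl O B a V') {o : Y} (ho : o ∈ O) {g k : Y} (hg : g ∈ A) (hk : k ∈ C) :
    ρ o (ρ g (ρ k a)) = ρ g (ρ k a) := by
  have e : o * (g * k) = g * k * (k⁻¹ * (g⁻¹ * o * g) * k) := by group
  rw [← rho_mul ρ g k, ← rho_mul ρ o (g * k), e, rho_mul ρ (g * k), h.Oa _ (h.OC k hk _ (h.OA g hg o ho))]

/-- the fixed vectors of `X_k` on `A a` are on the line -/
theorem fixk (h : Pair ρ A C Xk Xl O B a V') {v : V} (hv : v ∈ Orb ρ A a) (hu : ∀ u ∈ Xk, ρ u v = v) :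
    v ∈ Submodule.span E {a} := by
  refine h.fix v fun y hy => ?_
  obtain ⟨u, hu', u', hl, o, ho, rfl⟩ := h.dec y hy
  have h1 : ρ o v = v := fix_Orb (fun g hg => by
    have := h.O_fix ho hg (one_mem C)
    rwa [rho_one] at this) hv
  have h2 : ρ u' v = v := fix_Orb (fun g hg => by
    rw [← rho_mul, ← h.comm g hg u' (h.leC hl), rho_mul, h.la u' hl]) hv
  rw [rho_mul, rho_mul, h1, h2, hu u hu']

theorem swap (h : Pair ρ A C Xk Xl O B a V') : Pair ρ C A Xl Xk O B a V' where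
  char := h.char
  leA := h.leC
  leC := h.leA
  comm := fun g hg k hk => (h.comm k hk g hg).symm
  OA := h.OC
  OC := h.OA
  dec := fun y hy => by
    obtain ⟨u, hu, u', hu', o, ho, rfl⟩ := h.dec y hy
    exact ⟨u', hu', u, hu, o, ho, by rw [h.comm u (h.leA hu) u' (h.leC hu')]⟩
  Oa := h.Oa
  ka := h.la
  la := h.ka
  fix := h.fix
  movA := h.movC
  movC := h.movA
  pk := h.pl
  pl := h.pk
  sub := fun g hg k hk => by
    rw [← rho_mul, ← h.comm k hk g hg, rho_mul]
    exact h.sub k hk g hg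
  lay := h.lay

/-- a vector in the second layer of `A a` -/
theorem exists_mk [Finite V] (h : Pair ρ A C Xk Xl O B a V') : ∃ α ∈ Alg ρ A, α a ∉ Submodule.span E {a} ∧
    (∀ u ∈ Xk, ρ u (α a) - α a ∈ Submodule.span E {a}) ∧ ∃ u ∈ Xk, ρ u (α a) ≠ α a := by
  obtain ⟨g, hg, hga⟩ := h.movA
  have h1 : ρ g a ∈ Orb ρ A a := mem_Orb.2 ⟨_, mem_Alg hg, rfl⟩
  obtain ⟨v, hv, hv1, hv2⟩ := exists_fix_mod ρ h.char h.pk (W₁ := Submodule.span E {a}) (W₂ := Orb ρ A a)
    (line_inv h.ka) (fun u hu v hv => Orb_inv (h.leA hu) hv) h1 hga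
  obtain ⟨α, hα, rfl⟩ := mem_Orb.1 hv
  refine ⟨α, hα, hv1, hv2, ?_⟩
  by_contra hcon
  push Not at hcon
  exact hv1 (h.fixk hv hcon)

/-- **Two orthogonal moving nodes are impossible.** -/
theorem false_of [Finite V] (h : Pair ρ A C Xk Xl O B a V') : False := by
  obtain ⟨α, hα, hαa, hαu, u₀, hu₀, hu₀'⟩ := h.exists_mk
  obtain ⟨β, hβ, hβa, hβu, u₁, hu₁, hu₁'⟩ := h.swap.exists_mk
  -- `B` does not move `α a`
  have key : ∀ y ∈ B, ρ y (α a) = α a := by
    intro y hy
    obtain ⟨u, hu, u', hu', o, ho, rfl⟩ := h.dec y hy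
    have hαO : α a ∈ Orb ρ A a := mem_Orb.2 ⟨α, hα, rfl⟩
    have hβO : β a ∈ Orb ρ C a := mem_Orb.2 ⟨β, hβ, rfl⟩
    have h1 : ρ o (α a) = α a := fix_Orb (fun g hg => by
      have := h.O_fix ho hg (one_mem C)
      rwa [rho_one] at this) hαO
    have h2 : ∀ u' ∈ Xl, ρ u' (α a) = α a := fun u' hu' => fix_Orb (fun g hg => by
      rw [← rho_mul, ← h.comm g hg u' (h.leC hu'), rho_mul, h.la u' hu']) hαO
    rw [rho_mul, rho_mul, h1, h2 u' hu']
    obtain ⟨c, hc⟩ := Submodule.mem_span_singleton.1 (hαu u hu)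
    obtain ⟨d, hd⟩ := Submodule.mem_span_singleton.1 (hβu u' hu')
    -- the vector `α β a`
    have hm : α (β a) ∈ V' := by
      have : ∀ α' ∈ Alg ρ A, ∀ β' ∈ Alg ρ C, α' (β' a) ∈ V' := by
        intro α' hα' β' hβ'
        induction hα' using Submodule.span_induction with
        | mem f hf =>
          obtain ⟨g, hg, rfl⟩ := hf
          induction hβ' using Submodule.span_induction with
          | mem f' hf' =>
            obtain ⟨k, hk, rfl⟩ := hf'
            exact h.sub g hg k hk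
          | zero => rw [LinearMap.zero_apply, map_zero]; exact V'.zero_mem
          | add x y _ _ hx hy => rw [LinearMap.add_apply, map_add]; exact V'.add_mem hx hy
          | smul c x _ hx => rw [LinearMap.smul_apply, map_smul]; exact V'.smul_mem c hx
        | zero => rw [LinearMap.zero_apply]; exact V'.zero_mem
        | add x y _ _ hx hy => rw [LinearMap.add_apply]; exact V'.add_mem hx hy
        | smul c x _ hx => rw [LinearMap.smul_apply]; exact V'.smul_mem c hx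
      exact this α hα β hβ
    have ho' : ρ o (α (β a)) = α (β a) := by
      have : ∀ α' ∈ Alg ρ A, ∀ β' ∈ Alg ρ C, ρ o (α' (β' a)) = α' (β' a) := by
        intro α' hα' β' hβ'
        induction hα' using Submodule.span_induction with
        | mem f hf =>
          obtain ⟨g, hg, rfl⟩ := hf
          induction hβ' using Submodule.span_induction with
          | mem f' hf' =>
            obtain ⟨k, hk, rfl⟩ := hf'
            exact h.O_fix ho hg hk
          | zero => rw [LinearMap.zero_apply, map_zero, map_zero]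
          | add x y _ _ hx hy => rw [LinearMap.add_apply, map_add, map_add, hx, hy]
          | smul c x _ hx => rw [LinearMap.smul_apply, map_smul, map_smul, hx]
        | zero => rw [LinearMap.zero_apply, map_zero]
        | add x y _ _ hx hy => rw [LinearMap.add_apply, map_add, hx, hy]
        | smul c x _ hx => rw [LinearMap.smul_apply, map_smul, hx]
      exact this α hα β hβ
    have e1 : ρ u (α (β a)) = α (β a) + c • β a := by
      have e0 : ρ u (α (β a)) = β (ρ u (α a)) := by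
        rw [Alg_comm h.comm hα hβ a]
        exact Alg_comm h.comm (mem_Alg (h.leA hu)) hβ (α a)
      have e0' : ρ u (α a) = α a + c • a := by rw [hc]; abel
      rw [e0, e0', map_add, map_smul, Alg_comm h.comm hα hβ a]
    have e2 : ρ u' (α (β a)) = α (β a) + d • α a := by
      have e0 : ρ u' (α (β a)) = α (ρ u' (β a)) := (Alg_comm h.comm hα (mem_Alg (h.leC hu')) (β a)).symm
      have e0' : ρ u' (β a) = β a + d • a := by rw [hd]; abel
      rw [e0, e0', map_add, map_smul]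
    have e3 : ρ u (α a) = α a + c • a := by rw [hc]; abel
    -- the difference
    have e4 : ρ (u * u' * o) (α (β a)) - α (β a) = c • β a + d • α a + (d * c) • a := by
      rw [rho_mul, rho_mul, ho', e2, map_add, e1, map_smul, e3, smul_add, smul_smul]
      abel
    have h5 := h.lay _ hy _ hm
    rw [e4] at h5
    obtain ⟨t, ht⟩ := Submodule.mem_span_singleton.1 h5
    -- apply `u₁ ∈ X_l`
    have e6 : c • (ρ u₁ (β a) - β a) = 0 := by
      have h7 : ρ u₁ (t • a) = t • a := by rw [map_smul, h.la u₁ hu₁]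
      rw [ht, map_add, map_add, map_smul, map_smul, map_smul, h2 u₁ hu₁, h.la u₁ hu₁] at h7
      have h8 : c • ρ u₁ (β a) = c • β a := by
        have h9 := add_right_cancel (add_right_cancel h7)
        exact h9
      rw [smul_sub, h8, sub_self]
    rcases smul_eq_zero.1 e6 with h7 | h7
    · rw [e3, h7, zero_smul, add_zero]
    · exact absurd (sub_eq_zero.1 h7) hu₁'
  exact hαa (h.fix _ key)

end Pair

end Cfsg.Agent.Omega.EH3.Kf.TwoNodes
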