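import Mathlib
import Cfsg.Agent.Nodes.NormalForm

/-!
# EH3, Lie rows in characteristic 2: the interface (helper227; blueprints/OMEGA-EH3-KF3-helper227.md)

`Row cs h T n X ρ b a D X0 w` : the group `Y` has a root group datum `(T, n, X)` of characteristic 2 which generates it,
acts through `ρ` on the `ZMod 2`-space `V`; `a ≠ 0` is fixed by the Borel subgroup, `X0 ≤ U` is the elementary abelian
group of the configuration (`Cfg` of helper888 restricted to `Y`).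

* `Mv ρ n a` : the nodes moving `a`;
* `dl ρ x v = ρ x v + v`.
-/

set_option autoImplicit false

namespace Cfsg.Agent.Omega.EH3.Kf.Base

open CoxeterSystem Cfsg.Agent.ChevalleyStructure.CoxeterGeom Cfsg.Agent.Tits.Roots Cfsg.Agent.Tits.Core
  Cfsg.Agent.Tits.RootComb Cfsg.Agent.Nodes.Comb Cfsg.Agent.Nodes.Reps Cfsg.Agent.Nodes.BNOf
  Cfsg.Agent.Nodes.StabComb Cfsg.Agent.Nodes.Bruhat Cfsg.Agent.Nodes.LeviDec

/-- `x - 1` on `V` (characteristic 2) -/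
def dl {Y V : Type*} [Group Y] [AddCommGroup V] [Module (ZMod 2) V] (ρ : Y →* (V ≃ₗ[ZMod 2] V)) (x : Y) (v : V) : V :=
  ρ x v + v

/-- The nodes moving `a`. -/
def Mv {I Y V : Type*} [Group Y] [AddCommGroup V] [Module (ZMod 2) V] (ρ : Y →* (V ≃ₗ[ZMod 2] V)) (n : I → Y) (a : V) :
    Set I := {i | ρ (n i) a ≠ a}

/-- **The interface for the Lie rows.** -/
structure Row {I W Y V : Type*} [Fintype I] [DecidableEq I] [Group W] [Group Y] [AddCommGroup V]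
    [Module (ZMod 2) V] {M : CoxeterMatrix I} (cs : CoxeterSystem M W) {A : I → I → ℤ} (h : IsCartan M A)
    (T : Subgroup Y) (n : I → Y) (X : (I → ℤ) → Subgroup Y) (ρ : Y →* (V ≃ₗ[ZMod 2] V))
    (b : LinearMap.BilinForm (ZMod 2) V) (a : V) (D : Submodule (ZMod 2) V) (X0 : Subgroup Y) (w : ℕ) : Prop where
  rgd : RGD cs h 2 T n X
  gen : GG cs h T X = ⊤
  six : 6 ≤ w
  card_V : Nat.card V = 2 ^ (2 * w)
  card_D : Nat.card D = 2 ^ w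
  card_X : Nat.card X0 = 2 ^ (w - 1)
  b_self : ∀ v, b v v = 0
  nondeg : ∀ v, (∀ u, b v u = 0) → v = 0
  b_inv : ∀ g u v, b (ρ g u) (ρ g v) = b u v
  span : Submodule.span (ZMod 2) (Set.range fun g => ρ g a) = ⊤
  a_ne : a ≠ 0
  a_mem : a ∈ D
  b_D : ∀ u ∈ D, ∀ v ∈ D, b u v = 0
  D_inv : ∀ g, ρ g a = a → ∀ d ∈ D, ρ g d ∈ D
  /-- the Borel subgroup fixes `a` -/
  fixB : ∀ g ∈ RGD.B cs h T X, ρ g a = a
  le : X0 ≤ RGD.Sup X (RGD.Pos cs h)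
  sq : ∀ x ∈ X0, x * x = 1
  norm : ∀ g, ρ g a = a → ∀ x ∈ X0, g * x * g⁻¹ ∈ X0
  /-- (X1) -/
  fix : ∀ v, (∀ x ∈ X0, ρ x v = v) → v = 0 ∨ v = a
  /-- (X2) -/
  semi : ∀ x ∈ X0, ∀ v, b a v = 1 → ρ x v = v → x = 1
  /-- (X3) -/
  one : ∀ x ∈ X0, ∀ v, b a (dl ρ x v) = 0
  two : ∀ x ∈ X0, ∀ v, b a v = 0 → dl ρ x v ∈ D
  three : ∀ x ∈ X0, ∀ d ∈ D, dl ρ x d = 0 ∨ dl ρ x d = a
  /-- (X4) -/
  tri : ∀ x ∈ X0, x ≠ 1 → ∀ c, b a c = 1 → ∃ y ∈ X0, ∃ t ∈ X0, b (dl ρ y (dl ρ x c)) (dl ρ t c) ≠ 0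

end Cfsg.Agent.Omega.EH3.Kf.Base
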