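import Mathlib

/-!
# Norm sums in characteristic 2 (helper227; EH3 END, Lie rows)

`Nm ρ H v = ∑ u ∈ H, ρ u v` and the covering lemma `cover`.
-/

set_option autoImplicit false
set_option linter.dupNamespace false

namespace Cfsg.Agent.Omega.EH3.Kf.Nm

variable {Y V : Type*} [Group Y] [Finite Y] [AddCommGroup V] [Module (ZMod 2) V] {ρ : Y →* (V ≃ₗ[ZMod 2] V)}

/-- the elements of a subgroup as a finset -/
noncomputable def fs (H : Subgroup Y) : Finset Y := (Set.toFinite (H : Set Y)).toFinset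

omit [Finite Y] in
theorem rho_mul (g k : Y) (v : V) : ρ (g * k) v = ρ g (ρ k v) := by
  rw [map_mul, LinearEquiv.mul_apply]

omit [Finite Y] in
theorem rho_one (v : V) : ρ 1 v = v := by rw [map_one]; rfl

omit [Finite Y] in
theorem rho_inv (g : Y) (v : V) : ρ g⁻¹ (ρ g v) = v := by rw [← rho_mul, inv_mul_cancel, rho_one]

omit [Finite Y] in
theorem rho_inv' (g : Y) (v : V) : ρ g (ρ g⁻¹ v) = v := by rw [← rho_mul, mul_inv_cancel, rho_one]

omit [Finite Y] in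
theorem fix_inv {g : Y} {v : V} (h : ρ g v = v) : ρ g⁻¹ v = v := by
  conv_lhs => rw [← h]
  exact rho_inv g v

theorem mem_fs {H : Subgroup Y} {g : Y} : g ∈ fs H ↔ g ∈ H := by
  unfold fs
  rw [Set.Finite.mem_toFinset, SetLike.mem_coe]

theorem card_fs (H : Subgroup Y) : (fs H).card = Nat.card H := by
  unfold fs
  rw [← Nat.card_eq_card_finite_toFinset]
  rfl

/-- the norm sum -/
noncomputable def Nm (ρ : Y →* (V ≃ₗ[ZMod 2] V)) (H : Subgroup Y) (v : V) : V := ∑ u ∈ fs H, ρ u v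

theorem fix {H : Subgroup Y} {g : Y} (hg : g ∈ H) (v : V) : ρ g (Nm ρ H v) = Nm ρ H v := by
  unfold Nm
  rw [map_sum]
  refine Finset.sum_nbij' (fun u => g * u) (fun u => g⁻¹ * u) ?_ ?_ ?_ ?_ ?_
  · intro u hu
    exact mem_fs.2 (mul_mem hg (mem_fs.1 hu))
  · intro u hu
    exact mem_fs.2 (mul_mem (inv_mem hg) (mem_fs.1 hu))
  · intro u _
    exact inv_mul_cancel_left g u
  · intro u _
    exact mul_inv_cancel_left g u
  · intro u _
    exact (rho_mul g u v).symm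

/-- `Nm (H^g) (g v) = g (Nm H v)`, with `H'` the conjugate -/
theorem conj {H H' : Subgroup Y} {g : Y} (h1 : ∀ u ∈ H, g * u * g⁻¹ ∈ H') (h2 : ∀ u ∈ H', g⁻¹ * u * g ∈ H)
    (v : V) : Nm ρ H' (ρ g v) = ρ g (Nm ρ H v) := by
  unfold Nm
  rw [map_sum]
  symm
  refine Finset.sum_nbij' (fun u => g * u * g⁻¹) (fun u => g⁻¹ * u * g) ?_ ?_ ?_ ?_ ?_
  · intro u hu
    exact mem_fs.2 (h1 u (mem_fs.1 hu))
  · intro u hu
    exact mem_fs.2 (h2 u (mem_fs.1 hu))
  · intro u _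
    group
  · intro u _
    group
  · intro u _
    rw [← rho_mul, ← rho_mul]
    congr 2
    group

/-- product decomposition -/
theorem prod {H K L : Subgroup Y} (h1 : ∀ k ∈ K, ∀ l ∈ L, k * l ∈ H)
    (h2 : ∀ g ∈ H, ∃ k ∈ K, ∃ l ∈ L, g = k * l) (h3 : ∀ g ∈ K, g ∈ L → g = 1) (v : V) :
    Nm ρ H v = Nm ρ K (Nm ρ L v) := by
  classical
  unfold Nm
  have e1 : ∀ k ∈ fs K, ρ k (∑ u ∈ fs L, ρ u v) = ∑ l ∈ fs L, ρ (k * l) v := by
    intro k _
    rw [map_sum]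
    exact Finset.sum_congr rfl fun l _ => (rho_mul k l v).symm
  rw [Finset.sum_congr rfl e1, ← Finset.sum_product']
  symm
  refine Finset.sum_bij (fun p _ => p.1 * p.2) ?_ ?_ ?_ ?_
  · intro p hp
    rw [Finset.mem_product] at hp
    exact mem_fs.2 (h1 _ (mem_fs.1 hp.1) _ (mem_fs.1 hp.2))
  · rintro ⟨k, l⟩ hp ⟨k', l'⟩ hp' (e : k * l = k' * l')
    rw [Finset.mem_product] at hp hp'
    have ek : k'⁻¹ * k = l' * l⁻¹ := by
      have : k = k' * l' * l⁻¹ := by rw [← e]; group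
      rw [this]; group
    have e2 : k'⁻¹ * k = 1 := h3 _ (mul_mem (inv_mem (mem_fs.1 hp'.1)) (mem_fs.1 hp.1)) (by
      rw [ek]; exact mul_mem (mem_fs.1 hp'.2) (inv_mem (mem_fs.1 hp.2)))
    have e3 : k = k' := (inv_mul_eq_one.1 e2).symm
    subst e3
    rw [mul_left_cancel e]
  · intro g hg
    obtain ⟨k, hk, l, hl, e⟩ := h2 g (mem_fs.1 hg)
    exact ⟨(k, l), Finset.mem_product.2 ⟨mem_fs.2 hk, mem_fs.2 hl⟩, e.symm⟩
  · intro p _
    rfl

/-- norm sums along a subgroup: if `Nm Y0 c = 0` then `Nm U1 c = 0` -/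
theorem zero_of_le {Y0 U1 : Subgroup Y} (hle : Y0 ≤ U1) {c : V} (h0 : Nm ρ Y0 c = 0) : Nm ρ U1 c = 0 := by
  classical
  have key : ∀ r ∈ U1, ∑ u ∈ fs U1 with (QuotientGroup.mk u : Y ⧸ Y0) = QuotientGroup.mk r, ρ u c =
      ρ r (Nm ρ Y0 c) := by
    intro r hr
    unfold Nm
    rw [map_sum]
    symm
    refine Finset.sum_nbij' (fun u => r * u) (fun u => r⁻¹ * u) ?_ ?_ ?_ ?_ ?_
    · intro u hu
      rw [Finset.mem_filter]
      refine ⟨mem_fs.2 (mul_mem hr (hle (mem_fs.1 hu))), ?_⟩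
      rw [QuotientGroup.eq]
      have : (r * u)⁻¹ * r = u⁻¹ := by group
      rw [this]
      exact inv_mem (mem_fs.1 hu)
    · intro u hu
      rw [Finset.mem_filter, QuotientGroup.eq] at hu
      rw [mem_fs]
      have : r⁻¹ * u = (u⁻¹ * r)⁻¹ := by group
      simp only [this]
      exact inv_mem hu.2
    · intro u _
      exact inv_mul_cancel_left r u
    · intro u _
      exact mul_inv_cancel_left r u
    · intro u _
      exact (rho_mul r u c).symm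
  unfold Nm
  rw [← Finset.sum_fiberwise_of_maps_to (t := (fs U1).image (fun u => (QuotientGroup.mk u : Y ⧸ Y0)))
    (g := fun u => (QuotientGroup.mk u : Y ⧸ Y0)) (fun u hu => Finset.mem_image_of_mem _ hu)]
  refine Finset.sum_eq_zero fun q hq => ?_
  obtain ⟨r, hr, rfl⟩ := Finset.mem_image.1 hq
  rw [key r (mem_fs.1 hr), h0, map_zero]

omit [Finite Y] in
theorem two_nsmul' (a : V) : 2 • a = 0 := by
  have h1 : (2 : ZMod 2) • a = 0 := by
    rw [show (2 : ZMod 2) = 0 from rfl, zero_smul]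
  rw [← h1, two_smul (ZMod 2) a, two_nsmul]

/-- if `Nm Y0 c = a` is fixed by the 2-group `U1 > Y0` then `Nm U1 c = 0` -/
theorem eq_of_le {Y0 U1 : Subgroup Y} (hle : Y0 ≤ U1) {c a : V} (h0 : Nm ρ Y0 c = a) (hU : ∀ u ∈ U1, ρ u a = a)
    (h2 : IsPGroup 2 ↥U1) (h1 : Nm ρ U1 c ≠ 0) : Y0 = U1 := by
  classical
  have key : ∀ r ∈ U1, ∑ u ∈ fs U1 with (QuotientGroup.mk u : Y ⧸ Y0) = QuotientGroup.mk r, ρ u c =
      ρ r (Nm ρ Y0 c) := by
    intro r hr
    unfold Nm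
    rw [map_sum]
    symm
    refine Finset.sum_nbij' (fun u => r * u) (fun u => r⁻¹ * u) ?_ ?_ ?_ ?_ ?_
    · intro u hu
      rw [Finset.mem_filter]
      refine ⟨mem_fs.2 (mul_mem hr (hle (mem_fs.1 hu))), ?_⟩
      rw [QuotientGroup.eq]
      have : (r * u)⁻¹ * r = u⁻¹ := by group
      rw [this]
      exact inv_mem (mem_fs.1 hu)
    · intro u hu
      rw [Finset.mem_filter, QuotientGroup.eq] at hu
      rw [mem_fs]
      have : r⁻¹ * u = (u⁻¹ * r)⁻¹ := by group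
      simp only [this]
      exact inv_mem hu.2
    · intro u _
      exact inv_mul_cancel_left r u
    · intro u _
      exact mul_inv_cancel_left r u
    · intro u _
      exact (rho_mul r u c).symm
  have hcard : ∀ r ∈ U1, ((fs U1).filter fun u => (QuotientGroup.mk u : Y ⧸ Y0) = QuotientGroup.mk r).card =
      (fs Y0).card := by
    intro r hr
    symm
    refine Finset.card_nbij' (fun u => r * u) (fun u => r⁻¹ * u) ?_ ?_ ?_ ?_
    · intro u hu
      rw [Finset.mem_coe, Finset.mem_filter]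
      refine ⟨mem_fs.2 (mul_mem hr (hle (mem_fs.1 hu))), ?_⟩
      rw [QuotientGroup.eq]
      have : (r * u)⁻¹ * r = u⁻¹ := by group
      rw [this]
      exact inv_mem (mem_fs.1 hu)
    · intro u hu
      rw [Finset.mem_coe, Finset.mem_filter, QuotientGroup.eq] at hu
      rw [Finset.mem_coe, mem_fs]
      have : r⁻¹ * u = (u⁻¹ * r)⁻¹ := by group
      simp only [this]
      exact inv_mem hu.2
    · intro u _
      exact inv_mul_cancel_left r u
    · intro u _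
      exact mul_inv_cancel_left r u
  set t := (fs U1).image (fun u => (QuotientGroup.mk u : Y ⧸ Y0)) with ht
  have hmaps : ∀ u ∈ fs U1, (fun u => (QuotientGroup.mk u : Y ⧸ Y0)) u ∈ t := fun u hu =>
    Finset.mem_image_of_mem _ hu
  have hsum : Nm ρ U1 c = t.card • a := by
    unfold Nm
    rw [← Finset.sum_fiberwise_of_maps_to hmaps]
    rw [← Finset.sum_const]
    refine Finset.sum_congr rfl fun q hq => ?_
    obtain ⟨r, hr, rfl⟩ := Finset.mem_image.1 hq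
    rw [key r (mem_fs.1 hr), h0, hU r (mem_fs.1 hr)]
  have hcards : (fs U1).card = t.card * (fs Y0).card := by
    rw [Finset.card_eq_sum_card_fiberwise (f := fun u => (QuotientGroup.mk u : Y ⧸ Y0)) (t := t)
      (fun u hu => hmaps u hu)]
    rw [← smul_eq_mul, ← Finset.sum_const]
    refine Finset.sum_congr rfl fun q hq => ?_
    obtain ⟨r, hr, rfl⟩ := Finset.mem_image.1 hq
    exact hcard r (mem_fs.1 hr)
  obtain ⟨m, hm⟩ := IsPGroup.iff_card.1 h2
  rw [← card_fs, hcards] at hm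
  obtain ⟨j, -, hj⟩ := (Nat.dvd_prime_pow Nat.prime_two).1 (Dvd.intro _ hm)
  have hj0 : j = 0 := by
    by_contra hj0
    apply h1
    obtain ⟨i, rfl⟩ := Nat.exists_eq_succ_of_ne_zero hj0
    rw [hsum, hj, pow_succ, mul_comm, mul_nsmul', smul_comm, two_nsmul', smul_zero]
  rw [hj0, pow_zero] at hj
  rw [hj, one_mul, card_fs, card_fs] at hcards
  exact Subgroup.eq_of_le_of_card_ge hle hcards.le

/-- **The covering lemma.** -/
theorem cover {U1 O X0 : Subgroup Y} {c a : V} (hO : ∀ o ∈ O, ∀ y ∈ U1, y⁻¹ * o * y ∈ O)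
    (hX : ∀ x ∈ X0, ∃ y ∈ U1, ∃ o ∈ O, x = y * o) (hOc : ∀ o ∈ O, ρ o c = c)
    (hfix : ∀ v, (∀ x ∈ X0, ρ x v = v) → v = 0 ∨ v = a) (ha : a ≠ 0) (hUa : ∀ u ∈ U1, ρ u a = a)
    (hNm : Nm ρ U1 c = a) (h2 : IsPGroup 2 ↥U1) : ∀ u ∈ U1, ∃ x ∈ X0, u⁻¹ * x ∈ O := by
  have hO' : ∀ o ∈ O, ∀ y ∈ U1, y * o * y⁻¹ ∈ O := by
    intro o ho y hy
    have := hO o ho y⁻¹ (inv_mem hy)
    rwa [inv_inv] at this
  let Y0 : Subgroup Y :=
    { carrier := {y | y ∈ U1 ∧ ∃ x ∈ X0, y⁻¹ * x ∈ O}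
      one_mem' := ⟨one_mem _, 1, one_mem _, by rw [inv_one, one_mul]; exact one_mem _⟩
      mul_mem' := by
        rintro y z ⟨hy, x, hx, hyx⟩ ⟨hz, x', hx', hzx⟩
        refine ⟨mul_mem hy hz, x * x', mul_mem hx hx', ?_⟩
        have e : (y * z)⁻¹ * (x * x') = (z⁻¹ * (y⁻¹ * x) * z) * (z⁻¹ * x') := by group
        rw [e]
        exact mul_mem (hO _ hyx _ hz) hzx
      inv_mem' := by
        rintro y ⟨hy, x, hx, hyx⟩
        refine ⟨inv_mem hy, x⁻¹, inv_mem hx, ?_⟩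
        have e : (y⁻¹)⁻¹ * x⁻¹ = y * (y⁻¹ * x)⁻¹ * y⁻¹ := by group
        rw [e]
        exact hO' _ (inv_mem hyx) _ hy }
  have hY0 : ∀ y, y ∈ Y0 ↔ y ∈ U1 ∧ ∃ x ∈ X0, y⁻¹ * x ∈ O := fun y => Iff.rfl
  have hle : Y0 ≤ U1 := fun y hy => hy.1
  have h0 : ∀ x ∈ X0, ρ x (Nm ρ Y0 c) = Nm ρ Y0 c := by
    intro x hx
    obtain ⟨y, hy, o, ho, rfl⟩ := hX x hx
    have hyY : y ∈ Y0 := (hY0 y).2 ⟨hy, _, hx, by rw [inv_mul_cancel_left]; exact ho⟩
    rw [rho_mul]
    have e : ρ o (Nm ρ Y0 c) = Nm ρ Y0 c := by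
      unfold Nm
      rw [map_sum]
      refine Finset.sum_congr rfl fun u hu => ?_
      have hu' := hle (mem_fs.1 hu)
      rw [← rho_mul]
      have e1 : o * u = u * (u⁻¹ * o * u) := by group
      rw [e1, rho_mul, hOc _ (hO o ho u hu')]
    rw [e]
    exact fix hyY c
  have hne : Nm ρ Y0 c ≠ 0 := by
    intro h
    have := zero_of_le (ρ := ρ) hle h
    rw [hNm] at this
    exact ha this
  have hY : Y0 = U1 := eq_of_le hle ((hfix _ h0).resolve_left hne) hUa h2 (by rw [hNm]; exact ha)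
  intro u hu
  rw [← hY] at hu
  exact ((hY0 u).1 hu).2

end Cfsg.Agent.Omega.EH3.Kf.Nm
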