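import Mathlib
import Cfsg.Agent.Omega.EH3.Kf.Base
import Cfsg.Agent.Omega.EH3.Kf.Nm

/-!
# THEOREM A of the Lie rows (helper227; blueprints/OMEGA-EH3-KF3-helper227.md (A))

`Core cs h T n X ρ a X0` : what is used. For every set `K` of nodes moving `a`:
* `nm_simple` : the norm sum of `X_i` on `n_i a` is `a`;
* `nm_inv` : the norm sum of `U_w` on `n_w a` is `a` for `w` in `W_K`;
* `thmA` : `X0` covers `U / O(K)`, `O(K) = VJ cs h X K`.
-/

set_option autoImplicit false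

namespace Cfsg.Agent.Omega.EH3.Kf.ThmA

open CoxeterSystem Cfsg.Agent.ChevalleyStructure.CoxeterGeom Cfsg.Agent.Tits.Roots Cfsg.Agent.Tits.Core
  Cfsg.Agent.Tits.RootComb Cfsg.Agent.Nodes.Comb Cfsg.Agent.Nodes.Reps Cfsg.Agent.Nodes.BNOf
  Cfsg.Agent.Nodes.StabComb Cfsg.Agent.Nodes.Bruhat Cfsg.Agent.Nodes.LeviDec Cfsg.Agent.Tits.Exchange
  Cfsg.Agent.Omega.EH3.Kf.Base Cfsg.Agent.Omega.EH3.Kf.Nm

variable {I W Y V : Type*} [Fintype I] [DecidableEq I] [Group W] [Group Y] [AddCommGroup V]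
    [Module (ZMod 2) V] {M : CoxeterMatrix I} {cs : CoxeterSystem M W} {A : I → I → ℤ} {h : IsCartan M A}
    {T : Subgroup Y} {n : I → Y} {X : (I → ℤ) → Subgroup Y} {ρ : Y →* (V ≃ₗ[ZMod 2] V)} {a : V}
    {X0 : Subgroup Y}

/-- the stabiliser of a vector -/
def St (ρ : Y →* (V ≃ₗ[ZMod 2] V)) (v : V) : Subgroup Y where
  carrier := {g | ρ g v = v}
  one_mem' := rho_one v
  mul_mem' := by
    intro g k hg hk
    change ρ (g * k) v = v
    have hk' : ρ k v = v := hk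
    rw [rho_mul, hk']
    exact hg
  inv_mem' := by
    intro g hg
    exact fix_inv hg

theorem mem_St {v : V} {g : Y} : g ∈ St ρ v ↔ ρ g v = v := Iff.rfl

/-- What Theorem A uses. -/
structure Core {I W Y V : Type*} [Fintype I] [DecidableEq I] [Group W] [Group Y] [AddCommGroup V]
    [Module (ZMod 2) V] {M : CoxeterMatrix I} (cs : CoxeterSystem M W) {A : I → I → ℤ} (h : IsCartan M A)
    (T : Subgroup Y) (n : I → Y) (X : (I → ℤ) → Subgroup Y) (ρ : Y →* (V ≃ₗ[ZMod 2] V))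
    (a : V) (X0 : Subgroup Y) : Prop where
  rgd : RGD cs h 2 T n X
  a_ne : a ≠ 0
  fixB : ∀ g ∈ RGD.B cs h T X, ρ g a = a
  le : X0 ≤ RGD.Sup X (RGD.Pos cs h)
  fix : ∀ v, (∀ x ∈ X0, ρ x v = v) → v = 0 ∨ v = a

theorem _root_.Cfsg.Agent.Omega.EH3.Kf.Base.Row.core {b : LinearMap.BilinForm (ZMod 2) V}
    {D : Submodule (ZMod 2) V} {w : ℕ} (R : Row cs h T n X ρ b a D X0 w) : Core cs h T n X ρ a X0 :=
  ⟨R.rgd, R.a_ne, R.fixB, R.le, R.fix⟩

/-- a nontrivial element of `X_{-i}` moves `a` when node `i` does -/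
theorem ne_of_neg (R : Core cs h T n X ρ a X0) {i : I} (hi : ρ (n i) a ≠ a) {u : Y} (hu : u ∈ X (-sr i))
    (hu1 : u ≠ 1) : ρ u a ≠ a := by
  intro he
  obtain ⟨c, hc, t, ht, d, hd, e⟩ := R.rgd.rk1 i u hu hu1
  apply hi
  have h1 : ρ c a = a := R.fixB c (RGD.X_le_B (isRoot_sr cs h i) (sr_nonneg i) hc)
  have h2 : ρ d a = a := R.fixB d (RGD.X_le_B (isRoot_sr cs h i) (sr_nonneg i) hd)
  have h3 : ρ t a = a := R.fixB t (RGD.T_le_B ht)
  have h4 : n i = t⁻¹ * (c⁻¹ * (u * d⁻¹)) := by rw [e]; group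
  rw [h4, rho_mul, rho_mul, rho_mul, fix_inv h2, he, fix_inv h1, fix_inv h3]

/-- the images of `a` under `X_i n_i`, and `n_i` acts on them -/
theorem nm_simple [Finite Y] (R : Core cs h T n X ρ a X0) {i : I} (hi : ρ (n i) a ≠ a) :
    Nm ρ (X (sr i)) (ρ (n i) a) = a := by
  classical
  have hB : ∀ g ∈ X (sr i), ρ g a = a := fun g hg =>
    R.fixB g (RGD.X_le_B (isRoot_sr cs h i) (sr_nonneg i) hg)
  have hT : ∀ g ∈ T, ρ g a = a := fun g hg => R.fixB g (RGD.T_le_B hg)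
  have hV : ∀ g ∈ RGD.Sup X (RGD.PosNe cs h i), ρ g a = a := fun g hg =>
    R.fixB g (RGD.U_le_B (RGD.Sup_mono (S := RGD.PosNe cs h i) (S' := RGD.Pos cs h)
      (fun z hz => ⟨hz.1, hz.2.1⟩) hg))
  set e := Nm ρ (X (sr i)) (ρ (n i) a) with he
  -- `U` fixes `e`
  have hU : RGD.Sup X (RGD.Pos cs h) ≤ St ρ e := by
    rw [R.rgd.Upos_eq i]
    refine sup_le (fun g hg => fix hg _) ?_
    intro v hv
    rw [mem_St, he]
    unfold Nm
    rw [map_sum]
    refine Finset.sum_congr rfl fun u hu => ?_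
    have hu' := mem_fs.1 hu
    have h1 : u⁻¹ * v * u ∈ RGD.Sup X (RGD.PosNe cs h i) := by
      have h2 := R.rgd.X_le_normalizer_V i (inv_mem hu')
      have h3 := (Subgroup.mem_normalizer_iff.1 h2 v).1 hv
      rwa [inv_inv] at h3
    have h2 : (n i)⁻¹ * (u⁻¹ * v * u) * n i ∈ RGD.Sup X (RGD.PosNe cs h i) := by
      rw [← mem_cj, R.rgd.cj_n_V i]
      exact h1
    rw [← rho_mul, ← rho_mul, ← rho_mul]
    have h3 : v * u * n i = u * n i * ((n i)⁻¹ * (u⁻¹ * v * u) * n i) := by group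
    rw [h3, rho_mul, hV _ h2]
  rcases R.fix e (fun x hx => hU (R.le hx)) with h0 | h0
  · exfalso
    apply hi
    -- the set
    set f : Y → V := fun u => ρ u (ρ (n i) a) with hf
    have hinj : Set.InjOn f (fs (X (sr i)) : Set Y) := by
      intro u hu u' hu' huu
      have hu := mem_fs.1 (Finset.mem_coe.1 hu)
      have hu' := mem_fs.1 (Finset.mem_coe.1 hu')
      by_contra hne
      have h1 : (n i)⁻¹ * (u'⁻¹ * u) * n i ∈ X (-sr i) := by
        have := R.rgd.conj_mem' (rp_simple cs R.rgd.nsys i) (isRoot_sr cs h i) (mul_mem (inv_mem hu') hu)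
        rwa [inv_simple, rep_simple_sr] at this
      have h2 : (n i)⁻¹ * (u'⁻¹ * u) * n i ≠ 1 := by
        intro h3
        apply hne
        have h4 : u = u' * (n i * ((n i)⁻¹ * (u'⁻¹ * u) * n i) * (n i)⁻¹) := by group
        rw [h4, h3]; group
      apply ne_of_neg R hi h1 h2
      have h3 : (n i)⁻¹ * (u'⁻¹ * u) * n i = (n i)⁻¹ * (u'⁻¹ * (u * n i)) := by group
      rw [h3, rho_mul, rho_mul, rho_mul]
      have h4 : ρ u (ρ (n i) a) = ρ u' (ρ (n i) a) := huu
      rw [h4, rho_inv, rho_inv]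
    have hnot : a ∉ (fs (X (sr i))).image f := by
      intro hmem
      obtain ⟨u, hu, hu'⟩ := Finset.mem_image.1 hmem
      apply hi
      have h1 : ρ u⁻¹ (ρ u (ρ (n i) a)) = ρ u⁻¹ a := by rw [show ρ u (ρ (n i) a) = a from hu']
      rw [rho_inv, hB _ (inv_mem (mem_fs.1 hu))] at h1
      exact h1
    set Om : Finset V := insert a ((fs (X (sr i))).image f) with hOm
    have hsum : ∑ v ∈ Om, v = a := by
      rw [hOm, Finset.sum_insert hnot, Finset.sum_image hinj]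
      have : ∑ x ∈ fs (X (sr i)), f x = e := rfl
      rw [this, h0, add_zero]
    have hmaps : ∀ v ∈ Om, ρ (n i) v ∈ Om := by
      intro v hv
      rw [hOm, Finset.mem_insert] at hv
      rcases hv with rfl | hv
      · rw [hOm, Finset.mem_insert]
        right
        exact Finset.mem_image.2 ⟨1, mem_fs.2 (one_mem _), rho_one _⟩
      obtain ⟨u, hu, rfl⟩ := Finset.mem_image.1 hv
      have hu' := mem_fs.1 hu
      by_cases hu1 : u = 1
      · subst hu1
        rw [hOm, Finset.mem_insert]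
        left
        simp only [hf]
        rw [rho_one, ← rho_mul]
        exact hT _ (R.rgd.sq_mem_T i)
      · rw [hOm, Finset.mem_insert]
        right
        have h1 : n i * u * (n i)⁻¹ ∈ X (-sr i) := by
          have := R.rgd.conj_mem (rp_simple cs R.rgd.nsys i) (isRoot_sr cs h i) hu'
          rwa [rep_simple_sr] at this
        have h2 : n i * u * (n i)⁻¹ ≠ 1 := by
          intro h3
          apply hu1
          have h4 : u = (n i)⁻¹ * (n i * u * (n i)⁻¹) * n i := by group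
          rw [h4, h3]; group
        obtain ⟨c, hc, t, ht, d, hd, e'⟩ := R.rgd.rk1 i _ h1 h2
        refine Finset.mem_image.2 ⟨c, mem_fs.2 hc, ?_⟩
        simp only [hf]
        have ht' : (n i)⁻¹ * t * n i ∈ T := by
          have h1 := (mem_normalizer_iff_cj.1 ((rp_simple cs R.rgd.nsys i).inv.mem_normalizer))
          have h2 : (n i)⁻¹ * t * (n i)⁻¹⁻¹ ∈ cj (n i)⁻¹ T := conj_mem_cj.2 ht
          rwa [h1, inv_inv] at h2
        have h5 : n i * u * n i = c * (n i * (((n i)⁻¹ * t * n i) * (d * (n i * n i)))) := by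
          have h6 : n i * u * n i = (n i * u * (n i)⁻¹) * (n i * n i) := by group
          rw [h6, e']; group
        have h7 : ρ (n i * u * n i) a = ρ c (ρ (n i) a) := by
          rw [h5, rho_mul c, rho_mul (n i), rho_mul ((n i)⁻¹ * t * n i), rho_mul d,
            hT _ (R.rgd.sq_mem_T i), hB d hd, hT _ ht']
        rw [← h7, ← rho_mul, ← rho_mul]
    have himage : Om.image (ρ (n i)) = Om := by
      refine Finset.eq_of_subset_of_card_le ?_ ?_
      · intro v hv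
        obtain ⟨v', hv', rfl⟩ := Finset.mem_image.1 hv
        exact hmaps v' hv'
      · rw [Finset.card_image_of_injective _ (ρ (n i)).injective]
    have h1 : ρ (n i) (∑ v ∈ Om, v) = ∑ v ∈ Om, v := by
      rw [map_sum]
      conv_rhs => rw [← himage]
      rw [Finset.sum_image (fun v _ v' _ hvv => (ρ (n i)).injective hvv)]
    rw [hsum] at h1
    exact h1
  · exact h0

/-- the trivial norm -/
theorem nm_bot [Finite Y] (v : V) : Nm ρ (⊥ : Subgroup Y) v = v := by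
  unfold Nm
  rw [Finset.sum_eq_single 1 ?_ ?_]
  · exact rho_one v
  · intro u hu hu1
    exact absurd (Subgroup.mem_bot.1 (mem_fs.1 hu)) hu1
  · intro h
    exact absurd (mem_fs.2 (one_mem _)) h

/-- `Sup X (Inv w)` splits at a left descent -/
theorem nm_step [Finite W] [Finite Y] (R : RGD cs h 2 T n X) {i : I} {w : W} (hneg : rep cs h w⁻¹ (sr i) ≤ 0) (v : V) :
    Nm ρ (RGD.Sup X (RGD.Inv cs h w)) (ρ (n i) v) =
      Nm ρ (X (sr i)) (ρ (n i) (Nm ρ (RGD.Sup X (RGD.Inv cs h (cs.simple i * w))) v)) := by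
  have hmem : sr i ∈ RGD.Inv cs h w := (RGD.mem_inv_iff hneg).2 (Or.inl rfl)
  have hss : ∀ x : I → ℤ, rep cs h (cs.simple i) (rep cs h (cs.simple i) x) = x := by
    intro x
    rw [← rep_mul_apply, cs.simple_mul_simple_self, map_one, Module.End.one_apply]
  have hL1 : cj (n i) (RGD.Sup X (RGD.Inv cs h (cs.simple i * w))) ≤ RGD.Sup X (RGD.Inv cs h w) := by
    rw [RGD.cj_Sup]
    refine iSup_le ?_
    rintro ⟨x, hx⟩
    rw [R.conj i x hx.1]
    refine RGD.le_Sup ((RGD.mem_inv_iff hneg).2 (Or.inr ?_))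
    rw [hss]
    exact hx
  have hL2 : RGD.Sup X (RGD.Inv cs h w \ {sr i}) ≤ cj (n i) (RGD.Sup X (RGD.Inv cs h (cs.simple i * w))) := by
    refine RGD.Sup_le ?_
    rintro z ⟨hz, hz0⟩
    have h2 := ((RGD.mem_inv_iff hneg).1 hz).resolve_left hz0
    have h3 := cj_mono (n i) (RGD.le_Sup (X := X) h2)
    rw [R.conj i _ h2.1, hss] at h3
    exact h3
  rw [prod (K := X (sr i)) (L := cj (n i) (RGD.Sup X (RGD.Inv cs h (cs.simple i * w))))]
  · rw [Nm.conj (H := RGD.Sup X (RGD.Inv cs h (cs.simple i * w))) (g := n i)]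
    · intro u hu
      exact conj_mem_cj.2 hu
    · intro u hu
      exact mem_cj.1 hu
  · intro k hk l hl
    exact mul_mem (RGD.le_Sup hmem hk) (hL1 hl)
  · intro g hg
    have hcl : ∀ y ∈ RGD.Inv cs h w, y ≠ sr i → ∀ z, Btwn cs h (sr i) y z → z ∈ RGD.Inv cs h w := by
      intro y hy _ z hz
      exact ⟨hz.1, RGD.nonneg_of_btwn (sr_nonneg i) hy.2.1 hz, RGD.nonpos_of_btwn hneg hy.2.2 (hz.act w⁻¹)⟩
    obtain ⟨r, hr, u, hu, e⟩ := exists_mul R (S := RGD.Inv cs h w) (fun x hx => ⟨hx.1, hx.2.1⟩) hmem hcl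
      (a := g⁻¹) (inv_mem hg)
    refine ⟨u⁻¹, inv_mem hu, r⁻¹, inv_mem (hL2 hr), ?_⟩
    rw [← inv_inv g, e, mul_inv_rev]
  · intro g hg hg'
    rw [mem_cj] at hg'
    have h1 : RGD.Sup X (RGD.Inv cs h (cs.simple i * w)) ≤ RGD.B cs h T X :=
      le_trans (RGD.Sup_mono (S := RGD.Inv cs h (cs.simple i * w)) (S' := RGD.Pos cs h)
        fun z hz => ⟨hz.1, hz.2.1⟩) RGD.U_le_B
    refine eq_one_of_conj_mem_B R hg (k := (n i)⁻¹) ?_ ?_
    · have := (rp_simple cs R.nsys i).inv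
      rwa [inv_simple] at this
    · rw [inv_inv]
      exact h1 hg'

/-- (A2) -/
theorem nm_inv [Finite W] [Finite Y] (R : Core cs h T n X ρ a X0) {K : Set I} (hK : K ⊆ Mv ρ n a) (ω : List I) :
    (∀ i ∈ ω, i ∈ K) → cs.IsReduced ω → ∀ g, Rp cs R.rgd.nsys (cs.wordProd ω) g →
      Nm ρ (RGD.Sup X (RGD.Inv cs h (cs.wordProd ω))) (ρ g a) = a := by
  induction ω with
  | nil =>
    intro _ _ g hg
    rw [wordProd_nil] at hg ⊢
    have h1 : RGD.Sup X (RGD.Inv cs h (1 : W)) = ⊥ := by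
      rw [RGD.inv_one_eq, eq_bot_iff]
      exact RGD.Sup_le (fun z hz => absurd hz (by simp))
    rw [h1, nm_bot]
    exact R.fixB g (RGD.T_le_B (hg.mem_of_one))
  | cons i ω ih =>
    intro hω hred g hg
    have hred' : cs.IsReduced ω := by
      have := hred.drop 1
      simpa using this
    have hlen : cs.length (cs.wordProd (i :: ω)) = cs.length (cs.wordProd ω) + 1 := by
      rw [hred, hred']; simp
    have hsw : cs.simple i * cs.wordProd (i :: ω) = cs.wordProd ω := by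
      rw [wordProd_cons, ← mul_assoc, cs.simple_mul_simple_self, one_mul]
    have hneg : rep cs h (cs.wordProd (i :: ω))⁻¹ (sr i) ≤ 0 := by
      refine nonpos_of_lt cs h _ i ?_
      rw [cs.length_inv, ← cs.length_inv ((cs.wordProd (i :: ω))⁻¹ * cs.simple i), mul_inv_rev, inv_inv,
        cs.inv_simple, hsw]
      omega
    have hg' : Rp cs R.rgd.nsys (cs.wordProd ω) ((n i)⁻¹ * g) := by
      have := (rp_simple cs R.rgd.nsys i).inv.mul hg
      rwa [inv_simple, hsw] at this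
    have e : ρ g a = ρ (n i) (ρ ((n i)⁻¹ * g) a) := by
      rw [← rho_mul, mul_inv_cancel_left]
    rw [e, nm_step R.rgd hneg, hsw, ih (fun j hj => hω j (List.mem_cons_of_mem _ hj)) hred' _ hg']
    exact nm_simple R (hK (hω i (by simp)))

/-- the inversion set of the longest element of `W_K` -/
theorem inv_longest [Finite W] {K : Set I} {w : W} (hw : IsLongest cs K w) : RGD.Inv cs h w = PosJ cs h K := by
  ext x
  constructor
  · rintro ⟨hx, h0, h1⟩
    rcases mem_PosJ_or_NotJ K hx h0 with h2 | h2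
    · exact h2
    · exfalso
      have h3 := NotJ.act (inv_mem hw.mem) h2
      exact (hx.act w⁻¹).not_pos_neg h3.2.1 h1
  · intro hx
    refine ⟨hx.1, hx.2.1, ?_⟩
    rw [hw.inv_eq]
    exact rep_longest_nonpos hw hx

/-- **THEOREM A** : `X0` covers `U / O(K)` for every set `K` of nodes moving `a`. -/
theorem thmA [Finite W] [Finite Y] (R : Core cs h T n X ρ a X0) {K : Set I} (hK : K ⊆ Mv ρ n a) :
    ∀ u ∈ RGD.Sup X (RGD.Pos cs h), ∃ x ∈ X0, u⁻¹ * x ∈ VJ cs h X K := by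
  obtain ⟨w, hw⟩ := exists_isLongest cs K
  obtain ⟨ω, hω, hred, rfl⟩ := exists_reduced_of_mem_WJ cs hw.mem
  obtain ⟨g, hg⟩ := exists_rp (hN := R.rgd.nsys) (cs := cs) (cs.wordProd ω)
  have h1 := nm_inv R hK ω hω hred g hg
  rw [inv_longest hw] at h1
  have hgL : g ∈ LJ cs h T X K := rp_mem_LJ R.rgd hw.mem hg
  have hnorm : ∀ l ∈ LJ cs h T X K, ∀ o ∈ VJ cs h X K, l⁻¹ * o * l ∈ VJ cs h X K := by
    intro l hl o ho
    have h2 := LJ_le_normalizer_VJ R.rgd K (inv_mem hl)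
    have h3 := (Subgroup.mem_normalizer_iff.1 h2 o).1 ho
    rwa [inv_inv] at h3
  have hUL : UJ cs h X K ≤ LJ cs h T X K := le_trans UJ_le_BJ BJ_le_LJ
  have key := cover (ρ := ρ) (U1 := UJ cs h X K) (O := VJ cs h X K) (X0 := X0) (c := ρ g a) (a := a)
    (fun o ho y hy => hnorm y (hUL hy) o ho)
    (fun x hx => by
      obtain ⟨y, hy, o, ho, e⟩ := (mem_U_iff R.rgd (J := K)).1 (R.le hx)
      exact ⟨y, hy, o, ho, e⟩)
    (fun o ho => by
      have h2 : o * g = g * (g⁻¹ * o * g) := by group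
      rw [← rho_mul, h2, rho_mul, R.fixB _ (VJ_le_B K (hnorm g hgL o ho))])
    R.fix R.a_ne (fun u hu => R.fixB u (RGD.U_le_B (UJ_le_U K hu))) h1
    (R.rgd.isPGroup_of_pos fun x hx => ⟨hx.1, hx.2.1⟩)
  intro u hu
  obtain ⟨y, hy, o, ho, rfl⟩ := (mem_U_iff R.rgd (J := K)).1 hu
  obtain ⟨x, hx, hxo⟩ := key y hy
  refine ⟨x, hx, ?_⟩
  have e : (y * o)⁻¹ * x = o⁻¹ * (y⁻¹ * x) := by group
  rw [e]
  exact mul_mem (inv_mem ho) hxo

end Cfsg.Agent.Omega.EH3.Kf.ThmA
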