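import Mathlib
import Cfsg.Agent.KFacts.RgdOpp

/-!
# The torus of a rank one subgroup, characteristic 2 (helper810; KF3 (TR))

`R : RGD cs h 2 T n X`, `X (sr i)` of exponent 2. Then `T ⊓ (X (sr i) ⊔ X (-sr i))` is transitive on the nontrivial
elements of `X (sr i)` and of `X (-sr i)`. No hypothesis on the rank, the type or on `T`.
-/

set_option autoImplicit false
set_option linter.unusedSectionVars false

namespace Cfsg.Agent.Omega.EH3.Kf.TrOne

open CoxeterSystem Cfsg.Agent.ChevalleyStructure.CoxeterGeom Cfsg.Agent.Tits.Roots Cfsg.Agent.Tits.Core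
  Cfsg.Agent.Tits.RootComb Cfsg.Agent.Nodes.Comb Cfsg.Agent.Nodes.Reps Cfsg.Agent.Nodes.BNOf
  Cfsg.Agent.Nodes.StabComb Cfsg.Agent.Nodes.Bruhat Cfsg.Agent.Nodes.OppDec Cfsg.Agent.Tits.Exchange
  Cfsg.Agent.KFacts.RgdOpp

variable {I W Y : Type*} [Fintype I] [DecidableEq I] [Group W] [Finite W] [Group Y] [Finite Y]
    {M : CoxeterMatrix I} {cs : CoxeterSystem M W} {A : I → I → ℤ} {h : IsCartan M A}
    {T : Subgroup Y} {n : I → Y} {X : (I → ℤ) → Subgroup Y}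

variable (R : RGD cs h 2 T n X)

include R

theorem conj_pos {i : I} {m u : Y} (hm : Rp cs R.nsys (cs.simple i) m) (hu : u ∈ X (sr i)) :
    m * u * m⁻¹ ∈ X (-sr i) := by
  have := R.conj_mem hm (isRoot_sr cs h i) hu
  rwa [rep_simple_sr] at this

theorem conj_neg {i : I} {m u : Y} (hm : Rp cs R.nsys (cs.simple i) m) (hu : u ∈ X (-sr i)) :
    m * u * m⁻¹ ∈ X (sr i) := by
  have := R.conj_mem hm (isRoot_sr cs h i).neg hu
  rwa [map_neg, rep_simple_sr, neg_neg] at this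

theorem rp_inv {i : I} {m : Y} (hm : Rp cs R.nsys (cs.simple i) m) : Rp cs R.nsys (cs.simple i) m⁻¹ := by
  have := hm.inv
  rwa [inv_simple] at this

theorem neg_inf {i : I} {u : Y} (hu : u ∈ X (-sr i)) (hB : u ∈ RGD.B cs h T X) : u = 1 :=
  eq_one_of_mem_UN_of_mem_B R (X_le_UN (isRoot_sr cs h i).neg (neg_nonpos.2 (sr_nonneg i)) hu) hB

theorem pos_inf_neg {i : I} {u : Y} (hu : u ∈ X (-sr i)) (hu' : u ∈ X (sr i)) : u = 1 :=
  neg_inf R hu (RGD.X_le_B (isRoot_sr cs h i) (sr_nonneg i) hu')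

/-- `u ∈ X_{-i}` nontrivial of order 2 is `a m a` with `m` an involution over the reflection -/
theorem inv_form {i : I} (hel : ∀ u ∈ X (sr i), u * u = 1) {v : Y} (hv : v ∈ X (-sr i)) (hv1 : v ≠ 1) :
    ∃ a ∈ X (sr i), ∃ m, Rp cs R.nsys (cs.simple i) m ∧ m * m = 1 ∧ v = a * m * a := by
  obtain ⟨a, ha, t, ht, b, hb, e⟩ := R.rk1 i v hv hv1
  obtain ⟨m, hm⟩ : ∃ m, m = t * n i := ⟨_, rfl⟩
  have hmR : Rp cs R.nsys (cs.simple i) m := by
    have := (rp_of_mem (cs := cs) (hN := R.nsys) ht).mul (rp_simple cs R.nsys i)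
    rwa [one_mul, ← hm] at this
  have e' : v = a * m * b := by rw [e, hm]; group
  -- `v * v = 1`
  have hvv : v * v = 1 := by
    have h1 := hel _ (conj_neg R (rp_simple cs R.nsys i) hv)
    have h2 : n i * v * (n i)⁻¹ * (n i * v * (n i)⁻¹) = n i * (v * v) * (n i)⁻¹ := by group
    rw [h2] at h1
    have h3 : v * v = (n i)⁻¹ * (n i * (v * v) * (n i)⁻¹) * n i := by group
    rw [h3, h1]; group
  have hc : b * a ∈ X (sr i) := mul_mem hb ha
  have hm2 : m * m ∈ T := by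
    have := hmR.mul hmR
    rw [cs.simple_mul_simple_self] at this
    exact this.mem_of_one
  have h1 : m * (b * a) * m⁻¹ = (b * a)⁻¹ * (m * m)⁻¹ := by
    have h2 : m * (b * a) * m = (b * a)⁻¹ := by
      have h3 : m * (b * a) * m = a⁻¹ * ((a * m * b) * (a * m * b)) * b⁻¹ := by group
      rw [h3, ← e', hvv]; group
    rw [← h2]; group
  have h2 : m * (b * a) * m⁻¹ = 1 := by
    refine neg_inf R (conj_pos R hmR hc) ?_
    rw [h1]
    exact mul_mem (inv_mem (RGD.X_le_B (isRoot_sr cs h i) (sr_nonneg i) hc)) (inv_mem (RGD.T_le_B hm2))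
  have h3 : b * a = 1 := mul_eq_left.1 (mul_inv_eq_one.1 h2)
  have h4 : m * m = 1 := by
    rw [h2, h3, inv_one, one_mul] at h1
    exact inv_eq_one.1 h1.symm
  have h5 : b = a := by
    have h6 := hel a ha
    exact (eq_inv_of_mul_eq_one_left h3).trans (inv_eq_of_mul_eq_one_left h6)
  exact ⟨a, ha, m, hmR, h4, by rw [e', h5]⟩

/-- `X_{-i} ∩ c X_{-i} c⁻¹ = 1` -/
theorem ti {i : I} {c v : Y} (hc : c ∈ X (sr i)) (hc1 : c ≠ 1) (hv : v ∈ X (-sr i))
    (hcv : c * v * c⁻¹ ∈ X (-sr i)) : v = 1 := by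
  have hc' : c ∈ X (-(-sr i)) := by rw [neg_neg]; exact hc
  obtain ⟨a, ha, t, ht, b, hb, e⟩ := (opp R).rk1 i c hc' hc1
  have hmR : Rp cs R.nsys (cs.simple i) (t * n i) := by
    have := (rp_of_mem (cs := cs) (hN := R.nsys) ht).mul (rp_simple cs R.nsys i)
    rwa [one_mul] at this
  have h1 : (t * n i) * (b * v * b⁻¹) * (t * n i)⁻¹ ∈ X (sr i) :=
    conj_neg R hmR (mul_mem (mul_mem hb hv) (inv_mem hb))
  have h2 : (t * n i) * (b * v * b⁻¹) * (t * n i)⁻¹ = a⁻¹ * (c * v * c⁻¹) * a := by rw [e]; group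
  have h3 : (t * n i) * (b * v * b⁻¹) * (t * n i)⁻¹ ∈ X (-sr i) := by
    rw [h2]
    exact mul_mem (mul_mem (inv_mem ha) hcv) ha
  have h4 := pos_inf_neg R h3 h1
  have h5 : v = b⁻¹ * ((t * n i)⁻¹ * ((t * n i) * (b * v * b⁻¹) * (t * n i)⁻¹) * (t * n i)) * b := by group
  rw [h5, h4]; group

/-- `v` is determined by its involution -/
theorem det {i : I} (hel : ∀ u ∈ X (sr i), u * u = 1) {v v' a a' m : Y} (hv : v ∈ X (-sr i)) (hv1 : v ≠ 1)
    (hv' : v' ∈ X (-sr i)) (ha : a ∈ X (sr i)) (ha' : a' ∈ X (sr i)) (e : v = a * m * a)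
    (e' : v' = a' * m * a') : v = v' := by
  have h1 : a * a = 1 := hel a ha
  have h2 : a' * a' = 1 := hel a' ha'
  have i1 : a⁻¹ = a := inv_eq_of_mul_eq_one_left h1
  have i2 : a'⁻¹ = a' := inv_eq_of_mul_eq_one_left h2
  have h3 : v' = (a' * a) * v * (a' * a)⁻¹ := by
    rw [e', e, mul_inv_rev, i1, i2]
    have : a' * a * (a * m * a) * (a * a') = a' * (a * a) * m * (a * a) * a' := by group
    rw [this, h1, mul_one, mul_one]
  have h4 : a' * a = 1 := by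
    by_contra hne
    exact hv1 (ti R (mul_mem ha' ha) hne hv (by rw [← h3]; exact hv'))
  have h5 : a' = a := (eq_inv_of_mul_eq_one_left h4).trans i1
  rw [e, e', h5]

omit [Finite W] [Fintype I] [DecidableEq I] [Group W] R in
/-- a square root of an element of odd order -/
theorem exists_sqrt {s : Y} (hs : (orderOf s).Coprime 2) : ∃ k : ℕ, s ^ k * s ^ k = s := by
  have h1 : orderOf s % 2 = 1 := by
    rcases Nat.mod_two_eq_zero_or_one (orderOf s) with h0 | h0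
    · exfalso
      have h2 : 2 ∣ orderOf s := Nat.dvd_of_mod_eq_zero h0
      have h3 := Nat.dvd_gcd h2 (dvd_refl 2)
      rw [Nat.Coprime.gcd_eq_one hs] at h3
      omega
    · exact h0
  refine ⟨(orderOf s + 1) / 2, ?_⟩
  rw [← pow_add]
  have h2 : (orderOf s + 1) / 2 + (orderOf s + 1) / 2 = orderOf s + 1 := by omega
  rw [h2, pow_succ, pow_orderOf_eq_one, one_mul]

/-- **Transitivity on `X_{-i}`** -/
theorem tr_neg {i : I} (hel : ∀ u ∈ X (sr i), u * u = 1) {v v' : Y} (hv : v ∈ X (-sr i)) (hv1 : v ≠ 1)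
    (hv' : v' ∈ X (-sr i)) (hv1' : v' ≠ 1) :
    ∃ r ∈ T ⊓ (X (sr i) ⊔ X (-sr i)), r * v * r⁻¹ = v' := by
  obtain ⟨a, ha, m, hm, hmm, e⟩ := inv_form R hel hv hv1
  obtain ⟨a', ha', m', hm', hmm', e'⟩ := inv_form R hel hv' hv1'
  have hsT : m' * m ∈ T := by
    have := hm'.mul hm
    rw [cs.simple_mul_simple_self] at this
    exact this.mem_of_one
  have hL : ∀ {x b c : Y}, b ∈ X (sr i) → c ∈ X (-sr i) → c = b * x * b → x ∈ X (sr i) ⊔ X (-sr i) := by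
    intro x b c hb hc he
    have h1 : x = b⁻¹ * c * b⁻¹ := by rw [he]; group
    rw [h1]
    have hb' : b⁻¹ ∈ X (sr i) ⊔ X (-sr i) := le_sup_left (a := X (sr i)) (inv_mem hb)
    exact mul_mem (mul_mem hb' (le_sup_right (b := X (-sr i)) hc)) hb'
  have hs : m' * m ∈ T ⊓ (X (sr i) ⊔ X (-sr i)) := ⟨hsT, mul_mem (hL ha' hv' e') (hL ha hv e)⟩
  have hodd : (orderOf (m' * m)).Coprime 2 := by
    have h1 : orderOf (m' * m) ∣ Nat.card T := by
      have h2 := orderOf_dvd_natCard (⟨m' * m, hsT⟩ : T)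
      rwa [Subgroup.orderOf_mk] at h2
    exact Nat.Coprime.coprime_dvd_left h1 R.tcop
  obtain ⟨k, hk⟩ := exists_sqrt hodd
  have him : m⁻¹ = m := inv_eq_of_mul_eq_one_left hmm
  have him' : m'⁻¹ = m' := inv_eq_of_mul_eq_one_left hmm'
  have hinv : m * (m' * m) ^ k * m⁻¹ = ((m' * m) ^ k)⁻¹ := by
    rw [← conj_pow, ← inv_pow]
    congr 1
    rw [mul_inv_rev, him, him']
    have : m * (m' * m) * m = m * m' * (m * m) := by group
    rw [this, hmm, mul_one]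
  obtain ⟨r, hr⟩ : ∃ r, r = (m' * m) ^ k := ⟨_, rfl⟩
  rw [← hr] at hk hinv
  have hrm : r * m * r⁻¹ = m' := by
    have h1 : r * m * r⁻¹ = r * (m * r⁻¹ * m⁻¹) * m := by group
    have h2 : m * r⁻¹ * m⁻¹ = r := by
      have h3 : m * r⁻¹ * m⁻¹ = (m * r * m⁻¹)⁻¹ := by group
      rw [h3, hinv, inv_inv]
    rw [h1, h2, hk, mul_assoc, hmm, mul_one]
  have hrT : r ∈ T ⊓ (X (sr i) ⊔ X (-sr i)) := by rw [hr]; exact pow_mem hs k
  refine ⟨r, hrT, ?_⟩
  have hX : ∀ x, IsRoot cs h x → ∀ u ∈ X x, r * u * r⁻¹ ∈ X x := by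
    intro x hx u hu
    rw [← R.tor x hx r hrT.1]
    exact conj_mem_cj.2 hu
  have h1 : r * v * r⁻¹ ≠ 1 := fun h2 => hv1 (mul_eq_left.1 (mul_inv_eq_one.1 h2))
  refine det R hel (m := m') (a := r * a * r⁻¹) (hX _ (isRoot_sr cs h i).neg _ hv) h1 hv'
    (hX _ (isRoot_sr cs h i) _ ha) ha' ?_ e'
  rw [e, ← hrm]; group

/-- **Transitivity on `X_i`** -/
theorem tr_pos {i : I} (hel : ∀ u ∈ X (sr i), u * u = 1) {v v' : Y} (hv : v ∈ X (sr i)) (hv1 : v ≠ 1)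
    (hv' : v' ∈ X (sr i)) (hv1' : v' ≠ 1) :
    ∃ r ∈ T ⊓ (X (sr i) ⊔ X (-sr i)), r * v * r⁻¹ = v' := by
  have hn := rp_simple cs R.nsys i
  have h0 : ∀ {u : Y}, u ≠ 1 → n i * u * (n i)⁻¹ ≠ 1 := fun hu h2 =>
    hu (mul_eq_left.1 (mul_inv_eq_one.1 h2))
  obtain ⟨r, hr, e⟩ := tr_neg R hel (conj_pos R hn hv) (h0 hv1) (conj_pos R hn hv') (h0 hv1')
  refine ⟨(n i)⁻¹ * r * n i, ⟨?_, ?_⟩, ?_⟩
  · have h1 := mem_normalizer_iff_cj.1 (rp_inv R hn).mem_normalizer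
    have h2 : (n i)⁻¹ * r * (n i)⁻¹⁻¹ ∈ cj (n i)⁻¹ T := conj_mem_cj.2 hr.1
    rwa [h1, inv_inv] at h2
  · have h1 : cj (n i)⁻¹ (X (sr i) ⊔ X (-sr i)) ≤ X (sr i) ⊔ X (-sr i) := by
      rw [cj_sup]
      refine sup_le ?_ ?_
      · intro x hx
        rw [mem_cj] at hx
        have h2 := conj_pos R (rp_inv R hn) hx
        have h3 : (n i)⁻¹ * ((n i)⁻¹⁻¹ * x * (n i)⁻¹) * (n i)⁻¹⁻¹ = x := by group
        rw [h3] at h2
        exact le_sup_right (b := X (-sr i)) h2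
      · intro x hx
        rw [mem_cj] at hx
        have h2 := conj_neg R (rp_inv R hn) hx
        have h3 : (n i)⁻¹ * ((n i)⁻¹⁻¹ * x * (n i)⁻¹) * (n i)⁻¹⁻¹ = x := by group
        rw [h3] at h2
        exact le_sup_left (a := X (sr i)) h2
    have h2 : (n i)⁻¹ * r * (n i)⁻¹⁻¹ ∈ cj (n i)⁻¹ (X (sr i) ⊔ X (-sr i)) := conj_mem_cj.2 hr.2
    rw [inv_inv] at h2
    exact h1 h2
  · have h1 : (n i)⁻¹ * r * n i * v * ((n i)⁻¹ * r * n i)⁻¹ =
        (n i)⁻¹ * (r * (n i * v * (n i)⁻¹) * r⁻¹) * n i := by group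
    rw [h1, e]; group

end Cfsg.Agent.Omega.EH3.Kf.TrOne
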