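import Mathlib
import Cfsg.Agent.Omega.EH3.Kf.TrOne
import Cfsg.Agent.Omega.EH3.Kf.ThmA
import Cfsg.Agent.KFacts.RgdRigid
import Cfsg.Agent.KFacts.RgdFixU

/-!
# `X ≤ L` (helper810; KF3 (2))

`L` normal in `H`, with a root group datum of characteristic 2 which generates it; `H` acts on the `ZMod 2`-space `V`; the
Borel subgroup fixes `a ≠ 0`, `C_V(U) = {0, a}`; `P` is an elementary abelian 2-group normalised by the stabiliser of `a`,
with `C_V(P) = {0, a}`, normalising `U`. If the groups `X_i` have exponent 2 (`Nd`: for at most one node exponent 4, as in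
the odd-dimensional unitary groups) then `P ≤ U` (`Inp.mem_U`).

No hypothesis on the type, the rank or the diagram symmetries.
-/

set_option autoImplicit false
set_option linter.unusedSectionVars false

namespace Cfsg.Agent.Omega.EH3.Kf.InL

open CoxeterSystem Cfsg.Agent.ChevalleyStructure.CoxeterGeom Cfsg.Agent.Tits.Roots Cfsg.Agent.Tits.Core
  Cfsg.Agent.Tits.RootComb Cfsg.Agent.Nodes.Comb Cfsg.Agent.Nodes.Reps Cfsg.Agent.Nodes.BNOf
  Cfsg.Agent.Nodes.StabComb Cfsg.Agent.Nodes.Bruhat Cfsg.Agent.Nodes.OppDec Cfsg.Agent.Tits.Exchange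
  Cfsg.Agent.KFacts.RgdOpp Cfsg.Agent.KFacts.RgdAut Cfsg.Agent.KFacts.RgdDiag Cfsg.Agent.KFacts.RgdFixU
  Cfsg.Agent.Omega.EH3.Kf.Nm Cfsg.Agent.Omega.EH3.Kf.TrOne

/-! ### complements in groups of exponent 2 -/

/-- complements in a group of exponent 2 -/
theorem exists_compl {G : Type*} [Group G] [Finite G] {P N : Subgroup G} (hP : ∀ x ∈ P, x * x = 1) (hN : N ≤ P) :
    ∃ R ≤ P, (∀ x ∈ R, x ∈ N → x = 1) ∧ ∀ x ∈ P, ∃ r ∈ R, ∃ m ∈ N, x = r * m := by
  classical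
  have hinv : ∀ x ∈ P, x⁻¹ = x := fun x hx => inv_eq_of_mul_eq_one_left (hP x hx)
  have hcomm : ∀ x ∈ P, ∀ y ∈ P, x * y = y * x := by
    intro x hx y hy
    have h1 := hinv _ (mul_mem hx hy)
    rw [mul_inv_rev, hinv x hx, hinv y hy] at h1
    exact h1.symm
  set S : Set (Subgroup G) := {R | R ≤ P ∧ ∀ x ∈ R, x ∈ N → x = 1} with hS
  have hne : S.Nonempty := ⟨⊥, bot_le, fun x hx _ => Subgroup.mem_bot.1 hx⟩
  obtain ⟨R, ⟨hRP, hRN⟩, hmax⟩ := Set.exists_max_image S (fun R : Subgroup G => Nat.card R) (Set.toFinite S) hne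
  refine ⟨R, hRP, hRN, fun x hx => ?_⟩
  by_contra hcon
  push Not at hcon
  -- `R ∪ R x`
  let R' : Subgroup G :=
    { carrier := {g | g ∈ R ∨ g * x ∈ R}
      one_mem' := Or.inl (one_mem _)
      mul_mem' := by
        rintro g k (hg | hg) (hk | hk)
        · exact Or.inl (mul_mem hg hk)
        · exact Or.inr (by rw [mul_assoc]; exact mul_mem hg hk)
        · right
          have hgP : g ∈ P := by
            have := mul_mem (hRP hg) (inv_mem hx)
            rwa [mul_inv_cancel_right] at this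
          have : g * k * x = g * x * k := by rw [mul_assoc, hcomm k (hRP hk) x hx, mul_assoc]
          rw [this]
          exact mul_mem hg hk
        · left
          have hkP : k ∈ P := by
            have := mul_mem (hRP hk) (inv_mem hx)
            rwa [mul_inv_cancel_right] at this
          have : g * k = (g * x) * (k * x) := by
            rw [hcomm k hkP x hx, mul_assoc g, ← mul_assoc x x k, hP x hx, one_mul]
          rw [this]
          exact mul_mem hg hk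
      inv_mem' := by
        rintro g (hg | hg)
        · exact Or.inl (inv_mem hg)
        · right
          have hgP : g ∈ P := by
            have := mul_mem (hRP hg) (inv_mem hx)
            rwa [mul_inv_cancel_right] at this
          rw [hinv g hgP]
          exact hg }
  have hR' : ∀ g, g ∈ R' ↔ g ∈ R ∨ g * x ∈ R := fun g => Iff.rfl
  have hle : R ≤ R' := fun g hg => Or.inl hg
  have hxR : x ∉ R := fun h1 => hcon x h1 1 (one_mem _) (mul_one x).symm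
  have hxR' : x ∈ R' := (hR' x).2 (Or.inr (by rw [hP x hx]; exact one_mem _))
  have hR'S : R' ∈ S := by
    refine ⟨?_, ?_⟩
    · rintro g (hg | hg)
      · exact hRP hg
      · have := mul_mem (hRP hg) (inv_mem hx)
        rwa [mul_inv_cancel_right] at this
    · rintro g (hg | hg) hgN
      · exact hRN g hg hgN
      · exfalso
        refine hcon _ hg g hgN ?_
        have hgP : g ∈ P := hN hgN
        rw [hcomm g hgP x hx, mul_assoc, hP g hgP, mul_one]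
  have h1 := hmax R' hR'S
  have h2 : R = R' := Subgroup.eq_of_le_of_card_ge hle h1
  rw [h2] at hxR
  exact hxR hxR'

variable {I W H V : Type*} [Fintype I] [DecidableEq I] [Group W] [Group H] [AddCommGroup V]
    [Module (ZMod 2) V] {M : CoxeterMatrix I} {cs : CoxeterSystem M W} {A : I → I → ℤ} {h : IsCartan M A}

/-! ### the groups `V_i` -/

section V

variable {Y : Type*} [Group Y] {T : Subgroup Y} {n : I → Y} {X : (I → ℤ) → Subgroup Y} {p : ℕ}
variable (R : RGD cs h p T n X)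

include R

/-- `V_i = U ∩ n_i⁻¹ U n_i` -/
theorem mem_V_iff [Finite W] {i : I} {k : Y} (hk : Rp cs R.nsys (cs.simple i) k) {u : Y} :
    u ∈ RGD.Sup X (RGD.PosNe cs h i) ↔
      u ∈ RGD.Sup X (RGD.Pos cs h) ∧ k * u * k⁻¹ ∈ RGD.Sup X (RGD.Pos cs h) := by
  have hkV : ∀ v ∈ RGD.Sup X (RGD.PosNe cs h i), k * v * k⁻¹ ∈ RGD.Sup X (RGD.Pos cs h) := fun v hv =>
    conj_mem_Sup R hk (S' := RGD.Pos cs h) (fun x hx => hx.1) (fun x hx =>
      ⟨hx.1.act _, hx.1.simple_nonneg hx.2.1 i hx.2.2⟩) hv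
  constructor
  · intro hu
    exact ⟨V_le_U R i hu, hkV u hu⟩
  · rintro ⟨h1, h2⟩
    obtain ⟨a, ha, v, hv, rfl⟩ := exists_mul_V R i h1
    have h3 : k * a * k⁻¹ ∈ RGD.Sup X (RGD.Pos cs h) := by
      have e : k * a * k⁻¹ = k * (a * v) * k⁻¹ * (k * v * k⁻¹)⁻¹ := by group
      rw [e]
      exact mul_mem h2 (inv_mem (hkV v hv))
    have h4 := eq_one_of_conj_mem_B R ha hk (RGD.U_le_B h3)
    rw [h4, one_mul]
    exact hv

theorem X_le_V {i j : I} (hij : i ≠ j) : X (sr i) ≤ RGD.Sup X (RGD.PosNe cs h j) := by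
  refine RGD.le_Sup (S := RGD.PosNe cs h j) ⟨isRoot_sr cs h i, sr_nonneg i, fun he => ?_⟩
  have h1 := congrFun he i
  rw [sr_self, sr_ne hij] at h1
  exact one_ne_zero h1

theorem X_le_U (i : I) : X (sr i) ≤ RGD.Sup X (RGD.Pos cs h) :=
  RGD.le_Sup (S := RGD.Pos cs h) ⟨isRoot_sr cs h i, sr_nonneg i⟩

/-- `V_i` is normal in `U` -/
theorem conj_V {i : I} {u v : Y} (hu : u ∈ RGD.Sup X (RGD.Pos cs h)) (hv : v ∈ RGD.Sup X (RGD.PosNe cs h i)) :
    u * v * u⁻¹ ∈ RGD.Sup X (RGD.PosNe cs h i) :=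
  (Subgroup.mem_normalizer_iff.1 (U_le_normalizer_V R i hu) v).1 hv

/-- `U / V_i` is abelian if `X_i` is -/
theorem comm_V {i : I} (hab : ∀ x ∈ X (sr i), ∀ y ∈ X (sr i), x * y = y * x) {u k : Y}
    (hu : u ∈ RGD.Sup X (RGD.Pos cs h)) (hk : k ∈ X (sr i)) : u * k * u⁻¹ * k⁻¹ ∈ RGD.Sup X (RGD.PosNe cs h i) := by
  obtain ⟨y, hy, v, hv, rfl⟩ := exists_mul_V R i hu
  have e : y * v * k * (y * v)⁻¹ * k⁻¹ = y * (v * (k * v⁻¹ * k⁻¹)) * y⁻¹ * (y * k * y⁻¹ * k⁻¹) := by group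
  have e2 : y * k * y⁻¹ * k⁻¹ = 1 := by rw [hab y hy k hk]; group
  rw [e, e2, mul_one]
  exact conj_V R (X_le_U R i hy) (mul_mem hv (conj_V R (X_le_U R i hk) (inv_mem hv)))

/-- a frame automorphism maps `V_i` to `V_{σ i}` -/
theorem diag_V [Finite W] {β : MulAut Y} {σ : Equiv.Perm I} (D : Diag T X β σ)
    (hU : Fix β (RGD.Sup X (RGD.Pos cs h))) (i : I) (v : Y) :
    β v ∈ RGD.Sup X (RGD.PosNe cs h (σ i)) ↔ v ∈ RGD.Sup X (RGD.PosNe cs h i) := by
  rw [mem_V_iff R (D.rp (R := R) i), mem_V_iff R (rp_simple cs R.nsys i), hU v, ← map_inv, ← map_mul, ← map_mul,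
    hU (n i * v * (n i)⁻¹)]

end V

/-! ### the setup -/

/-- a node with `X_i` of exponent 4 (the last node of the odd-dimensional unitary groups) -/
structure Ex {Y : Type*} [Group Y] (T : Subgroup Y) (X : (I → ℤ) → Subgroup Y) (i : I) : Prop where
  cen : ∀ u ∈ X (sr i), u * u = 1 → ∀ v ∈ X (sr i), u * v = v * u
  com : ∀ u ∈ X (sr i), ∀ v ∈ X (sr i), (u * v * u⁻¹ * v⁻¹) * (u * v * u⁻¹ * v⁻¹) = 1
  sq : ∀ z ∈ X (sr i), z * z = 1 → ∃ y ∈ X (sr i), z = y * y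
  irr : ∀ K : Subgroup Y, K ≤ X (sr i) → (∀ z ∈ X (sr i), z * z = 1 → z ∈ K) →
    (∀ t ∈ T, ∀ k ∈ K, t * k * t⁻¹ ∈ K) → (∀ z ∈ K, z * z = 1) ∨ X (sr i) ≤ K
  card : ∀ Z : Subgroup Y, (∀ z ∈ Z, z ∈ X (sr i) ∧ z * z = 1) → Nat.card Z * Nat.card Z < Nat.card (X (sr i))

/-- the possible nodes -/
def Nd {Y : Type*} [Group Y] (T : Subgroup Y) (X : (I → ℤ) → Subgroup Y) (i : I) : Prop :=
  (∀ u ∈ X (sr i), u * u = 1) ∨ Ex T X i

/-- the setup -/
structure Inp {L : Subgroup H} [L.Normal] (cs : CoxeterSystem M W) {A : I → I → ℤ} (h : IsCartan M A)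
    (T : Subgroup L) (n : I → L) (X : (I → ℤ) → Subgroup L) (ρ : H →* (V ≃ₗ[ZMod 2] V)) (a : V) (P : Subgroup H) :
    Prop where
  rgd : RGD cs h 2 T n X
  g1 : RGD.Sup X {x | IsRoot cs h x} = ⊤
  nd : ∀ i, Nd T X i
  one : ∀ i j, ¬ (∀ u ∈ X (sr i), u * u = 1) → ¬ (∀ u ∈ X (sr j), u * u = 1) → i = j
  a_ne : a ≠ 0
  fixB : ∀ g ∈ RGD.B cs h T X, ρ g a = a
  fixU : ∀ v, (∀ u ∈ RGD.Sup X (RGD.Pos cs h), ρ u v = v) → v = 0 ∨ v = a
  sq : ∀ x ∈ P, x * x = 1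
  norm : ∀ g : H, ρ g a = a → ∀ x ∈ P, g * x * g⁻¹ ∈ P
  Pa : ∀ x ∈ P, ρ x a = a
  fix : ∀ v, (∀ x ∈ P, ρ x v = v) → v = 0 ∨ v = a
  nU : ∀ x ∈ P, Fix (MulAut.conjNormal x) (RGD.Sup X (RGD.Pos cs h))
  cen : ∀ g : H, (∀ l : L, g * l * g⁻¹ = l) → g = 1

section S

variable [Finite H] [Finite W] {L : Subgroup H} [L.Normal] {T : Subgroup L} {n : I → L}
  {X : (I → ℤ) → Subgroup L} {ρ : H →* (V ≃ₗ[ZMod 2] V)} {a : V} {P : Subgroup H}

variable (N : Inp cs h T n X ρ a P)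

include N

theorem Inp.gen : GG cs h T X = ⊤ := KFacts.RgdRigid.GG_eq_top N.g1

omit N [Finite H] [Finite W] [Group W] in
theorem ab_of {i : I} (hel : ∀ u ∈ X (sr i), u * u = 1) : ∀ x ∈ X (sr i), ∀ y ∈ X (sr i), x * y = y * x := by
  intro x hx y hy
  have hi : ∀ z ∈ X (sr i), z⁻¹ = z := fun z hz => inv_eq_of_mul_eq_one_left (hel z hz)
  have h1 := hi _ (mul_mem hx hy)
  rw [mul_inv_rev, hi x hx, hi y hy] at h1
  exact h1.symm

theorem Inp.P_inv {x : H} (hx : x ∈ P) : x⁻¹ = x := inv_eq_of_mul_eq_one_left (N.sq x hx)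

theorem Inp.P_comm {x y : H} (hx : x ∈ P) (hy : y ∈ P) : x * y = y * x := by
  have h1 := N.P_inv (mul_mem hx hy)
  rw [mul_inv_rev, N.P_inv hx, N.P_inv hy] at h1
  exact h1.symm

theorem Inp.core : ThmA.Core cs h T n X (ρ.comp L.subtype) a (RGD.Sup X (RGD.Pos cs h)) :=
  ⟨N.rgd, N.a_ne, N.fixB, le_rfl, N.fixU⟩

/-- `P ∩ L ≤ U` -/
theorem Inp.le_U {z : L} (hz : (z : H) ∈ P) : z ∈ RGD.Sup X (RGD.Pos cs h) := by
  have h1 : z ∈ Subgroup.normalizer (RGD.Sup X (RGD.Pos cs h) : Set L) := by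
    rw [Subgroup.mem_normalizer_iff]
    intro u
    have h2 := N.nU _ hz u
    rw [MulAut.conjNormal_val, MulAut.conj_apply] at h2
    exact h2.symm
  rw [normalizer_U' N.rgd N.gen] at h1
  refine N.rgd.mem_U_of_mem_B h1 (k := 1) ?_
  rw [pow_one, pow_two]
  exact Subtype.ext (N.sq _ hz)

/-- `[P, B] ≤ P ∩ L` -/
theorem Inp.comm_mem {x : H} (hx : x ∈ P) {y : L} (hy : y ∈ RGD.B cs h T X) :
    ((MulAut.conjNormal x y * y⁻¹ : L) : H) ∈ P := by
  rw [Subgroup.coe_mul, MulAut.conjNormal_apply, Subgroup.coe_inv]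
  have h1 : x * y * x⁻¹ * (y : H)⁻¹ = x * ((y : H) * x * (y : H)⁻¹)⁻¹ := by group
  rw [h1]
  exact mul_mem hx (inv_mem (N.norm _ (N.fixB y hy) x hx))

theorem Inp.conj_P {z y : L} (hz : (z : H) ∈ P) (hy : y ∈ RGD.B cs h T X) : ((y * z * y⁻¹ : L) : H) ∈ P := by
  rw [Subgroup.coe_mul, Subgroup.coe_mul, Subgroup.coe_inv]
  exact N.norm _ (N.fixB y hy) _ hz

theorem Inp.apply_P {x : H} (hx : x ∈ P) {z : L} (hz : (z : H) ∈ P) : MulAut.conjNormal x z = z := by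
  apply Subtype.ext
  rw [MulAut.conjNormal_apply, N.P_comm hx hz, mul_inv_cancel_right]

/-- an element of `P ∩ L` outside `V_i` : `P ∩ L` covers `U / V_i` -/
theorem Inp.cover {i : I} (hel : ∀ u ∈ X (sr i), u * u = 1) {z : L} (hz : (z : H) ∈ P) (hzV : z ∉ RGD.Sup X (RGD.PosNe cs h i)) {u : L}
    (hu : u ∈ RGD.Sup X (RGD.Pos cs h)) :
    ∃ z' : L, (z' : H) ∈ P ∧ z'⁻¹ * u ∈ RGD.Sup X (RGD.PosNe cs h i) := by
  obtain ⟨y, hy, v, hv, rfl⟩ := exists_mul_V N.rgd i (N.le_U hz)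
  obtain ⟨y', hy', v', hv', rfl⟩ := exists_mul_V N.rgd i hu
  by_cases h1 : y' = 1
  · refine ⟨1, one_mem _, ?_⟩
    rw [h1, inv_one, one_mul, one_mul]
    exact hv'
  have hy1 : y ≠ 1 := by
    rintro rfl
    rw [one_mul] at hzV
    exact hzV hv
  obtain ⟨t, ht, e⟩ := tr_pos N.rgd hel hy hy1 hy' h1
  refine ⟨t * (y * v) * t⁻¹, N.conj_P hz (RGD.T_le_B ht.1), ?_⟩
  have e1 : (t * (y * v) * t⁻¹)⁻¹ * (y' * v') = (t * v * t⁻¹)⁻¹ * v' := by
    rw [← e]; group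
  rw [e1]
  have hTV : T ≤ Subgroup.normalizer (RGD.Sup X (RGD.PosNe cs h i) : Set L) :=
    N.rgd.T_le_normalizer fun x hx => hx.1
  exact mul_mem (inv_mem ((Subgroup.mem_normalizer_iff.1 (hTV ht.1) v).1 hv)) hv'

/-- an element of `P ∩ L` outside `V_i` : the node `i` moves `a` -/
theorem Inp.moves {i : I} {z : L} (hz : (z : H) ∈ P) (hzV : z ∉ RGD.Sup X (RGD.PosNe cs h i)) :
    ρ (n i) a ≠ a := by
  intro ha
  apply hzV
  rw [mem_V_iff N.rgd (rp_simple cs N.rgd.nsys i)]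
  refine ⟨N.le_U hz, N.le_U ?_⟩
  rw [Subgroup.coe_mul, Subgroup.coe_mul, Subgroup.coe_inv]
  exact N.norm _ ha _ hz

/-- an element of `P` preserving `V_i` centralises `U / V_i` -/
theorem Inp.triv {i : I} (hel : ∀ u ∈ X (sr i), u * u = 1) {x : H} (hx : x ∈ P)
    (hxV : ∀ v ∈ RGD.Sup X (RGD.PosNe cs h i), MulAut.conjNormal x v ∈ RGD.Sup X (RGD.PosNe cs h i)) {u : L}
    (hu : u ∈ RGD.Sup X (RGD.Pos cs h)) : MulAut.conjNormal x u * u⁻¹ ∈ RGD.Sup X (RGD.PosNe cs h i) := by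
  have hz := N.comm_mem hx (RGD.U_le_B hu)
  by_cases hzV : MulAut.conjNormal x u * u⁻¹ ∈ RGD.Sup X (RGD.PosNe cs h i)
  · exact hzV
  obtain ⟨z', hz', hv⟩ := N.cover hel hz hzV hu
  have e : MulAut.conjNormal x u * u⁻¹ =
      z' * (MulAut.conjNormal x (z'⁻¹ * u) * (z'⁻¹ * u)⁻¹) * z'⁻¹ := by
    rw [map_mul, map_inv, N.apply_P hx hz']; group
  rw [e]
  exact conj_V N.rgd (N.le_U hz') (mul_mem (hxV _ hv) (inv_mem hv))

/-- the frame of an element of `P` -/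
theorem Inp.frame {x : H} (hx : x ∈ P) : ∃ u ∈ RGD.Sup X (RGD.Pos cs h), ∃ σ : Equiv.Perm I,
    Diag T X (MulAut.conj u * MulAut.conjNormal x) σ ∧
      Fix (MulAut.conj u * MulAut.conjNormal x) (RGD.Sup X (RGD.Pos cs h)) := by
  obtain ⟨u, hu, hU, -, hUN, -, -⟩ := exists_frame N.rgd N.gen (N.nU x hx)
  obtain ⟨σ, D⟩ := exists_diag N.rgd N.gen hU hUN
  exact ⟨u, hu, σ, D, hU⟩

/-- `x V_i x⁻¹ = V_{σ i}` -/
theorem Inp.map_V {x : H} {u : L} (hu : u ∈ RGD.Sup X (RGD.Pos cs h)) {σ : Equiv.Perm I}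
    (D : Diag T X (MulAut.conj u * MulAut.conjNormal x) σ)
    (hU : Fix (MulAut.conj u * MulAut.conjNormal x) (RGD.Sup X (RGD.Pos cs h))) (i : I) (v : L) :
    MulAut.conjNormal x v ∈ RGD.Sup X (RGD.PosNe cs h (σ i)) ↔ v ∈ RGD.Sup X (RGD.PosNe cs h i) := by
  rw [← diag_V N.rgd D hU i v, MulAut.mul_apply, MulAut.conj_apply]
  exact Subgroup.mem_normalizer_iff.1 (U_le_normalizer_V N.rgd (σ i) hu) _

/-- `σ i = i` if `x` preserves `V_i` -/
theorem Inp.sigma_eq {x : H} {u : L} (hu : u ∈ RGD.Sup X (RGD.Pos cs h)) {σ : Equiv.Perm I}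
    (D : Diag T X (MulAut.conj u * MulAut.conjNormal x) σ)
    (hU : Fix (MulAut.conj u * MulAut.conjNormal x) (RGD.Sup X (RGD.Pos cs h))) {i : I}
    (hxV : ∀ v ∈ RGD.Sup X (RGD.PosNe cs h i), MulAut.conjNormal x v ∈ RGD.Sup X (RGD.PosNe cs h i)) : σ i = i := by
  by_contra hne
  obtain ⟨y, hy, hy1⟩ := exists_ne_one N.rgd i
  -- `V_{σ i} ≤ V_i`, but `X_i ≤ V_{σ i}`
  have h1 : y ∈ RGD.Sup X (RGD.PosNe cs h (σ i)) := X_le_V N.rgd (Ne.symm hne) hy
  have h2 : (MulAut.conjNormal x)⁻¹ y ∈ RGD.Sup X (RGD.PosNe cs h i) := by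
    rw [← N.map_V hu D hU, MulAut.apply_inv_self]
    exact h1
  have h3 := hxV _ h2
  rw [MulAut.apply_inv_self] at h3
  exact hy1 (eq_one_of_mem_PosNe N.rgd hy h3)

omit [Finite W] N in
theorem self_add (v : V) : v + v = 0 := by
  have h1 := two_nsmul' v
  rwa [two_nsmul] at h1

omit [Fintype I] [DecidableEq I] [Group W] [Finite W] N in
theorem nm_pair {Y : Type*} [Group Y] [Finite Y] {τ : Y →* (V ≃ₗ[ZMod 2] V)} {y : Y} (hy : y * y = 1) (hy1 : y ≠ 1)
    (w : V) : Nm τ (Subgroup.zpowers y) w = w + τ y w := by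
  classical
  have hz : ∀ g, g ∈ Subgroup.zpowers y ↔ g = 1 ∨ g = y := by
    intro g
    constructor
    · rintro ⟨k, rfl⟩
      have h2 : y ^ (2 : ℤ) = 1 := by
        rw [show (2 : ℤ) = ((2 : ℕ) : ℤ) from rfl, zpow_natCast, pow_two, hy]
      rcases Int.even_or_odd' k with ⟨m, rfl | rfl⟩
      · left
        show y ^ (2 * m) = 1
        rw [zpow_mul, h2, one_zpow]
      · right
        show y ^ (2 * m + 1) = y
        rw [zpow_add, zpow_mul, h2, one_zpow, one_mul, zpow_one]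
    · rintro (rfl | rfl)
      · exact one_mem _
      · exact Subgroup.mem_zpowers g
  have h1 : fs (Subgroup.zpowers y) = {1, y} := by
    ext g
    rw [mem_fs, hz, Finset.mem_insert, Finset.mem_singleton]
  unfold Nm
  rw [h1, Finset.sum_pair (Ne.symm hy1), rho_one]

/-- `V_i` fixes `n_i a` -/
theorem Inp.fixc {i : I} {v : L} (hv : v ∈ RGD.Sup X (RGD.PosNe cs h i)) : ρ v (ρ (n i) a) = ρ (n i) a := by
  have hk : Rp cs N.rgd.nsys (cs.simple i) (n i)⁻¹ := rp_inv N.rgd (rp_simple cs N.rgd.nsys i)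
  have h1 := ((mem_V_iff N.rgd hk).1 hv).2
  rw [inv_inv] at h1
  have h2 := N.fixB _ (RGD.U_le_B h1)
  have e : (v : H) * n i = n i * (((n i)⁻¹ * v * n i : L) : H) := by
    rw [Subgroup.coe_mul, Subgroup.coe_mul, Subgroup.coe_inv]; group
  rw [← rho_mul, e, rho_mul, h2]

/-- **The vector `s`**: the norm of `n_i a` over a hyperplane of `X_i`. -/
theorem Inp.exists_s {i : I} (hel : ∀ u ∈ X (sr i), u * u = 1) (hi : ρ (n i) a ≠ a) : ∃ s : V, ∃ y ∈ X (sr i), ρ y s = s + a ∧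
    (∀ v ∈ RGD.Sup X (RGD.PosNe cs h i), ρ v s = s) ∧
    (∀ u ∈ RGD.Sup X (RGD.Pos cs h), ρ u s = s ∨ ρ u s = s + a) ∧
    ∀ x ∈ P, (∀ v ∈ RGD.Sup X (RGD.PosNe cs h i), MulAut.conjNormal x v ∈ RGD.Sup X (RGD.PosNe cs h i)) →
      ρ x s = s ∨ ρ x s = s + a := by
  classical
  obtain ⟨y, hy, hy1⟩ := exists_ne_one N.rgd i
  have hyy := hel y hy
  have hzy : Subgroup.zpowers y ≤ X (sr i) := by rw [Subgroup.zpowers_le]; exact hy
  obtain ⟨K, hKX, hK1, hK2⟩ := exists_compl hel hzy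
  set ρL : L →* (V ≃ₗ[ZMod 2] V) := ρ.comp L.subtype with hρL
  have hρ : ∀ (l : L) (v : V), ρL l v = ρ l v := fun _ _ => rfl
  set s := Nm ρL K (ρ (n i) a) with hs
  have hUa : ∀ u ∈ RGD.Sup X (RGD.Pos cs h), ρ u a = a := fun u hu => N.fixB u (RGD.U_le_B hu)
  have hXU := X_le_U N.rgd i
  -- `y s = s + a`
  have hys : ρ y s = s + a := by
    have h1 : Nm ρL (X (sr i)) (ρL (n i) a) = a := ThmA.nm_simple N.core hi
    have h2 : Nm ρL (X (sr i)) (ρL (n i) a) = Nm ρL (Subgroup.zpowers y) (Nm ρL K (ρL (n i) a)) := by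
      refine Nm.prod (fun k hk l hl => mul_mem (hzy hk) (hKX hl)) (fun g hg => ?_) (fun g hg hg' => hK1 g hg' hg) _
      obtain ⟨r, hr, m, hm, e⟩ := hK2 g hg
      exact ⟨m, hm, r, hr, by rw [e, ab_of hel r (hKX hr) m (hzy hm)]⟩
    rw [h2, nm_pair hyy hy1] at h1
    have h3 : s + (s + ρ y s) = s + a := congrArg (s + ·) h1
    rwa [← add_assoc, self_add, zero_add] at h3
  have hVs : ∀ v ∈ RGD.Sup X (RGD.PosNe cs h i), ρ v s = s := by
    intro v hv
    rw [hs]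
    unfold Nm
    rw [map_sum]
    refine Finset.sum_congr rfl fun k hk => ?_
    have hkU := hXU (hKX (mem_fs.1 hk))
    have h1 : k⁻¹ * v * k ∈ RGD.Sup X (RGD.PosNe cs h i) := by
      have := conj_V N.rgd (inv_mem hkU) hv
      rwa [inv_inv] at this
    have e : (v : H) * k = k * ((k⁻¹ * v * k : L) : H) := by
      rw [Subgroup.coe_mul, Subgroup.coe_mul, Subgroup.coe_inv]; group
    rw [hρ, ← rho_mul, e, rho_mul, N.fixc h1]
  have hKs : ∀ k ∈ K, ρ k s = s := fun k hk => Nm.fix (ρ := ρL) hk _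
  have hUs : ∀ u ∈ RGD.Sup X (RGD.Pos cs h), ρ u s = s ∨ ρ u s = s + a := by
    intro u hu
    obtain ⟨x, hx, v, hv, rfl⟩ := exists_mul_V N.rgd i hu
    rw [Subgroup.coe_mul, rho_mul, hVs v hv]
    obtain ⟨r, hr, m, hm, rfl⟩ := hK2 x hx
    rw [Subgroup.coe_mul, rho_mul]
    have hra := hUa r (hXU (hKX hr))
    have hm' : ρ m s = s ∨ ρ m s = s + a := by
      obtain ⟨k, rfl⟩ := hm
      have h2 : y ^ (2 : ℤ) = 1 := by
        rw [show (2 : ℤ) = ((2 : ℕ) : ℤ) from rfl, zpow_natCast, pow_two, hyy]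
      rcases Int.even_or_odd' k with ⟨j, rfl | rfl⟩
      · left
        have : y ^ (2 * j) = 1 := by rw [zpow_mul, h2, one_zpow]
        show ρ ((y ^ (2 * j) : L) : H) s = s
        rw [this, Subgroup.coe_one, rho_one]
      · right
        have : y ^ (2 * j + 1) = y := by
          rw [zpow_add, zpow_mul, h2, one_zpow, one_mul, zpow_one]
        show ρ ((y ^ (2 * j + 1) : L) : H) s = s + a
        rw [this, hys]
    rcases hm' with h3 | h3
    · left
      rw [h3, hKs r hr]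
    · right
      rw [h3, map_add, hKs r hr, hra]
  refine ⟨s, y, hy, hys, hVs, hUs, fun x hx hxV => ?_⟩
  obtain ⟨u, hu, σ, D, hU⟩ := N.frame hx
  have hσ := N.sigma_eq hu D hU hxV
  set β := MulAut.conj u * MulAut.conjNormal x with hβ
  have hβH : ∀ l : L, ((β l : L) : H) = (u * x) * l * ((u : H) * x)⁻¹ := by
    intro l
    rw [hβ, MulAut.mul_apply, MulAut.conj_apply, Subgroup.coe_mul, Subgroup.coe_mul, Subgroup.coe_inv,
      MulAut.conjNormal_apply]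
    group
  have hβρ : ∀ (l : L) (w : V), ρ ((u : H) * x) (ρ l w) = ρ (β l) (ρ ((u : H) * x) w) := by
    intro l w
    rw [hβH, ← rho_mul, ← rho_mul, inv_mul_cancel_right]
  have hga : ρ ((u : H) * x) a = a := by rw [rho_mul, N.Pa x hx, hUa u hu]
  have hgc : ρ ((u : H) * x) (ρ (n i) a) = ρ (n i) a := by
    rw [hβρ, hga]
    have h1 := D.rp (R := N.rgd) i
    rw [hσ] at h1
    have h2 := (rp_simple cs N.rgd.nsys i).unique h1
    have h3 := N.fixB _ (RGD.T_le_B h2)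
    have e : ((β (n i) : L) : H) = n i * (((n i)⁻¹ * β (n i) : L) : H) := by
      rw [Subgroup.coe_mul, Subgroup.coe_inv]; group
    rw [e, rho_mul, h3]
  have hβk : ∀ k ∈ K, β k = k := by
    intro k hk
    have hkX := hKX hk
    have h1 : β k ∈ X (sr i) := by
      have := (D.pos i k).2 hkX
      rwa [hσ] at this
    have h2 : β k * k⁻¹ ∈ RGD.Sup X (RGD.PosNe cs h i) := by
      have e : β k * k⁻¹ = u * (MulAut.conjNormal x k * k⁻¹) * u⁻¹ * (u * k * u⁻¹ * k⁻¹) := by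
        rw [hβ, MulAut.mul_apply, MulAut.conj_apply]; group
      rw [e]
      exact mul_mem (conj_V N.rgd hu (N.triv hel hx hxV (hXU hkX))) (comm_V N.rgd (ab_of hel) hu hkX)
    exact mul_inv_eq_one.1 (eq_one_of_mem_PosNe N.rgd (mul_mem h1 (inv_mem hkX)) h2)
  have hgs : ρ ((u : H) * x) s = s := by
    rw [hs]
    unfold Nm
    rw [map_sum]
    refine Finset.sum_congr rfl fun k hk => ?_
    rw [hρ, hβρ, hβk k (mem_fs.1 hk), hgc]
  have hxs : ρ x s = ρ (u⁻¹ : L) s := by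
    have e : x = ((u⁻¹ : L) : H) * ((u : H) * x) := by
      rw [Subgroup.coe_inv]; group
    conv_lhs => rw [e]
    rw [rho_mul, hgs]
  rw [hxs]
  exact hUs _ (inv_mem hu)

/-- `P` preserves `V_i` if `X_i` has exponent 2 -/
theorem Inp.pres_el {i : I} (hel : ∀ u ∈ X (sr i), u * u = 1) : ∀ x ∈ P, ∀ v ∈ RGD.Sup X (RGD.PosNe cs h i),
    MulAut.conjNormal x v ∈ RGD.Sup X (RGD.PosNe cs h i) := by
  classical
  by_contra hcon
  push Not at hcon
  obtain ⟨x₀, hx₀, v₀, hv₀, hxv⟩ := hcon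
  -- `i` moves `a`
  have hi : ρ (n i) a ≠ a := by
    obtain ⟨u, hu, σ, D, hU⟩ := N.frame hx₀
    have hσ : σ i ≠ i := by
      intro hσ
      apply hxv
      have := (N.map_V hu D hU i v₀).2 hv₀
      rwa [hσ] at this
    obtain ⟨y, hy, hy1⟩ := exists_ne_one N.rgd i
    refine N.moves (i := i) (N.comm_mem hx₀ (RGD.X_le_B (isRoot_sr cs h i) (sr_nonneg i) hy)) fun hz => hy1 ?_
    have h1 : MulAut.conjNormal x₀ y ∈ RGD.Sup X (RGD.PosNe cs h i) := by
      have h2 := X_le_V N.rgd hσ ((D.pos i y).2 hy)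
      rw [MulAut.mul_apply, MulAut.conj_apply] at h2
      exact (Subgroup.mem_normalizer_iff.1 (U_le_normalizer_V N.rgd i hu) _).2 h2
    have h3 : y ∈ RGD.Sup X (RGD.PosNe cs h i) := by
      have e : y = (MulAut.conjNormal x₀ y * y⁻¹)⁻¹ * MulAut.conjNormal x₀ y := by group
      rw [e]
      exact mul_mem (inv_mem hz) h1
    exact eq_one_of_mem_PosNe N.rgd hy h3
  obtain ⟨s, y, hy, hys, hVs, -, hPs⟩ := N.exists_s hel hi
  let Ni : Subgroup H :=
    { carrier := {x | x ∈ P ∧ ∀ v ∈ RGD.Sup X (RGD.PosNe cs h i), MulAut.conjNormal x v ∈ RGD.Sup X (RGD.PosNe cs h i)}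
      one_mem' := ⟨one_mem _, fun v hv => by rw [map_one]; exact hv⟩
      mul_mem' := by
        rintro x x' ⟨hx, hxV⟩ ⟨hx', hxV'⟩
        exact ⟨mul_mem hx hx', fun v hv => by rw [map_mul, MulAut.mul_apply]; exact hxV _ (hxV' v hv)⟩
      inv_mem' := by
        rintro x ⟨hx, hxV⟩
        have e := N.P_inv hx
        exact ⟨by rw [e]; exact hx, by rw [e]; exact hxV⟩ }
  have hNi : ∀ x, x ∈ Ni ↔ x ∈ P ∧ ∀ v ∈ RGD.Sup X (RGD.PosNe cs h i),
      MulAut.conjNormal x v ∈ RGD.Sup X (RGD.PosNe cs h i) := fun x => Iff.rfl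
  obtain ⟨Rc, hRP, hR1, hR2⟩ := exists_compl N.sq (N := Ni) (fun x hx => hx.1)
  have hUa : ∀ u ∈ RGD.Sup X (RGD.Pos cs h), ρ u a = a := fun u hu => N.fixB u (RGD.U_le_B hu)
  -- `|R|` is even
  have heven : 2 ∣ Nat.card Rc := by
    obtain ⟨r, hr, m, hm, e⟩ := hR2 x₀ hx₀
    have hr1 : r ≠ 1 := by
      rintro rfl
      rw [one_mul] at e
      rw [e] at hxv
      exact hxv (hm.2 v₀ hv₀)
    have h2 : orderOf (⟨r, hr⟩ : Rc) = 2 := by
      refine orderOf_eq_prime ?_ (fun h3 => hr1 (congrArg Subtype.val h3))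
      rw [pow_two]
      exact Subtype.ext (N.sq r (hRP hr))
    rw [← h2]
    exact orderOf_dvd_natCard _
  have hcard : ∀ w : V, ∑ _r ∈ fs Rc, w = 0 := by
    intro w
    rw [Finset.sum_const, card_fs]
    obtain ⟨k, hk⟩ := heven
    rw [hk, mul_comm, mul_nsmul', two_nsmul', smul_zero]
  set v := Nm ρ Rc s with hv
  have hfixv : ∀ x ∈ P, ρ x v = v := by
    intro x hx
    obtain ⟨r, hr, m, hm, rfl⟩ := hR2 x hx
    have hmP := ((hNi m).1 hm).1
    have h1 : ρ m v = v := by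
      have h2 : ρ m v = ∑ r' ∈ fs Rc, ρ r' (ρ m s) := by
        rw [hv]
        unfold Nm
        rw [map_sum]
        refine Finset.sum_congr rfl fun r' hr' => ?_
        rw [← rho_mul, N.P_comm hmP (hRP (mem_fs.1 hr')), rho_mul]
      rw [h2]
      rcases hPs m hmP ((hNi m).1 hm).2 with h3 | h3
      · rw [h3]
        rfl
      · rw [h3]
        have h4 : ∑ r' ∈ fs Rc, ρ r' (s + a) = ∑ r' ∈ fs Rc, ρ r' s + ∑ _r' ∈ fs Rc, a := by
          rw [← Finset.sum_add_distrib]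
          refine Finset.sum_congr rfl fun r' hr' => ?_
          rw [map_add, N.Pa r' (hRP (mem_fs.1 hr'))]
        rw [h4, hcard, add_zero]
        rfl
    rw [rho_mul, h1]
    exact Nm.fix hr _
  have hyv : ρ y v = v := by
    rcases N.fix v hfixv with h0 | h0
    · rw [h0, map_zero]
    · rw [h0]
      exact hUa y (X_le_U N.rgd i hy)
  have hyv' : ρ y v = v + a := by
    have h1 : (1 : H) ∈ fs Rc := mem_fs.2 (one_mem _)
    rw [hv]
    unfold Nm
    rw [map_sum, ← Finset.add_sum_erase _ _ h1, ← Finset.add_sum_erase (a := (1 : H)) _ (fun u => ρ u s) h1]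
    rw [rho_one, hys]
    have h2 : ∑ r ∈ (fs Rc).erase 1, ρ y (ρ r s) = ∑ r ∈ (fs Rc).erase 1, ρ r s := by
      refine Finset.sum_congr rfl fun r hr => ?_
      rw [Finset.mem_erase] at hr
      have hrR := mem_fs.1 hr.2
      have hrP := hRP hrR
      obtain ⟨u, hu, σ, D, hU⟩ := N.frame hrP
      have hσ : σ i ≠ i := by
        intro hσ
        apply hr.1
        refine hR1 r hrR ((hNi r).2 ⟨hrP, fun v hv => ?_⟩)
        have := (N.map_V hu D hU i v).2 hv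
        rwa [hσ] at this
      have h3 : y ∈ RGD.Sup X (RGD.PosNe cs h (σ i)) := X_le_V N.rgd (Ne.symm hσ) hy
      have h4 : (MulAut.conjNormal r)⁻¹ y ∈ RGD.Sup X (RGD.PosNe cs h i) := by
        rw [← N.map_V hu D hU, MulAut.apply_inv_self]
        exact h3
      have h5 := hVs _ h4
      have h6 : (((MulAut.conjNormal r)⁻¹ y : L) : H) = r⁻¹ * y * r := by
        rw [MulAut.conjNormal_inv_apply]
      rw [h6] at h5
      have e : (y : H) * r = r * (r⁻¹ * y * r) := by group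
      rw [← rho_mul, e, rho_mul, h5]
    rw [h2]
    abel
  rw [hyv] at hyv'
  have h7 : a = 0 := by
    exact (left_eq_add.1 hyv')
  exact N.a_ne h7

/-- **`P` preserves all the `V_i`.** -/
theorem Inp.pres (i : I) : ∀ x ∈ P, ∀ v ∈ RGD.Sup X (RGD.PosNe cs h i),
    MulAut.conjNormal x v ∈ RGD.Sup X (RGD.PosNe cs h i) := by
  by_cases hel : ∀ u ∈ X (sr i), u * u = 1
  · exact N.pres_el hel
  intro x hx v hv
  obtain ⟨u, hu, σ, D, hU⟩ := N.frame hx
  have hσ : σ i = i := by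
    refine N.one _ _ (fun h1 => hel fun k hk => ?_) hel
    have h2 := h1 _ ((D.pos i k).2 hk)
    rw [← map_mul] at h2
    exact (map_eq_one_iff _ (MulEquiv.injective _)).1 h2
  have := (N.map_V hu D hU i v).2 hv
  rwa [hσ] at this

/-- the frame automorphism of an element of `P` is trivial -/
theorem Inp.frame_eq_one {x : H} (hx : x ∈ P) : ∃ u ∈ RGD.Sup X (RGD.Pos cs h),
    MulAut.conj u * MulAut.conjNormal x = 1 := by
  obtain ⟨u, hu, σ, D, hU⟩ := N.frame hx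
  have hσ1 : σ = 1 := Equiv.ext fun i => N.sigma_eq hu D hU (N.pres i x hx)
  subst hσ1
  refine ⟨u, hu, KFacts.RgdRigid.Diag.eq_one N.rgd N.g1 D fun i k hk => ?_⟩
  set β := MulAut.conj u * MulAut.conjNormal x with hβ
  have hXU := X_le_U N.rgd i
  have hβX : ∀ k ∈ X (sr i), β k ∈ X (sr i) := fun k hk => (D.pos i k).2 hk
  by_cases hel : ∀ u ∈ X (sr i), u * u = 1
  · have h2 : β k * k⁻¹ ∈ RGD.Sup X (RGD.PosNe cs h i) := by
      have e : β k * k⁻¹ = u * (MulAut.conjNormal x k * k⁻¹) * u⁻¹ * (u * k * u⁻¹ * k⁻¹) := by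
        rw [hβ, MulAut.mul_apply, MulAut.conj_apply]; group
      rw [e]
      exact mul_mem (conj_V N.rgd hu (N.triv hel hx (N.pres i x hx) (hXU hk))) (comm_V N.rgd (ab_of hel) hu hk)
    exact mul_inv_eq_one.1 (eq_one_of_mem_PosNe N.rgd (mul_mem (hβX k hk) (inv_mem hk)) h2)
  -- exponent 4
  have E : Ex T X i := (N.nd i).resolve_left hel
  -- `β` centralises `T`
  have hβT : ∀ t ∈ T, β t = t := by
    intro t ht
    have hz := N.le_U (N.comm_mem hx (RGD.T_le_B (cs := cs) (h := h) (X := X) ht))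
    have h1 : β t * t⁻¹ ∈ RGD.Sup X (RGD.Pos cs h) := by
      have e : β t * t⁻¹ = u * (MulAut.conjNormal x t * t⁻¹) * (t * u⁻¹ * t⁻¹) := by
        rw [hβ, MulAut.mul_apply, MulAut.conj_apply]; group
      rw [e]
      refine mul_mem (mul_mem hu hz) ?_
      exact (Subgroup.mem_normalizer_iff.1 (N.rgd.T_le_normalizer_U ht) _).1 (inv_mem hu)
    have h2 : β t * t⁻¹ ∈ T := mul_mem ((D.tor t).2 ht) (inv_mem ht)
    have h3 : β t * t⁻¹ ∈ RGD.Sup X (RGD.Pos cs h) ⊓ T := ⟨h1, h2⟩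
    rw [U_inf_T N.rgd, Subgroup.mem_bot] at h3
    exact mul_inv_eq_one.1 h3
  -- `β y y⁻¹` is an involution
  have hψ : ∀ y ∈ X (sr i), (β y * y⁻¹) * (β y * y⁻¹) = 1 := by
    intro y hy
    have hzP := N.comm_mem hx (RGD.U_le_B (hXU hy))
    obtain ⟨z, hzdef⟩ : ∃ z, z = MulAut.conjNormal x y * y⁻¹ := ⟨_, rfl⟩
    rw [← hzdef] at hzP
    obtain ⟨z', hz', v, hv, ez⟩ := exists_mul_V N.rgd i (N.le_U hzP)
    obtain ⟨u', hu', v', hv', eu⟩ := exists_mul_V N.rgd i hu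
    -- `z' z' = 1`
    have hz2 : z' * z' = 1 := by
      have h1 : z * z = 1 := Subtype.ext (N.sq _ hzP)
      have h2 : z' * z' = z * z * (v⁻¹ * (z'⁻¹ * v⁻¹ * z')) := by rw [ez]; group
      have h3 : z'⁻¹ * v⁻¹ * z' ∈ RGD.Sup X (RGD.PosNe cs h i) := by
        have := conj_V N.rgd (inv_mem (hXU hz')) (inv_mem hv)
        rwa [inv_inv] at this
      refine eq_one_of_mem_PosNe N.rgd (mul_mem hz' hz') ?_
      rw [h2, h1, one_mul]
      exact mul_mem (inv_mem hv) h3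
    -- `β y = z' u' y u'⁻¹`
    have h1 : β y = z' * (u' * y * u'⁻¹) := by
      have h4 : β y * (z' * (u' * y * u'⁻¹))⁻¹ ∈ RGD.Sup X (RGD.PosNe cs h i) := by
        have e : β y = u * z * y * u⁻¹ := by
          rw [hβ, MulAut.mul_apply, MulAut.conj_apply, hzdef]; group
        have hcz : u' * z' * u'⁻¹ = z' := by
          rw [← E.cen z' hz' hz2 u' hu']; group
        have e2 : z' * (u' * y * u'⁻¹) = u' * z' * y * u'⁻¹ := by
          calc z' * (u' * y * u'⁻¹) = (u' * z' * u'⁻¹) * (u' * y * u'⁻¹) := by rw [hcz]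
            _ = _ := by group
        rw [e, e2, ez, eu]
        have e3 : u' * v' * (z' * v) * y * (u' * v')⁻¹ * (u' * z' * y * u'⁻¹)⁻¹ =
            u' * (v' * (z' * (v * (y * v'⁻¹ * y⁻¹)) * z'⁻¹)) * u'⁻¹ := by group
        rw [e3]
        exact conj_V N.rgd (hXU hu') (mul_mem hv' (conj_V N.rgd (hXU hz') (mul_mem hv
          (conj_V N.rgd (hXU hy) (inv_mem hv')))))
      exact mul_inv_eq_one.1 (eq_one_of_mem_PosNe N.rgd (mul_mem (hβX y hy)
        (inv_mem (mul_mem hz' (mul_mem (mul_mem hu' hy) (inv_mem hu'))))) h4)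
    have e : β y * y⁻¹ = z' * (u' * y * u'⁻¹ * y⁻¹) := by rw [h1]; group
    have hc : u' * y * u'⁻¹ * y⁻¹ ∈ X (sr i) := mul_mem (mul_mem (mul_mem hu' hy) (inv_mem hu')) (inv_mem hy)
    rw [e]
    have h5 := E.cen z' hz' hz2 _ hc
    calc z' * (u' * y * u'⁻¹ * y⁻¹) * (z' * (u' * y * u'⁻¹ * y⁻¹)) =
        z' * ((u' * y * u'⁻¹ * y⁻¹) * z') * (u' * y * u'⁻¹ * y⁻¹) := by group
      _ = z' * (z' * (u' * y * u'⁻¹ * y⁻¹)) * (u' * y * u'⁻¹ * y⁻¹) := by rw [h5]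
      _ = (z' * z') * ((u' * y * u'⁻¹ * y⁻¹) * (u' * y * u'⁻¹ * y⁻¹)) := by group
      _ = 1 := by rw [hz2, E.com u' hu' y hy, one_mul]
  -- the homomorphism
  let f : ↥(X (sr i)) →* L :=
    { toFun := fun y => β y * (y : L)⁻¹
      map_one' := by rw [Subgroup.coe_one, map_one, inv_one, one_mul]
      map_mul' := by
        intro y y'
        have h1 := E.cen _ (mul_mem (hβX y' y'.2) (inv_mem y'.2)) (hψ y' y'.2) _ (inv_mem y.2)
        show β ((y * y' : X (sr i)) : L) * ((y * y' : X (sr i)) : L)⁻¹ = β y * (y : L)⁻¹ * (β y' * (y' : L)⁻¹)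
        rw [Subgroup.coe_mul, map_mul, mul_inv_rev]
        calc β y * β y' * ((y' : L)⁻¹ * (y : L)⁻¹) = β y * ((β y' * (y' : L)⁻¹) * (y : L)⁻¹) := by group
          _ = β y * ((y : L)⁻¹ * (β y' * (y' : L)⁻¹)) := by rw [h1]
          _ = _ := by group }
  have hf : ∀ y : ↥(X (sr i)), f y = β y * (y : L)⁻¹ := fun _ => rfl
  set Z : Subgroup L := f.ker.map (X (sr i)).subtype with hZ
  have hZm : ∀ y, y ∈ Z ↔ y ∈ X (sr i) ∧ β y = y := by
    intro y
    constructor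
    · rintro ⟨⟨y', hy'⟩, h1, rfl⟩
      refine ⟨hy', ?_⟩
      have h2 := MonoidHom.mem_ker.1 h1
      rw [hf] at h2
      exact mul_inv_eq_one.1 h2
    · rintro ⟨h1, h2⟩
      refine ⟨⟨y, h1⟩, ?_, rfl⟩
      rw [SetLike.mem_coe, MonoidHom.mem_ker, hf]
      exact mul_inv_eq_one.2 h2
  have hinvZ : ∀ z ∈ X (sr i), z * z = 1 → z ∈ Z := by
    intro z hz hz1
    obtain ⟨y, hy, rfl⟩ := E.sq z hz hz1
    refine (hZm _).2 ⟨hz, ?_⟩
    have h1 := hψ y hy
    have h2 : f (⟨y, hy⟩ * ⟨y, hy⟩) = 1 := by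
      rw [map_mul, hf]
      exact h1
    rw [hf] at h2
    exact mul_inv_eq_one.1 h2
  have hkZ : k ∈ Z := by
    rcases E.irr Z (fun y hy => ((hZm y).1 hy).1) hinvZ (fun t ht y hy => by
      obtain ⟨h1, h2⟩ := (hZm y).1 hy
      refine (hZm _).2 ⟨?_, ?_⟩
      · rw [← N.rgd.tor _ (isRoot_sr cs h i) t ht]
        exact conj_mem_cj.2 h1
      · rw [map_mul, map_mul, map_inv, hβT t ht, h2]) with h1 | h1
    · exfalso
      have h2 := E.card Z fun z hz => ⟨((hZm z).1 hz).1, h1 z hz⟩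
      have h3 : Nat.card Z = Nat.card f.ker :=
        Nat.card_congr (f.ker.equivMapOfInjective _ (X (sr i)).subtype_injective).toEquiv.symm
      have h4 := Subgroup.card_mul_index f.ker
      rw [Subgroup.index_ker] at h4
      have h5 : f.range ≤ Z := by
        rintro _ ⟨y, rfl⟩
        rw [hf]
        exact hinvZ _ (mul_mem (hβX y y.2) (inv_mem y.2)) (hψ y y.2)
      have h6 := Subgroup.card_le_of_le h5
      rw [← h4, ← h3] at h2
      exact absurd (Nat.mul_le_mul_left (Nat.card Z) h6) (not_le.2 h2)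
    · exact h1 hk
  exact ((hZm k).1 hkZ).2

/-- **`P ≤ U`.** -/
theorem Inp.mem_U {x : H} (hx : x ∈ P) : ∃ z ∈ RGD.Sup X (RGD.Pos cs h), (z : H) = x := by
  obtain ⟨u, hu, e⟩ := N.frame_eq_one hx
  refine ⟨u⁻¹, inv_mem hu, ?_⟩
  have h1 : (u : H) * x = 1 := by
    refine N.cen _ fun l => ?_
    have h2 : (MulAut.conj u * MulAut.conjNormal x : MulAut L) l = l := by rw [e]; rfl
    have h3 := congrArg (Subtype.val) h2
    rw [MulAut.mul_apply, MulAut.conj_apply, Subgroup.coe_mul, Subgroup.coe_mul, Subgroup.coe_inv,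
      MulAut.conjNormal_apply] at h3
    have h4 : (u : H) * x * l * ((u : H) * x)⁻¹ = u * (x * l * x⁻¹) * (u : H)⁻¹ := by group
    rw [h4, h3]
  rw [Subgroup.coe_inv]
  exact (eq_inv_of_mul_eq_one_right h1).symm

end S

end Cfsg.Agent.Omega.EH3.Kf.InL
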