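import Cfsg.Agent.Omega.EH3.Kf.CRSpan
import Cfsg.Agent.Omega.EH3.Kf.InL
import Cfsg.Agent.Omega.EH3.Cons
import Cfsg.Agent.Omega.EH3.TForm
import Cfsg.Agent.Nodes.RGDLib

/-!
# `Row` from `Cfg` (helper810; KF3)

`C : Cfg ρ b q a D P w`, `L` normal in `H`, with a root group datum of characteristic 2 with finite Weyl group which
generates `L`, `T` abelian, the groups `X_i` of exponent 2, `V` irreducible for `L` with `End_L V = {0, 1}`. Then, after
conjugation of the root group datum by an element of `L`, `P ≤ U` and `Row cs h T n X ρ b a D P w` (`rowOf`).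
-/

set_option autoImplicit false
set_option linter.unusedSectionVars false

namespace Cfsg.Agent.Omega.EH3.Kf.RowOf

open CoxeterSystem Cfsg.Agent.ChevalleyStructure.CoxeterGeom Cfsg.Agent.Tits.Roots Cfsg.Agent.Tits.Core
  Cfsg.Agent.Tits.RootComb Cfsg.Agent.Nodes.Comb Cfsg.Agent.Nodes.Reps Cfsg.Agent.Nodes.BNOf
  Cfsg.Agent.Nodes.StabComb Cfsg.Agent.Nodes.Bruhat Cfsg.Agent.Nodes.OppDec Cfsg.Agent.Nodes.NormalForm
  Cfsg.Agent.KFacts.RgdAut Cfsg.Agent.Omega.EH3.Kf.Base Cfsg.Agent.Omega.EH3.Kf.Nm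

variable {I W H V : Type*} [Fintype I] [DecidableEq I] [Group W] [Group H] [AddCommGroup V]
    [Module (ZMod 2) V] {M : CoxeterMatrix I} {cs : CoxeterSystem M W} {A : I → I → ℤ} {h : IsCartan M A}

section Sup

variable {Y : Type*} [Group Y] {X : (I → ℤ) → Subgroup Y}

theorem Sup_cj (g : Y) (S : Set (I → ℤ)) : RGD.Sup (fun x => cj g (X x)) S = cj g (RGD.Sup X S) := by
  unfold RGD.Sup
  rw [cj_iSup]

theorem B_cj (g : Y) (T : Subgroup Y) : RGD.B cs h (cj g T) (fun x => cj g (X x)) = cj g (RGD.B cs h T X) := by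
  unfold RGD.B
  rw [Sup_cj, cj_sup]

theorem rgd_cj {T : Subgroup Y} {n : I → Y} {p : ℕ} (R : RGD cs h p T n X) (g : Y) :
    RGD cs h p (cj g T) (fun i => g * n i * g⁻¹) (fun x => cj g (X x)) :=
  Nodes.RGDLib.rgd_map_of_injective R (MulAut.conj g).toMonoidHom (MulAut.conj g).injective

theorem conj_inv_conj (g x : Y) : g * (g⁻¹ * x * g) * g⁻¹ = x := by group

theorem Ex_cj {T : Subgroup Y} {i : I} (E : InL.Ex T X i) (g : Y) : InL.Ex (cj g T) (fun x => cj g (X x)) i := by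
  have hmm : ∀ x y : Y, g⁻¹ * (x * y) * g = (g⁻¹ * x * g) * (g⁻¹ * y * g) := by intro x y; group
  have hii : ∀ x : Y, g⁻¹ * x⁻¹ * g = (g⁻¹ * x * g)⁻¹ := by intro x; group
  have h11 : g⁻¹ * 1 * g = 1 := by group
  have inj : ∀ {x y : Y}, g⁻¹ * x * g = g⁻¹ * y * g → x = y := by
    intro x y hxy
    rw [← conj_inv_conj g x, hxy, conj_inv_conj]
  have hsq : ∀ {u : Y}, u * u = 1 → g⁻¹ * u * g * (g⁻¹ * u * g) = 1 := by
    intro u hu
    rw [← hmm, hu, h11]
  refine ⟨?_, ?_, ?_, ?_, ?_⟩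
  · intro u hu hu1 v hv
    apply inj
    rw [hmm, hmm]
    exact E.cen _ (mem_cj.1 hu) (hsq hu1) _ (mem_cj.1 hv)
  · intro u hu v hv
    apply inj
    have h1 := E.com _ (mem_cj.1 hu) _ (mem_cj.1 hv)
    rw [h11, ← h1]
    simp only [hmm, hii]
  · intro z hz hz1
    obtain ⟨y, hy, e⟩ := E.sq _ (mem_cj.1 hz) (hsq hz1)
    refine ⟨g * y * g⁻¹, conj_mem_cj.2 hy, ?_⟩
    rw [← conj_inv_conj g z, e]; group
  · intro K hK hKz hKT
    have hm : ∀ k, k ∈ cj g⁻¹ K ↔ g * k * g⁻¹ ∈ K := by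
      intro k
      rw [mem_cj, inv_inv]
    rcases E.irr (cj g⁻¹ K) (fun k hk => by
      have h1 := hK ((hm k).1 hk)
      rw [mem_cj] at h1
      have e : g⁻¹ * (g * k * g⁻¹) * g = k := by group
      rwa [e] at h1) (fun z hz hz1 => (hm z).2 (hKz _ (conj_mem_cj.2 hz) (by
      have e : g * z * g⁻¹ * (g * z * g⁻¹) = g * (z * z) * g⁻¹ := by group
      rw [e, hz1]; group))) (fun t ht k hk => (hm _).2 (by
      have h1 := hKT _ (conj_mem_cj.2 ht) _ ((hm k).1 hk)
      have e : g * t * g⁻¹ * (g * k * g⁻¹) * (g * t * g⁻¹)⁻¹ = g * (t * k * t⁻¹) * g⁻¹ := by group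
      rwa [e] at h1)) with h1 | h1
    · left
      intro z hz
      have h2 := h1 (g⁻¹ * z * g) ((hm _).2 (by rw [conj_inv_conj]; exact hz))
      apply inj
      rw [h11, hmm, h2]
    · right
      intro x hx
      have h2 := (hm _).1 (h1 (mem_cj.1 hx))
      rwa [conj_inv_conj] at h2
  · intro Z hZ
    have h1 := E.card (cj g⁻¹ Z) (fun z hz => by
      rw [mem_cj, inv_inv] at hz
      obtain ⟨h2, h3⟩ := hZ _ hz
      rw [mem_cj] at h2
      have e : g⁻¹ * (g * z * g⁻¹) * g = z := by group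
      have e2 := hsq h3
      rw [e] at h2 e2
      exact ⟨h2, e2⟩)
    have hc : ∀ (k : Y) (K : Subgroup Y), Nat.card (cj k K) = Nat.card K := fun k K =>
      Nat.card_congr (K.equivMapOfInjective _ (MulAut.conj k).injective).toEquiv.symm
    rw [hc] at h1
    show Nat.card Z * Nat.card Z < Nat.card (cj g (X (sr i)))
    rw [hc]
    exact h1

end Sup

/-- the Sylow 2-subgroups of `H` meet `L` in conjugates (in `L`) of `U` -/
theorem exists_syl [Finite H] [Finite W] {L : Subgroup H} [L.Normal] {T : Subgroup L} {n : I → L}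
    {X : (I → ℤ) → Subgroup L} (R : RGD cs h 2 T n X) (hG : GG cs h T X = ⊤) (S : Sylow 2 H) :
    ∃ g : L, ∀ l : L, l ∈ cj g (RGD.Sup X (RGD.Pos cs h)) ↔ (l : H) ∈ S := by
  have : Fact (Nat.Prime 2) := ⟨Nat.prime_two⟩
  set U : Subgroup L := RGD.Sup X (RGD.Pos cs h) with hU
  have hUp : IsPGroup 2 U := R.isPGroup_Upos
  obtain ⟨S₀, hS₀⟩ := (hUp.map L.subtype).exists_le_sylow
  have h1 : (S₀ : Subgroup H).subgroupOf L = U := by
    refine eq_U_of_isPGroup R (P := (S₀ : Subgroup H).subgroupOf L) ?_ ?_ (by rw [hG]; exact le_top)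
    · exact S₀.isPGroup'.comap_of_injective L.subtype L.subtype_injective
    · intro u hu
      exact hS₀ ⟨u, hu, rfl⟩
  obtain ⟨k, hk⟩ := MulAction.exists_smul_eq H S₀ S
  have h2 : ∀ x : H, x ∈ S ↔ k⁻¹ * x * k ∈ S₀ := by
    intro x
    rw [← hk]
    constructor
    · rintro ⟨y, hy, rfl⟩
      have e : k⁻¹ * (k * y * k⁻¹) * k = y := by group
      change k⁻¹ * (k * y * k⁻¹) * k ∈ S₀
      rw [e]
      exact hy
    · intro hx
      refine ⟨k⁻¹ * x * k, hx, ?_⟩
      show k * (k⁻¹ * x * k) * k⁻¹ = x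
      group
  -- `S ∩ L = k U k⁻¹`
  set Q : Subgroup L := (S : Subgroup H).subgroupOf L with hQ
  have h3 : Q = U.map (MulAut.conjNormal k).toMonoidHom := by
    ext l
    rw [hQ, Subgroup.mem_subgroupOf]
    change (l : H) ∈ S ↔ _
    rw [h2]
    constructor
    · intro hl
      refine ⟨(MulAut.conjNormal k)⁻¹ l, ?_, MulAut.apply_inv_self _ _ _⟩
      rw [SetLike.mem_coe, ← h1, Subgroup.mem_subgroupOf, MulAut.conjNormal_inv_apply]
      exact hl
    · rintro ⟨u, hu, rfl⟩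
      have h4 : (u : H) ∈ S₀ := by
        rw [SetLike.mem_coe, ← h1] at hu
        exact hu
      have h5 : (((MulAut.conjNormal k).toMonoidHom u : L) : H) = k * u * k⁻¹ := MulAut.conjNormal_apply k u
      rw [h5]
      have e : k⁻¹ * (k * (u : H) * k⁻¹) * k = u := by group
      rw [e]
      exact h4
  have hQp : IsPGroup 2 Q := by
    rw [h3]; exact hUp.map _
  have hQc : Nat.card Q = Nat.card U := by
    rw [h3]
    exact Nat.card_congr (U.equivMapOfInjective _ (MulAut.conjNormal k).injective).toEquiv.symm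
  obtain ⟨Q', hQ'⟩ := hQp.exists_le_sylow
  obtain ⟨g, hg⟩ : ∃ g : L, (Q' : Subgroup L) = cj g U := by
    obtain ⟨S₁, hS₁⟩ := hUp.exists_le_sylow
    have e1 : (S₁ : Subgroup L) = U := eq_U_of_isPGroup R S₁.isPGroup' hS₁ (by rw [hG]; exact le_top)
    obtain ⟨g, hg⟩ := MulAction.exists_smul_eq L S₁ Q'
    refine ⟨g, ?_⟩
    rw [← hg, ← e1]
    rfl
  have h4 : Q = (Q' : Subgroup L) := by
    refine Subgroup.eq_of_le_of_card_ge hQ' ?_
    rw [hQc, hg]
    exact le_of_eq (Nat.card_congr (U.equivMapOfInjective _ (MulAut.conj g).injective).toEquiv.symm)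
  refine ⟨g, fun l => ?_⟩
  rw [← hg, ← h4, hQ, Subgroup.mem_subgroupOf]
  rfl

/-- `C_H(L) = 1` -/
theorem cent_eq_bot {ρ : H →* (V ≃ₗ[ZMod 2] V)} {b : LinearMap.BilinForm (ZMod 2) V} {q : V → ZMod 2}
    {a : V} {D : Submodule (ZMod 2) V} {P : Subgroup H} {w : ℕ} (C : Cfg ρ b q a D P w) {L : Subgroup H}
    (hEnd : ∀ f : V →ₗ[ZMod 2] V, (∀ g ∈ L, ∀ v, f (ρ g v) = ρ g (f v)) → f = 0 ∨ f = LinearMap.id) :
    Subgroup.centralizer (L : Set H) = ⊥ := by
  rw [Subgroup.eq_bot_iff_forall]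
  intro k hk
  have hc : ∀ l ∈ L, ∀ v, (ρ k).toLinearMap (ρ l v) = ρ l ((ρ k).toLinearMap v) := by
    intro l hl v
    show ρ k (ρ l v) = ρ l (ρ k v)
    have h2 : l * k = k * l := Subgroup.mem_centralizer_iff.1 hk l hl
    rw [← C.ρ_mul, ← C.ρ_mul, h2]
  rcases hEnd _ hc with h1 | h1
  · exfalso
    apply C.a_ne
    have h2 : ρ k a = 0 := LinearMap.congr_fun h1 a
    exact C.ρ_inj k (h2.trans (map_zero _).symm)
  · apply C.ext
    intro v
    rw [C.ρ_one]
    exact LinearMap.congr_fun h1 v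

/-- **`Row` from `Cfg`**, nodes of exponent 2 or `Ex`. -/
theorem rowOf' {ρ : H →* (V ≃ₗ[ZMod 2] V)} {b : LinearMap.BilinForm (ZMod 2) V} {q : V → ZMod 2}
    {a : V} {D : Submodule (ZMod 2) V} {P : Subgroup H} {w : ℕ} (C : Cfg ρ b q a D P w) [Finite W]
    {L : Subgroup H} [L.Normal] {T : Subgroup L} {n : I → L} {X : (I → ℤ) → Subgroup L}
    (R : RGD cs h 2 T n X) (hG1 : RGD.Sup X {x | IsRoot cs h x} = ⊤) (hab : ∀ s ∈ T, ∀ t ∈ T, s * t = t * s)
    (hnd : ∀ i, InL.Nd T X i)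
    (hone : ∀ i j, ¬ (∀ u ∈ X (sr i), u * u = 1) → ¬ (∀ u ∈ X (sr j), u * u = 1) → i = j)
    (hirr : ∀ E : Submodule (ZMod 2) V, (∀ g ∈ L, ∀ v ∈ E, ρ g v ∈ E) → E = ⊥ ∨ E = ⊤)
    (hEnd : ∀ f : V →ₗ[ZMod 2] V, (∀ g ∈ L, ∀ v, f (ρ g v) = ρ g (f v)) → f = 0 ∨ f = LinearMap.id) :
    ∃ g : L, (∀ x ∈ P, ∃ z ∈ cj g (RGD.Sup X (RGD.Pos cs h)), (z : H) = x) ∧
      (∀ v : V, (∀ u ∈ cj g (RGD.Sup X (RGD.Pos cs h)), ρ u v = v) ↔ v = 0 ∨ v = a) ∧
      Row cs h (cj g T) (fun i => g * n i * g⁻¹) (fun x => cj g (X x)) (ρ.comp L.subtype) b a D (P.subgroupOf L) w := by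
  have hfV := C.finite_V
  have hfH := C.finite_H
  have hntV := C.nontrivial_V
  have hG : GG cs h T X = ⊤ := KFacts.RgdRigid.GG_eq_top hG1
  obtain ⟨S, hPS, hSa⟩ := C.exists_syl
  obtain ⟨g, hg⟩ := exists_syl R hG S
  refine ⟨g, ?_⟩
  have R' := rgd_cj R g
  set T' := cj g T with hT'
  set n' : I → L := fun i => g * n i * g⁻¹ with hn'
  set X' : (I → ℤ) → Subgroup L := fun x => cj g (X x) with hX'
  have hU' : RGD.Sup X' (RGD.Pos cs h) = cj g (RGD.Sup X (RGD.Pos cs h)) := Sup_cj g _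
  have hG1' : RGD.Sup X' {x | IsRoot cs h x} = ⊤ := by
    rw [hX', Sup_cj, hG1, eq_top_iff]
    intro x _
    rw [mem_cj]
    exact Subgroup.mem_top _
  have hG' : GG cs h T' X' = ⊤ := KFacts.RgdRigid.GG_eq_top hG1'
  have hmemU : ∀ l : L, l ∈ RGD.Sup X' (RGD.Pos cs h) ↔ (l : H) ∈ S := fun l => by rw [hU', hg]
  have hρ : ∀ (l : L) (v : V), (ρ.comp L.subtype) l v = ρ l v := fun _ _ => rfl
  have N : CR.Md cs h T' n' X' (ρ.comp L.subtype) b :=
    { rgd := R'
      gen := hG'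
      nondeg := C.nondeg
      b_inv := fun l u v => C.b_inv l u v
      irr := fun E hE => hirr E fun l hl v hv => hE ⟨l, hl⟩ v hv }
  have hEnd' : ∀ f : V →ₗ[ZMod 2] V, (∀ (l : L) v, f ((ρ.comp L.subtype) l v) = (ρ.comp L.subtype) l (f v)) →
      f = 0 ∨ f = LinearMap.id := fun f hf => hEnd f fun l hl v => hf ⟨l, hl⟩ v
  have hab' : ∀ s ∈ T', ∀ t ∈ T', s * t = t * s := by
    intro s hs t ht
    rw [hT', mem_cj] at hs ht
    have h1 := hab _ hs _ ht
    have h2 : g * (g⁻¹ * s * g * (g⁻¹ * t * g)) * g⁻¹ = g * (g⁻¹ * t * g * (g⁻¹ * s * g)) * g⁻¹ := by rw [h1]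
    have e1 : g * (g⁻¹ * s * g * (g⁻¹ * t * g)) * g⁻¹ = s * t := by group
    have e2 : g * (g⁻¹ * t * g * (g⁻¹ * s * g)) * g⁻¹ = t * s := by group
    rw [← e1, h2, e2]
  obtain ⟨a', ha'0, hVU, hBa'⟩ := N.exists_unique_fix hab' hEnd'
  have ha' : a' = a := by
    have h1 : a ∈ CR.VU cs h X' (ρ.comp L.subtype) := by
      intro u hu
      exact hSa ((hmemU u).1 hu)
    rcases (hVU a).1 h1 with h2 | h2
    · exact absurd h2 C.a_ne
    · exact h2.symm
  subst ha'
  have hel' : ∀ i, (∀ u ∈ X (sr i), u * u = 1) → ∀ u ∈ X' (sr i), u * u = 1 := by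
    intro i hel u hu
    have hu' : g⁻¹ * u * g ∈ X (sr i) := mem_cj.1 hu
    have h1 := hel _ hu'
    have e1 : u * u = g * (g⁻¹ * u * g * (g⁻¹ * u * g)) * g⁻¹ := by group
    rw [e1, h1]; group
  have hfixU : ∀ v, (∀ u ∈ RGD.Sup X' (RGD.Pos cs h), ρ u v = v) → v = 0 ∨ v = a' := fun v hv => (hVU v).1 hv
  have J : InL.Inp cs h T' n' X' ρ a' P :=
    { rgd := R'
      g1 := hG1'
      nd := fun i => (hnd i).imp (hel' i) fun E => Ex_cj E g
      one := fun i j hi hj => hone i j (fun h1 => hi (hel' i h1)) fun h1 => hj (hel' j h1)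
      a_ne := C.a_ne
      fixB := fun l hl => hBa' l hl
      fixU := hfixU
      sq := C.X_sq
      norm := C.X_norm
      Pa := fun x hx => C.X_a hx
      fix := fun v hv => C.fix_X hv
      nU := by
        intro x hx l
        rw [hmemU, hmemU, MulAut.conjNormal_apply]
        have hxS := hPS hx
        constructor
        · intro h1
          have h2 := mul_mem (mul_mem (inv_mem hxS) h1) hxS
          have e : x⁻¹ * (x * (l : H) * x⁻¹) * x = l := by group
          rwa [e] at h2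
        · intro h1
          exact mul_mem (mul_mem hxS h1) (inv_mem hxS)
      cen := by
        intro k hk
        have h0 : k ∈ Subgroup.centralizer (L : Set H) := by
          rw [Subgroup.mem_centralizer_iff]
          intro l hl
          have h1 := hk ⟨l, hl⟩
          rw [mul_inv_eq_iff_eq_mul] at h1
          exact h1.symm
        rw [cent_eq_bot C hEnd] at h0
        exact Subgroup.mem_bot.1 h0 }
  have hPU : ∀ x ∈ P, ∃ z ∈ RGD.Sup X' (RGD.Pos cs h), (z : H) = x := fun x hx => J.mem_U hx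
  have hPL : P ≤ L := by
    intro x hx
    obtain ⟨z, -, rfl⟩ := hPU x hx
    exact z.2
  refine ⟨?_, ?_, ?_⟩
  · rw [← hU']
    exact hPU
  · intro v
    rw [← hU']
    exact hVU v
  exact
    { rgd := R'
      gen := hG'
      six := C.six
      card_V := C.card_V
      card_D := C.card_D
      card_X := by
        rw [← C.card_X]
        exact Nat.card_congr (Subgroup.subgroupOfEquivOfLe hPL).toEquiv
      b_self := C.b_self
      nondeg := C.nondeg
      b_inv := fun l u v => C.b_inv l u v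
      span := by
        rcases hirr (Submodule.span (ZMod 2) (Set.range fun l : L => (ρ.comp L.subtype) l a')) (by
          intro l hl v hv
          induction hv using Submodule.span_induction with
          | mem x hx =>
            obtain ⟨k, rfl⟩ := hx
            exact Submodule.subset_span ⟨⟨l, hl⟩ * k, C.ρ_mul l k a'⟩
          | zero => rw [map_zero]; exact Submodule.zero_mem _
          | add x y _ _ h1 h2 => rw [map_add]; exact Submodule.add_mem _ h1 h2
          | smul k x _ h1 => rw [map_smul]; exact Submodule.smul_mem _ _ h1) with h1 | h1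
        · exfalso
          have h2 : a' ∈ Submodule.span (ZMod 2) (Set.range fun l : L => (ρ.comp L.subtype) l a') :=
            Submodule.subset_span ⟨1, C.ρ_one a'⟩
          rw [h1] at h2
          exact C.a_ne h2
        · exact h1
      a_ne := C.a_ne
      a_mem := C.a_mem
      b_D := fun u hu v hv => C.b_D hu hv
      D_inv := fun l hl d hd => C.D_inv l hl d hd
      fixB := hBa'
      le := by
        intro l hl
        obtain ⟨z, hz, e⟩ := hPU l hl
        have : z = l := Subtype.ext e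
        rwa [this] at hz
      sq := fun x hx => Subtype.ext (C.X_sq x hx)
      norm := fun l hl x hx => C.X_norm l hl x hx
      fix := by
        intro v hv
        exact C.fix_X fun x hx => hv ⟨x, hPL hx⟩ hx
      semi := by
        intro x hx v hv hxv
        exact Subtype.ext (C.opp hx hv hxv)
      one := fun x hx v => C.b_a_delta (C.X_a hx) v
      two := fun x hx v hv => C.X_perp x hx v hv
      three := by
        intro x hx d hd
        rcases C.X_D x hx d hd with h1 | h1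
        · left
          show ρ x d + d = 0
          rw [h1, C.add_self]
        · right
          show ρ x d + d = a'
          rw [h1, add_right_comm, C.add_self, zero_add]
      tri := by
        intro x hx hx1 c hc
        have hx1' : (x : H) ≠ 1 := fun e => hx1 (Subtype.ext e)
        obtain ⟨y, hy, t, ht, e⟩ := C.T_nondeg hc hc hx hx1'
        refine ⟨⟨y, hPL hy⟩, hy, ⟨t, hPL ht⟩, ht, ?_⟩
        rw [C.T_swap12 hx hy ht] at e
        have e' : b (ρ y (ρ x c + c) + (ρ x c + c)) (ρ t c + c) = 1 := e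
        show b (ρ y (ρ x c + c) + (ρ x c + c)) (ρ t c + c) ≠ 0
        rw [e']
        exact one_ne_zero }

/-- **`Row` from `Cfg`**, all `X_i` of exponent 2. -/
theorem rowOf {ρ : H →* (V ≃ₗ[ZMod 2] V)} {b : LinearMap.BilinForm (ZMod 2) V} {q : V → ZMod 2}
    {a : V} {D : Submodule (ZMod 2) V} {P : Subgroup H} {w : ℕ} (C : Cfg ρ b q a D P w) [Finite W]
    {L : Subgroup H} [L.Normal] {T : Subgroup L} {n : I → L} {X : (I → ℤ) → Subgroup L}
    (R : RGD cs h 2 T n X) (hG1 : RGD.Sup X {x | IsRoot cs h x} = ⊤) (hab : ∀ s ∈ T, ∀ t ∈ T, s * t = t * s)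
    (hel : ∀ i, ∀ u ∈ X (sr i), u * u = 1)
    (hirr : ∀ E : Submodule (ZMod 2) V, (∀ g ∈ L, ∀ v ∈ E, ρ g v ∈ E) → E = ⊥ ∨ E = ⊤)
    (hEnd : ∀ f : V →ₗ[ZMod 2] V, (∀ g ∈ L, ∀ v, f (ρ g v) = ρ g (f v)) → f = 0 ∨ f = LinearMap.id) :
    ∃ g : L, (∀ x ∈ P, ∃ z ∈ cj g (RGD.Sup X (RGD.Pos cs h)), (z : H) = x) ∧
      (∀ v : V, (∀ u ∈ cj g (RGD.Sup X (RGD.Pos cs h)), ρ u v = v) ↔ v = 0 ∨ v = a) ∧
      Row cs h (cj g T) (fun i => g * n i * g⁻¹) (fun x => cj g (X x)) (ρ.comp L.subtype) b a D (P.subgroupOf L) w :=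
  rowOf' C R hG1 hab (fun i => Or.inl (hel i)) (fun i _ hi => absurd (hel i) hi) hirr hEnd

end Cfsg.Agent.Omega.EH3.Kf.RowOf
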