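import Mathlib
import Cfsg.Agent.Nodes.NormalForm

/-!
# EH3, Lie rows in characteristic 2: the output (helper227; consumer helper635)

`OutAt ρ a X0 cs h q i` : a normal subgroup `L` of `H` containing all elements of odd order has a root group
datum of characteristic 2 over `cs`, `X0` is the product of the root groups of the positive roots with positive
coefficient at `i`, `|X_j| = q j`, all minimal parabolic subgroups except the one of the node `i` fix `a`, and
`C_V(U) = {0, a}`.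
-/

set_option autoImplicit false

namespace Cfsg.Agent.Omega.EH3.Kf.Out

open CoxeterSystem Cfsg.Agent.ChevalleyStructure.CoxeterGeom Cfsg.Agent.Tits.Roots Cfsg.Agent.Tits.Core
  Cfsg.Agent.Tits.RootComb Cfsg.Agent.Nodes.Comb Cfsg.Agent.Nodes.Reps Cfsg.Agent.Nodes.BNOf
  Cfsg.Agent.Nodes.StabComb Cfsg.Agent.Nodes.Bruhat Cfsg.Agent.Nodes.LeviDec

/-- **The output of the Lie rows.** -/
def OutAt {I W H V : Type*} [Fintype I] [DecidableEq I] [Group W] [Group H] [AddCommGroup V]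
    [Module (ZMod 2) V] (ρ : H →* (V ≃ₗ[ZMod 2] V)) (a : V) (X0 : Subgroup H)
    {M : CoxeterMatrix I} (cs : CoxeterSystem M W) {A : I → I → ℤ} (h : IsCartan M A) (q : I → ℕ) (i : I) : Prop :=
  ∃ (L : Subgroup H) (T : Subgroup L) (n : I → L) (X : (I → ℤ) → Subgroup L),
    L.Normal ∧ (∀ g : H, Odd (orderOf g) → g ∈ L) ∧ X0 = (VJ cs h X {i}ᶜ).map L.subtype ∧
    RGD cs h 2 T n X ∧ GG cs h T X = ⊤ ∧
    (∀ j, j ≠ i → ∀ g ∈ PJ cs h T X {j}, ρ g a = a) ∧ (∀ j, Nat.card (X (sr j)) = q j) ∧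
    (∀ v, (∀ g ∈ RGD.Sup X (RGD.Pos cs h), ρ (g : H) v = v) → v = 0 ∨ v = a)

end Cfsg.Agent.Omega.EH3.Kf.Out
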