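import Mathlib
import Cfsg.Agent.KFacts.RgdDiag
import Cfsg.Agent.Nodes.RGDLib
import Cfsg.Agent.Omega.EH3.Kf.Out

/-!
# EH3, Lie rows in characteristic 2: LEMMA ODD (helper227)

`L` normal in the finite group `H`, `C_H(L) = 1`, a root group datum on `L` with `|X_i| ∈ {2, 4}` and diagram
symmetries of order at most two. Then the elements of odd order of `H` lie in a normal subgroup `Y ≥ L` with a root
group datum with the same root groups (and a larger torus).

* `eq_one_of_fix` : a frame automorphism (`Diag T X β 1`) trivial on the groups `X_i` is trivial;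
* `rgd_tor` : enlarging the torus;
* `exists_diag` : `H = L H₁`, `H₁` = the frame group;
* `outAt` : the output `OutAt`.
-/

set_option autoImplicit false
set_option linter.unusedSectionVars false

namespace Cfsg.Agent.Omega.EH3.Kf.Odd

open CoxeterSystem Cfsg.Agent.ChevalleyStructure.CoxeterGeom Cfsg.Agent.Tits.Roots Cfsg.Agent.Tits.Core
  Cfsg.Agent.Tits.RootComb Cfsg.Agent.Nodes.Comb Cfsg.Agent.Nodes.Reps Cfsg.Agent.Nodes.BNOf
  Cfsg.Agent.Nodes.StabComb Cfsg.Agent.Nodes.Bruhat Cfsg.Agent.Nodes.LeviDec Cfsg.Agent.Nodes.OppDec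
  Cfsg.Agent.Nodes.NormalForm
  Cfsg.Agent.KFacts.RgdAut Cfsg.Agent.KFacts.RgdDiag Cfsg.Agent.Omega.EH3.Kf.Out

variable {I W Y : Type*} [Fintype I] [DecidableEq I] [Group W] [Group Y] {M : CoxeterMatrix I}
  {cs : CoxeterSystem M W} {A : I → I → ℤ} {h : IsCartan M A} {p : ℕ} {T : Subgroup Y} {n : I → Y}
  {X : (I → ℤ) → Subgroup Y}

section

variable (R : RGD cs h p T n X)

include R

/-- A frame automorphism trivial on the groups `X_i` is trivial. -/
theorem eq_one_of_fix [Finite W] (hG1 : RGD.Sup X {x | IsRoot cs h x} = ⊤) {β : MulAut Y} (D : Diag T X β 1)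
    (hfix : ∀ i, ∀ x ∈ X (sr i), β x = x) : β = 1 := by
  -- the fixed subgroup
  let K0 : Subgroup Y :=
    { carrier := {x | β x = x}
      one_mem' := map_one β
      mul_mem' := by
        intro x y (hx : β x = x) (hy : β y = y)
        show β (x * y) = x * y
        rw [map_mul, hx, hy]
      inv_mem' := by
        intro x (hx : β x = x)
        show β x⁻¹ = x⁻¹
        rw [map_inv, hx] }
  have hK0 : ∀ x, x ∈ K0 ↔ β x = x := fun x => Iff.rfl
  have hβn : ∀ i, (n i)⁻¹ * β (n i) ∈ T := fun i => (rp_simple cs R.nsys i).unique (D.rp (R := R) i)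
  have hn' : ∀ i, ∃ k ∈ K0, Rp cs R.nsys (cs.simple i) k := by
    intro i
    obtain ⟨u, hu, hu1⟩ := exists_ne_one R i
    have h1 : n i * u * (n i)⁻¹ ∈ X (-sr i) := by
      have := R.conj_mem (rp_simple cs R.nsys i) (isRoot_sr cs h i) hu
      rwa [rep_simple_sr] at this
    have h2 : n i * u * (n i)⁻¹ ≠ 1 := fun h3 => hu1 (mul_eq_left.1 (mul_inv_eq_one.1 h3))
    obtain ⟨a, ha, t, ht, b, hb, e⟩ := R.rk1 i _ h1 h2
    set v := n i * u * (n i)⁻¹ with hv
    have hk : Rp cs R.nsys (cs.simple i) (t * n i) := by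
      have := (rp_of_mem (cs := cs) (hN := R.nsys) ht).mul (rp_simple cs R.nsys i)
      rwa [one_mul] at this
    have hβa := hfix i a ha
    have hβb := hfix i b hb
    -- `β v = v`
    have hz : v⁻¹ * β v ∈ X (-sr i) := mul_mem (inv_mem h1) ((D.neg i v).2 h1)
    have hβk : (t * n i)⁻¹ * β (t * n i) ∈ T := by
      have h3 : Rp cs R.nsys (cs.simple i) (β (t * n i)) := by
        have := (rp_of_mem (cs := cs) (hN := R.nsys) ((D.tor t).2 ht)).mul (D.rp (R := R) i)
        rw [map_mul]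
        rwa [one_mul] at this
      exact hk.unique h3
    have e1 : v⁻¹ * β v = b⁻¹ * ((t * n i)⁻¹ * β (t * n i)) * b := by
      rw [e, map_mul, map_mul, map_mul, hβa, hβb, map_mul]
      group
    have hbB : b ∈ RGD.B cs h T X := RGD.X_le_B (isRoot_sr cs h i) (sr_nonneg i) hb
    have h3 : v⁻¹ * β v ∈ RGD.B cs h T X := by
      rw [e1]
      exact mul_mem (mul_mem (inv_mem hbB) (RGD.T_le_B hβk)) hbB
    have h4 : (n i)⁻¹ * (v⁻¹ * β v) * n i ∈ X (sr i) := by
      have := R.conj_mem' (rp_simple cs R.nsys i) (isRoot_sr cs h i).neg hz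
      rwa [inv_simple, map_neg, rep_simple_sr, neg_neg] at this
    have h5 : (n i)⁻¹ * (v⁻¹ * β v) * n i = 1 := by
      refine eq_one_of_conj_mem_B R h4 (rp_simple cs R.nsys i) ?_
      have e2 : n i * ((n i)⁻¹ * (v⁻¹ * β v) * n i) * (n i)⁻¹ = v⁻¹ * β v := by group
      rw [e2]
      exact h3
    have h6 : v⁻¹ * β v = 1 := by
      have e2 : v⁻¹ * β v = n i * ((n i)⁻¹ * (v⁻¹ * β v) * n i) * (n i)⁻¹ := by group
      rw [e2, h5]; group
    have h7 : β v = v := by
      rw [inv_mul_eq_one] at h6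
      exact h6.symm
    refine ⟨t * n i, ?_, hk⟩
    have e3 : t * n i = a⁻¹ * v * b⁻¹ := by rw [e]; group
    rw [hK0, e3, map_mul, map_mul, map_inv, map_inv, hβa, hβb, h7]
  have hw : ∀ w : W, ∃ k ∈ K0, Rp cs R.nsys w k := by
    intro w
    obtain ⟨ω, rfl⟩ := cs.wordProd_surjective w
    induction ω with
    | nil => exact ⟨1, one_mem _, by rw [wordProd_nil]; exact rp_one⟩
    | cons i ω ih =>
      obtain ⟨k, hk, hk'⟩ := ih
      obtain ⟨k', hk1, hk2⟩ := hn' i
      exact ⟨k' * k, mul_mem hk1 hk, by rw [wordProd_cons]; exact hk2.mul hk'⟩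
  have htop : K0 = ⊤ := by
    rw [eq_top_iff, ← hG1]
    refine RGD.Sup_le ?_
    rintro _ ⟨w, i, rfl⟩ x hx
    obtain ⟨k, hk, hk'⟩ := hw w
    have h1 : k⁻¹ * x * k ∈ X (sr i) := by
      have := R.conj_mem' hk' ((isRoot_sr cs h i).act w) hx
      rwa [rep_inv_apply] at this
    have h2 : x = k * (k⁻¹ * x * k) * k⁻¹ := by group
    rw [h2]
    exact mul_mem (mul_mem hk (hfix i _ h1)) (inv_mem hk)
  ext x
  have : x ∈ K0 := by rw [htop]; exact Subgroup.mem_top x
  exact this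

/-- Enlarging the torus. -/
theorem rgd_tor {T2 : Subgroup Y} (hT : T ≤ T2) (hn : ∀ i, n i ∈ Subgroup.normalizer (T2 : Set Y))
    (htor : ∀ x, IsRoot cs h x → ∀ t ∈ T2, cj t (X x) = X x) (hcop : (Nat.card T2).Coprime p) :
    RGD cs h p T2 n X where
  nsys := ⟨hn, fun i j => hT (R.nsys.rel i j)⟩
  conj := R.conj
  tor := htor
  comm := R.comm
  rk1 i u hu hu1 := by
    obtain ⟨a, ha, t, ht, b, hb, e⟩ := R.rk1 i u hu hu1
    exact ⟨a, ha, t, hT ht, b, hb, e⟩
  pgrp := R.pgrp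
  notp := R.notp
  tcop := hcop

/-- A frame automorphism with trivial diagram symmetry normalises all root groups. -/
theorem diag_root [Finite W] {β : MulAut Y} (D : Diag T X β 1) {x : I → ℤ} (hx : IsRoot cs h x) {u : Y}
    (hu : u ∈ X x) : β u ∈ X x := by
  have hw : ∀ w : W, ∃ k, Rp cs R.nsys w k ∧ Rp cs R.nsys w (β k) := by
    intro w
    obtain ⟨ω, rfl⟩ := cs.wordProd_surjective w
    induction ω with
    | nil => exact ⟨1, by rw [wordProd_nil]; exact rp_one, by rw [wordProd_nil, map_one]; exact rp_one⟩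
    | cons i ω ih =>
      obtain ⟨k, hk, hk'⟩ := ih
      refine ⟨n i * k, ?_, ?_⟩
      · rw [wordProd_cons]; exact (rp_simple cs R.nsys i).mul hk
      · rw [wordProd_cons, map_mul]
        exact (D.rp (R := R) i).mul hk'
  obtain ⟨w, i, rfl⟩ := hx
  obtain ⟨k, hk, hk'⟩ := hw w
  have h1 : k⁻¹ * u * k ∈ X (sr i) := by
    have := R.conj_mem' hk ((isRoot_sr cs h i).act w) hu
    rwa [rep_inv_apply] at this
  have h2 : β (k⁻¹ * u * k) ∈ X (sr i) := (D.pos i _).2 h1
  have h3 := R.conj_mem hk' (isRoot_sr cs h i) h2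
  rw [map_mul, map_mul, map_inv] at h3
  have e : β k * ((β k)⁻¹ * β u * β k) * (β k)⁻¹ = β u := by group
  rwa [e] at h3

end

/-! ### `H = L H₁` -/

open scoped Pointwise in
theorem coe_smul_smul {L : Type*} [Group L] {p : ℕ} (l : L) (α : MulAut L) (S : Sylow p L) :
    ((l • (α • S) : Sylow p L) : Subgroup L) = (S : Subgroup L).map (MulAut.conj l * α).toMonoidHom := by
  rw [Sylow.coe_subgroup_smul, Sylow.pointwise_smul_def, ← mul_smul]
  ext x
  rw [Subgroup.mem_map, Subgroup.mem_smul_pointwise_iff_exists]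
  rfl

section Frame

variable {H : Type*} [Group H] {L : Subgroup H} [L.Normal] {T : Subgroup L} {n : I → L}
  {X : (I → ℤ) → Subgroup L}

/-- conjugation on `L` -/
abbrev cn (L : Subgroup H) [L.Normal] (g : H) : MulAut L := MulAut.conjNormal g

theorem cn_apply (g : H) (l : L) : ((cn L g l : L) : H) = g * l * g⁻¹ := MulAut.conjNormal_apply g l

theorem cn_mul (g k : H) : cn L (g * k) = cn L g * cn L k := map_mul _ g k

theorem cn_coe (l : L) : cn L (l : H) = MulAut.conj l := by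
  ext x
  rw [cn_apply, MulAut.conj_apply]
  rfl

/-- **The frame argument.** -/
theorem exists_frame' [Finite W] [Finite H] [Fact p.Prime] (R : RGD cs h p T n X) (hG : GG cs h T X = ⊤) (g : H) :
    ∃ l : L, ∃ σ : Equiv.Perm I, Diag T X (cn L ((l : H) * g)) σ := by
  -- `U` is a Sylow subgroup of `L`
  obtain ⟨S, hS⟩ := (R.isPGroup_Upos (cs := cs) (h := h)).exists_le_sylow
  have hSU : (S : Subgroup L) = RGD.Sup X (RGD.Pos cs h) :=
    eq_U_of_isPGroup R S.isPGroup' hS (by rw [hG]; exact le_top)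
  -- the image of `U`
  let S' : Sylow p L := cn L g • S
  obtain ⟨l, hl⟩ := MulAction.exists_smul_eq L S' S
  have h1 : Fix (cn L ((l : H) * g)) (RGD.Sup X (RGD.Pos cs h)) := by
    rw [fix_iff, cn_mul, cn_coe, ← hSU]
    have h2 : ((l • S' : Sylow p L) : Subgroup L) = S := by rw [hl]
    rw [coe_smul_smul] at h2
    exact h2
  obtain ⟨u, hu, h2, h3, h4, h5, h6⟩ := exists_frame R hG h1
  have e : cn L (((u * l : L) : H) * g) = MulAut.conj u * cn L ((l : H) * g) := by
    rw [Subgroup.coe_mul, mul_assoc, cn_mul, cn_coe]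
  rw [← e] at h2 h4
  obtain ⟨σ, hσ⟩ := exists_diag R hG h2 h4
  exact ⟨u * l, σ, hσ⟩

end Frame

/-! ### small permutations -/

theorem perm_cube {α : Type*} [Fintype α] [DecidableEq α] (π : Equiv.Perm α) (x0 : α) (hx : π x0 = x0)
    (hs : Equiv.Perm.sign π = 1) (hc : Fintype.card α ≤ 4) : π ^ 3 = 1 := by
  have h1 : π.support.card ≤ 3 := by
    have h2 : π.support ⊆ Finset.univ.erase x0 := by
      intro x hx'
      rw [Finset.mem_erase]
      refine ⟨?_, Finset.mem_univ x⟩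
      rintro rfl
      exact (Equiv.Perm.mem_support.1 hx') hx
    have h3 := Finset.card_le_card h2
    rw [Finset.card_erase_of_mem (Finset.mem_univ x0), Finset.card_univ] at h3
    omega
  have h2 : π.support.card = 0 ∨ π.support.card = 1 ∨ π.support.card = 2 ∨ π.support.card = 3 := by omega
  rcases h2 with h2 | h2 | h2 | h2
  · rw [Equiv.Perm.card_support_eq_zero] at h2
    rw [h2, one_pow]
  · exact absurd h2 (Equiv.Perm.card_support_ne_one π)
  · rw [Equiv.Perm.card_support_eq_two] at h2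
    rw [h2.sign_eq] at hs
    exact absurd hs (by decide)
  · rw [card_support_eq_three_iff] at h2
    rw [← h2.orderOf, pow_orderOf_eq_one]

theorem sign_of_odd {α : Type*} [Fintype α] [DecidableEq α] (π : Equiv.Perm α) {m : ℕ} (hm : Odd m) (h : π ^ m = 1) :
    Equiv.Perm.sign π = 1 := by
  have h1 : (Equiv.Perm.sign π) ^ m = 1 := by rw [← map_pow, h, map_one]
  rcases Int.units_eq_one_or (Equiv.Perm.sign π) with h2 | h2
  · exact h2
  · rw [h2, Odd.neg_one_pow hm] at h1
    exact absurd h1 (by decide)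

/-! ### the frame group -/

section Main

variable {H : Type*} [Group H] {L : Subgroup H} [L.Normal] {T : Subgroup L} {n : I → L}
  {X : (I → ℤ) → Subgroup L}

/-- the frame group -/
def H1 (T : Subgroup L) (X : (I → ℤ) → Subgroup L) : Subgroup H where
  carrier := {g | ∃ σ : Equiv.Perm I, Diag T X (cn L g) σ}
  one_mem' := ⟨1, by rw [show cn L (1 : H) = 1 from map_one _]; exact Diag.one⟩
  mul_mem' := by
    rintro g k ⟨σ, hσ⟩ ⟨τ, hτ⟩
    exact ⟨σ * τ, by rw [cn_mul]; exact hσ.mul hτ⟩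
  inv_mem' := by
    rintro g ⟨σ, hσ⟩
    exact ⟨σ⁻¹, by rw [show cn L g⁻¹ = (cn L g)⁻¹ from map_inv _ g]; exact hσ.inv⟩

/-- the pure frame group -/
def N1 (T : Subgroup L) (X : (I → ℤ) → Subgroup L) : Subgroup H where
  carrier := {g | Diag T X (cn L g) 1}
  one_mem' := by
    show Diag T X (cn L (1 : H)) 1
    rw [show cn L (1 : H) = 1 from map_one _]; exact Diag.one
  mul_mem' := by
    intro g k hg hk
    have := Diag.mul hg hk
    rw [one_mul] at this
    show Diag T X (cn L (g * k)) 1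
    rw [cn_mul]
    exact this
  inv_mem' := by
    intro g hg
    have := Diag.inv hg
    rw [inv_one] at this
    show Diag T X (cn L g⁻¹) 1
    rw [show cn L g⁻¹ = (cn L g)⁻¹ from map_inv _ g]
    exact this

theorem mem_N1 {g : H} : g ∈ N1 T X ↔ Diag T X (cn L g) 1 := Iff.rfl

theorem mem_H1 {g : H} : g ∈ H1 T X ↔ ∃ σ : Equiv.Perm I, Diag T X (cn L g) σ := Iff.rfl

theorem cn_mem (i : I) (g : N1 T X) {x : L} (hx : x ∈ X (sr i)) : cn L (g : H) x ∈ X (sr i) :=
  ((mem_N1.1 g.2).pos i x).2 hx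

/-- the action on `X_i` -/
def pa (i : I) : N1 T X →* Equiv.Perm {x : L // x ∈ X (sr i)} :=
  MonoidHom.toHomPerm
    { toFun := fun g x => ⟨cn L (g : H) x.1, cn_mem i g x.2⟩
      map_one' := by
        funext x
        apply Subtype.ext
        apply Subtype.ext
        show (((cn L ((1 : N1 T X) : H)) x.1 : L) : H) = ((x : L) : H)
        rw [cn_apply]
        simp
      map_mul' := by
        intro g k
        funext x
        apply Subtype.ext
        apply Subtype.ext
        show (((cn L ((g * k : N1 T X) : H)) x.1 : L) : H) = (((cn L (g : H)) ((cn L (k : H)) x.1) : L) : H)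
        rw [cn_apply, cn_apply, cn_apply]
        simp only [Subgroup.coe_mul]
        group }

theorem pa_apply (i : I) (g : N1 T X) (x : {x : L // x ∈ X (sr i)}) : ((pa i g x : {x : L // x ∈ X (sr i)}) : L) =
    cn L (g : H) x.1 := rfl

section

variable [Finite H]

open Classical in
/-- the sign on `X_i` -/
noncomputable def sg (T : Subgroup L) (X : (I → ℤ) → Subgroup L) (i : I) : N1 T X →* ℤˣ :=
  letI : Fintype {x : L // x ∈ X (sr i)} := Fintype.ofFinite _
  Equiv.Perm.sign.comp (pa i)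

theorem cube_of_sg (i : I) (hq : Nat.card (X (sr i)) ≤ 4) {g : N1 T X} (hg : sg T X i g = 1) {x : L}
    (hx : x ∈ X (sr i)) : cn L ((g : H) ^ 3) x = x := by
  classical
  let _ : Fintype {x : L // x ∈ X (sr i)} := Fintype.ofFinite _
  have h1 : (pa i g) ^ 3 = 1 := by
    refine perm_cube _ ⟨1, one_mem _⟩ ?_ ?_ ?_
    · apply Subtype.ext
      rw [pa_apply, map_one]
    · exact hg
    · rw [← Nat.card_eq_fintype_card]
      exact hq
  have h2 : (pa i (g ^ 3)) ⟨x, hx⟩ = ⟨x, hx⟩ := by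
    rw [map_pow, h1]; rfl
  have h3 := congrArg Subtype.val h2
  rw [pa_apply] at h3
  exact h3

theorem sg_of_odd (i : I) {g : N1 T X} (hg : Odd (orderOf (g : H))) : sg T X i g = 1 := by
  classical
  let _ : Fintype {x : L // x ∈ X (sr i)} := Fintype.ofFinite _
  refine sign_of_odd _ hg ?_
  rw [← map_pow]
  have : g ^ orderOf (g : H) = 1 := by
    apply Subtype.ext
    rw [Subgroup.coe_pow, Subgroup.coe_one, pow_orderOf_eq_one]
  rw [this, map_one]

/-- the odd part of the frame group -/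
noncomputable def T2 (T : Subgroup L) (X : (I → ℤ) → Subgroup L) : Subgroup H :=
  (⨅ i, (sg T X i).ker).map (N1 T X).subtype

theorem mem_T2 {g : H} : g ∈ T2 T X ↔ ∃ hg : g ∈ N1 T X, ∀ i, sg T X i ⟨g, hg⟩ = 1 := by
  unfold T2
  rw [Subgroup.mem_map]
  constructor
  · rintro ⟨x, hx, rfl⟩
    refine ⟨x.2, fun i => ?_⟩
    rw [Subgroup.mem_iInf] at hx
    exact MonoidHom.mem_ker.1 (hx i)
  · rintro ⟨hg, h1⟩
    refine ⟨⟨g, hg⟩, ?_, rfl⟩
    rw [Subgroup.mem_iInf]
    exact fun i => MonoidHom.mem_ker.2 (h1 i)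

theorem T2_le : T2 T X ≤ N1 T X := by
  intro g hg
  exact (mem_T2.1 hg).1

theorem mem_T2_of_odd {g : H} (hg : g ∈ N1 T X) (ho : Odd (orderOf g)) : g ∈ T2 T X :=
  mem_T2.2 ⟨hg, fun i => sg_of_odd i ho⟩

theorem sq_mem_T2 {g : H} (hg : g ∈ N1 T X) : g ^ 2 ∈ T2 T X := by
  refine mem_T2.2 ⟨Subgroup.pow_mem _ hg 2, fun i => ?_⟩
  have : (⟨g ^ 2, Subgroup.pow_mem _ hg 2⟩ : N1 T X) = (⟨g, hg⟩ : N1 T X) ^ 2 := rfl
  rw [this, map_pow, Int.units_sq]

variable (R : RGD cs h 2 T n X)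

include R

theorem cube_T2 [Finite W] (hG1 : RGD.Sup X {x | IsRoot cs h x} = ⊤) (hC : Subgroup.centralizer (L : Set H) = ⊥)
    (hq : ∀ i, Nat.card (X (sr i)) ≤ 4) {g : H} (hg : g ∈ T2 T X) : g ^ 3 = 1 := by
  obtain ⟨hg1, hg2⟩ := mem_T2.1 hg
  have h1 : cn L (g ^ 3) = 1 := by
    refine eq_one_of_fix R hG1 ((N1 T X).pow_mem hg1 3) ?_
    intro i x hx
    exact cube_of_sg i (hq i) (hg2 i) hx
  have h2 : g ^ 3 ∈ Subgroup.centralizer (L : Set H) := by
    rw [Subgroup.mem_centralizer_iff]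
    intro l hl
    have h3 := cn_apply (L := L) (g ^ 3) ⟨l, hl⟩
    rw [h1] at h3
    have h4 : l = g ^ 3 * l * (g ^ 3)⁻¹ := h3
    rw [eq_mul_inv_iff_mul_eq] at h4
    exact h4
  rw [hC] at h2
  exact Subgroup.mem_bot.1 h2

theorem odd_T2 [Finite W] (hG1 : RGD.Sup X {x | IsRoot cs h x} = ⊤) (hC : Subgroup.centralizer (L : Set H) = ⊥)
    (hq : ∀ i, Nat.card (X (sr i)) ≤ 4) {g : H} (hg : g ∈ T2 T X) : Odd (orderOf g) := by
  have h1 := orderOf_dvd_of_pow_eq_one (cube_T2 R hG1 hC hq hg)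
  exact Odd.of_dvd_nat (by decide) h1

theorem T_le_T2 [Finite W] {t : L} (ht : t ∈ T) : (t : H) ∈ T2 T X := by
  have h0 : (t : H) ∈ N1 T X := by
    rw [mem_N1, cn_coe]
    have key : ∀ x, IsRoot cs h x → ∀ y, MulAut.conj t y ∈ X x ↔ y ∈ X x := by
      intro x hx y
      have h1 := R.tor x hx t ht
      rw [MulAut.conj_apply]
      constructor
      · intro h2
        rw [← h1] at h2
        exact conj_mem_cj.1 h2
      · intro h2
        rw [← h1]
        exact conj_mem_cj.2 h2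
    exact ⟨fun x => by
      rw [MulAut.conj_apply]
      exact ⟨fun h2 => by
        have h3 := T.mul_mem (T.mul_mem (T.inv_mem ht) h2) ht
        have e : t⁻¹ * (t * x * t⁻¹) * t = x := by group
        rwa [e] at h3, fun h2 => T.mul_mem (T.mul_mem ht h2) (T.inv_mem ht)⟩,
      fun i y => key _ (isRoot_sr cs h i) y, fun i y => key _ (isRoot_sr cs h i).neg y⟩
  refine mem_T2_of_odd h0 ?_
  rw [Subgroup.orderOf_coe]
  have h1 : orderOf t ∣ Nat.card T := by
    have := orderOf_dvd_natCard (⟨t, ht⟩ : T)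
    rwa [Subgroup.orderOf_mk] at this
  have h2 : Odd (Nat.card T) := Nat.Coprime.odd_of_right R.tcop
  exact Odd.of_dvd_nat h2 h1

/-- the frame group normalises `T2` -/
theorem H1_norm [Finite W] (hG1 : RGD.Sup X {x | IsRoot cs h x} = ⊤)
    (hC : Subgroup.centralizer (L : Set H) = ⊥)
    (hq : ∀ i, Nat.card (X (sr i)) ≤ 4) {k g : H} (hk : k ∈ H1 T X) (hg : g ∈ T2 T X) : k * g * k⁻¹ ∈ T2 T X := by
  obtain ⟨σ, hσ⟩ := hk
  refine mem_T2_of_odd ?_ ?_
  · rw [mem_N1, cn_mul, cn_mul, show cn L k⁻¹ = (cn L k)⁻¹ from map_inv _ k]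
    have := (hσ.mul (mem_N1.1 (T2_le hg))).mul hσ.inv
    rwa [mul_one, mul_inv_cancel] at this
  · have h1 : orderOf (k * g * k⁻¹) = orderOf g := by
      have := orderOf_injective (MulAut.conj k).toMonoidHom (MulAut.conj k).injective g
      rwa [MulEquiv.coe_toMonoidHom, MulAut.conj_apply] at this
    rw [h1]
    exact odd_T2 R hG1 hC hq hg

/-- `Y = L T2` -/
noncomputable def YY (T : Subgroup L) (X : (I → ℤ) → Subgroup L) : Subgroup H := L ⊔ T2 T X

omit R in
theorem L_le_YY : L ≤ YY T X := le_sup_left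

omit R in
theorem T2_le_YY : T2 T X ≤ YY T X := le_sup_right

theorem YY_normal [Finite W] (hG1 : RGD.Sup X {x | IsRoot cs h x} = ⊤) (hG : GG cs h T X = ⊤)
    (hC : Subgroup.centralizer (L : Set H) = ⊥)
    (hq : ∀ i, Nat.card (X (sr i)) ≤ 4) : (YY T X).Normal := by
  have : Fact (Nat.Prime 2) := ⟨Nat.prime_two⟩
  constructor
  intro y hy g
  obtain ⟨l, σ, hσ⟩ := exists_frame' R hG g
  set k : H := (l : H) * g with hk
  have hkH : k ∈ H1 T X := ⟨σ, hσ⟩
  have h1 : k * y * k⁻¹ ∈ YY T X := by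
    have h2 : YY T X ≤ (YY T X).comap (MulAut.conj k).toMonoidHom := by
      refine sup_le ?_ ?_
      · intro x hx
        rw [Subgroup.mem_comap]
        exact L_le_YY ((inferInstance : L.Normal).conj_mem x hx k)
      · intro x hx
        rw [Subgroup.mem_comap]
        exact T2_le_YY (H1_norm R hG1 hC hq hkH hx)
    exact h2 hy
  have h2 : g * y * g⁻¹ = (l : H)⁻¹ * (k * y * k⁻¹) * (l : H) := by
    rw [hk]; group
  rw [h2]
  exact mul_mem (mul_mem (inv_mem (L_le_YY l.2)) h1) (L_le_YY l.2)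

theorem odd_mem_YY [Finite W] (hG1 : RGD.Sup X {x | IsRoot cs h x} = ⊤) (hG : GG cs h T X = ⊤)
    (hC : Subgroup.centralizer (L : Set H) = ⊥) (hq : ∀ i, Nat.card (X (sr i)) ≤ 4)
    (hsym : ∀ σ : Equiv.Perm I, (∀ i j, M (σ i) (σ j) = M i j) → σ * σ = 1) {g : H} (hg : Odd (orderOf g)) :
    g ∈ YY T X := by
  have : Fact (Nat.Prime 2) := ⟨Nat.prime_two⟩
  have hn := YY_normal R hG1 hG hC hq
  obtain ⟨l, σ, hσ⟩ := exists_frame' R hG g
  set k : H := (l : H) * g with hk
  have h1 : k ^ 2 ∈ N1 T X := by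
    rw [mem_N1, pow_two, cn_mul]
    have h2 := hσ.mul hσ
    rwa [hsym σ (fun i j => Diag.matrix R hσ i j)] at h2
  have h2 : k ^ 4 ∈ YY T X := by
    have h3 := T2_le_YY (sq_mem_T2 h1)
    rwa [← pow_mul] at h3
  have h3 : (QuotientGroup.mk' (YY T X)) g ^ 4 = 1 := by
    have h4 : (QuotientGroup.mk' (YY T X)) k = (QuotientGroup.mk' (YY T X)) g := by
      rw [hk, map_mul]
      have h5 : (QuotientGroup.mk' (YY T X)) (l : H) = 1 :=
        (QuotientGroup.eq_one_iff _).2 (L_le_YY l.2)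
      rw [h5, one_mul]
    rw [← h4, ← map_pow]
    exact (QuotientGroup.eq_one_iff _).2 h2
  have h4 : (QuotientGroup.mk' (YY T X)) g = 1 := by
    have h5 : orderOf ((QuotientGroup.mk' (YY T X)) g) ∣ orderOf g := orderOf_map_dvd _ g
    have h6 : orderOf ((QuotientGroup.mk' (YY T X)) g) ∣ 4 := orderOf_dvd_of_pow_eq_one h3
    have h7 : Nat.Coprime (orderOf g) 4 := by
      have : Nat.Coprime (orderOf g) (2 ^ 2) := Nat.Coprime.pow_right 2 (Nat.Coprime.symm (Nat.coprime_two_left.2 hg))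
      exact this
    have h8 : orderOf ((QuotientGroup.mk' (YY T X)) g) ∣ 1 := by
      have := Nat.dvd_gcd h5 h6
      rwa [h7] at this
    rw [← orderOf_eq_one_iff]
    exact Nat.dvd_one.1 h8
  exact (QuotientGroup.eq_one_iff _).1 h4

/-- the inclusion `L → Y` -/
noncomputable def inc (T : Subgroup L) (X : (I → ℤ) → Subgroup L) : L →* YY T X :=
  Subgroup.inclusion L_le_YY

omit R in
theorem inc_coe (l : L) : ((inc T X l : YY T X) : H) = l := rfl

omit R in
theorem inc_injective : Function.Injective (inc T X) := Subgroup.inclusion_injective _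

/-- **The root group datum on `Y`.** -/
theorem rgd_Y [Finite W] (hG1 : RGD.Sup X {x | IsRoot cs h x} = ⊤)
    (hC : Subgroup.centralizer (L : Set H) = ⊥) (hq : ∀ i, Nat.card (X (sr i)) ≤ 4) :
    RGD cs h 2 ((T2 T X).subgroupOf (YY T X)) (fun i => inc T X (n i)) (fun x => (X x).map (inc T X)) := by
  have R1 := Nodes.RGDLib.rgd_map_of_injective R (inc T X) inc_injective
  -- the action of `T2`
  have hact : ∀ t : YY T X, (t : H) ∈ T2 T X → ∀ l : L, t * inc T X l * t⁻¹ = inc T X (cn L (t : H) l) := by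
    intro t ht l
    apply Subtype.ext
    rw [inc_coe, cn_apply]
    rfl
  refine rgd_tor R1 ?_ ?_ ?_ ?_
  · rintro _ ⟨t, ht, rfl⟩
    rw [Subgroup.mem_subgroupOf, inc_coe]
    exact T_le_T2 R ht
  · intro i
    rw [Subgroup.mem_normalizer_iff]
    -- `n_i t n_i⁻¹ ∈ T2`
    have key : ∀ t : YY T X, (t : H) ∈ T2 T X →
        (((inc T X (n i)) * t * (inc T X (n i))⁻¹ : YY T X) : H) ∈ T2 T X ∧
        (((inc T X (n i))⁻¹ * t * (inc T X (n i)) : YY T X) : H) ∈ T2 T X := by
      intro t ht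
      have hD := mem_N1.1 (T2_le ht)
      have h1 : (n i)⁻¹ * cn L (t : H) (n i) ∈ T := (rp_simple cs R.nsys i).unique (hD.rp (R := R) i)
      have h2 : n i * ((n i)⁻¹ * cn L (t : H) (n i)) * (n i)⁻¹ ∈ T := by
        have h3 := (mem_normalizer_iff_cj.1 ((rp_simple cs R.nsys i).mem_normalizer))
        have h4 : n i * ((n i)⁻¹ * cn L (t : H) (n i)) * (n i)⁻¹ ∈ cj (n i) T := conj_mem_cj.2 h1
        rwa [h3] at h4
      constructor
      · have e : (((inc T X (n i)) * t * (inc T X (n i))⁻¹ : YY T X) : H) =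
            ((n i * ((n i)⁻¹ * cn L (t : H) (n i)) * (n i)⁻¹)⁻¹ : L) * (t : H) := by
          rw [Subgroup.coe_mul, Subgroup.coe_mul, Subgroup.coe_inv, inc_coe, Subgroup.coe_inv, Subgroup.coe_mul,
            Subgroup.coe_mul, Subgroup.coe_mul, Subgroup.coe_inv, cn_apply]
          group
        rw [e]
        exact mul_mem (T_le_T2 R (inv_mem h2)) ht
      · have e : (((inc T X (n i))⁻¹ * t * (inc T X (n i)) : YY T X) : H) =
            ((((n i)⁻¹ * cn L (t : H) (n i) : L)) : H) * (t : H) := by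
          rw [Subgroup.coe_mul, Subgroup.coe_mul, Subgroup.coe_inv, inc_coe, Subgroup.coe_mul,
            Subgroup.coe_inv, cn_apply]
          group
        rw [e]
        exact mul_mem (T_le_T2 R h1) ht
    intro t
    rw [Subgroup.mem_subgroupOf, Subgroup.mem_subgroupOf]
    constructor
    · intro ht
      exact (key t ht).1
    · intro ht
      have := (key _ ht).2
      have e : (inc T X (n i))⁻¹ * (inc T X (n i) * t * (inc T X (n i))⁻¹) * inc T X (n i) = t := by group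
      rwa [e] at this
  · intro x hx t ht
    rw [Subgroup.mem_subgroupOf] at ht
    have key : ∀ s : YY T X, (s : H) ∈ T2 T X → cj s ((X x).map (inc T X)) ≤ (X x).map (inc T X) := by
      intro s hs y hy
      rw [mem_cj] at hy
      obtain ⟨l, hl, e⟩ := hy
      have h1 : y = s * inc T X l * s⁻¹ := by rw [e]; group
      rw [h1, hact s hs]
      exact Subgroup.mem_map_of_mem _ (diag_root R (mem_N1.1 (T2_le hs)) hx hl)
    apply le_antisymm (key t ht)
    have h1 := key t⁻¹ (by rw [Subgroup.coe_inv]; exact inv_mem ht)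
    have h2 := cj_mono t h1
    rwa [cj_cj_inv] at h2
  · rw [Nat.coprime_two_right]
    by_contra hodd
    rw [Nat.not_odd_iff_even, even_iff_two_dvd] at hodd
    have : Fact (Nat.Prime 2) := ⟨Nat.prime_two⟩
    obtain ⟨g, hg⟩ := exists_prime_orderOf_dvd_card' 2 hodd
    have h1 : orderOf ((g : YY T X) : H) = 2 := by
      rw [Subgroup.orderOf_coe, Subgroup.orderOf_coe, hg]
    have h2 := odd_T2 R hG1 hC hq (Subgroup.mem_subgroupOf.1 g.2)
    rw [h1] at h2
    exact absurd h2 (by decide)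

omit R in
theorem Sup_map (S : Set (I → ℤ)) : (RGD.Sup X S).map (inc T X) = RGD.Sup (fun x => (X x).map (inc T X)) S := by
  unfold RGD.Sup
  rw [Subgroup.map_iSup]

omit R in
/-- `GG` on `Y` -/
theorem GG_Y (hG1 : RGD.Sup X {x | IsRoot cs h x} = ⊤) :
    GG cs h ((T2 T X).subgroupOf (YY T X)) (fun x => (X x).map (inc T X)) = ⊤ := by
  set K := GG cs h ((T2 T X).subgroupOf (YY T X)) (fun x => (X x).map (inc T X)) with hK
  have h1 : (⊤ : Subgroup L).map (inc T X) ≤ K := by
    rw [← hG1, Sup_map]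
    exact le_sup_right
  have h2 : YY T X ≤ K.map (YY T X).subtype := by
    refine sup_le ?_ ?_
    · intro l hl
      exact ⟨inc T X ⟨l, hl⟩, h1 (Subgroup.mem_map_of_mem _ (Subgroup.mem_top _)), rfl⟩
    · intro t ht
      refine ⟨⟨t, T2_le_YY ht⟩, ?_, rfl⟩
      exact (le_sup_left : (T2 T X).subgroupOf (YY T X) ≤ K) (Subgroup.mem_subgroupOf.2 ht)
  rw [eq_top_iff]
  rintro ⟨y, hy⟩ -
  obtain ⟨z, hz, e⟩ := h2 hy
  have : z = ⟨y, hy⟩ := Subtype.ext e
  rw [← this]
  exact hz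

/-- `T2` fixes `a` -/
theorem T2_fix [Finite W] {V : Type*} [AddCommGroup V] [Module (ZMod 2) V] {ρ : H →* (V ≃ₗ[ZMod 2] V)} {a : V}
    (ha : a ≠ 0) (hU : ∀ v, (∀ u ∈ RGD.Sup X (RGD.Pos cs h), ρ (u : H) v = v) → v = 0 ∨ v = a)
    (hB : ∀ g ∈ RGD.B cs h T X, ρ (g : H) a = a) {t : H} (ht : t ∈ T2 T X) : ρ t a = a := by
  have hmul : ∀ (g k : H) (v : V), ρ (g * k) v = ρ g (ρ k v) := by
    intro g k v
    rw [map_mul]; rfl
  have h1 : ∀ u ∈ RGD.Sup X (RGD.Pos cs h), cn L t⁻¹ u ∈ RGD.Sup X (RGD.Pos cs h) := by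
    have h2 : RGD.Sup X (RGD.Pos cs h) ≤ (RGD.Sup X (RGD.Pos cs h)).comap (cn L t⁻¹).toMonoidHom := by
      refine RGD.Sup_le fun x hx u hu => ?_
      rw [Subgroup.mem_comap]
      exact RGD.le_Sup hx (diag_root R (mem_N1.1 ((N1 T X).inv_mem (T2_le ht))) hx.1 hu)
    exact fun u hu => h2 hu
  have h2 := hU (ρ t a) (by
    intro u hu
    have h3 : (u : H) * t = t * (cn L t⁻¹ u : L) := by
      rw [cn_apply]; group
    rw [← hmul, h3, hmul, hB _ (RGD.U_le_B (h1 u hu))])
  rcases h2 with h2 | h2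
  · exfalso
    apply ha
    apply (ρ t).injective
    rw [h2, map_zero]
  · exact h2

/-- **LEMMA ODD: the output.** -/
theorem outAt [Finite W] {V : Type*} [AddCommGroup V] [Module (ZMod 2) V] {ρ : H →* (V ≃ₗ[ZMod 2] V)} {a : V}
    (ha : a ≠ 0) {X0 : Subgroup H} (hG1 : RGD.Sup X {x | IsRoot cs h x} = ⊤) (hG : GG cs h T X = ⊤)
    (hC : Subgroup.centralizer (L : Set H) = ⊥) (hq : ∀ i, Nat.card (X (sr i)) ≤ 4)
    (hsym : ∀ σ : Equiv.Perm I, (∀ i j, M (σ i) (σ j) = M i j) → σ * σ = 1)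
    (hU : ∀ v, (∀ u ∈ RGD.Sup X (RGD.Pos cs h), ρ (u : H) v = v) → v = 0 ∨ v = a)
    (hB : ∀ g ∈ RGD.B cs h T X, ρ (g : H) a = a) {i : I} (hX0 : X0 = (VJ cs h X {i}ᶜ).map L.subtype)
    (hi : ∀ j, j ≠ i → ρ (n j : H) a = a) : OutAt ρ a X0 cs h (fun j => Nat.card (X (sr j))) i := by
  have hmul : ∀ (g k : H) (v : V), ρ (g * k) v = ρ g (ρ k v) := by
    intro g k v
    rw [map_mul]; rfl
  have hone : ∀ v : V, ρ 1 v = v := by
    intro v
    rw [map_one]; rfl
  have hinv : ∀ {g : H}, ρ g a = a → ρ g⁻¹ a = a := by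
    intro g hg
    conv_lhs => rw [← hg]
    rw [← hmul, inv_mul_cancel, hone]
  refine ⟨YY T X, (T2 T X).subgroupOf (YY T X), fun i => inc T X (n i), fun x => (X x).map (inc T X),
    YY_normal R hG1 hG hC hq, fun g hg => odd_mem_YY R hG1 hG hC hq hsym hg, ?_,
    rgd_Y R hG1 hC hq, GG_Y hG1, ?_, ?_, ?_⟩
  · have h1 : VJ cs h (fun x => (X x).map (inc T X)) {i}ᶜ = (VJ cs h X {i}ᶜ).map (inc T X) := by
      unfold VJ
      rw [Sup_map]
    rw [hX0, h1, Subgroup.map_map]
    rfl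
  · intro j hj
    let S : Subgroup (YY T X) :=
      { carrier := {g | ρ (g : H) a = a}
        one_mem' := hone a
        mul_mem' := by
          intro g k (hg : ρ (g : H) a = a) (hk : ρ (k : H) a = a)
          show ρ ((g * k : YY T X) : H) a = a
          rw [Subgroup.coe_mul, hmul, hk, hg]
        inv_mem' := by
          intro g (hg : ρ (g : H) a = a)
          show ρ ((g⁻¹ : YY T X) : H) a = a
          rw [Subgroup.coe_inv]
          exact hinv hg }
    have hpos : ∀ x, IsRoot cs h x → 0 ≤ x → (X x).map (inc T X) ≤ S := by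
      rintro x hx h0 _ ⟨u, hu, rfl⟩
      exact hB u (RGD.X_le_B hx h0 hu)
    have h1 : PJ cs h ((T2 T X).subgroupOf (YY T X)) (fun x => (X x).map (inc T X)) {j} ≤ S := by
      refine sup_le (sup_le ?_ ?_) ?_
      · intro t ht
        exact T2_fix R ha hU hB (Subgroup.mem_subgroupOf.1 ht)
      · refine RGD.Sup_le ?_
        rintro x ⟨hx, hx'⟩
        rcases hx.pos_or_neg with h0 | h0
        · exact hpos x hx h0
        · have h2 : -x = sr j := hx.neg.eq_sr (neg_nonneg.2 h0) j fun k hk => by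
            rw [Pi.neg_apply, hx' k hk, neg_zero]
          have h3 : x = -sr j := by rw [← h2, neg_neg]
          subst h3
          rintro _ ⟨u, hu, rfl⟩
          have h4 : (n j)⁻¹ * u * n j ∈ X (sr j) := by
            have := R.conj_mem' (rp_simple cs R.nsys j) (isRoot_sr cs h j).neg hu
            rwa [inv_simple, map_neg, rep_simple_sr, neg_neg] at this
          show ρ ((u : L) : H) a = a
          have h5 : ((u : L) : H) = (n j : H) * ((((n j)⁻¹ * u * n j : L) : H) * (n j : H)⁻¹) := by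
            rw [Subgroup.coe_mul, Subgroup.coe_mul, Subgroup.coe_inv]; group
          rw [h5, hmul, hmul, hinv (hi j hj), hB _ (RGD.X_le_B (isRoot_sr cs h j) (sr_nonneg j) h4), hi j hj]
      · refine RGD.Sup_le ?_
        rintro x ⟨hx, hx', -⟩
        exact hpos x hx hx'
    exact fun g hg => h1 hg
  · intro j
    exact Subgroup.card_map_of_injective inc_injective
  · intro v hv
    refine hU v fun u hu => ?_
    have h1 : inc T X u ∈ RGD.Sup (fun x => (X x).map (inc T X)) (RGD.Pos cs h) := by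
      rw [← Sup_map]
      exact Subgroup.mem_map_of_mem _ hu
    exact hv _ h1

end

end Main

end Cfsg.Agent.Omega.EH3.Kf.Odd
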