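import Mathlib
import Cfsg.Agent.Nodes.TypeD
import Cfsg.Agent.LieRecognition.BNCox

/-!
# Diagram symmetries of `A₅`, `D₆`, `E₇`, `C₃` (helper227)

They have order at most two: the hypothesis `hsym` of `Kf.Odd.outAt`.
-/

set_option autoImplicit false

namespace Cfsg.Agent.Omega.EH3.Kf.Sym

open Cfsg.Agent.LieRecognition.BNCox (cA cA_apply)

/-- the table -/
def tA (i j : Fin 5) : ℕ := if i = j then 1 else if i.val + 1 = j.val ∨ j.val + 1 = i.val then 3 else 2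

set_option backward.isDefEq.respectTransparency false in
set_option maxRecDepth 100000 in
theorem tA_eq : ∀ i j : Fin 5, cA 5 i j = tA i j := by decide

set_option maxRecDepth 100000 in
theorem keyA : ∀ a0 a1 : Fin 5, tA a0 a1 = 3 → ∀ a2, tA a1 a2 = 3 → tA a0 a2 = 2 → ∀ a3, tA a2 a3 = 3 → tA a1 a3 = 2 →
    ∀ a4, tA a3 a4 = 3 → tA a2 a4 = 2 →
    (a0 = 0 ∧ a1 = 1 ∧ a2 = 2 ∧ a3 = 3 ∧ a4 = 4) ∨ (a0 = 4 ∧ a1 = 3 ∧ a2 = 2 ∧ a3 = 1 ∧ a4 = 0) := by decide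

theorem symA (σ : Equiv.Perm (Fin 5)) (hσ : ∀ i j, cA 5 (σ i) (σ j) = cA 5 i j) : σ * σ = 1 := by
  have h : ∀ i j, tA (σ i) (σ j) = tA i j := by
    intro i j
    rw [← tA_eq, ← tA_eq]
    exact hσ i j
  rcases keyA (σ 0) (σ 1) (by rw [h]; decide) (σ 2) (by rw [h]; decide) (by rw [h]; decide) (σ 3) (by rw [h]; decide)
    (by rw [h]; decide) (σ 4) (by rw [h]; decide) (by rw [h]; decide) with ⟨h0, h1, h2, h3, h4⟩ | ⟨h0, h1, h2, h3, h4⟩
  all_goals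
    ext i
    rw [Equiv.Perm.mul_apply, Equiv.Perm.one_apply]
    congr 1
    fin_cases i
    · show σ (σ 0) = 0
      rw [h0]; assumption
    · show σ (σ 1) = 1
      rw [h1]; assumption
    · show σ (σ 2) = 2
      rw [h2]; assumption
    · show σ (σ 3) = 3
      rw [h3]; assumption
    · show σ (σ 4) = 4
      rw [h4]; assumption

/-- the table -/
def tD (i j : Fin 6) : ℕ := if i = j then 1 else
  if (i.val < 4 ∧ j.val < 5 ∧ i.val + 1 = j.val) ∨ (j.val < 4 ∧ i.val < 5 ∧ j.val + 1 = i.val) ∨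
    (i.val = 3 ∧ j.val = 5) ∨ (i.val = 5 ∧ j.val = 3) then 3 else 2

set_option backward.isDefEq.respectTransparency false in
set_option maxRecDepth 100000 in
theorem tD_eq : ∀ i j : Fin 6, Nodes.TypeD.M 4 i j = tD i j := by decide

set_option synthInstance.maxHeartbeats 400000 in
set_option synthInstance.maxSize 2000 in
set_option maxRecDepth 100000 in
theorem keyD : ∀ a0 a1 : Fin 6, tD a0 a1 = 3 → ∀ a2, tD a1 a2 = 3 → tD a0 a2 = 2 → ∀ a3, tD a2 a3 = 3 → tD a1 a3 = 2 →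
    ∀ a4, tD a3 a4 = 3 → tD a2 a4 = 2 → ∀ a5, tD a3 a5 = 3 → tD a2 a5 = 2 → tD a4 a5 = 2 →
    (a0 = 0 ∧ a1 = 1 ∧ a2 = 2 ∧ a3 = 3 ∧ a4 = 4 ∧ a5 = 5) ∨
    (a0 = 0 ∧ a1 = 1 ∧ a2 = 2 ∧ a3 = 3 ∧ a4 = 5 ∧ a5 = 4) := by decide

theorem symD (σ : Equiv.Perm (Fin 6)) (hσ : ∀ i j, Nodes.TypeD.M 4 (σ i) (σ j) = Nodes.TypeD.M 4 i j) :
    σ * σ = 1 := by
  have h : ∀ i j, tD (σ i) (σ j) = tD i j := by
    intro i j
    rw [← tD_eq, ← tD_eq]
    exact hσ i j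
  rcases keyD (σ 0) (σ 1) (by rw [h]; decide) (σ 2) (by rw [h]; decide) (by rw [h]; decide) (σ 3) (by rw [h]; decide)
    (by rw [h]; decide) (σ 4) (by rw [h]; decide) (by rw [h]; decide) (σ 5) (by rw [h]; decide) (by rw [h]; decide)
    (by rw [h]; decide) with ⟨h0, h1, h2, h3, h4, h5⟩ | ⟨h0, h1, h2, h3, h4, h5⟩
  all_goals
    ext i
    rw [Equiv.Perm.mul_apply, Equiv.Perm.one_apply]
    congr 1
    fin_cases i
    · show σ (σ 0) = 0
      rw [h0]; assumption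
    · show σ (σ 1) = 1
      rw [h1]; assumption
    · show σ (σ 2) = 2
      rw [h2]; assumption
    · show σ (σ 3) = 3
      rw [h3]; assumption
    · show σ (σ 4) = 4
      rw [h4]; assumption
    · show σ (σ 5) = 5
      rw [h5]; assumption

/-- the table -/
def tE (i j : Fin 7) : ℕ := if i = j then 1 else
  if (i.val = 0 ∧ j.val = 2) ∨ (i.val = 2 ∧ j.val = 0) ∨ (i.val = 1 ∧ j.val = 3) ∨ (i.val = 3 ∧ j.val = 1) ∨
    (2 ≤ i.val ∧ i.val + 1 = j.val) ∨ (2 ≤ j.val ∧ j.val + 1 = i.val) then 3 else 2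

set_option backward.isDefEq.respectTransparency false in
set_option maxRecDepth 100000 in
theorem tE_eq : ∀ i j : Fin 7, CoxeterMatrix.E₇ i j = tE i j := by decide

set_option synthInstance.maxHeartbeats 400000 in
set_option synthInstance.maxSize 2000 in
set_option maxRecDepth 100000 in
theorem keyE : ∀ a0 a2 : Fin 7, tE a0 a2 = 3 → ∀ a3, tE a2 a3 = 3 → tE a0 a3 = 2 → ∀ a1, tE a3 a1 = 3 → tE a2 a1 = 2 →
    tE a0 a1 = 2 → ∀ a4, tE a3 a4 = 3 → tE a2 a4 = 2 → tE a1 a4 = 2 → ∀ a5, tE a4 a5 = 3 → tE a3 a5 = 2 →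
    ∀ a6, tE a5 a6 = 3 → tE a4 a6 = 2 →
    (a0 = 0 ∧ a1 = 1 ∧ a2 = 2 ∧ a3 = 3 ∧ a4 = 4 ∧ a5 = 5 ∧ a6 = 6) := by decide

theorem symE (σ : Equiv.Perm (Fin 7)) (hσ : ∀ i j, CoxeterMatrix.E₇ (σ i) (σ j) = CoxeterMatrix.E₇ i j) :
    σ * σ = 1 := by
  have h : ∀ i j, tE (σ i) (σ j) = tE i j := by
    intro i j
    rw [← tE_eq, ← tE_eq]
    exact hσ i j
  obtain ⟨h0, h1, h2, h3, h4, h5, h6⟩ := keyE (σ 0) (σ 2) (by rw [h]; decide) (σ 3) (by rw [h]; decide)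
    (by rw [h]; decide) (σ 1) (by rw [h]; decide) (by rw [h]; decide) (by rw [h]; decide)
    (σ 4) (by rw [h]; decide) (by rw [h]; decide) (by rw [h]; decide)
    (σ 5) (by rw [h]; decide) (by rw [h]; decide) (σ 6) (by rw [h]; decide) (by rw [h]; decide)
  ext i
  rw [Equiv.Perm.mul_apply, Equiv.Perm.one_apply]
  congr 1
  fin_cases i
  · show σ (σ 0) = 0
    rw [h0]; assumption
  · show σ (σ 1) = 1
    rw [h1]; assumption
  · show σ (σ 2) = 2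
    rw [h2]; assumption
  · show σ (σ 3) = 3
    rw [h3]; assumption
  · show σ (σ 4) = 4
    rw [h4]; assumption
  · show σ (σ 5) = 5
    rw [h5]; assumption
  · show σ (σ 6) = 6
    rw [h6]; assumption

/-- the table -/
def tB (i j : Fin 3) : ℕ := if i = j then 1 else
  if (i.val = 2 ∧ j.val = 1) ∨ (i.val = 1 ∧ j.val = 2) then 4 else if (i.val = 0 ∧ j.val = 1) ∨ (i.val = 1 ∧ j.val = 0)
  then 3 else 2

set_option backward.isDefEq.respectTransparency false in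
set_option maxRecDepth 100000 in
theorem tB_eq : ∀ i j : Fin 3, CoxeterMatrix.B 3 i j = tB i j := by decide

set_option maxRecDepth 100000 in
theorem keyB : ∀ a1 a2 : Fin 3, tB a1 a2 = 4 → ∀ a0, tB a0 a1 = 3 → (a0 = 0 ∧ a1 = 1 ∧ a2 = 2) := by decide

theorem symB (σ : Equiv.Perm (Fin 3)) (hσ : ∀ i j, CoxeterMatrix.B 3 (σ i) (σ j) = CoxeterMatrix.B 3 i j) :
    σ * σ = 1 := by
  have h : ∀ i j, tB (σ i) (σ j) = tB i j := by
    intro i j
    rw [← tB_eq, ← tB_eq]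
    exact hσ i j
  obtain ⟨h0, h1, h2⟩ := keyB (σ 1) (σ 2) (by rw [h]; decide) (σ 0) (by rw [h]; decide)
  ext i
  rw [Equiv.Perm.mul_apply, Equiv.Perm.one_apply]
  congr 1
  fin_cases i
  · show σ (σ 0) = 0
    rw [h0]; assumption
  · show σ (σ 1) = 1
    rw [h1]; assumption
  · show σ (σ 2) = 2
    rw [h2]; assumption

end Cfsg.Agent.Omega.EH3.Kf.Sym
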