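import Mathlib
import Cfsg.Agent.Omega.EH3.Kf.Base
import Cfsg.Agent.Omega.EH3.Kf.Out
import Cfsg.Agent.Omega.EH3.Kf.Odd
import Cfsg.Agent.Omega.EH3.Kf.Sym
import Cfsg.Agent.Nodes.RGDLib

/-!
# EH3, Lie rows in characteristic 2: the output list and the transport lemmas (helper227)

* `Good M q i` : the five possibilities `A₅/2`, `D₆/4`, `D₆/5`, `E₇/6`, `C₃(4,4,2)/2`;
* `EndAt cs h T n X ρ a X0 q i` : what a row has to prove: `X0 = V_J`, `J = I - {i}`, the nodes `j ≠ i` fix `a`,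
  `|X_j| = q j`;
* `Four ρ a X0` : the output for `H`;
* `Row.map` : transport of `Row` along an isomorphism;
* `four_of_end` : `EndAt` for a normal subgroup `L` with `C_H(L) = 1` gives `Four`.
-/

set_option autoImplicit false

namespace Cfsg.Agent.Omega.EH3.Kf.Goal

open CoxeterSystem Cfsg.Agent.ChevalleyStructure.CoxeterGeom Cfsg.Agent.Tits.Roots Cfsg.Agent.Tits.Core
  Cfsg.Agent.Tits.RootComb Cfsg.Agent.Nodes.Comb Cfsg.Agent.Nodes.Reps Cfsg.Agent.Nodes.BNOf
  Cfsg.Agent.Nodes.StabComb Cfsg.Agent.Nodes.Bruhat Cfsg.Agent.Nodes.LeviDec Cfsg.Agent.Nodes.RGDLib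
  Cfsg.Agent.Omega.EH3.Kf.Base Cfsg.Agent.Omega.EH3.Kf.Out Cfsg.Agent.Omega.EH3.Kf.Odd
  Cfsg.Agent.Omega.EH3.Kf.Sym
open Cfsg.Agent.LieRecognition.BNCox (cA)

/-- The possible diagrams, orders and nodes. -/
inductive Good : ∀ {l : ℕ}, CoxeterMatrix (Fin l) → (Fin l → ℕ) → Fin l → Prop
  | A5 : Good (cA 5) (fun _ => 2) 2
  | D6 : Good (Nodes.TypeD.M 4) (fun _ => 2) 4
  | D6' : Good (Nodes.TypeD.M 4) (fun _ => 2) 5
  | E7 : Good CoxeterMatrix.E₇ (fun _ => 2) 6
  | C3 : Good (CoxeterMatrix.B 3) ![4, 4, 2] 2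

theorem Good.le_four {l : ℕ} {M : CoxeterMatrix (Fin l)} {q : Fin l → ℕ} {i : Fin l} (G : Good M q i) (j : Fin l) :
    q j ≤ 4 := by
  cases G
  · show (2 : ℕ) ≤ 4; omega
  · show (2 : ℕ) ≤ 4; omega
  · show (2 : ℕ) ≤ 4; omega
  · show (2 : ℕ) ≤ 4; omega
  · revert j; decide

theorem Good.sym {l : ℕ} {M : CoxeterMatrix (Fin l)} {q : Fin l → ℕ} {i : Fin l} (G : Good M q i)
    (σ : Equiv.Perm (Fin l)) (hσ : ∀ i j, M (σ i) (σ j) = M i j) : σ * σ = 1 := by
  cases G
  · exact symA σ hσ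
  · exact symD σ hσ
  · exact symD σ hσ
  · exact symE σ hσ
  · exact symB σ hσ

/-- **The output for `H`.** -/
def Four {H V : Type*} [Group H] [AddCommGroup V] [Module (ZMod 2) V] (ρ : H →* (V ≃ₗ[ZMod 2] V)) (a : V)
    (X0 : Subgroup H) : Prop :=
  ∃ (l : ℕ) (M : CoxeterMatrix (Fin l)) (q : Fin l → ℕ) (i : Fin l) (A : Fin l → Fin l → ℤ) (h : IsCartan M A),
    Good M q i ∧ Finite M.Group ∧ OutAt ρ a X0 M.toCoxeterSystem h q i

variable {I W Y V : Type*} [Fintype I] [DecidableEq I] [Group W] [Group Y] [AddCommGroup V]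
    [Module (ZMod 2) V] {M : CoxeterMatrix I} {cs : CoxeterSystem M W} {A : I → I → ℤ} {h : IsCartan M A}
    {T : Subgroup Y} {n : I → Y} {X : (I → ℤ) → Subgroup Y} {ρ : Y →* (V ≃ₗ[ZMod 2] V)}
    {b : LinearMap.BilinForm (ZMod 2) V} {a : V} {D : Submodule (ZMod 2) V} {X0 : Subgroup Y} {w : ℕ}

/-- **What a row has to prove.** -/
structure EndAt {I W Y V : Type*} [Fintype I] [DecidableEq I] [Group W] [Group Y] [AddCommGroup V]
    [Module (ZMod 2) V] {M : CoxeterMatrix I} (cs : CoxeterSystem M W) {A : I → I → ℤ} (h : IsCartan M A)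
    (n : I → Y) (X : (I → ℤ) → Subgroup Y) (ρ : Y →* (V ≃ₗ[ZMod 2] V)) (a : V) (X0 : Subgroup Y)
    (q : I → ℕ) (i : I) : Prop where
  eq : X0 = VJ cs h X {i}ᶜ
  fix : ∀ j, j ≠ i → ρ (n j) a = a
  card : ∀ j, Nat.card (X (sr j)) = q j

/-- Transport along an isomorphism. -/
theorem _root_.Cfsg.Agent.Omega.EH3.Kf.Base.Row.map (R : Row cs h T n X ρ b a D X0 w) {Y' : Type*} [Group Y']
    (e : Y ≃* Y') : Row cs h (T.map e.toMonoidHom) (fun i => e (n i)) (fun x => (X x).map e.toMonoidHom)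
      (ρ.comp e.symm.toMonoidHom) b a D (X0.map e.toMonoidHom) w where
  rgd := rgd_map_of_injective R.rgd e.toMonoidHom e.injective
  gen := by
    have h1 : (GG cs h T X).map e.toMonoidHom =
        GG cs h (T.map e.toMonoidHom) (fun x => (X x).map e.toMonoidHom) := by
      unfold GG RGD.Sup
      rw [Subgroup.map_sup, Subgroup.map_iSup]
    rw [← h1, R.gen, Subgroup.map_top_of_surjective _ e.surjective]
  six := R.six
  card_V := R.card_V
  card_D := R.card_D
  card_X := by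
    rw [Subgroup.card_map_of_injective e.injective]
    exact R.card_X
  b_self := R.b_self
  nondeg := R.nondeg
  b_inv g u v := R.b_inv _ u v
  span := by
    have h1 : (Set.range fun g => (ρ.comp e.symm.toMonoidHom) g a) = Set.range fun g => ρ g a := by
      ext v
      constructor
      · rintro ⟨g, rfl⟩
        exact ⟨e.symm g, rfl⟩
      · rintro ⟨g, rfl⟩
        refine ⟨e g, ?_⟩
        show ρ (e.symm (e g)) a = ρ g a
        rw [e.symm_apply_apply]
    rw [h1]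
    exact R.span
  a_ne := R.a_ne
  a_mem := R.a_mem
  b_D := R.b_D
  D_inv g := R.D_inv _
  fixB := by
    have h1 : RGD.B cs h (T.map e.toMonoidHom) (fun x => (X x).map e.toMonoidHom) =
        (RGD.B cs h T X).map e.toMonoidHom := by
      unfold RGD.B RGD.Sup
      rw [Subgroup.map_sup, Subgroup.map_iSup]
    rw [h1]
    rintro _ ⟨g, hg, rfl⟩
    show ρ (e.symm (e g)) a = a
    rw [e.symm_apply_apply]
    exact R.fixB g hg
  le := by
    have h1 : RGD.Sup (fun x => (X x).map e.toMonoidHom) (RGD.Pos cs h) =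
        (RGD.Sup X (RGD.Pos cs h)).map e.toMonoidHom := by
      unfold RGD.Sup
      rw [Subgroup.map_iSup]
    rw [h1]
    exact Subgroup.map_mono R.le
  sq := by
    rintro _ ⟨x, hx, rfl⟩
    rw [← map_mul, R.sq x hx, map_one]
  norm := by
    rintro g hg _ ⟨x, hx, rfl⟩
    refine ⟨e.symm g * x * (e.symm g)⁻¹, R.norm (e.symm g) hg x hx, ?_⟩
    rw [map_mul, map_mul, map_inv]
    show e (e.symm g) * e x * (e (e.symm g))⁻¹ = g * e x * g⁻¹
    rw [e.apply_symm_apply]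
  fix v hv := by
    refine R.fix v fun x hx => ?_
    have := hv (e x) ⟨x, hx, rfl⟩
    change ρ (e.symm (e x)) v = v at this
    rwa [e.symm_apply_apply] at this
  semi := by
    rintro _ ⟨x, hx, rfl⟩ v hv hv'
    change ρ (e.symm (e x)) v = v at hv'
    rw [e.symm_apply_apply] at hv'
    rw [R.semi x hx v hv hv', map_one]
  one := by
    rintro _ ⟨x, hx, rfl⟩ v
    have := R.one x hx v
    unfold dl at this ⊢
    change b a (ρ (e.symm (e x)) v + v) = 0
    rwa [e.symm_apply_apply]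
  two := by
    rintro _ ⟨x, hx, rfl⟩ v hv
    have := R.two x hx v hv
    unfold dl at this ⊢
    change ρ (e.symm (e x)) v + v ∈ D
    rwa [e.symm_apply_apply]
  three := by
    rintro _ ⟨x, hx, rfl⟩ d hd
    have := R.three x hx d hd
    unfold dl at this ⊢
    change ρ (e.symm (e x)) d + d = 0 ∨ ρ (e.symm (e x)) d + d = a
    rwa [e.symm_apply_apply]
  tri := by
    rintro _ ⟨x, hx, rfl⟩ hx1 c hc
    have hx1' : x ≠ 1 := by
      rintro rfl
      exact hx1 (map_one _)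
    obtain ⟨y, hy, t, ht, h1⟩ := R.tri x hx hx1' c hc
    refine ⟨e y, ⟨y, hy, rfl⟩, e t, ⟨t, ht, rfl⟩, ?_⟩
    unfold dl at h1 ⊢
    change b (ρ (e.symm (e y)) (ρ (e.symm (e x)) c + c) + (ρ (e.symm (e x)) c + c)) (ρ (e.symm (e t)) c + c) ≠ 0
    rwa [e.symm_apply_apply, e.symm_apply_apply, e.symm_apply_apply]

section

variable {H : Type*} [Group H] [Finite H] {L : Subgroup H} {l : ℕ} {M : CoxeterMatrix (Fin l)}
  {A : Fin l → Fin l → ℤ} {h : IsCartan M A} {T : Subgroup L} {n : Fin l → L}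
  {X : (Fin l → ℤ) → Subgroup L} {ρ : H →* (V ≃ₗ[ZMod 2] V)} {D : Submodule (ZMod 2) V} {X0 : Subgroup H}

/-- `EndAt` for the normal subgroup `L` gives the output. -/
theorem four_of_end (hL : L.Normal) [Finite M.Group] {X1 : Subgroup L}
    (R : Row M.toCoxeterSystem h T n X (ρ.comp L.subtype) b a D X1 w) (hX : X0 = X1.map L.subtype)
    (hG1 : RGD.Sup X {x | IsRoot M.toCoxeterSystem h x} = ⊤) (hC : Subgroup.centralizer (L : Set H) = ⊥)
    {q : Fin l → ℕ} {i : Fin l} (G : Good M q i)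
    (E : EndAt M.toCoxeterSystem h n X (ρ.comp L.subtype) a X1 q i) : Four ρ a X0 := by
  refine ⟨l, M, q, i, A, h, G, inferInstance, ?_⟩
  have hq : q = fun j => Nat.card (X (sr j)) := by
    funext j
    exact (E.card j).symm
  have key := outAt (ρ := ρ) (a := a) (X0 := X0) (i := i) R.rgd R.a_ne hG1 R.gen hC
    (fun j => by rw [E.card j]; exact G.le_four j) G.sym
    (fun v hv => R.fix v fun x hx => hv x (R.le hx)) (fun g hg => R.fixB g hg)
    (by rw [hX, E.eq]) E.fix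
  rw [hq]
  exact key

end

end Cfsg.Agent.Omega.EH3.Kf.Goal
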