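import Mathlib
import Cfsg.Agent.Omega.EH3.Kf.Goal

/-!
# EH3, Lie rows: the family level interface (helper227)

* `Bd M h T n X` : root group datum of the group `K` itself (simple in the applications), `T` abelian, elementary abelian
  root groups;
* `KfRow K` : `K` has such a datum and every `Row` for it ends in `Good ∧ EndAt`;
* `KfRow.of_equiv`.
-/

set_option autoImplicit false

namespace Cfsg.Agent.Omega.EH3.Kf.FamRow

open CoxeterSystem Cfsg.Agent.ChevalleyStructure.CoxeterGeom Cfsg.Agent.Tits.Roots Cfsg.Agent.Tits.Core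
  Cfsg.Agent.Tits.RootComb Cfsg.Agent.Nodes.Comb Cfsg.Agent.Nodes.Reps Cfsg.Agent.Nodes.BNOf
  Cfsg.Agent.Nodes.StabComb Cfsg.Agent.Nodes.Bruhat Cfsg.Agent.Nodes.LeviDec Cfsg.Agent.Nodes.RGDLib
  Cfsg.Agent.Omega.EH3.Kf.Base Cfsg.Agent.Omega.EH3.Kf.Out Cfsg.Agent.Omega.EH3.Kf.Goal

universe u v w

/-- The bundle of data of the group `K`. -/
structure Bd {K : Type v} [Group K] {l : ℕ} (M : CoxeterMatrix (Fin l)) {A : Fin l → Fin l → ℤ} (h : IsCartan M A)
    (T : Subgroup K) (n : Fin l → K) (X : (Fin l → ℤ) → Subgroup K) : Prop where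
  fin : Finite M.Group
  rgd : RGD M.toCoxeterSystem h 2 T n X
  gen : RGD.Sup X {x | IsRoot M.toCoxeterSystem h x} = ⊤
  ab : ∀ s ∈ T, ∀ t ∈ T, s * t = t * s
  el : ∀ i, ∀ u ∈ X (sr i), u * u = 1

/-- The end data for all rows of the datum `(M, h, T, n, X)`. -/
def RowEnd {K : Type v} [Group K] {l : ℕ} (M : CoxeterMatrix (Fin l)) {A : Fin l → Fin l → ℤ} (h : IsCartan M A)
    (T : Subgroup K) (n : Fin l → K) (X : (Fin l → ℤ) → Subgroup K) : Prop :=
  ∀ (V : Type u) [AddCommGroup V] [Module (ZMod 2) V] (ρ : K →* (V ≃ₗ[ZMod 2] V))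
    (b : LinearMap.BilinForm (ZMod 2) V) (a : V) (D : Submodule (ZMod 2) V) (X0 : Subgroup K) (w : ℕ),
    Row M.toCoxeterSystem h T n X ρ b a D X0 w →
    ∃ (q : Fin l → ℕ) (i : Fin l), Good M q i ∧ EndAt M.toCoxeterSystem h n X ρ a X0 q i

/-- **The row of `K`** (irreducible shape, `End = F₂`). -/
def KfRow (K : Type v) [Group K] : Prop :=
  ∃ (l : ℕ) (M : CoxeterMatrix (Fin l)) (A : Fin l → Fin l → ℤ) (h : IsCartan M A) (T : Subgroup K)
    (n : Fin l → K) (X : (Fin l → ℤ) → Subgroup K), Bd M h T n X ∧ RowEnd.{u} M h T n X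

section map

variable {K : Type v} [Group K] {K' : Type w} [Group K'] {l : ℕ} {M : CoxeterMatrix (Fin l)}
  {A : Fin l → Fin l → ℤ} {h : IsCartan M A} {T : Subgroup K} {n : Fin l → K} {X : (Fin l → ℤ) → Subgroup K}

theorem Bd.map (B : Bd M h T n X) (e : K ≃* K') :
    Bd M h (T.map e.toMonoidHom) (fun i => e (n i)) (fun x => (X x).map e.toMonoidHom) where
  fin := B.fin
  rgd := rgd_map_of_injective B.rgd e.toMonoidHom e.injective
  gen := by
    have h1 : (RGD.Sup X {x | IsRoot M.toCoxeterSystem h x}).map e.toMonoidHom =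
        RGD.Sup (fun x => (X x).map e.toMonoidHom) {x | IsRoot M.toCoxeterSystem h x} := by
      unfold RGD.Sup
      rw [Subgroup.map_iSup]
    rw [← h1, B.gen, Subgroup.map_top_of_surjective _ e.surjective]
  ab := by
    rintro _ ⟨s, hs, rfl⟩ _ ⟨t, ht, rfl⟩
    rw [← map_mul, B.ab s hs t ht, map_mul]
  el := by
    rintro i _ ⟨u, hu, rfl⟩
    rw [← map_mul, B.el i u hu, map_one]

/-- Transport of the end data. -/
theorem EndAt.map {V : Type u} [AddCommGroup V] [Module (ZMod 2) V] {ρ : K →* (V ≃ₗ[ZMod 2] V)} {a : V}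
    {X0 : Subgroup K} {q : Fin l → ℕ} {i : Fin l} (E : EndAt M.toCoxeterSystem h n X ρ a X0 q i) (e : K ≃* K') :
    EndAt M.toCoxeterSystem h (fun i => e (n i)) (fun x => (X x).map e.toMonoidHom)
      (ρ.comp e.symm.toMonoidHom) a (X0.map e.toMonoidHom) q i where
  eq := by
    rw [E.eq]
    unfold VJ RGD.Sup
    rw [Subgroup.map_iSup]
  fix j hj := by
    show ρ (e.symm (e (n j))) a = a
    rw [e.symm_apply_apply]
    exact E.fix j hj
  card j := by
    show Nat.card ((X (sr j)).map e.toMonoidHom) = q j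
    rw [Subgroup.card_map_of_injective e.injective]
    exact E.card j

theorem map_map_symm (e : K ≃* K') (S : Subgroup K) : (S.map e.toMonoidHom).map e.symm.toMonoidHom = S := by
  rw [Subgroup.map_map]
  have : e.symm.toMonoidHom.comp e.toMonoidHom = MonoidHom.id K := by
    ext x
    exact e.symm_apply_apply x
  rw [this, Subgroup.map_id]

theorem map_symm_map (e : K ≃* K') (S : Subgroup K') : (S.map e.symm.toMonoidHom).map e.toMonoidHom = S :=
  map_map_symm e.symm S

/-- Transport of the row statement. -/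
theorem RowEnd.map (H : RowEnd.{u} M h T n X) (e : K ≃* K') :
    RowEnd.{u} M h (T.map e.toMonoidHom) (fun i => e (n i)) (fun x => (X x).map e.toMonoidHom) := by
  intro V _ _ ρ b a D X0 w R
  have R' := R.map e.symm
  have h1 : (fun i => e.symm (e (n i))) = n := funext fun i => e.symm_apply_apply _
  have h2 : (fun x => ((X x).map e.toMonoidHom).map e.symm.toMonoidHom) = X := funext fun x => map_map_symm e _
  rw [map_map_symm, h1, h2] at R'
  obtain ⟨q, i, hG, hE⟩ := H V _ _ _ _ _ _ R'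
  refine ⟨q, i, hG, ?_⟩
  have hE' := EndAt.map hE e
  rw [map_symm_map] at hE'
  have h3 : (ρ.comp e.symm.symm.toMonoidHom).comp e.symm.toMonoidHom = ρ := by
    ext g v
    show ρ (e (e.symm g)) v = ρ g v
    rw [e.apply_symm_apply]
  rw [h3] at hE'
  exact hE'

theorem KfRow.of_equiv (hK : KfRow.{u} K) (e : K ≃* K') : KfRow.{u} K' := by
  obtain ⟨l, M, A, h, T, n, X, B, H⟩ := hK
  exact ⟨l, M, A, h, _, _, _, B.map e, H.map e⟩

end map

end Cfsg.Agent.Omega.EH3.Kf.FamRow
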