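import Cfsg.Agent.Nodes.SimplyLaced
import Cfsg.Agent.KFacts.RgdSL

/-!
# EH3, Lie rows in characteristic 2: the combinatorial interface (helper827; blueprints/OMEGA-EH3-KF3-helper227.md)

* `NodeOK cs h i m` : (D), (E), (F) for the node `i` and `q = 2 ^ m`;
* `Killed`, `Kills` : every triple of roots with coefficient one at `i` is killed by a root of `Φ_J` (G);
* `cpr_of_add` : in a simply laced root system `⟨x, y^∨⟩ = -1` if `x + y` is a root.
-/

set_option autoImplicit false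
set_option linter.unusedSectionVars false

namespace Cfsg.Agent.Omega.EH3.Kf.Node

open CoxeterSystem Cfsg.Agent.ChevalleyStructure.CoxeterGeom Cfsg.Agent.Tits.Roots Cfsg.Agent.Tits.Core
  Cfsg.Agent.Tits.RootComb Cfsg.Agent.Nodes.Comb Cfsg.Agent.Nodes.Coroot Cfsg.Agent.KFacts.RgdSL
  Cfsg.Agent.Nodes.Reps Cfsg.Agent.Nodes.PosPair

variable {I W : Type*} [Fintype I] [DecidableEq I] [Group W] {M : CoxeterMatrix I}

/-- The conclusions (D), (E), (F) for the node `i` moving `a`; `q = 2 ^ m`. -/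
structure NodeOK (cs : CoxeterSystem M W) {A : I → I → ℤ} (h : IsCartan M A) (i : I) (m : ℕ) : Prop where
  le_one : ∀ x, IsRoot cs h x → x i ≤ 1
  opp : ∃ w : W, ∀ x, IsRoot cs h x → x i = 1 → (rep cs h w x) i = -1
  orth : ∀ s : Finset (I → ℤ), (∀ x ∈ s, IsRoot cs h x ∧ x i = 1) →
    (∀ x ∈ s, ∀ y ∈ s, x ≠ y → ¬ IsRoot cs h (x - y)) → m * s.card ≤ 3

/-- The triple `α, β, ε` is killed by a root element of `Φ_J` through `β`. -/
def Killed (cs : CoxeterSystem M W) {A : I → I → ℤ} (h : IsCartan M A) (i : I) (α β ε : I → ℤ) : Prop :=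
  ∃ δ, IsRoot cs h δ ∧ δ i = 0 ∧ IsRoot cs h (β - δ) ∧ (IsRoot cs h (α + δ) → α + δ = ε) ∧
    (IsRoot cs h (ε + δ) → ε + δ = α)

/-- Every triple is killed. -/
def Kills (cs : CoxeterSystem M W) {A : I → I → ℤ} (h : IsCartan M A) (i : I) : Prop :=
  ∀ α β ε, IsRoot cs h α → IsRoot cs h β → IsRoot cs h ε → α i = 1 → β i = 1 → ε i = 1 → α ≠ β → β ≠ ε → α ≠ ε →
    Killed cs h i α β ε ∨ Killed cs h i β α ε ∨ Killed cs h i α ε β

variable {cs : CoxeterSystem M W} {A : I → I → ℤ} {h : IsCartan M A}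

theorem NodeOK.le_three {i : I} {m : ℕ} (N : NodeOK cs h i m) : m ≤ 3 := by
  have h1 := N.orth {sr i} (by
    intro x hx
    rw [Finset.mem_singleton] at hx
    rw [hx]
    exact ⟨isRoot_sr cs h i, sr_self i⟩) (by
    intro x hx y hy hxy
    rw [Finset.mem_singleton] at hx hy
    exact absurd (hx.trans hy.symm) hxy)
  simpa using h1

/-- In a simply laced root system. -/
theorem cpr_of_add [Finite W] (hs : SL cs h) {x y : I → ℤ} (hx : IsRoot cs h x) (hy : IsRoot cs h y)
    (hxy : IsRoot cs h (x + y)) : cpr cs h x y = -1 := by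
  have h1 : x ≠ y := by
    rintro rfl
    have e : (1 : ℤ) • (x + x) = (2 : ℤ) • x := by rw [one_smul, two_smul]
    rcases Nodes.PosPair.eq_or_eq_neg_of_smul cs h hxy hx one_ne_zero e with h2 | h2
    · exact hx.ne_zero (by simpa using h2)
    · have h3 : (3 : ℤ) • x = 0 := by
        have : (3 : ℤ) • x = (x + x) + x := by module
        rw [this, h2, neg_add_cancel]
      exact hx.ne_zero ((smul_eq_zero.1 h3).resolve_left (by norm_num))
  have h2 : x ≠ -y := by
    rintro rfl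
    rw [neg_add_cancel] at hxy
    exact hxy.ne_zero rfl
  exact (hs.btwn hx hy h1 h2 ⟨hxy, 1, 1, 1, one_pos, one_pos, one_pos, by rw [one_smul, one_smul, one_smul]⟩).1

theorem nonneg_of_not_add [Finite W] (hs : SL cs h) {x y : I → ℤ} (hx : IsRoot cs h x) (hy : IsRoot cs h y)
    (h2 : x ≠ -y) (hxy : ¬ IsRoot cs h (x + y)) : 0 ≤ cpr cs h x y := by
  rcases hs.cases hx hy with h3 | h3 | h3
  · omega
  · exact absurd h3.1 h2
  · by_contra h4
    exact hxy (isRoot_add hx hy (by omega))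

end Cfsg.Agent.Omega.EH3.Kf.Node
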