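import Mathlib
import Cfsg.Agent.Omega.EH3.Kf.Base
import Cfsg.Agent.Lib.FrattiniBasic

/-!
# EH3, Lie rows in characteristic 2: step (C) (blueprints/OMEGA-EH3-KF3-helper227.md)

`R : Row cs h T n X ρ b a D X0 w`, `K = Mv ρ n a` the nodes moving `a`, `J` its complement.

* `le_of_le_sup_comm` : `U ≤ H [U, U]` implies `U ≤ H` (`U` a `p`-group);
* `stab_eq` : `{g | g a = a} = P_J`;
* `le_VJ` : `X0 ≤ V_J`;
* `eq_VJ` : if `U` is generated by the root groups of the fundamental roots (in the form: all others lie in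
  `[U, U]`) and `X0` covers `U / O(K)` (Theorem A), then `X0 = V_J = O_2(P_J)`.
-/

set_option autoImplicit false

namespace Cfsg.Agent.Omega.EH3.Kf.Cov

open CoxeterSystem Cfsg.Agent.ChevalleyStructure.CoxeterGeom Cfsg.Agent.Tits.Roots Cfsg.Agent.Tits.Core
  Cfsg.Agent.Tits.Exchange
  Cfsg.Agent.Tits.RootComb Cfsg.Agent.Nodes.Comb Cfsg.Agent.Nodes.Reps Cfsg.Agent.Nodes.BNOf
  Cfsg.Agent.Nodes.StabComb Cfsg.Agent.Nodes.Bruhat Cfsg.Agent.Nodes.OppDec Cfsg.Agent.Nodes.LeviDec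
  Cfsg.Agent.Omega.EH3.Kf.Base
open scoped commutatorElement

/-- `U ≤ H [U, U]` implies `U ≤ H`. -/
theorem le_of_le_sup_comm {G : Type*} [Group G] [Finite G] {p : ℕ} [Fact p.Prime] {U H : Subgroup G}
    (hU : IsPGroup p U) (hH : H ≤ U) (h : U ≤ H ⊔ ⁅U, U⁆) : U ≤ H := by
  have h1 : H.subgroupOf U = ⊤ := by
    rcases eq_top_or_exists_le_coatom (H.subgroupOf U) with h0 | ⟨M, hM, hle⟩
    · exact h0
    · exfalso
      have hc : commutator U ≤ M := Lib.FrattiniBasic.commutator_le_of_isCoatom hU hM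
      have h2 : H ≤ M.map U.subtype := by
        intro x hx
        exact ⟨⟨x, hH hx⟩, hle (Subgroup.mem_subgroupOf.2 hx), rfl⟩
      have h3 : ⁅U, U⁆ ≤ M.map U.subtype := by
        have : ⁅U, U⁆ = (commutator U).map U.subtype := by
          rw [commutator_def, Subgroup.map_commutator, ← MonoidHom.range_eq_map, Subgroup.range_subtype]
        rw [this]
        exact Subgroup.map_mono hc
      have h4 : U ≤ M.map U.subtype := h.trans (sup_le h2 h3)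
      apply hM.1
      rw [eq_top_iff]
      rintro ⟨x, hx⟩ -
      obtain ⟨y, hy, e⟩ := h4 hx
      have : y = ⟨x, hx⟩ := Subtype.ext e
      rwa [← this]
  exact Subgroup.subgroupOf_eq_top.1 h1

variable {I W Y V : Type*} [Fintype I] [DecidableEq I] [Group W] [Group Y] [AddCommGroup V]
    [Module (ZMod 2) V] {M : CoxeterMatrix I} {cs : CoxeterSystem M W} {A : I → I → ℤ} {h : IsCartan M A}
    {T : Subgroup Y} {n : I → Y} {X : (I → ℤ) → Subgroup Y} {ρ : Y →* (V ≃ₗ[ZMod 2] V)}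
    {b : LinearMap.BilinForm (ZMod 2) V} {a : V} {D : Submodule (ZMod 2) V} {X0 : Subgroup Y} {w : ℕ}

/-- the stabiliser of `a` -/
def St (ρ : Y →* (V ≃ₗ[ZMod 2] V)) (a : V) : Subgroup Y where
  carrier := {g | ρ g a = a}
  one_mem' := by show ρ 1 a = a; rw [map_one]; rfl
  mul_mem' := by
    intro g g' (hg : ρ g a = a) (hg' : ρ g' a = a)
    show ρ (g * g') a = a
    rw [map_mul]
    show ρ g (ρ g' a) = a
    rw [hg', hg]
  inv_mem' := by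
    intro g (hg : ρ g a = a)
    show ρ g⁻¹ a = a
    have h1 : ρ g⁻¹ (ρ g a) = a := by
      show (ρ g⁻¹ * ρ g) a = a
      rw [← map_mul, inv_mul_cancel, map_one]
      rfl
    rwa [hg] at h1

theorem mem_St {g : Y} : g ∈ St ρ a ↔ ρ g a = a := Iff.rfl

section

variable (R : Row cs h T n X ρ b a D X0 w)

include R

/-- the stabiliser of `a` is `P_J` -/
theorem St_eq [Finite W] : St ρ a = PJ cs h T X (Mv ρ n a)ᶜ := by
  have hB : RGD.B cs h T X ≤ St ρ a := fun g hg => R.fixB g hg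
  have h1 := inf_eq_PJ R.rgd hB
  rw [R.gen, inf_top_eq] at h1
  rw [h1]
  congr 1
  ext i
  show ρ (n i) a = a ↔ i ∈ (Mv ρ n a)ᶜ
  unfold Mv
  simp

theorem U_le_St : RGD.Sup X (RGD.Pos cs h) ≤ St ρ a := fun g hg => R.fixB g (RGD.U_le_B hg)

theorem comm_X0 {x y : Y} (hx : x ∈ X0) (hy : y ∈ X0) : x * y = y * x := by
  have h1 := R.sq _ (X0.mul_mem hx hy)
  have h2 : x⁻¹ = x := inv_eq_of_mul_eq_one_left (R.sq x hx)
  have h3 : y⁻¹ = y := inv_eq_of_mul_eq_one_left (R.sq y hy)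
  have h4 : (x * y)⁻¹ = x * y := inv_eq_of_mul_eq_one_left h1
  rw [mul_inv_rev, h2, h3] at h4
  exact h4.symm

theorem X0_le_normalizer : St ρ a ≤ Subgroup.normalizer (X0 : Set Y) := by
  intro g hg
  rw [Subgroup.mem_normalizer_iff]
  intro x
  refine ⟨fun hx => R.norm g hg x hx, fun hx => ?_⟩
  have h1 := R.norm g⁻¹ ((St ρ a).inv_mem hg) _ hx
  have h2 : g⁻¹ * (g * x * g⁻¹) * g⁻¹⁻¹ = x := by group
  rwa [h2] at h1

/-- `X0 ≤ V_J` -/
theorem le_VJ [Finite W] : X0 ≤ VJ cs h X (Mv ρ n a)ᶜ := by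
  obtain ⟨wj, hwj⟩ := exists_isLongest cs (Mv ρ n a)ᶜ
  obtain ⟨k, hk⟩ := exists_rp cs R.rgd.nsys wj
  have hkP : k ∈ St ρ a := by
    rw [St_eq R]
    exact LJ_le_PJ (rp_mem_LJ R.rgd hwj.1 hk)
  intro x hx
  have h1 : (k⁻¹)⁻¹ * x * k⁻¹ ∈ RGD.B cs h T X := by
    rw [inv_inv]
    exact RGD.U_le_B (R.le (R.norm k hkP x hx))
  have h2 := mem_PW_of_conj R.rgd hk.inv (R.le hx) h1
  rw [inv_inv] at h2
  refine RGD.Sup_mono (fun r hr => ?_) h2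
  rcases mem_PosJ_or_NotJ (Mv ρ n a)ᶜ hr.1 hr.2.1 with h3 | h3
  · exact absurd (rep_longest_nonpos hwj h3) fun h4 => (hr.1.act wj).not_pos_neg hr.2.2 h4
  · exact h3

/-- **(C)** -/
theorem eq_VJ [Finite W] [Finite Y]
    (hA : ∀ u ∈ RGD.Sup X (RGD.Pos cs h), ∃ x ∈ X0, u⁻¹ * x ∈ VJ cs h X (Mv ρ n a))
    (hgen : ∀ x, IsRoot cs h x → 0 ≤ x → (∀ i, x ≠ sr i) →
      X x ≤ ⁅RGD.Sup X (RGD.Pos cs h), RGD.Sup X (RGD.Pos cs h)⁆) :
    X0 = VJ cs h X (Mv ρ n a)ᶜ := by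
  apply le_antisymm (le_VJ R)
  have : Fact (Nat.Prime 2) := ⟨Nat.prime_two⟩
  -- `V_K ≤ U_J [U, U]`
  have h1 : VJ cs h X (Mv ρ n a) ≤ UJ cs h X (Mv ρ n a)ᶜ ⊔ ⁅RGD.Sup X (RGD.Pos cs h), RGD.Sup X (RGD.Pos cs h)⁆ := by
    refine RGD.Sup_le fun r hr => ?_
    obtain ⟨hr1, hr2, k, hk, hk0⟩ := hr
    by_cases hs : ∀ i, r ≠ sr i
    · exact (hgen r hr1 hr2 hs).trans le_sup_right
    · push Not at hs
      obtain ⟨i, rfl⟩ := hs
      have hik : k = i := by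
        by_contra hne
        have h0 : (sr i : I → ℤ) k = 0 := by
          unfold sr
          exact Pi.single_eq_of_ne hne _
        omega
      subst hik
      exact (RGD.le_Sup (sr_mem_PosJ (show k ∈ (Mv ρ n a)ᶜ from hk))).trans le_sup_left
  have h2 : RGD.Sup X (RGD.Pos cs h) ≤ X0 ⊔ UJ cs h X (Mv ρ n a)ᶜ := by
    refine le_of_le_sup_comm (R.rgd.isPGroup_Upos) (sup_le R.le (UJ_le_U _)) ?_
    intro u hu
    obtain ⟨x, hx, hux⟩ := hA u hu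
    have h3 : u = x * (u⁻¹ * x)⁻¹ := by group
    rw [h3]
    refine Subgroup.mul_mem _ ((le_sup_left.trans le_sup_left : X0 ≤ _) hx) (Subgroup.inv_mem _ ?_)
    exact (sup_le (le_sup_right.trans le_sup_left) le_sup_right : UJ cs h X (Mv ρ n a)ᶜ ⊔
      ⁅RGD.Sup X (RGD.Pos cs h), RGD.Sup X (RGD.Pos cs h)⁆ ≤ X0 ⊔ UJ cs h X (Mv ρ n a)ᶜ ⊔
        ⁅RGD.Sup X (RGD.Pos cs h), RGD.Sup X (RGD.Pos cs h)⁆) (h1 hux)
  intro x hx
  have h3 : x ∈ ((X0 ⊔ UJ cs h X (Mv ρ n a)ᶜ : Subgroup Y) : Set Y) := h2 (VJ_le_U _ hx)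
  rw [Subgroup.coe_mul_of_right_le_normalizer_left X0 (UJ cs h X (Mv ρ n a)ᶜ)
    (((UJ_le_U _).trans (U_le_St R)).trans (X0_le_normalizer R))] at h3
  obtain ⟨x0, hx0, u, hu, e⟩ := Set.mem_mul.1 h3
  have h4 : u = x0⁻¹ * x := by rw [← e]; group
  have h5 : u = 1 := by
    have h6 : u ∈ UJ cs h X (Mv ρ n a)ᶜ ⊓ VJ cs h X (Mv ρ n a)ᶜ :=
      ⟨hu, by rw [h4]; exact (VJ cs h X (Mv ρ n a)ᶜ).mul_mem ((VJ cs h X (Mv ρ n a)ᶜ).inv_mem (le_VJ R hx0)) hx⟩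
    rw [UJ_inf_VJ R.rgd] at h6
    exact Subgroup.mem_bot.1 h6
  rw [← e]
  show x0 * u ∈ X0
  rw [h5, mul_one]
  exact hx0

end

end Cfsg.Agent.Omega.EH3.Kf.Cov
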