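import Mathlib
import Cfsg.Agent.Nodes.NormalForm
import Cfsg.Agent.KFacts.RgdPerf
import Cfsg.Agent.Omega.EH3.Kf.Cov
import Cfsg.Agent.Omega.EH3.Kf.ThmA

/-!
# EH3, Lie rows in characteristic 2: (D) of blueprints/OMEGA-EH3-KF3-helper227.md (helper134)

* `CommGen` : the non-simple positive root groups lie in `⁅U, U⁆`;
* `comm_of_gen` : this holds if the simple root groups generate `U`; `comm_of_sl` : if the root system is simply laced;
* `csum K r` : the coefficient sum of `r` on `K`;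
* `csum_le_one` (D): `O_2(P_J)` abelian, simply laced `⟹ csum K r ≤ 1` for all positive roots;
* `exists_full` : a root with full support (connected diagram); `subsingleton` : `K` has at most one element;
* `one_node` : for a simply laced `Row` with connected diagram: `Mv ρ n a = {i}`, `X0 = V_{i}ᶜ`, all coefficients at
  `i` are at most `1`.
-/

set_option autoImplicit false
set_option linter.unusedSectionVars false

namespace Cfsg.Agent.Omega.EH3.Kf.Lev

open CoxeterSystem Cfsg.Agent.ChevalleyStructure.CoxeterGeom Cfsg.Agent.Tits.Roots Cfsg.Agent.Tits.Core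
  Cfsg.Agent.Tits.RootComb Cfsg.Agent.Tits.Exchange Cfsg.Agent.Nodes.Reps Cfsg.Agent.Nodes.BNOf
  Cfsg.Agent.Nodes.StabComb Cfsg.Agent.Nodes.Bruhat Cfsg.Agent.Nodes.OppDec Cfsg.Agent.Nodes.LeviDec
  Cfsg.Agent.Nodes.Coroot Cfsg.Agent.Nodes.PosPair Cfsg.Agent.KFacts.RgdSL Cfsg.Agent.KFacts.RgdPerf
  Cfsg.Agent.Omega.EH3.Kf.Base
open scoped commutatorElement Classical

variable {I W Y : Type*} [Fintype I] [DecidableEq I] [Group W] [Group Y] {M : CoxeterMatrix I}
  {cs : CoxeterSystem M W} {A : I → I → ℤ} {h : IsCartan M A} {p : ℕ} {T : Subgroup Y} {n : I → Y}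
  {X : (I → ℤ) → Subgroup Y}

/-- The non-simple positive root groups are in the commutator subgroup of `U`. -/
def CommGen (cs : CoxeterSystem M W) (h : IsCartan M A) (X : (I → ℤ) → Subgroup Y) : Prop :=
  ∀ r, IsRoot cs h r → 0 ≤ r → (∀ i, r ≠ sr i) →
    X r ≤ ⁅RGD.Sup X (RGD.Pos cs h), RGD.Sup X (RGD.Pos cs h)⁆

/-! ### Non-simple root groups -/

/-- subtraction of a simple root in the simply laced case -/
theorem exists_sub [Finite W] (hs : SL cs h) {r : I → ℤ} (hr : IsRoot cs h r) (h0 : 0 ≤ r) (hns : ∀ i, r ≠ sr i) :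
    ∃ i, IsRoot cs h (r - sr i) ∧ 0 ≤ r - sr i ∧ A2 cs h (r - sr i) (sr i) := by
  have := Fintype.ofFinite W
  obtain ⟨i, hi0, hi⟩ := exists_pairing_pos cs h h0 hr.ne_zero
  have hsr := isRoot_sr cs h i
  have hnn : r ≠ -sr i := by
    intro h1
    have h2 := h0 i
    rw [h1, Pi.neg_apply, sr_self] at h2
    exact absurd h2 (by simp)
  have h1 := (hs.abs_le hr hsr (hns i) hnn).2
  have h2 : cpr cs h r (sr i) = 1 := by
    rw [cpr_sr] at h1 ⊢; omega
  have h3 : IsRoot cs h (r - sr i) := isRoot_sub hr hsr h2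
  obtain ⟨k, hki, hk⟩ := exists_coeff hr h0 (hns i)
  have h4 : 0 ≤ r - sr i := by
    refine nonneg_of_pos_apply h3 (k := k) ?_
    rw [Pi.sub_apply, sr_ne hki]; omega
  refine ⟨i, h3, h4, hs.a2 h3 hsr ?_⟩
  have h5 := cpr_add cs h (r - sr i) (sr i) hsr
  rw [sub_add_cancel, h2, cpr_self cs h hsr] at h5
  omega

/-- The simply laced case. -/
theorem comm_of_sl (R : RGD cs h p T n X) [Finite W] (hs : SL cs h) : CommGen cs h X := by
  intro r hr h0 hns
  obtain ⟨i, h1, h2, h3⟩ := exists_sub hs hr h0 hns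
  have := le_comm_of_comm R h3 (P := RGD.Sup X (RGD.Pos cs h)) (RGD.le_Sup ⟨h1, h2⟩)
    (RGD.le_Sup ⟨isRoot_sr cs h i, sr_nonneg i⟩)
  rwa [sub_add_cancel] at this

/-- `⁅U, U⁆ ≤ ⁅X_i, X_i⁆ V_i` -/
theorem comm_le (R : RGD cs h p T n X) [Finite W] (i : I) :
    ⁅RGD.Sup X (RGD.Pos cs h), RGD.Sup X (RGD.Pos cs h)⁆ ≤ ⁅X (sr i), X (sr i)⁆ ⊔ RGD.Sup X (RGD.PosNe cs h i) := by
  set V : Subgroup Y := RGD.Sup X (RGD.PosNe cs h i) with hV
  have hn : X (sr i) ≤ Subgroup.normalizer (V : Set Y) := R.X_le_normalizer_V i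
  have hdec : ∀ a ∈ RGD.Sup X (RGD.Pos cs h), ∃ x ∈ X (sr i), ∃ v ∈ V, a = x * v := by
    intro a ha
    rw [R.Upos_eq i] at ha
    have h1 : a ∈ ((X (sr i) ⊔ V : Subgroup Y) : Set Y) := ha
    rw [Subgroup.coe_mul_of_left_le_normalizer_right _ _ hn, Set.mem_mul] at h1
    obtain ⟨x, hx, v, hv, e⟩ := h1
    exact ⟨x, hx, v, hv, e.symm⟩
  have hc : ∀ g ∈ X (sr i), ∀ v ∈ V, g * v * g⁻¹ ∈ V := fun g hg v hv =>
    (Subgroup.mem_normalizer_iff.1 (hn hg) v).1 hv
  rw [Subgroup.commutator_le]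
  intro a ha b hb
  obtain ⟨x, hx, v, hv, rfl⟩ := hdec a ha
  obtain ⟨x', hx', v', hv', rfl⟩ := hdec b hb
  have e : ⁅x * v, x' * v'⁆ = (x * v * x⁻¹) * ((x * x') * (v' * v⁻¹) * (x * x')⁻¹) *
      ((x * x' * x⁻¹) * v'⁻¹ * (x * x' * x⁻¹)⁻¹) * ⁅x, x'⁆ := by
    rw [commutatorElement_def, commutatorElement_def]; group
  rw [e]
  refine mul_mem (Subgroup.mem_sup_right (mul_mem (mul_mem (hc _ hx _ hv) (hc _ (mul_mem hx hx') _
    (mul_mem hv' (inv_mem hv)))) (hc _ (mul_mem (mul_mem hx hx') (inv_mem hx)) _ (inv_mem hv')))) ?_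
  exact Subgroup.mem_sup_left (Subgroup.commutator_mem_commutator hx hx')

/-- If the simple root groups generate `U`, the other root groups are in `⁅U, U⁆`. -/
theorem comm_of_gen (R : RGD cs h p T n X) [Finite W]
    (hgen : RGD.Sup X (RGD.Pos cs h) ≤ ⨆ i, X (sr i)) : CommGen cs h X := by
  set U : Subgroup Y := RGD.Sup X (RGD.Pos cs h) with hU
  set C : Subgroup Y := ⁅U, U⁆ with hC
  have hCU : C ≤ U := Subgroup.commutator_le_self U
  have hXU : ∀ i, X (sr i) ≤ U := fun i => RGD.le_Sup ⟨isRoot_sr cs h i, sr_nonneg i⟩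
  intro r hr h0 hns
  -- removing the simple root groups one by one
  have key : ∀ S : Finset I, X r ≤ C ⊔ ⨆ j : {j : I // j ∉ S}, X (sr j.1) := by
    intro S
    induction S using Finset.induction_on with
    | empty =>
      refine le_trans (RGD.le_Sup (S := RGD.Pos cs h) ⟨hr, h0⟩) (le_trans hgen (le_sup_of_le_right ?_))
      exact iSup_le fun i => le_iSup (fun j : {j : I // j ∉ (∅ : Finset I)} => X (sr j.1)) ⟨i, by simp⟩
    | insert i S hi ih =>
      set H : Subgroup Y := C ⊔ ⨆ j : {j : I // j ∉ insert i S}, X (sr j.1) with hH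
      have hHU : H ≤ U := sup_le hCU (iSup_le fun j => hXU j.1)
      have hnH : X (sr i) ≤ Subgroup.normalizer (H : Set Y) := by
        intro g hg
        have hconj : ∀ g ∈ U, ∀ y ∈ H, g * y * g⁻¹ ∈ H := by
          intro g hg y hy
          have : g * y * g⁻¹ = ⁅g, y⁆ * y := by rw [commutatorElement_def]; group
          rw [this]
          exact mul_mem (Subgroup.mem_sup_left (Subgroup.commutator_mem_commutator hg (hHU hy))) hy
        rw [Subgroup.mem_normalizer_iff]
        intro y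
        refine ⟨hconj g (hXU i hg) y, fun hy => ?_⟩
        have := hconj g⁻¹ (inv_mem (hXU i hg)) _ hy
        have e : g⁻¹ * (g * y * g⁻¹) * g⁻¹⁻¹ = y := by group
        rwa [e] at this
      have hle : C ⊔ ⨆ j : {j : I // j ∉ S}, X (sr j.1) ≤ X (sr i) ⊔ H := by
        refine sup_le (le_sup_of_le_right le_sup_left) (iSup_le fun j => ?_)
        by_cases hj : j.1 = i
        · rw [hj]; exact le_sup_left
        · refine le_sup_of_le_right (le_sup_of_le_right ?_)
          exact le_iSup (fun j : {j : I // j ∉ insert i S} => X (sr j.1)) ⟨j.1, by simp [hj, j.2]⟩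
      -- `H ≤ ⁅X_i, X_i⁆ V_i`
      set V : Subgroup Y := RGD.Sup X (RGD.PosNe cs h i) with hV
      have hHV : H ≤ ⁅X (sr i), X (sr i)⁆ ⊔ V := by
        refine sup_le (comm_le R i) (iSup_le fun j => le_sup_of_le_right (RGD.le_Sup ?_))
        refine ⟨isRoot_sr cs h _, sr_nonneg _, fun h1 => j.2 ?_⟩
        have h2 := congrFun h1 j.1
        by_contra hne
        rw [sr_self, sr_ne (fun h3 => hne (by rw [h3]; simp))] at h2
        exact one_ne_zero h2
      intro d hd
      have h1 : d ∈ ((X (sr i) ⊔ H : Subgroup Y) : Set Y) := hle (ih hd)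
      rw [Subgroup.coe_mul_of_left_le_normalizer_right _ _ hnH, Set.mem_mul] at h1
      obtain ⟨x, hx, y, hy, rfl⟩ := h1
      have hdV : x * y ∈ V := RGD.le_Sup (S := RGD.PosNe cs h i) ⟨hr, h0, hns i⟩ hd
      have h2 : x ∈ ⁅X (sr i), X (sr i)⁆ ⊔ V := by
        have : x = (x * y) * y⁻¹ := by group
        rw [this]
        exact mul_mem (Subgroup.mem_sup_right hdV) (inv_mem (hHV hy))
      have h3 : x ∈ ((⁅X (sr i), X (sr i)⁆ ⊔ V : Subgroup Y) : Set Y) := h2
      rw [Subgroup.coe_mul_of_left_le_normalizer_right _ _ (le_trans (Subgroup.commutator_le_self _)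
        (R.X_le_normalizer_V i)), Set.mem_mul] at h3
      obtain ⟨c, hc, v, hv, e⟩ := h3
      have hcX : c ∈ X (sr i) := Subgroup.commutator_le_self _ hc
      have h4 : v = 1 := by
        refine eq_one_of_mem_PosNe R (i := i) ?_ hv
        have : v = c⁻¹ * x := by rw [← e]; group
        rw [this]
        exact mul_mem (inv_mem hcX) hx
      rw [h4, mul_one] at e
      subst e
      exact mul_mem (Subgroup.mem_sup_left (Subgroup.commutator_mono (hXU i) (hXU i) hc)) hy
  refine le_trans (key Finset.univ) (sup_le le_rfl (iSup_le fun j => absurd (Finset.mem_univ j.1) j.2))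

/-! ### (D) -/

/-- the coefficient sum on `K` -/
noncomputable def csum (K : Set I) (r : I → ℤ) : ℤ := ∑ k, if k ∈ K then r k else 0

theorem csum_sub (K : Set I) (r s : I → ℤ) : csum K (r - s) = csum K r - csum K s := by
  unfold csum
  rw [← Finset.sum_sub_distrib]
  refine Finset.sum_congr rfl fun k _ => ?_
  split_ifs <;> simp

theorem csum_sr (K : Set I) (i : I) : csum K (sr i) = if i ∈ K then 1 else 0 := by
  unfold csum
  rw [Finset.sum_eq_single i]
  · rw [sr_self]
  · intro k _ hk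
    rw [sr_ne hk]; simp
  · intro h1; exact absurd (Finset.mem_univ i) h1

theorem csum_nonneg {K : Set I} {r : I → ℤ} (h0 : 0 ≤ r) : 0 ≤ csum K r :=
  Finset.sum_nonneg fun k _ => by split_ifs; exacts [h0 k, le_rfl]

theorem mem_NotJ_of_csum {K : Set I} {r : I → ℤ} (hr : IsRoot cs h r) (h0 : 0 ≤ r) (h1 : 0 < csum K r) :
    r ∈ NotJ cs h Kᶜ := by
  refine ⟨hr, h0, ?_⟩
  by_contra hcon
  push Not at hcon
  have h2 : csum K r = 0 := by
    unfold csum
    refine Finset.sum_eq_zero fun k _ => ?_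
    split_ifs with hk
    · exact le_antisymm (hcon k (fun h3 => h3 hk)) (h0 k)
    · rfl
  omega

theorem csum_pos {K : Set I} {r : I → ℤ} (hr : r ∈ NotJ cs h Kᶜ) : 0 < csum K r := by
  obtain ⟨-, h0, k, hk, hk0⟩ := hr
  have hkK : k ∈ K := not_not.1 hk
  refine lt_of_lt_of_le hk0 ?_
  have h1 := Finset.single_le_sum (s := Finset.univ) (f := fun k => if k ∈ K then r k else 0)
    (fun k _ => by split_ifs; exacts [h0 k, le_rfl]) (Finset.mem_univ k)
  simp only [hkK, if_true] at h1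
  exact h1

theorem single_le_csum {K : Set I} {r : I → ℤ} (h0 : 0 ≤ r) {k : I} (hk : k ∈ K) : r k ≤ csum K r := by
  have h1 := Finset.single_le_sum (s := Finset.univ) (f := fun k => if k ∈ K then r k else 0)
    (fun k _ => by split_ifs; exacts [h0 k, le_rfl]) (Finset.mem_univ k)
  simp only [hk, if_true] at h1
  exact h1

theorem add_le_csum {K : Set I} {r : I → ℤ} (h0 : 0 ≤ r) {k l : I} (hk : k ∈ K) (hl : l ∈ K) (hkl : k ≠ l) :
    r k + r l ≤ csum K r := by
  have h1 := Finset.add_le_sum (s := Finset.univ) (f := fun k => if k ∈ K then r k else 0)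
    (fun k _ => by split_ifs; exacts [h0 k, le_rfl]) (Finset.mem_univ k) (Finset.mem_univ l) hkl
  simp only [hk, hl, if_true] at h1
  exact h1

/-- **(D)** `O_2(P_J)` abelian, simply laced: the coefficient sum on `K = Jᶜ` of every positive root is at most `1`. -/
theorem csum_le_one (R : RGD cs h p T n X) [Finite W] (hs : SL cs h) {K : Set I}
    (hab : ∀ u ∈ VJ cs h X Kᶜ, ∀ v ∈ VJ cs h X Kᶜ, u * v = v * u) {r : I → ℤ} (hr : IsRoot cs h r) (h0 : 0 ≤ r) :
    csum K r ≤ 1 := by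
  have key : ∀ (N : ℕ) (r : I → ℤ), IsRoot cs h r → 0 ≤ r → ht r ≤ N → csum K r ≤ 1 := by
    intro N
    induction N with
    | zero =>
      intro r hr h0 hN
      have := sum_pos h0 hr.ne_zero
      simp only [Nat.cast_zero] at hN
      omega
    | succ N ih =>
      intro r hr h0 hN
      by_cases hns : ∃ i, r = sr i
      · obtain ⟨i, rfl⟩ := hns
        rw [csum_sr]; split_ifs <;> norm_num
      push Not at hns
      obtain ⟨i, h1, h2, h3⟩ := exists_sub hs hr h0 hns
      have hht : ht (r - sr i) ≤ N := by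
        have e : ht r = ht (r - sr i) + ht (sr i) := by rw [← RGD.ht_add, sub_add_cancel]
        have e2 := sum_pos (sr_nonneg i) (sr_ne_zero i)
        push_cast at hN
        omega
      have h4 := ih _ h1 h2 hht
      have h5 := csum_sub K r (sr i)
      rw [csum_sr] at h5
      by_cases hi : i ∈ K
      · rw [if_pos hi] at h5
        by_contra hcon
        have h6 : r - sr i ∈ NotJ cs h Kᶜ := mem_NotJ_of_csum h1 h2 (by omega)
        have h7 : (sr i : I → ℤ) ∈ NotJ cs h Kᶜ := sr_mem_NotJ (fun h8 => h8 hi)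
        obtain ⟨w, hw, hw1⟩ := exists_ne R hr
        obtain ⟨u, hu, hu1⟩ := exists_ne R h1
        obtain ⟨v, hv, e⟩ := A2.comm_surj R h3 hu hu1 (w := w) (by rwa [sub_add_cancel])
        apply hw1
        rw [← e, commutatorElement_eq_one_iff_mul_comm]
        exact hab u (RGD.le_Sup h6 hu) v (RGD.le_Sup h7 hv)
      · rw [if_neg hi] at h5; omega
  obtain ⟨N, hN⟩ := Int.eq_ofNat_of_zero_le (sum_pos h0 hr.ne_zero).le
  exact key N r hr h0 (by rw [hN])

/-- a root with full support -/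
theorem exists_full [Finite W] [Nonempty I]
    (hconn : ∀ J : Set I, J.Nonempty → J ≠ Set.univ → ∃ a ∈ J, ∃ b, b ∉ J ∧ M a b ≠ 2) :
    ∃ r, IsRoot cs h r ∧ ∀ k, 0 < r k := by
  have hfin : (RGD.Pos cs h).Finite := (RGD.finite_roots (cs := cs) (h := h)).subset fun x hx => hx.1
  obtain ⟨i0⟩ := ‹Nonempty I›
  obtain ⟨r, ⟨hr, h0⟩, hmax⟩ := hfin.exists_maximalFor ht _ ⟨sr i0, isRoot_sr cs h i0, sr_nonneg i0⟩
  have hdom : ∀ j, 0 ≤ pairing A j r := by
    intro j
    by_contra hcon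
    push Not at hcon
    have hne : r ≠ sr j := by
      rintro rfl
      have h1 : pairing A j (sr j) = 2 := by
        have h2 := cpr_sr cs h (sr j) j
        rw [cpr_self cs h (isRoot_sr cs h j)] at h2
        exact h2.symm
      omega
    have h1 : rep cs h (cs.simple j) r ∈ RGD.Pos cs h := ⟨hr.act _, hr.simple_nonneg h0 j hne⟩
    have h2 : ht (rep cs h (cs.simple j) r) = ht r - pairing A j r * ht (sr j) := by
      rw [rep_simple_eq, sub_eq_add_neg, ← neg_smul, RGD.ht_add, RGD.ht_smul]; ring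
    have h3 := sum_pos (sr_nonneg j) (sr_ne_zero j)
    have h4 := hmax h1 (by rw [h2]; nlinarith)
    rw [h2] at h4
    nlinarith
  refine ⟨r, hr, fun k => ?_⟩
  by_contra hk
  have hk0 : r k = 0 := le_antisymm (not_lt.1 hk) (h0 k)
  obtain ⟨i1, hi1, -⟩ := by
    have := Fintype.ofFinite W
    exact exists_pairing_pos cs h h0 hr.ne_zero
  obtain ⟨a, ha, b, hb, hM⟩ := hconn {j | 0 < r j} ⟨i1, hi1⟩ (fun h1 => hk (by
    have : k ∈ {j | 0 < r j} := by rw [h1]; trivial
    exact this))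
  have hb0 : r b = 0 := le_antisymm (not_lt.1 hb) (h0 b)
  exact absurd (hdom b) (not_le.2 (pairing_neg h h0 hb0 ha (fun h1 => hM (by rw [M.symmetric]; exact h1))))

/-- `K` has at most one element. -/
theorem subsingleton [Finite W]
    (hconn : ∀ J : Set I, J.Nonempty → J ≠ Set.univ → ∃ a ∈ J, ∃ b, b ∉ J ∧ M a b ≠ 2) {K : Set I}
    (hK : ∀ r, IsRoot cs h r → 0 ≤ r → csum K r ≤ 1) {k l : I} (hk : k ∈ K) (hl : l ∈ K) : k = l := by
  by_contra hkl
  have : Nonempty I := ⟨k⟩
  obtain ⟨r, hr, h0⟩ := exists_full (cs := cs) (h := h) hconn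
  have h1 := hK r hr (fun j => (h0 j).le)
  have h2 := add_le_csum (fun j => (h0 j).le) hk hl hkl
  have h3 := h0 k
  have h4 := h0 l
  omega

/-! ### For a `Row` -/

section Row

variable {V : Type*} [AddCommGroup V] [Module (ZMod 2) V] {ρ : Y →* (V ≃ₗ[ZMod 2] V)}
  {b : LinearMap.BilinForm (ZMod 2) V} {a : V} {D : Submodule (ZMod 2) V} {X0 : Subgroup Y} {w : ℕ}

/-- some node moves `a` -/
theorem exists_mv [Finite W] (R : Row cs h T n X ρ b a D X0 w) : (Mv ρ n a).Nonempty := by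
  by_contra hcon
  rw [Set.not_nonempty_iff_eq_empty] at hcon
  have h1 : Cov.St ρ a = ⊤ := by
    rw [Cov.St_eq R, hcon, Set.compl_empty]
    rw [eq_top_iff, ← R.gen]
    rw [← LJ_univ]
    exact LJ_le_PJ
  have h2 : ∀ g, ρ g a = a := fun g => by
    have : g ∈ Cov.St ρ a := by rw [h1]; trivial
    exact this
  have h3 := R.span
  have h4 : (Set.range fun g => ρ g a) = {a} := by
    ext v
    constructor
    · rintro ⟨g, rfl⟩
      exact h2 g
    · rintro rfl
      exact ⟨1, h2 1⟩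
  rw [h4] at h3
  apply R.a_ne
  apply R.nondeg
  intro u
  have h5 : u ∈ Submodule.span (ZMod 2) {a} := by rw [h3]; trivial
  obtain ⟨c, rfl⟩ := Submodule.mem_span_singleton.1 h5
  rw [map_smul, R.b_self, smul_zero]

/-- **(C) + (D) for a simply laced row with connected diagram.** -/
theorem one_node [Finite W] [Finite Y] (R : Row cs h T n X ρ b a D X0 w) (hs : SL cs h)
    (hconn : ∀ J : Set I, J.Nonempty → J ≠ Set.univ → ∃ a ∈ J, ∃ b, b ∉ J ∧ M a b ≠ 2) :
    ∃ i, Mv ρ n a = {i} ∧ X0 = VJ cs h X {i}ᶜ ∧ ∀ r, IsRoot cs h r → 0 ≤ r → r i ≤ 1 := by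
  have hC : X0 = VJ cs h X (Mv ρ n a)ᶜ :=
    Cov.eq_VJ R (fun u hu => ThmA.thmA R.core le_rfl u hu) (comm_of_sl R.rgd hs)
  have hD : ∀ r, IsRoot cs h r → 0 ≤ r → csum (Mv ρ n a) r ≤ 1 := fun r hr h0 =>
    csum_le_one R.rgd hs (K := Mv ρ n a) (by
      rw [← hC]
      exact fun u hu v hv => Cov.comm_X0 R hu hv) hr h0
  obtain ⟨i, hi⟩ := exists_mv R
  have hK : Mv ρ n a = {i} := by
    ext j
    exact ⟨fun hj => subsingleton hconn hD hj hi, by rintro rfl; exact hi⟩
  refine ⟨i, hK, by rw [← hK]; exact hC, fun r hr h0 => ?_⟩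
  exact le_trans (single_le_csum h0 hi) (hD r hr h0)

end Row

end Cfsg.Agent.Omega.EH3.Kf.Lev
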