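import Mathlib
import Cfsg.Agent.Omega.EH3.Kf.Lev

/-!
# EH3, Lie rows in characteristic 2: (E) of blueprints/OMEGA-EH3-KF3-helper227.md (helper134)

* `exists_cell` : some `k` over some `w` has `b a (k a) = 1`;
* `opp` (E): if `X r ≤ X0` for the roots `r` of `V_J`, then `w⁻¹` maps them to negatives of such roots.
-/

set_option autoImplicit false
set_option linter.unusedSectionVars false

namespace Cfsg.Agent.Omega.EH3.Kf.Opp

open CoxeterSystem Cfsg.Agent.ChevalleyStructure.CoxeterGeom Cfsg.Agent.Tits.Roots Cfsg.Agent.Tits.Core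
  Cfsg.Agent.Tits.RootComb Cfsg.Agent.Tits.Exchange Cfsg.Agent.Nodes.Reps Cfsg.Agent.Nodes.BNOf
  Cfsg.Agent.Nodes.StabComb Cfsg.Agent.Nodes.Bruhat Cfsg.Agent.Nodes.OppDec Cfsg.Agent.Nodes.LeviDec
  Cfsg.Agent.Nodes.Coroot Cfsg.Agent.Nodes.PosPair Cfsg.Agent.KFacts.RgdSL Cfsg.Agent.KFacts.RgdPerf
  Cfsg.Agent.Omega.EH3.Kf.Base Cfsg.Agent.Omega.EH3.Kf.Nm
open scoped commutatorElement

variable {I W Y V : Type*} [Fintype I] [DecidableEq I] [Group W] [Group Y] [AddCommGroup V] [Module (ZMod 2) V]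
  {M : CoxeterMatrix I} {cs : CoxeterSystem M W} {A : I → I → ℤ} {h : IsCartan M A} {T : Subgroup Y} {n : I → Y}
  {X : (I → ℤ) → Subgroup Y} {ρ : Y →* (V ≃ₗ[ZMod 2] V)}
  {b : LinearMap.BilinForm (ZMod 2) V} {a : V} {D : Submodule (ZMod 2) V} {X0 : Subgroup Y} {w0 : ℕ}

/-- some `k` over some `w` moves `a` off `a^⊥` -/
theorem exists_cell [Finite W] (R : Row cs h T n X ρ b a D X0 w0) :
    ∃ w k, Rp cs R.rgd.nsys w k ∧ b a (ρ k a) = 1 := by
  have h1 : ∃ g, b a (ρ g a) ≠ 0 := by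
    by_contra hcon
    push Not at hcon
    apply R.a_ne
    apply R.nondeg
    intro u
    have hu : u ∈ Submodule.span (ZMod 2) (Set.range fun g => ρ g a) := by rw [R.span]; trivial
    induction hu using Submodule.span_induction with
    | mem x hx => obtain ⟨g, rfl⟩ := hx; exact hcon g
    | zero => exact map_zero _
    | add x y _ _ h1 h2 => rw [map_add, h1, h2, add_zero]
    | smul c x _ h1 => rw [map_smul, h1, smul_zero]
  obtain ⟨g, hg⟩ := h1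
  obtain ⟨w, b₁, hb₁, k, hk, b₂, hb₂, rfl⟩ := (mem_GG R.rgd).1 (show g ∈ GG cs h T X by rw [R.gen]; trivial)
  refine ⟨w, k, hk, ?_⟩
  have h2 : b a (ρ (b₁ * k * b₂) a) = b a (ρ k a) := by
    have h3 := R.b_inv b₁ a (ρ k a)
    rw [R.fixB b₁ hb₁] at h3
    rw [rho_mul, rho_mul, R.fixB b₂ hb₂, h3]
  rw [h2] at hg
  have h4 : ∀ c : ZMod 2, c ≠ 0 → c = 1 := by decide
  exact h4 _ hg

theorem PJ_fix [Finite W] (R : Row cs h T n X ρ b a D X0 w0) {g : Y} (hg : g ∈ PJ cs h T X (Mv ρ n a)ᶜ) :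
    ρ g a = a := by
  rw [← Cov.St_eq R] at hg
  exact hg

/-- **(E)** -/
theorem opp [Finite W] (R : Row cs h T n X ρ b a D X0 w0)
    {S : Set (I → ℤ)} (hS : ∀ r ∈ S, IsRoot cs h r ∧ ∃ u ∈ X r, u ∈ X0 ∧ u ≠ 1) :
    ∃ w k, Rp cs R.rgd.nsys w k ∧ b a (ρ k a) = 1 ∧
      ∀ r ∈ S, -(rep cs h w⁻¹ r) ∈ NotJ cs h (Mv ρ n a)ᶜ := by
  obtain ⟨w, k, hk, h1⟩ := exists_cell R
  refine ⟨w, k, hk, h1, fun r hr => ?_⟩
  obtain ⟨hrr, u, hu, hu0, hu1⟩ := hS r hr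
  set z : I → ℤ := rep cs h w⁻¹ r with hz
  have hzr : IsRoot cs h z := hrr.act _
  have h2 : k⁻¹ * u * k ∈ X z := R.rgd.conj_mem' hk hrr hu
  -- `X z` does not fix `a`
  have h3 : ρ (k⁻¹ * u * k) a ≠ a := by
    intro h4
    apply hu1
    refine R.semi u hu0 _ h1 ?_
    have h5 : u * k = k * (k⁻¹ * u * k) := by group
    rw [← rho_mul, h5, rho_mul, h4]
  have h4 : ¬ X z ≤ PJ cs h T X (Mv ρ n a)ᶜ := fun h5 => h3 (PJ_fix R (h5 h2))
  rcases hzr.pos_or_neg with h5 | h5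
  · exact absurd (le_trans (RGD.X_le_B hzr h5) B_le_PJ) h4
  · rcases mem_PosJ_or_NotJ (Mv ρ n a)ᶜ hzr.neg (neg_nonneg.2 h5) with h6 | h6
    · exfalso
      apply h4
      have h7 : z ∈ RootsJ cs h (Mv ρ n a)ᶜ := by
        have := RootsJ.neg (PosJ_subset _ h6)
        rwa [neg_neg] at this
      exact le_trans (X_le_LJ h7) LJ_le_PJ
    · exact h6

end Cfsg.Agent.Omega.EH3.Kf.Opp
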