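import Mathlib
import Cfsg.Agent.Omega.EH3.Kf.Opp
import Cfsg.Agent.Omega.EH3.Kf.Node
import Cfsg.Agent.Nodes.SubComb

/-!
# EH3, Lie rows in characteristic 2: (F) of blueprints/OMEGA-EH3-KF3-helper227.md (helper134)

* `Lv a b D k v` : the filtration `V ≥ a^⊥ ≥ D ≥ ⟨a⟩ ≥ 0`; `lv_dl` : `x - 1` goes one step down for `x ∈ X0`;
* `lv_nm` : the norm of a subgroup of order `2 ^ m` of `X0` goes `m` steps down;
* `exists_m` : `∃ m ∈ ⟨X b, X (-b)⟩, Nm (X b) (m a) = a` for `b` conjugate under `W_J` to a moved node;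
* `sum_le_three` (F): commuting root groups `X b ≤ X0` of this kind: the sum of the ranks is at most `3`;
* `exists_conj` : simply laced, all coefficients at `i` at most `1`: every root with `x i = 1` is `W_J`-conjugate to
  `α_i`;
* `nodeOK` : the result (C), (D), (E), (F) for simply laced rows.
-/

set_option autoImplicit false
set_option linter.unusedSectionVars false

namespace Cfsg.Agent.Omega.EH3.Kf.Orth

open CoxeterSystem Cfsg.Agent.ChevalleyStructure.CoxeterGeom Cfsg.Agent.Tits.Roots Cfsg.Agent.Tits.Core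
  Cfsg.Agent.Tits.RootComb Cfsg.Agent.Tits.Exchange Cfsg.Agent.Nodes.Reps Cfsg.Agent.Nodes.BNOf
  Cfsg.Agent.Nodes.StabComb Cfsg.Agent.Nodes.Bruhat Cfsg.Agent.Nodes.OppDec Cfsg.Agent.Nodes.LeviDec
  Cfsg.Agent.Nodes.Coroot Cfsg.Agent.Nodes.PosPair Cfsg.Agent.KFacts.RgdSL Cfsg.Agent.KFacts.RgdPerf
  Cfsg.Agent.Nodes.SubComb
  Cfsg.Agent.Omega.EH3.Kf.Base Cfsg.Agent.Omega.EH3.Kf.Nm Cfsg.Agent.Omega.EH3.Kf.Node
open scoped commutatorElement

variable {I W Y V : Type*} [Fintype I] [DecidableEq I] [Group W] [Group Y] [AddCommGroup V] [Module (ZMod 2) V]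
  {M : CoxeterMatrix I} {cs : CoxeterSystem M W} {A : I → I → ℤ} {h : IsCartan M A} {T : Subgroup Y} {n : I → Y}
  {X : (I → ℤ) → Subgroup Y} {ρ : Y →* (V ≃ₗ[ZMod 2] V)}
  {b : LinearMap.BilinForm (ZMod 2) V} {a : V} {D : Submodule (ZMod 2) V} {X0 : Subgroup Y} {w0 : ℕ}

/-! ### The filtration -/

/-- `V ≥ a^⊥ ≥ D ≥ ⟨a⟩ ≥ 0` -/
def Lv (b : LinearMap.BilinForm (ZMod 2) V) (a : V) (D : Submodule (ZMod 2) V) : ℕ → V → Prop
  | 0, _ => True
  | 1, v => b a v = 0
  | 2, v => v ∈ D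
  | 3, v => v = 0 ∨ v = a
  | _ + 4, v => v = 0

theorem dl_comp (x : Y) (v : V) : dl ρ x v = ρ x v + v := rfl

theorem lv_dl (R : Row cs h T n X ρ b a D X0 w0) {x : Y} (hx : x ∈ X0) {k : ℕ} {v : V} (hv : Lv b a D k v) :
    Lv b a D (k + 1) (dl ρ x v) := by
  match k, hv with
  | 0, _ => exact R.one x hx v
  | 1, hv => exact R.two x hx v hv
  | 2, hv => exact R.three x hx v hv
  | 3, hv =>
    show dl ρ x v = 0
    have hx1 : ρ x a = a := R.fixB x (RGD.U_le_B (R.le hx))
    have hvv : ∀ v : V, v + v = 0 := fun v => by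
      have : v + v = (2 : ZMod 2) • v := by rw [two_smul]
      rw [this, show (2 : ZMod 2) = 0 from rfl, zero_smul]
    rcases hv with rfl | rfl
    · unfold dl; rw [map_zero, add_zero]
    · unfold dl; rw [hx1, hvv]
  | k + 4, hv =>
    have hv' : v = 0 := hv
    show dl ρ x v = 0
    rw [hv']; unfold dl; rw [map_zero, add_zero]

/-- the norm of a subgroup of index two -/
theorem nm_index_two [Finite Y] {H H' : Subgroup Y} (hle : H' ≤ H) {x : Y} (hx : x ∈ H) (hx' : x ∉ H')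
    (hcov : ∀ g ∈ H, g ∈ H' ∨ x⁻¹ * g ∈ H') (v : V) : Nm ρ H v = dl ρ x (Nm ρ H' v) := by
  classical
  unfold Nm dl
  rw [map_sum]
  have e1 : fs H = fs H' ∪ (fs H').image (fun g => x * g) := by
    ext g
    rw [Finset.mem_union, Finset.mem_image, mem_fs, mem_fs]
    constructor
    · intro hg
      rcases hcov g hg with h1 | h1
      · exact Or.inl h1
      · exact Or.inr ⟨x⁻¹ * g, mem_fs.2 h1, by group⟩
    · rintro (h1 | ⟨g', h1, rfl⟩)
      · exact hle h1
      · exact mul_mem hx (hle (mem_fs.1 h1))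
  have e2 : Disjoint (fs H') ((fs H').image (fun g => x * g)) := by
    rw [Finset.disjoint_left]
    intro g h1 h2
    obtain ⟨g', h3, rfl⟩ := Finset.mem_image.1 h2
    apply hx'
    have : x = (x * g') * g'⁻¹ := by group
    rw [this]
    exact mul_mem (mem_fs.1 h1) (inv_mem (mem_fs.1 h3))
  rw [e1, Finset.sum_union e2, Finset.sum_image (fun g _ g' _ e => mul_left_cancel e), add_comm]
  congr 1
  exact Finset.sum_congr rfl fun g _ => rho_mul x g v

/-- the norm of a subgroup of order `2 ^ m` of `X0` -/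
theorem lv_nm [Finite Y] (R : Row cs h T n X ρ b a D X0 w0) (m : ℕ) : ∀ {H : Subgroup Y}, H ≤ X0 → Nat.card H = 2 ^ m →
    ∀ {k : ℕ} {v : V}, Lv b a D k v → Lv b a D (k + m) (Nm ρ H v) := by
  induction m with
  | zero =>
    intro H _ hc k v hv
    rw [pow_zero, Subgroup.card_eq_one] at hc
    subst hc
    rw [ThmA.nm_bot]
    exact hv
  | succ m ih =>
    intro H hH hc k v hv
    have : Fact (Nat.Prime 2) := ⟨Nat.prime_two⟩
    obtain ⟨H1, hH1⟩ := Sylow.exists_subgroup_card_pow_prime (G := H) 2 (n := m) (by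
      rw [hc]; exact pow_dvd_pow 2 (Nat.le_succ m))
    set H' : Subgroup Y := H1.map H.subtype with hH'
    have hle : H' ≤ H := by rintro x ⟨y, -, rfl⟩; exact y.2
    have hc' : Nat.card H' = 2 ^ m := by
      rw [hH', Subgroup.card_map_of_injective H.subtype_injective, hH1]
    have hidx : H1.index = 2 := by
      have h1 := H1.card_mul_index
      rw [hH1, hc, pow_succ] at h1
      exact Nat.eq_of_mul_eq_mul_left (by positivity) h1
    have hne : H1 ≠ ⊤ := by
      rintro rfl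
      rw [Subgroup.index_top] at hidx
      omega
    obtain ⟨x, hx⟩ : ∃ x, x ∉ H1 := by
      by_contra hcon
      push Not at hcon
      exact hne (eq_top_iff.2 fun x _ => hcon x)
    have hxH' : (x : Y) ∉ H' := by
      rintro ⟨y, hy, e⟩
      exact hx (by rwa [← Subtype.ext e])
    rw [nm_index_two hle x.2 hxH' ?_ v]
    · have h1 := ih (le_trans hle hH) hc' hv
      have h2 := lv_dl R (hH x.2) h1
      rwa [← add_assoc]
    · intro g hg
      by_cases h1 : (⟨g, hg⟩ : H) ∈ H1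
      · exact Or.inl ⟨⟨g, hg⟩, h1, rfl⟩
      · right
        have h2 : x⁻¹ * ⟨g, hg⟩ ∈ H1 := by
          rw [Subgroup.mul_mem_iff_of_index_two hidx]
          constructor
          · intro h3; exact absurd (by simpa using h3) hx
          · intro h3; exact absurd h3 h1
        exact ⟨_, h2, rfl⟩

/-! ### The elements `m` -/

/-- `m ∈ ⟨X b, X (-b)⟩` with `Nm (X b) (m a) = a` -/
theorem exists_m [Finite W] [Finite Y] (R : Row cs h T n X ρ b a D X0 w0) {v : W} (hv : v ∈ WJ cs (Mv ρ n a)ᶜ) {i : I}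
    (hi : i ∈ Mv ρ n a) : ∃ m ∈ X (rep cs h v (sr i)) ⊔ X (-rep cs h v (sr i)),
      Nm ρ (X (rep cs h v (sr i))) (ρ m a) = a := by
  obtain ⟨g, hg⟩ := exists_rp cs R.rgd.nsys v
  have hga : ρ g a = a := Opp.PJ_fix R (LJ_le_PJ (rp_mem_LJ R.rgd hv hg))
  have hsr := isRoot_sr cs h i
  obtain ⟨u, hu, hu1⟩ := exists_ne R.rgd hsr.neg
  obtain ⟨c, hc, t, ht, d, hd, e⟩ := R.rgd.rk1 i u hu hu1
  have hta : ρ t a = a := R.fixB t (RGD.T_le_B ht)
  have hcj : ∀ z ∈ X (sr i), g * z * g⁻¹ ∈ X (rep cs h v (sr i)) := fun z hz => R.rgd.conj_mem hg hsr hz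
  have hcj' : g * u * g⁻¹ ∈ X (-rep cs h v (sr i)) := by
    have := R.rgd.conj_mem hg hsr.neg hu
    rwa [map_neg] at this
  refine ⟨g * (t * n i) * g⁻¹, ?_, ?_⟩
  · have h1 : g * (t * n i) * g⁻¹ = (g * c * g⁻¹)⁻¹ * (g * u * g⁻¹) * (g * d * g⁻¹)⁻¹ := by rw [e]; group
    rw [h1]
    exact mul_mem (mul_mem (inv_mem (Subgroup.mem_sup_left (hcj c hc))) (Subgroup.mem_sup_right hcj'))
      (inv_mem (Subgroup.mem_sup_left (hcj d hd)))
  · have h1 : ρ (g * (t * n i) * g⁻¹) a = ρ g (ρ t (ρ (n i) a)) := by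
      rw [rho_mul, rho_mul, rho_mul, fix_inv hga]
    rw [h1, Nm.conj (H := X (sr i)) (g := g) hcj (fun z hz => ?_),
      Nm.conj (H := X (sr i)) (g := t) (fun z hz => ?_) (fun z hz => ?_), ThmA.nm_simple R.core hi, hta, hga]
    · have h2 := R.rgd.tor _ hsr t ht
      have : t * z * t⁻¹ ∈ cj t (X (sr i)) := conj_mem_cj.2 hz
      rwa [h2] at this
    · have h2 := R.rgd.tor _ hsr t⁻¹ (inv_mem ht)
      have : t⁻¹ * z * t⁻¹⁻¹ ∈ cj t⁻¹ (X (sr i)) := conj_mem_cj.2 hz
      rwa [h2, inv_inv] at this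
    · have h2 := R.rgd.conj_mem' hg (hsr.act v) hz
      rwa [rep_inv_apply] at h2

/-- the norms of a list of subgroups -/
noncomputable def nmL (ρ : Y →* (V ≃ₗ[ZMod 2] V)) [Finite Y] (L : List (Subgroup Y)) (v : V) : V :=
  L.foldr (fun H u => Nm ρ H u) v

theorem nm_comm [Finite Y] {H : Subgroup Y} {m : Y} (hm : ∀ u ∈ H, m * u = u * m) (v : V) :
    Nm ρ H (ρ m v) = ρ m (Nm ρ H v) := by
  refine Nm.conj (fun u hu => ?_) (fun u hu => ?_) v
  · rw [hm u hu]
    have : u * m * m⁻¹ = u := by group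
    rwa [this]
  · have : m⁻¹ * u * m = u := by rw [mul_assoc, ← hm u hu]; group
    rwa [this]

theorem nmL_comm [Finite Y] {L : List (Subgroup Y)} {m : Y} (hm : ∀ H ∈ L, ∀ u ∈ H, m * u = u * m) (v : V) :
    nmL ρ L (ρ m v) = ρ m (nmL ρ L v) := by
  induction L with
  | nil => rfl
  | cons H L ih =>
    show Nm ρ H (nmL ρ L (ρ m v)) = ρ m (Nm ρ H (nmL ρ L v))
    rw [ih fun H' hH' => hm H' (List.mem_cons_of_mem _ hH'), nm_comm (hm H List.mem_cons_self)]

/-- **(F)** : commuting root groups. -/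
theorem sum_le_three [Finite W] [Finite Y] (R : Row cs h T n X ρ b a D X0 w0) (L : List (I → ℤ)) (m : (I → ℤ) → ℕ)
    (hL : ∀ x ∈ L, ∃ v ∈ WJ cs (Mv ρ n a)ᶜ, ∃ i ∈ Mv ρ n a, x = rep cs h v (sr i))
    (hX : ∀ x ∈ L, X x ≤ X0) (hc : ∀ x ∈ L, Nat.card (X x) = 2 ^ m x)
    (hp : L.Pairwise fun x y => ∀ u ∈ X x ⊔ X (-x), ∀ v ∈ X y, u * v = v * u) : (L.map m).sum ≤ 3 := by
  have key : ∃ v, nmL ρ (L.map X) v = a := by
    clear hX hc
    induction L with
    | nil => exact ⟨a, rfl⟩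
    | cons x L ih =>
      obtain ⟨v, hv⟩ := ih (fun y hy => hL y (List.mem_cons_of_mem _ hy)) (List.pairwise_cons.1 hp).2
      obtain ⟨w, hw, i, hi, e⟩ := hL x List.mem_cons_self
      obtain ⟨g, hg, hg2⟩ := exists_m R hw hi
      rw [← e] at hg hg2
      refine ⟨ρ g v, ?_⟩
      show Nm ρ (X x) (nmL ρ (L.map X) (ρ g v)) = a
      rw [nmL_comm, hv, hg2]
      intro H hH u hu
      obtain ⟨y, hy, rfl⟩ := List.mem_map.1 hH
      exact (List.pairwise_cons.1 hp).1 y hy g hg u hu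
  obtain ⟨v, hv⟩ := key
  have h1 : Lv b a D (L.map m).sum (nmL ρ (L.map X) v) := by
    clear hv hp hL
    induction L with
    | nil => trivial
    | cons x L ih =>
      have h2 := ih (fun y hy => hX y (List.mem_cons_of_mem _ hy)) (fun y hy => hc y (List.mem_cons_of_mem _ hy))
      have h3 := lv_nm R (m x) (hX x List.mem_cons_self) (hc x List.mem_cons_self) h2
      rw [List.map_cons, List.sum_cons, add_comm]
      exact h3
  rw [hv] at h1
  by_contra hcon
  push Not at hcon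
  obtain ⟨k, hk⟩ := Nat.exists_eq_add_of_le hcon
  have h2 : (L.map m).sum = k + 4 := by omega
  rw [h2] at h1
  exact R.a_ne h1

/-! ### Simply laced -/

/-- a root with coefficient one at `i` is `W_J`-conjugate to `α_i` (all coefficients at `i` at most one) -/
theorem exists_conj [Finite W] (hs : SL cs h) {i : I} {x : I → ℤ} (hx : IsRoot cs h x) (hx1 : x i = 1) :
    ∃ v ∈ WJ cs ({i}ᶜ : Set I), x = rep cs h v (sr i) := by
  have key : ∀ (N : ℕ) (x : I → ℤ), IsRoot cs h x → x i = 1 → ht x ≤ N →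
      ∃ v ∈ WJ cs ({i}ᶜ : Set I), x = rep cs h v (sr i) := by
    intro N
    induction N with
    | zero =>
      intro x hx hx1 hN
      have h0 : 0 ≤ x := nonneg_of_pos_apply hx (k := i) (by omega)
      have := sum_pos h0 hx.ne_zero
      simp only [Nat.cast_zero] at hN
      omega
    | succ N ih =>
      intro x hx hx1 hN
      have h0 : 0 ≤ x := nonneg_of_pos_apply hx (k := i) (by omega)
      by_cases hns : ∃ j, x = sr j
      · obtain ⟨j, rfl⟩ := hns
        have hij : i = j := by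
          by_contra hne
          rw [sr_ne hne] at hx1
          omega
        subst hij
        exact ⟨1, one_mem _, by rw [map_one, Module.End.one_apply]⟩
      push Not at hns
      obtain ⟨j, h1, h2, h3⟩ := Lev.exists_sub hs hx h0 hns
      have hsr := isRoot_sr cs h j
      by_cases hij : i = j
      · -- `x = α_i + y`, `y ∈ Φ_J`
        subst hij
        set y : I → ℤ := x - sr i with hy
        have hyi : y i = 0 := by rw [hy, Pi.sub_apply, hx1, sr_self, sub_self]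
        have hyJ : y ∈ RootsJ cs h ({i}ᶜ : Set I) := ⟨h1, fun k hk => by
          have : k = i := not_not.1 hk
          rw [this, hyi]⟩
        obtain ⟨v, hv, l, hl, e⟩ := exists_of_mem_RootsJ hyJ
        refine ⟨rfl' cs v l, mul_mem (mul_mem hv (simple_mem_WJ cs hl)) (inv_mem hv), ?_⟩
        rw [rep_rfl'_eq, ← e, h3.cyx, neg_one_smul, sub_neg_eq_add, hy]
        abel
      · have hht : ht (x - sr j) ≤ N := by
          have e : ht x = ht (x - sr j) + ht (sr j) := by rw [← RGD.ht_add, sub_add_cancel]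
          have e2 := sum_pos (sr_nonneg j) (sr_ne_zero j)
          push_cast at hN
          omega
        obtain ⟨v, hv, e⟩ := ih (x - sr j) h1 (by rw [Pi.sub_apply, sr_ne hij, hx1, sub_zero]) hht
        refine ⟨cs.simple j * v, mul_mem (simple_mem_WJ cs (fun h4 => hij (Set.mem_singleton_iff.1 h4).symm)) hv, ?_⟩
        rw [rep_mul_apply, ← e, rep_simple_eq]
        have h4 : pairing A j (x - sr j) = -1 := by
          rw [← cpr_sr cs h, h3.cxy]
        rw [h4, neg_one_smul, sub_neg_eq_add, sub_add_cancel]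
  have h0 : 0 ≤ x := nonneg_of_pos_apply hx (k := i) (by omega)
  obtain ⟨N, hN⟩ := Int.eq_ofNat_of_zero_le (sum_pos h0 hx.ne_zero).le
  exact key N x hx hx1 (by rw [hN])

/-- **(C), (D), (E), (F) for a simply laced row with connected diagram.** -/
theorem nodeOK [Finite W] [Finite Y] (R : Row cs h T n X ρ b a D X0 w0) (hs : SL cs h)
    (hconn : ∀ J : Set I, J.Nonempty → J ≠ Set.univ → ∃ a ∈ J, ∃ b, b ∉ J ∧ M a b ≠ 2) {m : ℕ}
    (hm : ∀ x, IsRoot cs h x → Nat.card (X x) = 2 ^ m) :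
    ∃ i, Mv ρ n a = {i} ∧ X0 = VJ cs h X {i}ᶜ ∧ NodeOK cs h i m := by
  obtain ⟨i, hK, hX0, hle⟩ := Lev.one_node R hs hconn
  have hle1 : ∀ x, IsRoot cs h x → x i ≤ 1 := by
    intro x hx
    rcases hx.pos_or_neg with h0 | h0
    · exact hle x hx h0
    · exact le_trans (h0 i) (by norm_num)
  have hNot : ∀ x, IsRoot cs h x → x i = 1 → x ∈ NotJ cs h ({i}ᶜ : Set I) := fun x hx hx1 =>
    ⟨hx, nonneg_of_pos_apply hx (k := i) (by omega), i, not_not.2 rfl, by omega⟩
  have hXle : ∀ x, IsRoot cs h x → x i = 1 → X x ≤ X0 := fun x hx hx1 => by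
    rw [hX0]; exact RGD.le_Sup (hNot x hx hx1)
  refine ⟨i, hK, hX0, hle1, ?_, ?_⟩
  · obtain ⟨w, k, -, -, h1⟩ := Opp.opp R (S := {x | IsRoot cs h x ∧ x i = 1}) (fun x hx => by
      obtain ⟨u, hu, hu1⟩ := exists_ne R.rgd hx.1
      exact ⟨hx.1, u, hu, hXle x hx.1 hx.2 hu, hu1⟩)
    refine ⟨w⁻¹, fun x hx hx1 => ?_⟩
    obtain ⟨h2, h3, j, hj, hj0⟩ := h1 x ⟨hx, hx1⟩
    have hji : j = i := by
      have : j ∈ Mv ρ n a := not_not.1 hj
      rw [hK] at this
      exact this
    subst hji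
    have h4 := hle1 _ h2
    rw [Pi.neg_apply] at hj0 h4
    omega
  · intro s hs1 hs2
    have key : ∀ x ∈ s, ∀ y ∈ s, x ≠ y → ∀ u ∈ X x ⊔ X (-x), ∀ v ∈ X y, u * v = v * u := by
      intro x hx y hy hxy u hu v hv
      obtain ⟨hxr, hx1⟩ := hs1 x hx
      obtain ⟨hyr, hy1⟩ := hs1 y hy
      have hxy' : x ≠ -y := by
        intro h1
        rw [h1, Pi.neg_apply] at hx1
        omega
      have hc1 : 0 ≤ cpr cs h x y := nonneg_of_not_add hs hxr hyr hxy' (fun h1 => by
        have := hle1 _ h1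
        rw [Pi.add_apply] at this
        omega)
      have hc2 : 0 ≤ cpr cs h x (-y) := nonneg_of_not_add hs hxr hyr.neg (by rwa [neg_neg]) (fun h1 =>
        hs2 x hx y hy hxy (by rwa [← sub_eq_add_neg] at h1))
      rw [cpr_neg_right cs h x hyr] at hc2
      have hc0 : cpr cs h x y = 0 := by omega
      have e1 : ∀ u ∈ X x, u * v = v * u := fun u hu =>
        comm_of_not_btwn R.rgd hxr hyr hxy hxy' (fun z hz => hs.not_btwn hxr hyr hxy hc1 z hz) hu hv
      have e2 : ∀ u ∈ X (-x), u * v = v * u := fun u hu => by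
        have h3 : -x ≠ y := fun h4 => hxy' (by rw [← h4, neg_neg])
        have h4 : -x ≠ -y := fun h5 => hxy (neg_injective h5)
        refine comm_of_not_btwn R.rgd hxr.neg hyr h3 h4 (fun z hz => hs.not_btwn hxr.neg hyr h3 ?_ z hz) hu hv
        rw [cpr_neg_left _ hyr, hc0, neg_zero]
      have h5 : X x ⊔ X (-x) ≤ Subgroup.centralizer {v} := by
        refine sup_le (fun u hu => ?_) (fun u hu => ?_)
        · rw [Subgroup.mem_centralizer_singleton_iff]; exact e1 u hu
        · rw [Subgroup.mem_centralizer_singleton_iff]; exact e2 u hu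
      exact Subgroup.mem_centralizer_singleton_iff.1 (h5 hu)
    have h1 := sum_le_three R s.toList (fun _ => m) (fun x hx => ?_) (fun x hx => ?_) (fun x hx => ?_) ?_
    · rw [List.map_const', List.sum_replicate, Finset.length_toList, smul_eq_mul, mul_comm] at h1
      exact h1
    · obtain ⟨hxr, hx1⟩ := hs1 x (Finset.mem_toList.1 hx)
      obtain ⟨v, hv, e⟩ := exists_conj hs hxr hx1
      rw [← hK] at hv
      exact ⟨v, hv, i, by rw [hK]; rfl, e⟩
    · obtain ⟨hxr, hx1⟩ := hs1 x (Finset.mem_toList.1 hx)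
      exact hXle x hxr hx1
    · exact hm x (hs1 x (Finset.mem_toList.1 hx)).1
    · have h2 : s.toList.Pairwise (· ≠ ·) := s.nodup_toList
      exact h2.imp_of_mem fun {x y} hx hy hxy u hu v hv =>
        key x (Finset.mem_toList.1 hx) y (Finset.mem_toList.1 hy) hxy u hu v hv

end Cfsg.Agent.Omega.EH3.Kf.Orth
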