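import Mathlib
import Cfsg.Agent.Omega.EH3.Kf.ThmA

/-!
# Consequences of Theorem A (helper227)

* `UJ_sq`, `UJ_comm` : `U_K` is elementary abelian for every set `K` of nodes moving `a`;
* `M_eq_two` : two different nodes moving `a` are orthogonal;
* `cover_mul` : every `u` in `U` is `x * o`, `x ∈ X0`, `o ∈ O(K)`.
-/

set_option autoImplicit false

namespace Cfsg.Agent.Omega.EH3.Kf.ThmA2

open CoxeterSystem Cfsg.Agent.ChevalleyStructure.CoxeterGeom Cfsg.Agent.Tits.Roots Cfsg.Agent.Tits.Core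
  Cfsg.Agent.Tits.RootComb Cfsg.Agent.Nodes.Comb Cfsg.Agent.Nodes.Reps Cfsg.Agent.Nodes.BNOf
  Cfsg.Agent.Nodes.StabComb Cfsg.Agent.Nodes.Bruhat Cfsg.Agent.Nodes.LeviDec Cfsg.Agent.Tits.Exchange
  Cfsg.Agent.Omega.EH3.Kf.Base Cfsg.Agent.Omega.EH3.Kf.Nm Cfsg.Agent.Omega.EH3.Kf.ThmA

open scoped commutatorElement

variable {I W Y V : Type*} [Fintype I] [DecidableEq I] [Group W] [Group Y] [AddCommGroup V]
    [Module (ZMod 2) V] {M : CoxeterMatrix I} {cs : CoxeterSystem M W} {A : I → I → ℤ} {h : IsCartan M A}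
    {T : Subgroup Y} {n : I → Y} {X : (I → ℤ) → Subgroup Y} {ρ : Y →* (V ≃ₗ[ZMod 2] V)} {a : V}
    {X0 : Subgroup Y}

/-- elements of exponent two commute -/
theorem comm_of_sq (hsq : ∀ x ∈ X0, x * x = 1) {x y : Y} (hx : x ∈ X0) (hy : y ∈ X0) : x * y = y * x := by
  have h1 := hsq _ (mul_mem hx hy)
  have h2 := hsq _ hx
  have h3 := hsq _ hy
  have hx' : x⁻¹ = x := inv_eq_of_mul_eq_one_right h2
  have hy' : y⁻¹ = y := inv_eq_of_mul_eq_one_right h3
  have h4 : (x * y)⁻¹ = x * y := inv_eq_of_mul_eq_one_right h1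
  rw [← h4, mul_inv_rev, hx', hy']

/-- every element of `U` is `x * o` -/
theorem cover_mul [Finite W] [Finite Y] (R : Core cs h T n X ρ a X0) {K : Set I} (hK : K ⊆ Mv ρ n a) {u : Y}
    (hu : u ∈ RGD.Sup X (RGD.Pos cs h)) : ∃ x ∈ X0, ∃ o ∈ VJ cs h X K, u = x * o := by
  obtain ⟨x, hx, hxo⟩ := thmA R hK u hu
  refine ⟨x, hx, (u⁻¹ * x)⁻¹, inv_mem hxo, ?_⟩
  group

theorem UJ_sq [Finite W] [Finite Y] (R : Core cs h T n X ρ a X0) (hsq : ∀ x ∈ X0, x * x = 1) {K : Set I}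
    (hK : K ⊆ Mv ρ n a) {u : Y} (hu : u ∈ UJ cs h X K) : u * u = 1 := by
  obtain ⟨x, hx, hxo⟩ := thmA R hK u (UJ_le_U K hu)
  have hUL : UJ cs h X K ≤ LJ cs h T X K := le_trans UJ_le_BJ BJ_le_LJ
  set o := u⁻¹ * x with ho
  have hxu : x = u * o := by rw [ho]; group
  have h1 : u⁻¹ * o * u ∈ VJ cs h X K := by
    have h2 := LJ_le_normalizer_VJ R.rgd K (inv_mem (hUL hu))
    have h3 := (Subgroup.mem_normalizer_iff.1 h2 o).1 hxo
    rwa [inv_inv] at h3
  have h2 : u * u = ((u⁻¹ * o * u) * o)⁻¹ := by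
    have h3 := hsq x hx
    rw [hxu] at h3
    have h4 : u * u * ((u⁻¹ * o * u) * o) = 1 := by
      rw [← h3]; group
    exact eq_inv_of_mul_eq_one_left h4
  have h4 : u * u ∈ VJ cs h X K := by rw [h2]; exact inv_mem (mul_mem h1 hxo)
  have h3 : u * u ∈ UJ cs h X K ⊓ VJ cs h X K := ⟨mul_mem hu hu, h4⟩
  rw [UJ_inf_VJ R.rgd] at h3
  exact Subgroup.mem_bot.1 h3

theorem UJ_comm [Finite W] [Finite Y] (R : Core cs h T n X ρ a X0) (hsq : ∀ x ∈ X0, x * x = 1) {K : Set I}
    (hK : K ⊆ Mv ρ n a) {u v : Y} (hu : u ∈ UJ cs h X K) (hv : v ∈ UJ cs h X K) : u * v = v * u :=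
  comm_of_sq (X0 := UJ cs h X K) (fun _ hx => UJ_sq R hsq hK hx) hu hv

/-- commuting simple root groups belong to orthogonal nodes -/
theorem M_eq_two_of_comm [Finite W] (R : RGD cs h 2 T n X) {i j : I} (hij : i ≠ j)
    (hc : ∀ u ∈ X (sr i), ∀ v ∈ X (sr j), u * v = v * u) : M i j = 2 := by
  by_contra h2
  have hbot : Nodes.Reps.btw cs h X (-sr i) (sr j) = ⊥ := by
    rw [eq_bot_iff]
    unfold Nodes.Reps.btw
    refine iSup_le ?_
    rintro ⟨z, hz⟩
    exfalso
    have h1 : 0 < z j := btwn_apply_pos hz.symm (by rw [sr_self]; exact one_pos)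
      (by rw [Pi.neg_apply, sr_ne hij.symm]; rfl)
    have h3 : 0 < (-z) i := by
      have h4 : Btwn cs h (sr i) (-sr j) (-z) := by
        have := btwn_neg hz
        rwa [neg_neg] at this
      exact btwn_apply_pos h4 (by rw [sr_self]; exact one_pos) (by rw [Pi.neg_apply, sr_ne hij]; rfl)
    rw [Pi.neg_apply] at h3
    rcases hz.1.pos_or_neg with h4 | h4
    · have := h4 i
      simp only [Pi.zero_apply] at this
      omega
    · have := h4 j
      simp only [Pi.zero_apply] at this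
      omega
  have hneg : ∀ u ∈ X (-sr i), ∀ v ∈ X (sr j), u * v = v * u := by
    intro u hu v hv
    have hne1 : (-sr i : I → ℤ) ≠ sr j := by
      intro he
      have := congrFun he i
      rw [Pi.neg_apply, sr_self, sr_ne hij] at this
      omega
    have hne2 : (-sr i : I → ℤ) ≠ - sr j := by
      intro he
      have := congrFun he i
      rw [Pi.neg_apply, sr_self, Pi.neg_apply, sr_ne hij] at this
      omega
    have h1 := R.comm (-sr i) (sr j) (isRoot_sr cs h i).neg (isRoot_sr cs h j) hne1 hne2 u hu v hv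
    rw [hbot, Subgroup.mem_bot, commutatorElement_eq_one_iff_mul_comm] at h1
    exact h1
  -- `n i` normalises `X (sr j)`
  obtain ⟨u0, hu0, hu01⟩ := exists_ne_one R i
  have hu : n i * u0 * (n i)⁻¹ ∈ X (-sr i) := by
    have := R.conj_mem (rp_simple cs R.nsys i) (isRoot_sr cs h i) hu0
    rwa [rep_simple_sr] at this
  have hu1 : n i * u0 * (n i)⁻¹ ≠ 1 := by
    intro h3
    apply hu01
    have h4 : u0 = (n i)⁻¹ * (n i * u0 * (n i)⁻¹) * n i := by group
    rw [h4, h3]; group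
  obtain ⟨c, hc', t, ht, d, hd, e⟩ := R.rk1 i _ hu hu1
  have hn : n i = t⁻¹ * c⁻¹ * (n i * u0 * (n i)⁻¹) * d⁻¹ := by
    rw [e]; group
  have hcen : ∀ g, (∀ v ∈ X (sr j), g * v = v * g) → cj g (X (sr j)) = X (sr j) := by
    intro g hg
    ext v
    rw [mem_cj]
    constructor
    · intro hv
      have h5 := hg _ hv
      have h6 : v = g * (g⁻¹ * v * g) * g⁻¹ := by group
      rw [h6, h5, mul_inv_cancel_right]
      exact hv
    · intro hv
      rw [mul_assoc, ← hg v hv, inv_mul_cancel_left]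
      exact hv
  have hinv : ∀ g, (∀ v ∈ X (sr j), g * v = v * g) → ∀ v ∈ X (sr j), g⁻¹ * v = v * g⁻¹ := by
    intro g hg v hv
    rw [inv_mul_eq_iff_eq_mul, ← mul_assoc, hg v hv, mul_inv_cancel_right]
  have hni : cj (n i) (X (sr j)) = X (sr j) := by
    have e1 := hcen _ (hinv d (fun v hv => hc d hd v hv))
    have e2 := hcen _ (hneg _ hu)
    have e3 := hcen _ (hinv c (fun v hv => hc c hc' v hv))
    have e4 := R.tor _ (isRoot_sr cs h j) _ (inv_mem ht)
    rw [hn, cj_mul, e1, cj_mul, e2, cj_mul, e3, e4]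
  rw [R.conj i _ (isRoot_sr cs h j)] at hni
  set y := rep cs h (cs.simple i) (sr j) with hy
  have hyr : IsRoot cs h y := (isRoot_sr cs h j).act _
  have hyne : y ≠ sr j := by
    intro he
    have h5 := congrFun he i
    rw [hy, rep_simple_apply_self, sr_ne hij] at h5
    have h6 : pairing A i (sr j) = A i j := by rw [sr, pairing_single, mul_one]
    rw [h6] at h5
    have h7 := cartan_neg h hij h2
    omega
  have hy0 : 0 ≤ y := (isRoot_sr cs h j).simple_nonneg (sr_nonneg j) i (by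
    intro he
    have h5 := congrFun he i
    rw [sr_self, sr_ne hij] at h5
    omega)
  have h5 : 0 ≤ rep cs h (cs.simple j) y := hyr.simple_nonneg hy0 j hyne
  have h6 : X (rep cs h (cs.simple j) y) = X (-sr j) := by
    rw [← R.conj j y hyr, hni, R.conj j _ (isRoot_sr cs h j), rep_simple_sr]
  apply R.not_neg_le_B j
  rw [← h6]
  exact RGD.X_le_B (hyr.act _) h5

/-- two different nodes moving `a` are orthogonal -/
theorem M_eq_two [Finite W] [Finite Y] (R : Core cs h T n X ρ a X0) (hsq : ∀ x ∈ X0, x * x = 1) {i j : I}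
    (hij : i ≠ j) (hi : i ∈ Mv ρ n a) (hj : j ∈ Mv ρ n a) : M i j = 2 := by
  refine M_eq_two_of_comm R.rgd hij fun u hu v hv => ?_
  exact UJ_comm R hsq (K := Mv ρ n a) (le_refl _) (RGD.le_Sup (sr_mem_PosJ hi) hu)
    (RGD.le_Sup (sr_mem_PosJ hj) hv)

end Cfsg.Agent.Omega.EH3.Kf.ThmA2
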