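import Mathlib
import Cfsg.Agent.Omega.EH3.Kf.Cov
import Cfsg.Agent.Omega.EH3.Kf.ThmA2
import Cfsg.Agent.Nodes.TypeC

/-!
# EH3, Lie rows in characteristic 2: relative type `C_n` (helper94; blueprints/OMEGA-EH3-KF3-helper227.md, K6)

The unitary groups, `Ω⁻`, and `Sp_2n(q)` have a root group datum of type `C_n` (`Nodes/TypeC`, `Nodes/WittAll`).

* `coef`, `nonneg_of`, `exists_pos` : the positive roots are `ε_i ± ε_j`, `2 ε_i`;
* `Gd X` : the commutator identities used (all inside `U`); `Gd.gen` : the root groups of the roots that are not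
  fundamental lie in `[U, U]`;
* `comm_bot`, `mv_nonempty` (any type), `mv_int`, `mv_nax`, `mv_naz`, `mv_one` : the possible sets `Mv`.
-/

set_option autoImplicit false

namespace Cfsg.Agent.Omega.EH3.Kf.TwC

open CoxeterSystem Cfsg.Agent.ChevalleyStructure.CoxeterGeom Cfsg.Agent.Tits.Roots Cfsg.Agent.Tits.Core
  Cfsg.Agent.Tits.RootComb Cfsg.Agent.Nodes.Comb Cfsg.Agent.Nodes.Reps Cfsg.Agent.Nodes.BNOf
  Cfsg.Agent.Nodes.StabComb Cfsg.Agent.Nodes.Bruhat Cfsg.Agent.Nodes.LeviDec Cfsg.Agent.Nodes.TypeC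
open scoped commutatorElement

variable {n : ℕ}

/-! ### Roots -/

/-- the sign -/
def sn (s : Bool) : ℤ := if s then 1 else -1

theorem sum_wt (a : Fin n × Bool) (m : Fin n) :
    ∑ k ∈ Finset.Iic m, wt a k = if a.1 ≤ m then sn a.2 else 0 := by
  simp only [wt, Finset.sum_pi_single', Finset.mem_Iic, sn]

/-- the coefficients of a root -/
theorem coef {x : Fin n → ℤ} {a b : Fin n × Bool} (e : ee x = wt a + wt b) (m : Fin n) :
    (if (m : ℕ) + 1 < n then 1 else 2) * x m = (if a.1 ≤ m then sn a.2 else 0) + (if b.1 ≤ m then sn b.2 else 0) := by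
  have h1 : ∑ k ∈ Finset.Iic m, ee x k = (if (m : ℕ) + 1 < n then 1 else 2) * x m := by
    have h1 : ∀ k, ee x k = ∑ j, x j * bt j k := by
      intro k
      simp [ee, Finset.sum_apply]
    simp only [h1]
    rw [Finset.sum_comm]
    simp only [← Finset.mul_sum, sum_bt]
    rw [Finset.sum_eq_single m]
    · simp only [if_true]
      split_ifs <;> ring
    · intro j _ hj
      simp [Ne.symm hj]
    · simp
  rw [← h1, e, ← sum_wt, ← sum_wt, ← Finset.sum_add_distrib]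
  rfl

theorem nonneg_of {x : Fin n → ℤ} {a b : Fin n × Bool} (e : ee x = wt a + wt b) (ha : a.2 = true)
    (hab : a.1 ≤ b.1) : 0 ≤ x := by
  intro m
  have h1 := coef e m
  rw [ha] at h1
  show 0 ≤ x m
  have h2 : (sn b.2 : ℤ) = 1 ∨ sn b.2 = -1 := by
    unfold sn; split_ifs <;> simp
  have h3 : sn true = 1 := rfl
  rw [h3] at h1
  by_cases h4 : b.1 ≤ m
  · rw [if_pos (hab.trans h4), if_pos h4] at h1
    split_ifs at h1 <;> rcases h2 with h2 | h2 <;> rw [h2] at h1 <;> omega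
  · rw [if_neg h4] at h1
    split_ifs at h1 <;> omega

variable {W : Type*} [Group W] {cs : CoxeterSystem (CoxeterMatrix.B n) W}

/-- the positive roots -/
theorem exists_pos {x : Fin n → ℤ} (hx : IsRoot cs (isCartan n) x) (h0 : 0 ≤ x) :
    ∃ a b : Fin n × Bool, a.2 = true ∧ a.1 ≤ b.1 ∧ Ok a b ∧ ee x = wt a + wt b := by
  obtain ⟨a, b, hab, e⟩ := exists_of_isRoot cs hx
  have key : ∀ a b : Fin n × Bool, Ok a b → ee x = wt a + wt b → a.1 ≤ b.1 → a.2 = true := by
    intro a b hab e hle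
    by_contra hf
    have h1 : ee (-x) = wt (ng a) + wt (ng b) := by rw [ee_neg, e, wt_ng, wt_ng]; abel
    have h2 : 0 ≤ -x := nonneg_of h1 (by simp [ng, hf]) hle
    exact hx.ne_zero (le_antisymm (neg_nonneg.1 h2) h0)
  rcases le_total a.1 b.1 with h1 | h1
  · exact ⟨a, b, key a b hab e h1, h1, hab, e⟩
  · exact ⟨b, a, key b a hab.symm (by rw [e, add_comm]) h1, h1, hab.symm, by rw [e, add_comm]⟩

variable {Y : Type*} [Group Y]

/-- The commutator identities (all inside `U`). -/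
structure Gd (X : (Fin n → ℤ) → Subgroup Y) : Prop where
  a2 : ∀ (i j k : Fin n), i < j → j < k → ∀ x y z, ee x = wt (i, true) + wt (j, false) →
    ee y = wt (j, true) + wt (k, false) → ee z = wt (i, true) + wt (k, false) → X z ≤ ⁅X x, X y⁆
  mid : ∀ (i j : Fin n), i < j → ∀ x y z t, ee x = wt (i, true) + wt (j, true) →
    ee y = wt (i, true) + wt (j, false) → ee z = wt (i, true) + wt (i, true) → ee t = wt (j, true) + wt (j, true) →
    X x ≤ ⁅X y, X t⁆ ⊔ ⁅X x, X y⁆ ⊔ ⁅X z, X t⁆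
  lng : ∀ (i j : Fin n), i < j → ∀ x y z t, ee x = wt (i, true) + wt (j, true) →
    ee y = wt (i, true) + wt (j, false) → ee z = wt (i, true) + wt (i, true) → ee t = wt (j, true) + wt (j, true) →
    X z ≤ ⁅X y, X t⁆ ⊔ ⁅X x, X y⁆ ⊔ ⁅X z, X t⁆

theorem exists_root (cs : CoxeterSystem (CoxeterMatrix.B n) W) {a b : Fin n × Bool} (hab : Ok a b)
    (ha : a.2 = true) (hle : a.1 ≤ b.1) : ∃ x ∈ RGD.Pos cs (isCartan n), ee x = wt a + wt b := by
  obtain ⟨x, hx, e⟩ := rt_of_ok (cs := cs) hab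
  exact ⟨x, ⟨hx, nonneg_of e ha hle⟩, e⟩

/-- **Generation.** -/
theorem Gd.gen (cs : CoxeterSystem (CoxeterMatrix.B n) W) {X : (Fin n → ℤ) → Subgroup Y} (G : Gd X)
    {x : Fin n → ℤ} (hx : IsRoot cs (isCartan n) x) (h0 : 0 ≤ x) (hs : ∀ i, x ≠ sr i) :
    X x ≤ ⁅RGD.Sup X (RGD.Pos cs (isCartan n)), RGD.Sup X (RGD.Pos cs (isCartan n))⁆ := by
  set U := RGD.Sup X (RGD.Pos cs (isCartan n)) with hU
  have hle : ∀ {z}, z ∈ RGD.Pos cs (isCartan n) → X z ≤ U := fun hz => RGD.le_Sup hz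
  have hcom : ∀ {z z'}, z ∈ RGD.Pos cs (isCartan n) → z' ∈ RGD.Pos cs (isCartan n) → ⁅X z, X z'⁆ ≤ ⁅U, U⁆ :=
    fun hz hz' => Subgroup.commutator_mono (hle hz) (hle hz')
  obtain ⟨⟨i, s⟩, ⟨j, t⟩, hs1, hij, hok, e⟩ := exists_pos hx h0
  simp only at hs1 hij
  subst hs1
  -- the four roots of a pair `i < j`
  have four : ∀ (i j : Fin n), i < j → ∀ x z, ee x = wt (i, true) + wt (j, true) →
      ee z = wt (i, true) + wt (i, true) → X x ≤ ⁅U, U⁆ ∧ X z ≤ ⁅U, U⁆ := by
    intro i j hlt x z ex ez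
    obtain ⟨y, hy, ey⟩ := exists_root cs (a := (i, true)) (b := (j, false)) (Or.inl hlt.ne) rfl hlt.le
    obtain ⟨t, ht, et⟩ := exists_root cs (a := (j, true)) (b := (j, true)) (Or.inr rfl) rfl le_rfl
    obtain ⟨x', hx', ex'⟩ := exists_root cs (a := (i, true)) (b := (j, true)) (Or.inl hlt.ne) rfl hlt.le
    obtain ⟨z', hz', ez'⟩ := exists_root cs (a := (i, true)) (b := (i, true)) (Or.inr rfl) rfl le_rfl
    have e1 : x = x' := ee_injective (ex.trans ex'.symm)
    have e2 : z = z' := ee_injective (ez.trans ez'.symm)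
    subst e1 e2
    have h5 : ⁅X y, X t⁆ ⊔ ⁅X x, X y⁆ ⊔ ⁅X z, X t⁆ ≤ ⁅U, U⁆ :=
      sup_le (sup_le (hcom hy ht) (hcom hx' hy)) (hcom hz' ht)
    exact ⟨(G.mid i j hlt x y z t ex ey ez et).trans h5, (G.lng i j hlt x y z t ex ey ez et).trans h5⟩
  rcases eq_or_lt_of_le hij with h1 | h1
  · -- `2 ε_i`
    subst h1
    have hst : t = true := by
      rcases hok with h2 | h2
      · exact absurd rfl h2
      · exact (Prod.mk.inj h2).2.symm
    subst hst
    by_cases hn : (i : ℕ) + 1 < n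
    · obtain ⟨x', hx', ex'⟩ := exists_root cs (a := (i, true)) (b := (⟨i + 1, hn⟩, true))
        (Or.inl (by simp [Fin.ext_iff])) rfl (by rw [Fin.le_def]; simp)
      exact (four i ⟨i + 1, hn⟩ (by rw [Fin.lt_def]; simp) x' x ex' e).2
    · exfalso
      apply hs i
      apply ee_injective
      rw [e, ee_sr, bt, nx, dif_neg hn]
  · cases t
    · -- `ε_i - ε_j`
      by_cases hn : (i : ℕ) + 1 = j
      · exfalso
        apply hs i
        apply ee_injective
        rw [e, ee_sr, bt, nx, dif_pos (by rw [hn]; exact j.2)]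
        congr 3
        exact Fin.ext hn.symm
      · have hlt : (i : ℕ) + 1 < j := by have := Fin.lt_def.1 h1; omega
        have hk : (i : ℕ) + 1 < n := hlt.trans j.2
        set k : Fin n := ⟨i + 1, hk⟩ with hkd
        have hik : i < k := by rw [Fin.lt_def]; simp [hkd]
        have hkj : k < j := by rw [Fin.lt_def]; exact hlt
        obtain ⟨y, hy, ey⟩ := exists_root cs (a := (i, true)) (b := (k, false)) (Or.inl hik.ne) rfl hik.le
        obtain ⟨z, hz, ez⟩ := exists_root cs (a := (k, true)) (b := (j, false)) (Or.inl hkj.ne) rfl hkj.le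
        exact (G.a2 i k j hik hkj y z x ey ez e).trans (hcom hy hz)
    · -- `ε_i + ε_j`
      obtain ⟨z, hz, ez⟩ := exists_root cs (a := (i, true)) (b := (i, true)) (Or.inr rfl) rfl le_rfl
      exact (four i j h1 x z e ez).1

/-! ### The moved nodes, any type -/

section Any

open Cfsg.Agent.Omega.EH3.Kf.Base Cfsg.Agent.Omega.EH3.Kf.Cov

variable {I W V : Type*} [Fintype I] [DecidableEq I] [Group W] [AddCommGroup V]
    [Module (ZMod 2) V] {M : CoxeterMatrix I} {cs : CoxeterSystem M W} {A : I → I → ℤ} {h : IsCartan M A}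
    {T : Subgroup Y} {nn : I → Y} {X : (I → ℤ) → Subgroup Y} {ρ : Y →* (V ≃ₗ[ZMod 2] V)}
    {b : LinearMap.BilinForm (ZMod 2) V} {a : V} {D : Submodule (ZMod 2) V} {X0 : Subgroup Y} {w : ℕ}

theorem X_le_VJ {x : I → ℤ} (hx : x ∈ RGD.Pos cs h) {k : I} (hk : k ∈ Mv ρ nn a) (hxk : 0 < x k) :
    X x ≤ VJ cs h X (Mv ρ nn a)ᶜ :=
  RGD.le_Sup ⟨hx.1, hx.2, k, fun h0 => h0 hk, hxk⟩

/-- two root groups of `V_J = X0` commute -/
theorem comm_bot (R : Row cs h T nn X ρ b a D X0 w) (hX : X0 = VJ cs h X (Mv ρ nn a)ᶜ) {x y : I → ℤ}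
    (hx : x ∈ RGD.Pos cs h) (hy : y ∈ RGD.Pos cs h) {k l : I} (hk : k ∈ Mv ρ nn a) (hl : l ∈ Mv ρ nn a)
    (hxk : 0 < x k) (hyl : 0 < y l) : ⁅X x, X y⁆ = ⊥ := by
  rw [eq_bot_iff, Subgroup.commutator_le]
  intro u hu v hv
  have hu' : u ∈ X0 := by rw [hX]; exact X_le_VJ hx hk hxk hu
  have hv' : v ∈ X0 := by rw [hX]; exact X_le_VJ hy hl hyl hv
  rw [Subgroup.mem_bot, commutatorElement_eq_one_iff_mul_comm]
  exact comm_X0 R hu' hv'

/-- some node moves `a` -/
theorem mv_nonempty [Finite W] (R : Row cs h T nn X ρ b a D X0 w) : (Mv ρ nn a).Nonempty := by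
  by_contra hne
  rw [Set.not_nonempty_iff_eq_empty] at hne
  have h1 : ∀ g : Y, ρ g a = a := by
    intro g
    have h2 : g ∈ St ρ a := by
      rw [St_eq R, hne, Set.compl_empty]
      have h3 : g ∈ GG cs h T X := by rw [R.gen]; trivial
      rw [← LJ_univ] at h3
      exact LJ_le_PJ h3
    exact h2
  have h2 : (Set.range fun g => ρ g a) = {a} := by
    ext v
    constructor
    · rintro ⟨g, rfl⟩; exact h1 g
    · rintro rfl; exact ⟨1, h1 1⟩
  have h3 := R.span
  rw [h2] at h3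
  have h4 : Nat.card V ≤ 2 := by
    have h5 : Function.Surjective (fun c : ZMod 2 => c • a) := by
      intro v
      have h6 : v ∈ Submodule.span (ZMod 2) ({a} : Set V) := by rw [h3]; trivial
      exact Submodule.mem_span_singleton.1 h6
    have h6 := Nat.card_le_card_of_surjective _ h5
    rwa [Nat.card_zmod] at h6
  rw [R.card_V] at h4
  have h5 := R.six
  have h6 : 2 ^ 12 ≤ 2 ^ (2 * w) := Nat.pow_le_pow_right (by norm_num) (by omega)
  norm_num at h6
  omega

end Any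

/-! ### The moved nodes, type `C_n` -/

theorem pos_sub {i j m : Fin n} {x : Fin n → ℤ} (e : ee x = wt (i, true) + wt (j, false)) (h1 : i ≤ m) (h2 : m < j) :
    0 < x m := by
  have h3 := coef e m
  have h4 : ¬ j ≤ m := not_le.2 h2
  have h5 : (m : ℕ) + 1 < n := by have := Fin.lt_def.1 h2; have := j.2; omega
  simp only [h1, h4, h5, if_true, if_false] at h3
  simp only [sn, if_true] at h3
  omega

theorem pos_add {i j m : Fin n} {x : Fin n → ℤ} (e : ee x = wt (i, true) + wt (j, true)) (h1 : i ≤ m) :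
    0 < x m := by
  have h3 := coef e m
  simp only [h1, if_true] at h3
  simp only [sn, if_true] at h3
  split_ifs at h3 <;> omega

/-- `[X(ε_i + ε_j), X(ε_i - ε_j)] ≠ 1` -/
def NAX (X : (Fin n → ℤ) → Subgroup Y) : Prop :=
  ∀ i j : Fin n, i < j → ∀ x y, ee x = wt (i, true) + wt (j, true) → ee y = wt (i, true) + wt (j, false) →
    ⁅X x, X y⁆ ≠ ⊥

/-- `[X(2 ε_i), X(2 ε_j)] ≠ 1` -/
def NAZ (X : (Fin n → ℤ) → Subgroup Y) : Prop :=
  ∀ i j : Fin n, i < j → ∀ x y, ee x = wt (i, true) + wt (i, true) → ee y = wt (j, true) + wt (j, true) →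
    ⁅X x, X y⁆ ≠ ⊥

/-- `[X(ε_i - ε_k), X(ε_j + ε_k)] ≠ 1` -/
def NAS (X : (Fin n → ℤ) → Subgroup Y) : Prop :=
  ∀ i j k : Fin n, i < j → j < k → ∀ x y, ee x = wt (i, true) + wt (k, false) →
    ee y = wt (j, true) + wt (k, true) → ⁅X x, X y⁆ ≠ ⊥

section KAn

open Cfsg.Agent.Omega.EH3.Kf.Base Cfsg.Agent.Omega.EH3.Kf.Cov Cfsg.Agent.Omega.EH3.Kf.ThmA2

variable {V : Type*} [AddCommGroup V] [Module (ZMod 2) V] {T : Subgroup Y} {nn : Fin n → Y}
  {X : (Fin n → ℤ) → Subgroup Y} {ρ : Y →* (V ≃ₗ[ZMod 2] V)} {b : LinearMap.BilinForm (ZMod 2) V} {a : V}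
  {D : Submodule (ZMod 2) V} {X0 : Subgroup Y} {w : ℕ}
  (R : Row cs (isCartan n) T nn X ρ b a D X0 w) (hX : X0 = VJ cs (isCartan n) X (Mv ρ nn a)ᶜ)

include R hX

/-- an interior node is not moved -/
theorem mv_int (hS : NAS X) {k : Fin n} (hk : k ∈ Mv ρ nn a) : (k : ℕ) = 0 ∨ (k : ℕ) + 1 = n := by
  by_contra hne
  push Not at hne
  obtain ⟨h0, h1⟩ := hne
  have hk2 := k.2
  set i : Fin n := ⟨0, by omega⟩ with hi
  set j : Fin n := ⟨1, by omega⟩ with hj
  set l : Fin n := ⟨n - 1, by omega⟩ with hl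
  have hij : i < j := by rw [Fin.lt_def]; simp [hi, hj]
  have hjl : j < l := by rw [Fin.lt_def]; simp only [hj, hl]; omega
  obtain ⟨x, hx, ex⟩ := exists_root cs (a := (i, true)) (b := (l, false)) (Or.inl (hij.trans hjl).ne) rfl
    (hij.trans hjl).le
  obtain ⟨y, hy, ey⟩ := exists_root cs (a := (j, true)) (b := (l, true)) (Or.inl hjl.ne) rfl hjl.le
  refine hS i j l hij hjl x y ex ey (comm_bot R hX hx hy hk hk (pos_sub ex ?_ ?_) (pos_add ey ?_))
  · rw [Fin.le_def]; simp [hi]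
  · rw [Fin.lt_def]; simp only [hl]; omega
  · rw [Fin.le_def]; simp only [hj]; omega

theorem mv_nax (hS : NAX X) {k : Fin n} (hk : k ∈ Mv ρ nn a) : (k : ℕ) + 1 = n := by
  by_contra h1
  have hk2 := k.2
  set i : Fin n := ⟨0, by omega⟩ with hi
  set j : Fin n := ⟨k + 1, by omega⟩ with hj
  have hij : i < j := by rw [Fin.lt_def]; simp [hi, hj]
  obtain ⟨x, hx, ex⟩ := exists_root cs (a := (i, true)) (b := (j, true)) (Or.inl hij.ne) rfl hij.le
  obtain ⟨y, hy, ey⟩ := exists_root cs (a := (i, true)) (b := (j, false)) (Or.inl hij.ne) rfl hij.le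
  refine hS i j hij x y ex ey (comm_bot R hX hx hy hk hk (pos_add ex ?_) (pos_sub ey ?_ ?_))
  · rw [Fin.le_def]; simp [hi]
  · rw [Fin.le_def]; simp [hi]
  · rw [Fin.lt_def]; simp [hj]

theorem mv_naz (hS : NAZ X) {k : Fin n} (hk : k ∈ Mv ρ nn a) : (k : ℕ) = 0 := by
  by_contra h1
  have hk2 := k.2
  set i : Fin n := ⟨0, by omega⟩ with hi
  have hij : i < k := by rw [Fin.lt_def]; simp only [hi]; omega
  obtain ⟨x, hx, ex⟩ := exists_root cs (a := (i, true)) (b := (i, true)) (Or.inr rfl) rfl le_rfl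
  obtain ⟨y, hy, ey⟩ := exists_root cs (a := (k, true)) (b := (k, true)) (Or.inr rfl) rfl le_rfl
  exact hS i k hij x y ex ey (comm_bot R hX hx hy hk hk (pos_add ex hij.le) (pos_add ey le_rfl))

/-- at most one node is moved -/
theorem mv_one [Finite Y] (hS : NAS X) {k l : Fin n} (hk : k ∈ Mv ρ nn a) (hl : l ∈ Mv ρ nn a) : k = l := by
  have : Finite W := finite_W cs
  have key : ∀ {k l : Fin n}, k ∈ Mv ρ nn a → l ∈ Mv ρ nn a → ¬ k < l := by
    intro k l hk hl hlt
    have hlt' := Fin.lt_def.1 hlt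
    have h1 := mv_int R hX hS hk
    have h2 := mv_int R hX hS hl
    have hl2 := l.2
    by_cases hn : n = 2
    · subst hn
      have h3 := M_eq_two R.core R.sq hlt.ne hk hl
      have hk0 : k = 0 := Fin.ext (by simp; omega)
      have hl1 : l = 1 := Fin.ext (by simp; omega)
      subst hk0 hl1
      exact absurd h3 (by decide)
    · set j : Fin n := ⟨1, by omega⟩ with hj
      have hkj : k < j := by rw [Fin.lt_def]; simp only [hj]; omega
      have hjl : j < l := by rw [Fin.lt_def]; simp only [hj]; omega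
      obtain ⟨x, hx, ex⟩ := exists_root cs (a := (k, true)) (b := (l, false)) (Or.inl hlt.ne) rfl hlt.le
      obtain ⟨y, hy, ey⟩ := exists_root cs (a := (j, true)) (b := (l, true)) (Or.inl hjl.ne) rfl hjl.le
      exact hS k j l hkj hjl x y ex ey (comm_bot R hX hx hy hk hl (pos_sub ex le_rfl hlt) (pos_add ey hjl.le))
  exact le_antisymm (not_lt.1 (key hl hk)) (not_lt.1 (key hk hl))

end KAn

end Cfsg.Agent.Omega.EH3.Kf.TwC
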