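import Mathlib
import Cfsg.Agent.Omega.EH3.Kf.TwC
import Cfsg.Agent.Omega.EH3.Kf.Orth
import Cfsg.Agent.KFacts.ChevTwoSys
import Cfsg.Agent.Nodes.KindBC

/-!
# EH3, Lie rows in characteristic 2: `PSp_{2n}(q)`, `q ≥ 4` even, `n ≥ 2` (helper924)

Over `ChevTwo.Sys` of type `C_n` (`KFacts/SysSp.sys_PSp`).

* `gd` : the commutator identities `TwC.Gd` (`q > 2`); `nas` : `TwC.NAS`;
* `orbS`, `orbL` : the `W_J`-orbits of the node `0` (short) and of the last node (long);
* `false` : there is no `Row` with `|X_r| = 2 ^ m`, `m ≥ 2`.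
-/

set_option autoImplicit false
set_option linter.unusedSectionVars false

namespace Cfsg.Agent.Omega.EH3.Kf.SpBig

open CoxeterSystem Cfsg.Agent.ChevalleyStructure.CoxeterGeom Cfsg.Agent.Tits.Roots Cfsg.Agent.Tits.Core
  Cfsg.Agent.Tits.RootComb Cfsg.Agent.Nodes.Comb Cfsg.Agent.Nodes.Reps Cfsg.Agent.Nodes.BNOf
  Cfsg.Agent.Nodes.StabComb Cfsg.Agent.Nodes.Bruhat Cfsg.Agent.Nodes.LeviDec Cfsg.Agent.Nodes.TypeC
  Cfsg.Agent.Nodes.KindBC Cfsg.Agent.Nodes.Coroot Cfsg.Agent.KFacts.ChevTwo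
  Cfsg.Agent.Omega.EH3.Kf.Base Cfsg.Agent.Omega.EH3.Kf.Cov Cfsg.Agent.Omega.EH3.Kf.TwC
open scoped commutatorElement

variable {n : ℕ} {W Y K : Type*} [Group W] [Group Y] [Field K] {cs : CoxeterSystem (CoxeterMatrix.B n) W}
  {e : (Fin n → ℤ) → K → Y} {T : Subgroup Y} {nn : Fin n → Y} {X : (Fin n → ℤ) → Subgroup Y}

theorem ee_rt_apply (a b : Fin n × Bool) (k : Fin n) : ee (rt a b) k =
    (if k = a.1 then (if a.2 then 1 else -1) else 0) + (if k = b.1 then (if b.2 then 1 else -1) else 0) := by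
  rw [ee_rt, Pi.add_apply, wt_apply, wt_apply]

theorem cpr_ne [Finite W] (a b c d : Fin n × Bool) (h : c.1 ≠ d.1) :
    cpr cs (isCartan n) (rt a b) (rt c d) =
      ee (rt a b) c.1 * (if c.2 then 1 else -1) + ee (rt a b) d.1 * (if d.2 then 1 else -1) := cpr_rt cs _ h

theorem cpr_self' [Finite W] (a b c : Fin n × Bool) :
    cpr cs (isCartan n) (rt a b) (rt c c) = ee (rt a b) c.1 * (if c.2 then 1 else -1) := cpr_rt_self cs _ c

section sys

variable [Finite W] {R : RGD cs (isCartan n) 2 T nn X} (S : Sys R e)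

include S

/-- short roots, sum short -/
theorem br1 {i j k : Fin n} (hij : i ≠ j) (hjk : j ≠ k) (hik : i ≠ k) (s : Bool) (t u : K) :
    ⁅e (rt (i, true) (j, false)) t, e (rt (j, true) (k, s)) u⁆ = e (rt (i, true) (k, s)) (t * u) := by
  have h1 : IsRoot cs (isCartan n) (rt (i, true) (j, false)) := isRoot_rt cs (Or.inl hij)
  have h2 : IsRoot cs (isCartan n) (rt (j, true) (k, s)) := isRoot_rt cs (Or.inl hjk)
  have h3 := S.data.comm1 _ _ h1 h2 (by
    rw [cpr_ne _ _ _ _ (by simpa using hjk), ee_rt_apply, ee_rt_apply]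
    simp [hij.symm, hjk.symm, hik.symm]) (by
    rw [cpr_ne _ _ _ _ (by simpa using hij), ee_rt_apply, ee_rt_apply]
    simp [hij, hjk, hik]) t u
  rw [h3]
  congr 1
  apply ee_injective
  rw [ee_add, ee_rt, ee_rt, ee_rt]
  have : wt (j, false) = -wt ((j, true) : Fin n × Bool) := wt_ng (j, true)
  rw [this]; abel

/-- `[2ε_j, ε_i - ε_j]` -/
theorem br2 {i j : Fin n} (hij : i ≠ j) (t u : K) :
    ⁅e (rt (j, true) (j, true)) t, e (rt (i, true) (j, false)) u⁆ =
      e (rt (i, true) (j, true)) (t * u) * e (rt (i, true) (i, true)) (t * u ^ 2) := by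
  have h1 : IsRoot cs (isCartan n) (rt (j, true) (j, true)) := isRoot_rt cs (Or.inr rfl)
  have h2 : IsRoot cs (isCartan n) (rt (i, true) (j, false)) := isRoot_rt cs (Or.inl hij)
  have h3 := S.data.comm2 _ _ h1 h2 (by
    rw [cpr_ne _ _ _ _ (by simpa using hij), ee_rt_apply, ee_rt_apply]
    simp [hij]) (by
    rw [cpr_self', ee_rt_apply]
    simp [hij.symm]) t u
  rw [h3]
  have e0 : wt (j, false) = -wt ((j, true) : Fin n × Bool) := wt_ng (j, true)
  congr 2
  · apply ee_injective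
    rw [ee_add, ee_rt, ee_rt, ee_rt, e0]; abel
  · apply ee_injective
    rw [ee_add, ee_smul, ee_rt, ee_rt, ee_rt, e0, two_smul]; abel

theorem mem' {x : Fin n → ℤ} (hx : IsRoot cs (isCartan n) x) {g : Y} : g ∈ X x ↔ ∃ t, e x t = g := S.mem_X x hx g

/-- the long root group -/
theorem long_mem (hK : ∃ u : K, u ≠ 0 ∧ u ≠ 1) {i j : Fin n} (hij : i ≠ j) (c : K) :
    e (rt (i, true) (i, true)) c ∈ ⁅X (rt (j, true) (j, true)), X (rt (i, true) (j, false))⁆ := by
  obtain ⟨v, hv0, hv1⟩ := hK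
  have hL : IsRoot cs (isCartan n) (rt (j, true) (j, true)) := isRoot_rt cs (Or.inr rfl)
  have hz : IsRoot cs (isCartan n) (rt (i, true) (i, true)) := isRoot_rt cs (Or.inr rfl)
  have hS : IsRoot cs (isCartan n) (rt (i, true) (j, false)) := isRoot_rt cs (Or.inl hij)
  have h2 : (1 + v) ≠ 0 := by
    intro h
    apply hv1
    have h3 := S.data.two v
    have h4 : v + v = 1 + v := h3.trans h.symm
    exact add_right_cancel h4
  set m : K := c / (1 + v) with hm
  have hA := Subgroup.commutator_mem_commutator (S.mem hL m) (S.mem hS 1)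
  have hB := Subgroup.commutator_mem_commutator (S.mem hL (m / v)) (S.mem hS v)
  rw [br2 S hij] at hA hB
  have h5 := mul_mem (inv_mem hA) hB
  have e1 : m * 1 = m := mul_one m
  have e2 : m / v * v = m := div_mul_cancel₀ m hv0
  have e3 : m / v * v ^ 2 = m * v := by rw [pow_two, ← mul_assoc, e2]
  rw [one_pow, e1, e2, e3, mul_inv_rev, mul_assoc, inv_mul_cancel_left, S.data.inv hz, ← S.data.add _ hz] at h5
  have e4 : m + m * v = c := by rw [hm]; field_simp
  rwa [e4] at h5

/-- the short root group -/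
theorem short_mem (hK : ∃ u : K, u ≠ 0 ∧ u ≠ 1) {i j : Fin n} (hij : i ≠ j) (c : K) :
    e (rt (i, true) (j, true)) c ∈ ⁅X (rt (j, true) (j, true)), X (rt (i, true) (j, false))⁆ := by
  have hL : IsRoot cs (isCartan n) (rt (j, true) (j, true)) := isRoot_rt cs (Or.inr rfl)
  have hS : IsRoot cs (isCartan n) (rt (i, true) (j, false)) := isRoot_rt cs (Or.inl hij)
  have hA := Subgroup.commutator_mem_commutator (S.mem hL c) (S.mem hS 1)
  rw [br2 S hij, mul_one] at hA
  have h1 := mul_mem hA (inv_mem (long_mem S hK hij (c * 1 ^ 2)))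
  rwa [mul_inv_cancel_right] at h1

/-- **Generation.** -/
theorem gd (hK : ∃ u : K, u ≠ 0 ∧ u ≠ 1) : Gd X where
  a2 := by
    intro i j k hij hjk x y z ex ey ez
    obtain rfl := eq_rt ex
    obtain rfl := eq_rt ey
    obtain rfl := eq_rt ez
    intro g hg
    have hz : IsRoot cs (isCartan n) (rt (i, true) (k, false)) := isRoot_rt cs (Or.inl (hij.trans hjk).ne)
    obtain ⟨t, rfl⟩ := (mem' S hz).1 hg
    have h1 := br1 S hij.ne hjk.ne (hij.trans hjk).ne false t 1
    rw [mul_one] at h1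
    rw [← h1]
    exact Subgroup.commutator_mem_commutator (S.mem (isRoot_rt cs (Or.inl hij.ne)) _)
      (S.mem (isRoot_rt cs (Or.inl hjk.ne)) _)
  mid := by
    intro i j hij x y z t ex ey ez et
    obtain rfl := eq_rt ex
    obtain rfl := eq_rt ey
    obtain rfl := eq_rt ez
    obtain rfl := eq_rt et
    refine le_trans ?_ (le_trans le_sup_left le_sup_left)
    intro g hg
    obtain ⟨t, rfl⟩ := (mem' S (isRoot_rt cs (Or.inl hij.ne))).1 hg
    rw [Subgroup.commutator_comm]
    exact short_mem S hK hij.ne t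
  lng := by
    intro i j hij x y z t ex ey ez et
    obtain rfl := eq_rt ex
    obtain rfl := eq_rt ey
    obtain rfl := eq_rt ez
    obtain rfl := eq_rt et
    refine le_trans ?_ (le_trans le_sup_left le_sup_left)
    intro g hg
    obtain ⟨t, rfl⟩ := (mem' S (isRoot_rt cs (Or.inr rfl))).1 hg
    rw [Subgroup.commutator_comm]
    exact long_mem S hK hij.ne t

/-- the short root groups do not commute -/
theorem nas : NAS X := by
  intro i j k hij hjk x y ex ey h0
  have ey' : ee y = wt (k, true) + wt (j, true) := by rw [ey, add_comm]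
  obtain rfl := eq_rt ex
  obtain rfl := eq_rt ey'
  have h1 := Subgroup.commutator_mem_commutator
    (S.mem (isRoot_rt cs (Or.inl (hij.trans hjk).ne) : IsRoot cs (isCartan n) (rt (i, true) (k, false))) 1)
    (S.mem (isRoot_rt cs (Or.inl hjk.ne') : IsRoot cs (isCartan n) (rt (k, true) (j, true))) 1)
  rw [br1 S (hij.trans hjk).ne hjk.ne' hij.ne true, h0, Subgroup.mem_bot, mul_one] at h1
  exact one_ne_zero (S.data.inj _ (isRoot_rt cs (Or.inl hij.ne)) _ h1)

end sys

/-! ### The orbits -/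

theorem rep_rt (i : Fin n) (a b : Fin n × Bool) :
    rep cs (isCartan n) (cs.simple i) (rt a b) = rt (sg i a) (sg i b) := by
  apply ee_injective
  rw [rep_simple, ee_rt]
  exact ee_refl_of (ee_rt a b)

theorem simple_mem_WJ {J : Set (Fin n)} {i : Fin n} (hi : i ∈ J) : cs.simple i ∈ WJ cs J :=
  Subgroup.subset_closure ⟨i, hi, rfl⟩

/-- the orbit of the last node: `2 ε_m` -/
theorem orbL (l : Fin n) (hl : (l : ℕ) + 1 = n) (d : ℕ) : ∀ m : Fin n, (m : ℕ) + d + 1 = n →
    ∃ v ∈ WJ cs ({l}ᶜ : Set (Fin n)), rt (m, true) (m, true) = rep cs (isCartan n) v (sr l) := by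
  induction d with
  | zero =>
    intro m hm
    have h1 : m = l := Fin.ext (by omega)
    subst h1
    refine ⟨1, one_mem _, ?_⟩
    rw [map_one, Module.End.one_apply, sr_eq_rt, nx, dif_neg (by omega)]
  | succ d ih =>
    intro m hm
    have hm1 : (m : ℕ) + 1 < n := by omega
    obtain ⟨v, hv, h1⟩ := ih ⟨m + 1, hm1⟩ (by simp only; omega)
    refine ⟨cs.simple m * v, mul_mem (simple_mem_WJ ?_) hv, ?_⟩
    · intro h2
      have h3 : m = l := h2
      subst h3
      omega
    · rw [rep_mul_apply, ← h1, rep_rt, sg_down hm1]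

/-- the orbit of the node `0`: `ε_0 - ε_k` -/
theorem orbS (o : Fin n) (ho : (o : ℕ) = 0) (d : ℕ) : ∀ k : Fin n, (k : ℕ) = d + 1 →
    ∃ v ∈ WJ cs ({o}ᶜ : Set (Fin n)), rt (o, true) (k, false) = rep cs (isCartan n) v (sr o) := by
  induction d with
  | zero =>
    intro k hk
    refine ⟨1, one_mem _, ?_⟩
    have h1 : (o : ℕ) + 1 < n := by have := k.2; omega
    rw [map_one, Module.End.one_apply, sr_eq_rt, nx, dif_pos h1]
    congr 2
    exact Fin.ext (by simp only; omega)
  | succ d ih =>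
    intro k hk
    have hk' : d + 1 < n := by have := k.2; omega
    obtain ⟨v, hv, h1⟩ := ih ⟨d + 1, hk'⟩ rfl
    refine ⟨cs.simple ⟨d + 1, hk'⟩ * v, mul_mem (simple_mem_WJ ?_) hv, ?_⟩
    · intro h2
      have h3 : (⟨d + 1, hk'⟩ : Fin n) = o := h2
      have h4 := congrArg Fin.val h3
      simp only at h4
      omega
    · have h3 : ((⟨d + 1, hk'⟩ : Fin n) : ℕ) + 1 < n := by have := k.2; simp only; omega
      rw [rep_mul_apply, ← h1, rep_rt, sg_up h3, sg_of_ne]
      · congr 2
        exact Fin.ext hk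
      · intro h4
        have := congrArg Fin.val h4
        simp only at this
        omega
      · simp only; omega

/-- the orbit of the node `0`: `ε_0 + ε_k` -/
theorem orbS' (o : Fin n) (ho : (o : ℕ) = 0) (d : ℕ) : ∀ k : Fin n, 0 < (k : ℕ) → (k : ℕ) + d + 1 = n →
    ∃ v ∈ WJ cs ({o}ᶜ : Set (Fin n)), rt (o, true) (k, true) = rep cs (isCartan n) v (sr o) := by
  induction d with
  | zero =>
    intro k hk0 hk
    obtain ⟨v, hv, h1⟩ := orbS (cs := cs) o ho ((k : ℕ) - 1) k (by omega)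
    refine ⟨cs.simple k * v, mul_mem (simple_mem_WJ ?_) hv, ?_⟩
    · intro h2
      have h3 : k = o := h2
      subst h3
      omega
    · have h3 : ¬ (k : ℕ) + 1 < n := by omega
      rw [rep_mul_apply, ← h1, rep_rt, sg_last h3, sg_of_ne]
      · rfl
      · intro h4
        have := congrArg Fin.val h4
        simp only at this
        omega
      · simp only; omega
  | succ d ih =>
    intro k hk0 hk
    have hk1 : (k : ℕ) + 1 < n := by omega
    obtain ⟨v, hv, h1⟩ := ih ⟨k + 1, hk1⟩ (by simp only; omega) (by simp only; omega)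
    refine ⟨cs.simple k * v, mul_mem (simple_mem_WJ ?_) hv, ?_⟩
    · intro h2
      have h3 : k = o := h2
      subst h3
      omega
    · rw [rep_mul_apply, ← h1, rep_rt, sg_down hk1, sg_of_ne]
      · intro h4
        have := congrArg Fin.val h4
        simp only at this
        omega
      · simp only; omega

/-! ### The theorem -/

theorem comm_zero [Finite W] {R : RGD cs (isCartan n) 2 T nn X} (S : Sys R e) {x y : Fin n → ℤ}
    (hx : IsRoot cs (isCartan n) x) (hy : IsRoot cs (isCartan n) y) (hc : cpr cs (isCartan n) x y = 0) :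
    ∀ u ∈ X x ⊔ X (-x), ∀ v ∈ X y, u * v = v * u := by
  have h1 : ∀ z, IsRoot cs (isCartan n) z → cpr cs (isCartan n) z y = 0 → X z ≤ Subgroup.centralizer (X y : Set Y) := by
    intro z hz hc g hg
    rw [Subgroup.mem_centralizer_iff]
    intro v hv
    obtain ⟨t, rfl⟩ := (mem' S hz).1 hg
    obtain ⟨s, rfl⟩ := (mem' S hy).1 hv
    exact (S.data.comm_of_nonneg hz hy hc.ge t s).symm
  have h2 : X x ⊔ X (-x) ≤ Subgroup.centralizer (X y : Set Y) := by
    refine sup_le (h1 x hx hc) (h1 (-x) hx.neg ?_)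
    rw [cpr_neg cs _ _ hy, hc, neg_zero]
  intro u hu v hv
  exact (Subgroup.mem_centralizer_iff.1 (h2 hu) v hv).symm

/-- **`PSp_{2n}(q)`, `q ≥ 4` even: no row.** -/
theorem false_of_sys [Finite Y] {V : Type*} [AddCommGroup V] [Module (ZMod 2) V] {ρ : Y →* (V ≃ₗ[ZMod 2] V)}
    {b : LinearMap.BilinForm (ZMod 2) V} {a : V} {D : Submodule (ZMod 2) V} {X0 : Subgroup Y} {w m : ℕ} (hn : 2 ≤ n)
    (R : Row cs (isCartan n) T nn X ρ b a D X0 w) (S : Sys R.rgd e) (hm : 2 ≤ m) (hK : Nat.card K = 2 ^ m) :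
    False := by
  have hfin : Finite W := finite_W cs
  have hKf : Finite K := Nat.finite_of_card_ne_zero (by rw [hK]; positivity)
  have h4 : 4 ≤ Nat.card K := by
    rw [hK]
    calc 4 = 2 ^ 2 := by norm_num
      _ ≤ 2 ^ m := Nat.pow_le_pow_right (by norm_num) hm
  have hu : ∃ u : K, u ≠ 0 ∧ u ≠ 1 := by
    classical
    have := Fintype.ofFinite K
    rw [Nat.card_eq_fintype_card] at h4
    by_contra hcon
    push Not at hcon
    have h5 : (Finset.univ : Finset K) ⊆ {0, 1} := by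
      intro u _
      by_cases hu : u = 0
      · simp [hu]
      · simp [hcon u hu]
    have h6 := Finset.card_le_card h5
    have h7 : ({0, 1} : Finset K).card ≤ 2 := Finset.card_le_two
    rw [Finset.card_univ] at h6
    omega
  have hX : X0 = VJ cs (isCartan n) X (Mv ρ nn a)ᶜ := by
    refine eq_VJ R (ThmA.thmA R.core (le_refl _)) ?_
    intro x hx h0 hs
    exact (gd S hu).gen cs hx h0 hs
  obtain ⟨k, hk⟩ := mv_nonempty R
  have hone : Mv ρ nn a = {k} := by
    ext l
    constructor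
    · intro hl; exact mv_one R hX (nas S) hl hk
    · rintro rfl; exact hk
  have hcard : ∀ x, IsRoot cs (isCartan n) x → Nat.card (X x) = 2 ^ m := by
    intro x hx
    rw [← hK]
    refine (Nat.card_congr (Equiv.ofBijective (fun t : K => (⟨e x t, S.mem hx t⟩ : X x)) ⟨?_, ?_⟩)).symm
    · intro t u htu
      exact S.data.injective hx (congrArg Subtype.val htu)
    · rintro ⟨g, hg⟩
      obtain ⟨t, rfl⟩ := (mem' S hx).1 hg
      exact ⟨t, rfl⟩
  have fin : ∀ x y : Fin n → ℤ, IsRoot cs (isCartan n) x → IsRoot cs (isCartan n) y → 0 ≤ x → 0 ≤ y →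
      0 < x k → 0 < y k → (∃ v ∈ WJ cs (Mv ρ nn a)ᶜ, ∃ i ∈ Mv ρ nn a, x = rep cs (isCartan n) v (sr i)) →
      (∃ v ∈ WJ cs (Mv ρ nn a)ᶜ, ∃ i ∈ Mv ρ nn a, y = rep cs (isCartan n) v (sr i)) →
      cpr cs (isCartan n) x y = 0 → False := by
    intro x y hx hy hx0 hy0 hxk hyk hx1 hy1 hc
    have h5 := Orth.sum_le_three R [x, y] (fun _ => m)
      (by
        intro z hz
        simp only [List.mem_cons, List.not_mem_nil, or_false] at hz
        rcases hz with rfl | rfl
        · exact hx1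
        · exact hy1)
      (by
        intro z hz
        simp only [List.mem_cons, List.not_mem_nil, or_false] at hz
        rw [hX]
        rcases hz with rfl | rfl
        · exact X_le_VJ ⟨hx, hx0⟩ hk hxk
        · exact X_le_VJ ⟨hy, hy0⟩ hk hyk)
      (by
        intro z hz
        simp only [List.mem_cons, List.not_mem_nil, or_false] at hz
        rcases hz with rfl | rfl
        · exact hcard _ hx
        · exact hcard _ hy)
      (by
        rw [List.pairwise_pair]
        exact comm_zero S hx hy hc)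
    simp only [List.map_cons, List.map_nil, List.sum_cons, List.sum_nil] at h5
    omega
  have h0n : 0 < n := by omega
  have h1n : 1 < n := by omega
  set o : Fin n := ⟨0, h0n⟩ with ho
  set p : Fin n := ⟨1, h1n⟩ with hp
  have hop : o ≠ p := by rw [ho, hp]; simp
  have hlt : o < p := by rw [Fin.lt_def]; simp [ho, hp]
  rcases mv_int R hX (nas S) hk with hk0 | hk1
  · -- the node `0`
    have hko : k = o := Fin.ext hk0
    subst hko
    obtain ⟨v, hv, e1⟩ := orbS (cs := cs) o hk0 0 p rfl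
    obtain ⟨v', hv', e2⟩ := orbS' (cs := cs) o hk0 (n - 2) p (by simp [hp]) (by simp only [hp]; omega)
    refine fin (rt (o, true) (p, false)) (rt (o, true) (p, true)) (isRoot_rt cs (Or.inl hop)) (isRoot_rt cs (Or.inl hop))
      (TwC.nonneg_of (ee_rt _ _) rfl hlt.le) (TwC.nonneg_of (ee_rt _ _) rfl hlt.le)
      (pos_sub (ee_rt _ _) le_rfl hlt) (pos_add (ee_rt _ _) le_rfl) ?_ ?_ ?_
    · rw [hone]; exact ⟨v, hv, o, rfl, e1⟩
    · rw [hone]; exact ⟨v', hv', o, rfl, e2⟩
    · rw [cpr_ne _ _ _ _ (by simpa using hop), ee_rt_apply, ee_rt_apply]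
      simp [hop, hop.symm]
  · obtain ⟨v, hv, e1⟩ := orbL (cs := cs) k hk1 (n - 1) o (by simp only [ho]; omega)
    obtain ⟨v', hv', e2⟩ := orbL (cs := cs) k hk1 (n - 2) p (by simp only [hp]; omega)
    have hok : o ≤ k := by rw [Fin.le_def]; simp [ho]
    have hpk : p ≤ k := by rw [Fin.le_def]; simp only [hp]; omega
    refine fin (rt (o, true) (o, true)) (rt (p, true) (p, true)) (isRoot_rt cs (Or.inr rfl)) (isRoot_rt cs (Or.inr rfl))
      (TwC.nonneg_of (ee_rt _ _) rfl le_rfl) (TwC.nonneg_of (ee_rt _ _) rfl le_rfl)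
      (pos_add (ee_rt _ _) hok) (pos_add (ee_rt _ _) hpk) ?_ ?_ ?_
    · rw [hone]; exact ⟨v, hv, k, rfl, e1⟩
    · rw [hone]; exact ⟨v', hv', k, rfl, e2⟩
    · rw [cpr_self', ee_rt_apply]
      simp [hop.symm]

end Cfsg.Agent.Omega.EH3.Kf.SpBig
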