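import Mathlib
import Cfsg.Agent.Omega.EH3.Kf.SpBig
import Cfsg.Agent.Omega.EH3.Kf.FamRow
import Cfsg.Agent.KFacts.SysSp

/-!
# EH3, Lie rows in characteristic 2: `KfRow (PSp_{2n}(q))` (helper924)

* `bd_PSp` : the family data of `PSp n F`, `F` finite of characteristic 2, `n ≥ 1`;
* `card_X` : the root groups have order `q`;
* `kfRow_big` : `KfRow (PSp n F)` for `n ≥ 2`, `q ≥ 4`;
* `kfRow_of` : all `q`, given the row for `q = 2`.
-/

set_option autoImplicit false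
set_option linter.unusedSectionVars false

namespace Cfsg.Agent.Omega.EH3.Kf.SpRow

open Cfsg
open CoxeterSystem Cfsg.Agent.ChevalleyStructure.CoxeterGeom Cfsg.Agent.Tits.Roots Cfsg.Agent.Tits.Core
  Cfsg.Agent.Tits.RootComb Cfsg.Agent.Nodes.Comb Cfsg.Agent.Nodes.Reps Cfsg.Agent.Nodes.BNOf
  Cfsg.Agent.Nodes.TypeC Cfsg.Agent.Nodes.KindBC Cfsg.Agent.Nodes.Coroot Cfsg.Agent.KFacts.ChevTwo
  Cfsg.Agent.KFacts Cfsg.Agent.KFacts.SysSp
  Cfsg.Agent.Omega.EH3.Kf.Base Cfsg.Agent.Omega.EH3.Kf.Goal Cfsg.Agent.Omega.EH3.Kf.FamRow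
  Cfsg.Agent.Nodes Cfsg.Agent.Nodes.WittAll Cfsg.Agent.TitsThree
open scoped commutatorElement

universe u v

/-- `Bd` from `Sys` and trivial centre. -/
theorem bd_of {Y K : Type*} [Group Y] [Field K] {l : ℕ} {M : CoxeterMatrix (Fin l)} [Finite M.Group]
    {A : Fin l → Fin l → ℤ} {h : IsCartan M A} {T : Subgroup Y} {n : Fin l → Y} {X : (Fin l → ℤ) → Subgroup Y}
    {e : (Fin l → ℤ) → K → Y} (R : RGD M.toCoxeterSystem h 2 T n X) (S : Sys R e)
    (hG : RGD.Sup X {x | IsRoot M.toCoxeterSystem h x} = ⊤)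
    (hN : RgdCent.NoCent M.toCoxeterSystem h T X) : Bd M h T n X where
  fin := inferInstance
  rgd := R
  gen := hG
  ab := by
    intro s hs t ht
    have h1 : s * t * s⁻¹ * t⁻¹ = 1 := by
      refine hN _ (mul_mem (mul_mem (mul_mem hs ht) (inv_mem hs)) (inv_mem ht)) fun b hb v hv => ?_
      obtain ⟨x, rfl⟩ := (S.mem_X b hb v).1 hv
      obtain ⟨c, hc⟩ : ∃ c : Kˣ, ∀ u, s * e b u * s⁻¹ = e b (c * u) := by
        obtain ⟨χ, hχ⟩ := S.chi s hs
        exact ⟨_, hχ b hb⟩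
      obtain ⟨d, hd⟩ : ∃ d : Kˣ, ∀ u, t * e b u * t⁻¹ = e b (d * u) := by
        obtain ⟨χ, hχ⟩ := S.chi t ht
        exact ⟨_, hχ b hb⟩
      have hs' : ∀ x, s⁻¹ * e b x * s = e b ((c⁻¹ : Kˣ) * x) := fun x => by
        have h2 := hc ((c⁻¹ : Kˣ) * x)
        rw [← mul_assoc, Units.mul_inv, one_mul] at h2
        rw [← h2]; group
      have ht' : ∀ x, t⁻¹ * e b x * t = e b ((d⁻¹ : Kˣ) * x) := fun x => by
        have h2 := hd ((d⁻¹ : Kˣ) * x)
        rw [← mul_assoc, Units.mul_inv, one_mul] at h2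
        rw [← h2]; group
      have h3 : s * t * s⁻¹ * t⁻¹ * e b x * (s * t * s⁻¹ * t⁻¹)⁻¹ = e b x := by
        have h4 : s * t * s⁻¹ * t⁻¹ * e b x * (s * t * s⁻¹ * t⁻¹)⁻¹ =
            s * (t * (s⁻¹ * (t⁻¹ * e b x * t) * s) * t⁻¹) * s⁻¹ := by group
        rw [h4, ht', hs', hd, hc]
        congr 1
        have h5 : (c : K) * (d * ((c⁻¹ : Kˣ) * ((d⁻¹ : Kˣ) * x))) =
            ((c : K) * (c⁻¹ : Kˣ)) * (((d : K) * (d⁻¹ : Kˣ)) * x) := by ring
        rw [h5, Units.mul_inv, Units.mul_inv, one_mul, one_mul]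
      exact mul_inv_eq_iff_eq_mul.1 h3
    have h5 : s * t * s⁻¹ * t⁻¹ * t * s = t * s := by rw [h1, one_mul]
    simpa [mul_assoc] using h5
  el i u hu := by
    obtain ⟨t, rfl⟩ := (S.mem_X _ (isRoot_sr _ h i) u).1 hu
    exact S.data.sq (isRoot_sr _ h i) t

theorem card_X {Y K : Type*} [Group Y] [Field K] {l : ℕ} {M : CoxeterMatrix (Fin l)} {W : Type*} [Group W] [Finite W]
    {cs : CoxeterSystem M W} {A : Fin l → Fin l → ℤ} {h : IsCartan M A} {T : Subgroup Y} {n : Fin l → Y}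
    {X : (Fin l → ℤ) → Subgroup Y} {e : (Fin l → ℤ) → K → Y} {R : RGD cs h 2 T n X} (S : Sys R e)
    {x : Fin l → ℤ} (hx : IsRoot cs h x) : Nat.card (X x) = Nat.card K := by
  refine (Nat.card_congr (Equiv.ofBijective (fun t : K => (⟨e x t, S.mem hx t⟩ : X x)) ⟨?_, ?_⟩)).symm
  · intro t u htu
    exact S.data.injective hx (congrArg Subtype.val htu)
  · rintro ⟨g, hg⟩
    obtain ⟨t, rfl⟩ := (S.mem_X x hx g).1 hg
    exact ⟨t, rfl⟩

/-- the order of a finite field of characteristic two -/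
theorem exists_card (F : Type*) [Field F] [Finite F] [CharP F 2] : ∃ m, 1 ≤ m ∧ Nat.card F = 2 ^ m := by
  have := Fintype.ofFinite F
  obtain ⟨m, -, hm⟩ := FiniteField.card F 2
  exact ⟨m, m.2, by rw [Nat.card_eq_fintype_card]; exact hm⟩

section

variable (n : ℕ) (F : Type v) [Field F] [Finite F] [CharP F 2]

theorem finite_Y : Finite (PSp n F) := Quotient.finite _

/-- The data of `PSp n F`. -/
theorem bd_PSp (hn : 0 < n) : Bd (CoxeterMatrix.B n) (isCartan n) (WittModel.T (KInstSp.model n F))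
    (fun i => (KInstSp.model n F).φ ⟨WittRGD.nn (SpIdent.frame n F) (SpIdent.adm 1) i,
      WittAll.nn_mem (AmbT.of_amb WittU.amb_Sp 2) (SpIdent.adm 1) i⟩) (WittModel.X (KInstSp.model n F)) := by
  have : Fact (Nat.Prime 2) := ⟨Nat.prime_two⟩
  have : Finite (CoxeterMatrix.B n).Group := finite_W (CoxeterMatrix.B n).toCoxeterSystem
  exact bd_of _ (sys_PSp n F (CoxeterMatrix.B n).toCoxeterSystem) (sup_eq_top_PSp hn F _) (noCent_PSp n F _)

/-- The row for `q ≥ 4`. -/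
theorem rowEnd_big (hn : 2 ≤ n) (hF : 2 < Nat.card F) : RowEnd.{u} (CoxeterMatrix.B n) (isCartan n)
    (WittModel.T (KInstSp.model n F))
    (fun i => (KInstSp.model n F).φ ⟨WittRGD.nn (SpIdent.frame n F) (SpIdent.adm 1) i,
      WittAll.nn_mem (AmbT.of_amb WittU.amb_Sp 2) (SpIdent.adm 1) i⟩) (WittModel.X (KInstSp.model n F)) := by
  intro V _ _ ρ b a D X0 w R
  exfalso
  have : Fact (Nat.Prime 2) := ⟨Nat.prime_two⟩
  have : Finite (PSp n F) := finite_Y n F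
  have : Finite (CoxeterMatrix.B n).Group := finite_W (CoxeterMatrix.B n).toCoxeterSystem
  obtain ⟨m, hm, hc⟩ := exists_card F
  have hm2 : 2 ≤ m := by
    by_contra hlt
    have : m = 1 := by omega
    subst this
    omega
  exact SpBig.false_of_sys hn R (sys_PSp n F (CoxeterMatrix.B n).toCoxeterSystem) hm2 hc

/-- **`KfRow (PSp_{2n}(q))`, `n ≥ 2`, `q ≥ 4` even.** -/
theorem kfRow_big (hn : 2 ≤ n) (hF : 2 < Nat.card F) : KfRow.{u} (PSp n F) :=
  ⟨n, _, _, _, _, _, _, bd_PSp n F (by omega), rowEnd_big n F hn hF⟩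

/-- All `q`, given the row for `q = 2`. -/
theorem kfRow_of (hn : 2 ≤ n) (h2 : ∀ (V : Type u) [AddCommGroup V] [Module (ZMod 2) V]
    (T : Subgroup (PSp n F)) (nn : Fin n → PSp n F) (X : (Fin n → ℤ) → Subgroup (PSp n F))
    (ρ : PSp n F →* (V ≃ₗ[ZMod 2] V)) (b : LinearMap.BilinForm (ZMod 2) V) (a : V) (D : Submodule (ZMod 2) V)
    (X0 : Subgroup (PSp n F)) (w : ℕ),
    Row (CoxeterMatrix.B n).toCoxeterSystem (isCartan n) T nn X ρ b a D X0 w →
    (∀ i, Nat.card (X (sr i)) = 2) → False) : KfRow.{u} (PSp n F) := by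
  by_cases hF : 2 < Nat.card F
  · exact kfRow_big n F hn hF
  · have : Fact (Nat.Prime 2) := ⟨Nat.prime_two⟩
    obtain ⟨m, hm, hc⟩ := exists_card F
    have hc2 : Nat.card F = 2 := by
      have h3 : 2 ^ 1 ≤ 2 ^ m := Nat.pow_le_pow_right (by norm_num) hm
      omega
    refine ⟨n, _, _, _, _, _, _, bd_PSp n F (by omega), ?_⟩
    intro V _ _ ρ b a D X0 w R
    exfalso
    have : Finite (CoxeterMatrix.B n).Group := finite_W (CoxeterMatrix.B n).toCoxeterSystem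
    refine h2 V _ _ _ ρ b a D X0 w R fun i => ?_
    rw [card_X (sys_PSp n F (CoxeterMatrix.B n).toCoxeterSystem) (isRoot_sr _ _ i), hc2]

end

end Cfsg.Agent.Omega.EH3.Kf.SpRow
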