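import Mathlib
import Cfsg.Agent.Nodes.RGDLift
import Cfsg.Agent.Nodes.Bruhat

/-!
# EH3, Lie rows in characteristic 2: the torus on a central cover (helper827)

`R : RGD cs h p T n X` with `n j ∈ ⟨X α_j, X (-α_j)⟩`.

* `T0 T X = ⨆ j, T ⊓ ⟨X α_j, X (-α_j)⟩` : `rgd_T0 : RGD cs h p (T0 T X) n X`;
* `Rank1 R` : the rank one tori are cyclic and induce on `⟨X α_j, X (-α_j)⟩` everything that `T` induces;
* `comm_T0` : for a central extension `f : Y → Y'` with a datum `R'` of `Y'` with `Rank1`, the group `T0` of the lifted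
  datum is abelian;
* `lift` : the datum of a perfect central extension by a `p'`-group.
-/

set_option autoImplicit false
set_option linter.unusedSectionVars false

namespace Cfsg.Agent.Omega.EH3.Kf.Tor

open scoped commutatorElement

open CoxeterSystem Cfsg.Agent.ChevalleyStructure.CoxeterGeom Cfsg.Agent.Tits.Roots Cfsg.Agent.Tits.Core
  Cfsg.Agent.Tits.RootComb Cfsg.Agent.Nodes.Comb Cfsg.Agent.Nodes.Reps Cfsg.Agent.Nodes.BNOf
  Cfsg.Agent.Nodes.RGDLib Cfsg.Agent.Nodes.PosPair Cfsg.Agent.Nodes.RGDLift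

/-! ### Braid relations and involutions -/

section Grp

variable {Q : Type*} [Group Q] {a b : Q}

theorem inv_self {a : Q} (ha : a * a = 1) : a⁻¹ = a := inv_eq_of_mul_eq_one_left ha

theorem braid_two (ha : a * a = 1) (hb : b * b = 1) (h : (a * b) ^ 2 = 1) : a * b = b * a := by
  have h1 : (a * b) * (a * b) = 1 := by rw [← pow_two]; exact h
  rw [eq_inv_of_mul_eq_one_left h1, mul_inv_rev, inv_self ha, inv_self hb]

theorem braid_three (ha : a * a = 1) (hb : b * b = 1) (h : (a * b) ^ 3 = 1) : a * b * a = b * (a * b) := by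
  have h1 : (a * b * a) * (b * a * b) = 1 := by rw [← h]; simp only [pow_succ, pow_zero, one_mul]; group
  rw [eq_inv_of_mul_eq_one_left h1, mul_inv_rev, mul_inv_rev, inv_self ha, inv_self hb]

theorem braid_four (ha : a * a = 1) (hb : b * b = 1) (h : (a * b) ^ 4 = 1) :
    a * b * a * b = b * (a * b * a) := by
  have h1 : (a * b * a * b) * (a * b * a * b) = 1 := by rw [← h]; simp only [pow_succ, pow_zero, one_mul]; group
  rw [eq_inv_of_mul_eq_one_left h1]
  simp only [mul_inv_rev, inv_self ha, inv_self hb, mul_assoc]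

theorem braid_six (ha : a * a = 1) (hb : b * b = 1) (h : (a * b) ^ 6 = 1) :
    a * b * a * b * a * b = b * (a * b * a * b * a) := by
  have h1 : (a * b * a * b * a * b) * (a * b * a * b * a * b) = 1 := by
    rw [← h]; simp only [pow_succ, pow_zero, one_mul]; group
  rw [eq_inv_of_mul_eq_one_left h1]
  simp only [mul_inv_rev, inv_self ha, inv_self hb, mul_assoc]

theorem pow_two_of (ha : a * a = 1) (hb : b * b = 1) (h : a * b = b * a) : (a * b) ^ 2 = 1 := by
  rw [pow_two]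
  nth_rewrite 2 [h]
  rw [mul_assoc, ← mul_assoc b b a, hb, one_mul, ha]

theorem pow_three_of (ha : a * a = 1) (hb : b * b = 1) (h : a * b * a = b * (a * b)) : (a * b) ^ 3 = 1 := by
  have h1 : (a * b) ^ 3 = (a * b * a) * (b * (a * b)) := by simp only [pow_succ, pow_zero, one_mul]; group
  rw [h1, ← h]
  calc a * b * a * (a * b * a) = a * b * (a * a) * b * a := by group
    _ = 1 := by rw [ha, mul_one, mul_assoc a b b, hb, mul_one, ha]

theorem pow_four_of (ha : a * a = 1) (hb : b * b = 1) (h : a * b * a * b = b * (a * b * a)) : (a * b) ^ 4 = 1 := by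
  have h1 : (a * b) ^ 4 = (a * b * a * b) * (a * b * a * b) := by simp only [pow_succ, pow_zero, one_mul]; group
  rw [h1]
  nth_rewrite 2 [h]
  calc a * b * a * b * (b * (a * b * a)) = a * b * a * (b * b) * a * b * a := by group
    _ = a * b * (a * a) * b * a := by rw [hb, mul_one]; group
    _ = 1 := by rw [ha, mul_one, mul_assoc a b b, hb, mul_one, ha]

theorem pow_six_of (ha : a * a = 1) (hb : b * b = 1) (h : a * b * a * b * a * b = b * (a * b * a * b * a)) :
    (a * b) ^ 6 = 1 := by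
  have h1 : (a * b) ^ 6 = (a * b * a * b * a * b) * (a * b * a * b * a * b) := by
    simp only [pow_succ, pow_zero, one_mul]; group
  rw [h1]
  nth_rewrite 2 [h]
  calc a * b * a * b * a * b * (b * (a * b * a * b * a)) = a * b * a * b * a * (b * b) * a * b * a * b * a := by group
    _ = a * b * a * b * (a * a) * b * a * b * a := by rw [hb, mul_one]; group
    _ = a * b * a * (b * b) * a * b * a := by rw [ha, mul_one]; group
    _ = a * b * (a * a) * b * a := by rw [hb, mul_one]; group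
    _ = 1 := by rw [ha, mul_one, mul_assoc a b b, hb, mul_one, ha]

end Grp

/-! ### The group generated by the rank one tori -/

variable {I W Y : Type*} [Fintype I] [DecidableEq I] [Group W] [Group Y] {M : CoxeterMatrix I}
  {cs : CoxeterSystem M W} {A : I → I → ℤ} {h : IsCartan M A} {p : ℕ} {T : Subgroup Y} {n : I → Y}
  {X : (I → ℤ) → Subgroup Y}

/-- the rank one group -/
def Lr (X : (I → ℤ) → Subgroup Y) (j : I) : Subgroup Y := X (sr j) ⊔ X (-sr j)

/-- The group generated by the rank one tori. -/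
def T0 (T : Subgroup Y) (X : (I → ℤ) → Subgroup Y) : Subgroup Y := ⨆ j : I, T ⊓ Lr X j

theorem T0_le : T0 T X ≤ T := iSup_le fun _ => inf_le_left

theorem le_T0 (j : I) : T ⊓ Lr X j ≤ T0 T X := le_iSup (fun j : I => T ⊓ Lr X j) j

theorem cj_Lr (R : RGD cs h p T n X) {t : Y} (ht : t ∈ T) (j : I) : cj t (Lr X j) = Lr X j := by
  unfold Lr
  rw [cj_sup, R.tor _ (isRoot_sr cs h j) t ht, R.tor _ (isRoot_sr cs h j).neg t ht]

theorem conj_mem_Lr (R : RGD cs h p T n X) {t g : Y} (ht : t ∈ T) {j : I} (hg : g ∈ Lr X j) : t * g * t⁻¹ ∈ Lr X j := by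
  rw [← cj_Lr R ht j]
  exact conj_mem_cj.2 hg

theorem conj_T0 (R : RGD cs h p T n X) {i : I} {g : Y} (hg : g ∈ Lr X i) (hgT : g ∈ Subgroup.normalizer (T : Set Y)) :
    cj g (T0 T X) ≤ T0 T X := by
  unfold T0
  rw [cj_iSup]
  refine iSup_le fun j => ?_
  intro y hy
  rw [mem_cj] at hy
  set t := g⁻¹ * y * g with ht
  obtain ⟨h1, h2⟩ := hy
  have h3 : y = t * (t⁻¹ * g * t * g⁻¹) := by rw [ht]; group
  have h4 : g * t * g⁻¹ ∈ T := (Subgroup.mem_normalizer_iff.1 hgT t).1 h1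
  have h5 : t⁻¹ * g * t * g⁻¹ ∈ Lr X i := by
    have := conj_mem_Lr R (inv_mem h1) hg
    rw [inv_inv] at this
    exact mul_mem this (inv_mem hg)
  have h6 : t⁻¹ * g * t * g⁻¹ ∈ T := by
    have : t⁻¹ * g * t * g⁻¹ = t⁻¹ * (g * t * g⁻¹) := by group
    rw [this]
    exact mul_mem (inv_mem h1) h4
  rw [h3]
  exact mul_mem (le_T0 j ⟨h1, h2⟩) (le_T0 i ⟨h6, h5⟩)

theorem norm_T0 (R : RGD cs h p T n X) (hn : ∀ i, n i ∈ Lr X i) (i : I) :
    n i ∈ Subgroup.normalizer (T0 T X : Set Y) := by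
  rw [mem_normalizer_iff_cj]
  apply le_antisymm (conj_T0 R (hn i) (R.nsys.norm i))
  have h1 := conj_T0 R ((Lr X i).inv_mem (hn i)) ((Subgroup.normalizer (T : Set Y)).inv_mem (R.nsys.norm i))
  have h2 := cj_mono (n i) h1
  rwa [cj_cj_inv] at h2

theorem rep_sr_of {w : W} {k j : I} (hw : w * cs.simple k = cs.simple j * w) :
    rep cs h w (sr k) = sr j ∨ rep cs h w (sr k) = -sr j := by
  have h1 : rep cs h (w * cs.simple k) (sr k) = rep cs h (cs.simple j * w) (sr k) := by rw [hw]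
  rw [rep_mul_apply, rep_simple_sr, map_neg, rep_mul_apply, rep_simple, refl_apply] at h1
  set z := rep cs h w (sr k) with hz
  have hzr : IsRoot cs h z := (isRoot_sr cs h k).act w
  refine eq_or_eq_neg_of_smul cs h hzr (isRoot_sr cs h j) (a := 2) (b := pairing A j z) two_ne_zero ?_
  have h2 : (Pi.single j (pairing A j z) : I → ℤ) = pairing A j z • sr j := by
    funext l
    rw [Pi.smul_apply, sr, Pi.single_apply, Pi.single_apply]
    split_ifs <;> simp
  rw [h2] at h1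
  have h3 : pairing A j z • sr j = z + z := by
    have : pairing A j z • sr j = z - (z - pairing A j z • sr j) := by abel
    rw [this, ← h1]
    abel
  rw [h3, two_smul]

theorem conj_mem_T0 (R : RGD cs h p T n X) (hn : ∀ i, n i ∈ Lr X i) {w : W} {g : Y} (hg : Rp cs R.nsys w g) {k j : I}
    (hw : w * cs.simple k = cs.simple j * w) : g * n k * g⁻¹ * (n j)⁻¹ ∈ T0 T X := by
  refine le_T0 j ⟨?_, ?_⟩
  · have h1 := ((hg.mul (rp_simple cs R.nsys k)).mul hg.inv).mul (rp_simple cs R.nsys j).inv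
    rw [hw] at h1
    have e : cs.simple j * w * w⁻¹ * (cs.simple j)⁻¹ = 1 := by group
    rw [e] at h1
    exact h1.mem_of_one
  · refine (Lr X j).mul_mem ?_ ((Lr X j).inv_mem (hn j))
    have h1 : cj g (Lr X k) ≤ Lr X j := by
      unfold Lr
      rw [cj_sup, R.conj_rp hg (isRoot_sr cs h k), R.conj_rp hg (isRoot_sr cs h k).neg, map_neg]
      rcases rep_sr_of (h := h) hw with h2 | h2 <;> rw [h2]
      rw [neg_neg, sup_comm]
    exact h1 (conj_mem_cj.2 (hn k))

/-- the relations modulo `T0` -/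
theorem rel_T0 (R : RGD cs h p T n X) (hn : ∀ i, n i ∈ Lr X i) (i j : I) : (n i * n j) ^ M i j ∈ T0 T X := by
  have hsq : ∀ i, n i * n i ∈ T0 T X := by
    intro i
    have h1 := R.nsys.rel i i
    rw [M.diagonal, pow_one] at h1
    exact le_T0 i ⟨h1, mul_mem (hn i) (hn i)⟩
  by_cases hij : i = j
  · subst hij
    rw [M.diagonal, pow_one]
    exact hsq i
  set N0 := Subgroup.normalizer (T0 T X : Set Y) with hN0
  let ν : I → N0 := fun i => ⟨n i, norm_T0 R hn i⟩
  let π : N0 →* N0 ⧸ (T0 T X).subgroupOf N0 := QuotientGroup.mk' _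
  have hπ : ∀ x : N0, π x = 1 ↔ (x : Y) ∈ T0 T X := fun x => by
    rw [QuotientGroup.mk'_apply, QuotientGroup.eq_one_iff, Subgroup.mem_subgroupOf]
  have ha : π (ν i) * π (ν i) = 1 := by rw [← map_mul, hπ]; exact hsq i
  have hb : π (ν j) * π (ν j) = 1 := by rw [← map_mul, hπ]; exact hsq j
  have hs : ∀ k, cs.simple k * cs.simple k = 1 := fun k => cs.simple_mul_simple_self k
  have hm : (cs.simple i * cs.simple j) ^ M i j = 1 := cs.simple_mul_simple_pow i j
  have ri := rp_simple cs R.nsys i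
  have rj := rp_simple cs R.nsys j
  suffices h0 : (π (ν i) * π (ν j)) ^ M i j = 1 by
    rw [← map_mul, ← map_pow, hπ] at h0
    exact h0
  have key : ∀ (g : N0) (k : I), (g : Y) * n k * (g : Y)⁻¹ * (n j)⁻¹ ∈ T0 T X → π g * π (ν k) = π (ν j) * π g := by
    intro g k hg
    have h1 : π (g * ν k * g⁻¹ * (ν j)⁻¹) = 1 := (hπ _).2 hg
    rw [map_mul, map_mul, map_mul, map_inv, map_inv] at h1
    have h2 := mul_inv_eq_one.1 h1
    rw [← h2]
    group
  rcases h.rel i j hij with ⟨h0, -⟩ | ⟨h0, -⟩ | ⟨h0, -⟩ | ⟨h0, -⟩ <;> rw [h0] at hm ⊢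
  · refine pow_two_of ha hb ?_
    exact key (ν i) j (conj_mem_T0 R hn ri (braid_two (hs i) (hs j) hm))
  · refine pow_three_of ha hb ?_
    have := key (ν i * ν j) i (conj_mem_T0 R hn (ri.mul rj) (braid_three (hs i) (hs j) hm))
    rwa [map_mul] at this
  · refine pow_four_of ha hb ?_
    have := key (ν i * ν j * ν i) j (conj_mem_T0 R hn ((ri.mul rj).mul ri) (braid_four (hs i) (hs j) hm))
    rwa [map_mul, map_mul] at this
  · refine pow_six_of ha hb ?_
    have := key (ν i * ν j * ν i * ν j * ν i) j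
      (conj_mem_T0 R hn ((((ri.mul rj).mul ri).mul rj).mul ri) (braid_six (hs i) (hs j) hm))
    rwa [map_mul, map_mul, map_mul, map_mul] at this

/-- **The datum with the smaller torus.** -/
theorem rgd_T0 (R : RGD cs h p T n X) (hn : ∀ i, n i ∈ Lr X i) : RGD cs h p (T0 T X) n X where
  nsys := ⟨norm_T0 R hn, rel_T0 R hn⟩
  conj := R.conj
  tor x hx t ht := R.tor x hx t (T0_le ht)
  comm := R.comm
  rk1 i u hu hne := by
    obtain ⟨a, ha, t, ht, b, hb, e⟩ := R.rk1 i u hu hne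
    refine ⟨a, ha, t, le_T0 i ⟨ht, ?_⟩, b, hb, e⟩
    have ha' : a ∈ Lr X i := (le_sup_left : X (sr i) ≤ _) ha
    have hb' : b ∈ Lr X i := (le_sup_left : X (sr i) ≤ _) hb
    have hu' : u ∈ Lr X i := (le_sup_right : X (-sr i) ≤ _) hu
    have h1 : t = a⁻¹ * u * b⁻¹ * (n i)⁻¹ := by rw [e]; group
    rw [h1]
    exact mul_mem (mul_mem (mul_mem ((Lr X i).inv_mem ha') hu') ((Lr X i).inv_mem hb')) ((Lr X i).inv_mem (hn i))
  pgrp := R.pgrp
  notp := R.notp
  tcop := Nat.Coprime.coprime_dvd_left (Subgroup.card_dvd_of_le T0_le) R.tcop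

/-! ### Central extensions -/

/-- The rank one tori are cyclic and induce on the rank one groups everything that `T` induces. -/
structure Rank1 (T : Subgroup Y) (n : I → Y) (X : (I → ℤ) → Subgroup Y) : Prop where
  nmem : ∀ j, n j ∈ Lr X j
  cyc : ∀ j, ∃ z ∈ T ⊓ Lr X j, ∀ t ∈ T ⊓ Lr X j, ∃ k : ℤ, t = z ^ k
  cov : ∀ j, ∀ t ∈ T, ∃ s ∈ T ⊓ Lr X j, ∀ x ∈ Lr X j, s⁻¹ * t * x = x * (s⁻¹ * t)

variable {Y' : Type*} [Group Y'] {T' : Subgroup Y'} {n' : I → Y'} {X' : (I → ℤ) → Subgroup Y'} {f : Y →* Y'}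

section Cover

variable [Finite W] [Finite Y] [Fact p.Prime] (hf : f.ker ≤ Subgroup.center Y) (hp : (Nat.card f.ker).Coprime p)
  (hs : Function.Surjective f) (R' : RGD cs h p T' n' X')

include hf hp hs R' in
theorem map_Lr (j : I) : (Lr (fun x => lft p f (X' x)) j).map f = Lr X' j := by
  unfold Lr
  rw [Subgroup.map_sup, map_lft hf hp hs (R'.pgrp j), map_lft hf hp hs (R'.pgrp' (isRoot_sr cs h j).neg)]

include hf hp hs R' in
theorem exists_n (hn : ∀ j, n' j ∈ Lr X' j) : ∃ n : I → Y, (∀ j, f (n j) = n' j) ∧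
    ∀ j, n j ∈ Lr (fun x => lft p f (X' x)) j := by
  have h1 : ∀ j, ∃ y, f y = n' j ∧ y ∈ Lr (fun x => lft p f (X' x)) j := by
    intro j
    have h2 := hn j
    rw [← map_Lr hf hp hs R' j] at h2
    obtain ⟨y, hy, e⟩ := h2
    exact ⟨y, e, hy⟩
  choose n hn1 hn2 using h1
  exact ⟨n, hn1, hn2⟩

include hf hp hs R' in
/-- an element of the torus over an element centralising `⟨X' α_j, X' (-α_j)⟩` -/
theorem central_of {n : I → Y} (hn : ∀ j, f (n j) = n' j) {j : I} {t : Y} (ht : t ∈ T'.comap f)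
    (hc : ∀ x ∈ Lr X' j, f t * x = x * f t) {y : Y} (hy : y ∈ Lr (fun x => lft p f (X' x)) j) : t * y = y * t := by
  have R := rgd_lift hf hp hs R' hn
  have key : ∀ x, IsRoot cs h x → (∀ y ∈ X' x, f t * y = y * f t) → ∀ y ∈ lft p f (X' x), t * y = y * t := by
    intro x hx hcx y hy
    have hP := R'.pgrp' hx
    have h1 : t * y * t⁻¹ ∈ lft p f (X' x) := by
      rw [← R.tor x hx t ht]
      exact conj_mem_cj.2 hy
    have h2 : t * y * t⁻¹ * y⁻¹ = 1 := by
      refine eq_one_of_mem_lft hf hp hP (mul_mem h1 (inv_mem hy)) ?_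
      rw [map_mul, map_mul, map_mul, map_inv, map_inv, hcx (f y) ((mem_lft hf hP).1 hy).1]
      group
    have h3 := mul_inv_eq_one.1 h2
    calc t * y = t * y * t⁻¹ * t := by group
      _ = y * t := by rw [h3]
  have h1 : Lr (fun x => lft p f (X' x)) j ≤ Subgroup.centralizer {t} := by
    unfold Lr
    refine sup_le (fun y hy => ?_) (fun y hy => ?_)
    · rw [Subgroup.mem_centralizer_singleton_iff]
      exact (key _ (isRoot_sr cs h j) (fun y hy => hc y ((le_sup_left : X' (sr j) ≤ _) hy)) y hy).symm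
    · rw [Subgroup.mem_centralizer_singleton_iff]
      exact (key _ (isRoot_sr cs h j).neg (fun y hy => hc y ((le_sup_right : X' (-sr j) ≤ _) hy)) y hy).symm
  exact (Subgroup.mem_centralizer_singleton_iff.1 (h1 hy)).symm

include hf hp hs R' in
/-- **The torus of the cover is abelian.** -/
theorem comm_T0 (H : Rank1 T' n' X') {n : I → Y} (hn : ∀ j, f (n j) = n' j) {s t : Y}
    (hs' : s ∈ T0 (T'.comap f) (fun x => lft p f (X' x))) (ht' : t ∈ T0 (T'.comap f) (fun x => lft p f (X' x))) :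
    s * t = t * s := by
  -- a rank one torus is abelian
  have h1 : ∀ j, ∀ s ∈ T'.comap f ⊓ Lr (fun x => lft p f (X' x)) j, ∀ t ∈ T'.comap f ⊓ Lr (fun x => lft p f (X' x)) j,
      s * t = t * s := by
    intro j
    obtain ⟨z, hz, hz2⟩ := H.cyc j
    have hzL : z ∈ (Lr (fun x => lft p f (X' x)) j).map f := by
      rw [map_Lr hf hp hs R' j]; exact hz.2
    obtain ⟨y, hy, rfl⟩ := hzL
    have h2 : ∀ s ∈ T'.comap f ⊓ Lr (fun x => lft p f (X' x)) j, ∃ k : ℤ, ∃ c ∈ f.ker, s = y ^ k * c := by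
      rintro s ⟨hs1, hs2⟩
      have hs3 : f s ∈ Lr X' j := by
        rw [← map_Lr hf hp hs R' j]
        exact Subgroup.mem_map_of_mem f hs2
      obtain ⟨k, hk⟩ := hz2 (f s) ⟨hs1, hs3⟩
      refine ⟨k, (y ^ k)⁻¹ * s, ?_, by group⟩
      rw [MonoidHom.mem_ker, map_mul, map_inv, map_zpow, hk, inv_mul_cancel]
    intro s hs1 t ht1
    obtain ⟨k, c, hc, rfl⟩ := h2 s hs1
    obtain ⟨l, d, hd, rfl⟩ := h2 t ht1
    have hc' := Subgroup.mem_center_iff.1 (hf hc)
    have hd' := Subgroup.mem_center_iff.1 (hf hd)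
    calc y ^ k * c * (y ^ l * d) = y ^ k * (y ^ l * d * c) := by rw [hc' (y ^ l * d)]; group
      _ = y ^ l * (y ^ k * d * c) := by group
      _ = y ^ l * (d * y ^ k * c) := by rw [hd' (y ^ k)]
      _ = y ^ l * d * (y ^ k * c) := by group
  -- two rank one tori commute
  have h2 : ∀ i j, ∀ s ∈ T'.comap f ⊓ Lr (fun x => lft p f (X' x)) i, ∀ t ∈ T'.comap f ⊓ Lr (fun x => lft p f (X' x)) j,
      s * t = t * s := by
    intro i j s hs1 t ht1
    obtain ⟨z, hz, hz2⟩ := H.cov j (f s) hs1.1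
    have hzL : z ∈ (Lr (fun x => lft p f (X' x)) j).map f := by
      rw [map_Lr hf hp hs R' j]; exact hz.2
    obtain ⟨y, hy, rfl⟩ := hzL
    have hyT : y ∈ T'.comap f := hz.1
    have h3 : (y⁻¹ * s) * t = t * (y⁻¹ * s) := by
      refine central_of hf hp hs R' hn (mul_mem (inv_mem hyT) hs1.1) ?_ ht1.2
      intro x hx
      rw [map_mul, map_inv]
      exact hz2 x hx
    have h4 := h1 j y ⟨hyT, hy⟩ t ht1
    calc s * t = y * ((y⁻¹ * s) * t) := by group
      _ = y * t * (y⁻¹ * s) := by rw [h3]; group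
      _ = t * s := by rw [h4]; group
  have h3 : T0 (T'.comap f) (fun x => lft p f (X' x)) ≤
      Subgroup.centralizer (T0 (T'.comap f) (fun x => lft p f (X' x)) : Set Y) := by
    have h4 : ∀ i, T'.comap f ⊓ Lr (fun x => lft p f (X' x)) i ≤
        Subgroup.centralizer (T0 (T'.comap f) (fun x => lft p f (X' x)) : Set Y) := by
      intro i s hs1
      rw [Subgroup.mem_centralizer_iff]
      have h5 : T0 (T'.comap f) (fun x => lft p f (X' x)) ≤ Subgroup.centralizer {s} := by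
        refine iSup_le fun j t ht1 => ?_
        rw [Subgroup.mem_centralizer_singleton_iff]
        exact h2 j i t ht1 s hs1
      intro t ht1
      exact Subgroup.mem_centralizer_singleton_iff.1 (h5 ht1)
    exact iSup_le h4
  exact (Subgroup.mem_centralizer_iff.1 (h3 hs') t ht').symm

include hf hp hs R' in
/-- **The datum of a perfect central extension by a `p'`-group.** -/
theorem lift (hperf : ⁅(⊤ : Subgroup Y), (⊤ : Subgroup Y)⁆ = ⊤) (H : Rank1 T' n' X')
    (hG : RGD.Sup X' {x | IsRoot cs h x} = ⊤) :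
    ∃ (T : Subgroup Y) (n : I → Y) (X : (I → ℤ) → Subgroup Y), RGD cs h p T n X ∧
      RGD.Sup X {x | IsRoot cs h x} = ⊤ ∧ (∀ s ∈ T, ∀ t ∈ T, s * t = t * s) ∧ (∀ j, n j ∈ Lr X j) ∧
      (∀ j, f (n j) = n' j) ∧ T.map f ≤ T' ∧
      ∀ x, IsRoot cs h x → (X x).map f = X' x ∧ ∀ y ∈ X x, f y = 1 → y = 1 := by
  obtain ⟨n, hn, hnL⟩ := exists_n hf hp hs R' H.nmem
  have R := rgd_lift hf hp hs R' hn
  refine ⟨T0 (T'.comap f) (fun x => lft p f (X' x)), n, fun x => lft p f (X' x), rgd_T0 R hnL, ?_,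
    fun s hs' t ht' => comm_T0 hf hp hs R' H hn hs' ht', hnL, hn, ?_, fun x hx => ?_⟩
  · -- generation
    set S := RGD.Sup (fun x => lft p f (X' x)) {x | IsRoot cs h x} with hS
    have h1 : S.map f = ⊤ := by
      rw [hS, ← hG]
      unfold RGD.Sup
      rw [Subgroup.map_iSup]
      exact iSup_congr fun z => map_lft hf hp hs (R'.pgrp' z.2)
    have h2 : ∀ y : Y, ∃ s ∈ S, ∃ c ∈ Subgroup.center Y, y = s * c := by
      intro y
      have h3 : f y ∈ S.map f := by rw [h1]; trivial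
      obtain ⟨s, hs', e⟩ := h3
      refine ⟨s, hs', s⁻¹ * y, hf ?_, by group⟩
      rw [MonoidHom.mem_ker, map_mul, map_inv, e, inv_mul_cancel]
    rw [eq_top_iff, ← hperf, Subgroup.commutator_le]
    intro y _ y' _
    obtain ⟨s, hs1, c, hc, rfl⟩ := h2 y
    obtain ⟨s', hs2, c', hc', rfl⟩ := h2 y'
    have hc1 := Subgroup.mem_center_iff.1 hc
    have hc2 := Subgroup.mem_center_iff.1 hc'
    have h3 : ⁅s * c, s' * c'⁆ = ⁅s, s'⁆ := by
      rw [commutatorElement_def, commutatorElement_def]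
      calc s * c * (s' * c') * (s * c)⁻¹ * (s' * c')⁻¹ = s * (c * s') * c' * (c⁻¹ * s⁻¹) * (c'⁻¹ * s'⁻¹) := by group
        _ = s * s' * (c * c' * c⁻¹) * s⁻¹ * (c'⁻¹ * s'⁻¹) := by rw [← hc1 s']; group
        _ = s * s' * (c' * (c * c⁻¹)) * s⁻¹ * (c'⁻¹ * s'⁻¹) := by rw [hc2 c]; group
        _ = s * s' * (c' * s⁻¹) * c'⁻¹ * s'⁻¹ := by group
        _ = s * s' * s⁻¹ * s'⁻¹ := by rw [← hc2 s⁻¹]; group
    rw [h3, commutatorElement_def]
    exact mul_mem (mul_mem (mul_mem hs1 hs2) (inv_mem hs1)) (inv_mem hs2)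
  · rintro _ ⟨t, ht, rfl⟩
    exact T0_le (T := T'.comap f) ht
  · exact ⟨map_lft hf hp hs (R'.pgrp' hx), fun y hy h1 => eq_one_of_mem_lft hf hp (R'.pgrp' hx) hy h1⟩

end Cover

theorem card_of_map {X₁ : Subgroup Y} {X₂ : Subgroup Y'} (h1 : X₁.map f = X₂) (h2 : ∀ y ∈ X₁, f y = 1 → y = 1) :
    Nat.card X₁ = Nat.card X₂ := by
  rw [← h1]
  refine Nat.card_congr (Equiv.ofBijective (fun y : X₁ => (⟨f y, y, y.2, rfl⟩ : X₁.map f)) ⟨?_, ?_⟩)
  · rintro ⟨y, hy⟩ ⟨y', hy'⟩ e
    have e1 : f y = f y' := congrArg Subtype.val e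
    have h3 := h2 (y * y'⁻¹) (mul_mem hy (inv_mem hy')) (by rw [map_mul, map_inv, e1, mul_inv_cancel])
    exact Subtype.ext (mul_inv_eq_one.1 h3)
  · rintro ⟨_, y, hy, rfl⟩
    exact ⟨⟨y, hy⟩, rfl⟩

theorem sq_of_map {X₁ : Subgroup Y} {X₂ : Subgroup Y'} (h1 : X₁.map f = X₂) (h2 : ∀ y ∈ X₁, f y = 1 → y = 1)
    (h3 : ∀ y ∈ X₂, y * y = 1) : ∀ y ∈ X₁, y * y = 1 := fun y hy =>
  h2 _ (mul_mem hy hy) (by rw [map_mul]; exact h3 _ (h1 ▸ Subgroup.mem_map_of_mem f hy))

end Cfsg.Agent.Omega.EH3.Kf.Tor
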