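import Cfsg.Agent.KFacts.RgdSys
import Cfsg.Agent.Omega.EH3.Kf.Tor

/-!
# EH3, Lie rows in characteristic 2: `Rank1` from `ChevTwo.Sys`, the data on the cover (helper827)

* `rank1` : `Sys R e`, finite field of characteristic two, `NoCent`, `Y = ⟨X r⟩` ==> `Rank1`;
* `HasTor cs h m Y` : `Y` has a root group datum over `cs`, `h` of characteristic two with abelian torus, elementary
  abelian root groups of order `2 ^ m`, `n j ∈ ⟨X α_j, X (-α_j)⟩`, `Y = ⟨X r⟩`;
* `hasTor_of_sys` : this holds for every perfect central extension by an odd group of a group with `Sys`.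
-/

set_option autoImplicit false
set_option linter.unusedSectionVars false

namespace Cfsg.Agent.Omega.EH3.Kf.TorSys

open CoxeterSystem Cfsg.Agent.ChevalleyStructure.CoxeterGeom Cfsg.Agent.Tits.Roots Cfsg.Agent.Tits.Core
  Cfsg.Agent.Tits.RootComb Cfsg.Agent.Nodes.Comb Cfsg.Agent.Nodes.Reps Cfsg.Agent.Nodes.BNOf
  Cfsg.Agent.Nodes.Bruhat Cfsg.Agent.Nodes.Coroot Cfsg.Agent.KFacts.ChevTwo Cfsg.Agent.KFacts.RgdSys Cfsg.Agent.KFacts.RgdCent
  Cfsg.Agent.Omega.EH3.Kf.Tor

variable {I W Y K : Type*} [Fintype I] [DecidableEq I] [Group W] [Group Y] [Field K] {M : CoxeterMatrix I}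
variable {cs : CoxeterSystem M W} {A : I → I → ℤ} {h : IsCartan M A} {e : (I → ℤ) → K → Y}
  {p : ℕ} {T : Subgroup Y} {n : I → Y} {X : (I → ℤ) → Subgroup Y}

theorem commutes_Lr {R : RGD cs h p T n X} (S : Sys R e) {j : I} {g : Y} (h1 : ∀ a, g * e (sr j) a = e (sr j) a * g)
    (h2 : ∀ a, g * e (-sr j) a = e (-sr j) a * g) : ∀ x ∈ Lr X j, g * x = x * g := by
  intro x hx
  have h3 : Lr X j ≤ Subgroup.centralizer {g} := by
    unfold Lr
    refine sup_le (fun y hy => ?_) (fun y hy => ?_)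
    · obtain ⟨a, rfl⟩ := (S.mem_X _ (isRoot_sr cs h j) y).1 hy
      rw [Subgroup.mem_centralizer_singleton_iff]
      exact (h1 a).symm
    · obtain ⟨a, rfl⟩ := (S.mem_X _ (isRoot_sr cs h j).neg y).1 hy
      rw [Subgroup.mem_centralizer_singleton_iff]
      exact (h2 a).symm
  exact (Subgroup.mem_centralizer_singleton_iff.1 (h3 hx)).symm

/-- **`Rank1` for the groups with coordinates in characteristic two.** -/
theorem rank1 [Finite W] [Finite K] [CharP K 2] {R : RGD cs h p T n X} (S : Sys R e)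
    (hG1 : RGD.Sup X {x | IsRoot cs h x} = ⊤) (hN : NoCent cs h T X) : Rank1 T n X where
  nmem j := by
    rw [S.n_eq, nel_def]
    have h1 := S.mem (isRoot_sr cs h j) 1
    have h2 := S.mem (isRoot_sr cs h j).neg 1
    exact mul_mem (mul_mem ((le_sup_left : X (sr j) ≤ _) h1) ((le_sup_right : X (-sr j) ≤ _) h2))
      ((le_sup_left : X (sr j) ≤ _) h1)
  cyc j := by
    have hj := isRoot_sr cs h j
    obtain ⟨g, hg⟩ := IsCyclic.exists_generator (α := Kˣ)
    let φ : Kˣ →* Y := {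
      toFun := fun u => hel e (sr j) (u : K)
      map_one' := by
        have := hel_mul S hG1 hN hj (c := (1 : K)) (d := 1) one_ne_zero one_ne_zero
        rw [mul_one] at this
        exact mul_eq_left.1 this
      map_mul' := fun u v => by
        rw [Units.val_mul]
        exact (hel_mul S hG1 hN hj u.ne_zero v.ne_zero).symm }
    refine ⟨φ g, (mem_T_rank_one S hG1 hN j _).2 ⟨g, g.ne_zero, rfl⟩, fun t ht => ?_⟩
    obtain ⟨a, ha, rfl⟩ := (mem_T_rank_one S hG1 hN j t).1 ht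
    obtain ⟨k, hk⟩ := Subgroup.mem_zpowers_iff.1 (hg (Units.mk0 a ha))
    refine ⟨k, ?_⟩
    rw [← map_zpow, hk]
    rfl
  cov j t ht := by
    have hj := isRoot_sr cs h j
    obtain ⟨χ, hχ⟩ := S.chi t ht
    obtain ⟨u, hu⟩ : ∃ u : K, u ^ 2 = ((χ (sr j)).toMul : Kˣ) := by
      obtain ⟨u, hu⟩ := (Finite.injective_iff_surjective.1 (frobenius_inj K 2)) (((χ (sr j)).toMul : Kˣ) : K)
      exact ⟨u, by rw [← hu]; rfl⟩
    have hu0 : u ≠ 0 := by
      rintro rfl
      rw [zero_pow two_ne_zero] at hu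
      exact (Units.ne_zero _) hu.symm
    refine ⟨hel e (sr j) u, (mem_T_rank_one S hG1 hN j _).2 ⟨u, hu0, rfl⟩, commutes_Lr S (fun a => ?_) (fun a => ?_)⟩
    · have h1 := hχ _ hj a
      have h2 := S.data.hel_conj hj hj hu0 a
      rw [cpr_self cs h hj, zpow_two, ← pow_two, hu, ← h1] at h2
      have h3 : (hel e (sr j) u)⁻¹ * t * e (sr j) a = (hel e (sr j) u)⁻¹ * (t * e (sr j) a * t⁻¹) * t := by group
      rw [h3, ← h2]
      group
    · have h1 := hχ _ hj.neg a
      have h2 := S.data.hel_conj hj.neg hj hu0 a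
      have e1 : ((χ (-sr j)).toMul : Kˣ) = ((χ (sr j)).toMul : Kˣ)⁻¹ := by rw [map_neg]; rfl
      rw [cpr_neg cs h (sr j) hj, cpr_self cs h hj, zpow_neg, zpow_two, ← pow_two, hu, ← Units.val_inv_eq_inv_val, ← e1,
        ← h1] at h2
      have h3 : (hel e (sr j) u)⁻¹ * t * e (-sr j) a = (hel e (sr j) u)⁻¹ * (t * e (-sr j) a * t⁻¹) * t := by group
      rw [h3, ← h2]
      group

/-! ### The data -/

/-- A root group datum of characteristic two over `cs`, `h`, with abelian torus and elementary abelian root groups of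
order `2 ^ m`. -/
structure TorDat (cs : CoxeterSystem M W) (h : IsCartan M A) (m : ℕ) (T : Subgroup Y) (n : I → Y)
    (X : (I → ℤ) → Subgroup Y) : Prop where
  rgd : RGD cs h 2 T n X
  gen : RGD.Sup X {x | IsRoot cs h x} = ⊤
  comm : ∀ s ∈ T, ∀ t ∈ T, s * t = t * s
  nmem : ∀ j, n j ∈ Lr X j
  card : ∀ x, IsRoot cs h x → Nat.card (X x) = 2 ^ m
  sq : ∀ x, IsRoot cs h x → ∀ y ∈ X x, y * y = 1

theorem TorDat.gg {m : ℕ} (D : TorDat cs h m T n X) : GG cs h T X = ⊤ := by
  unfold GG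
  rw [D.gen, sup_top_eq]

/-- **The data of a perfect central extension by an odd group of a group with coordinates.** -/
theorem exists_torDat [Finite W] [Finite K] [CharP K 2] {R : RGD cs h 2 T n X} (S : Sys R e)
    (hG1 : RGD.Sup X {x | IsRoot cs h x} = ⊤) (hN : NoCent cs h T X) {m : ℕ} (hm : Nat.card K = 2 ^ m)
    {Z : Type*} [Group Z] [Finite Z] (f : Z →* Y) (hf : f.ker ≤ Subgroup.center Z)
    (hp : (Nat.card f.ker).Coprime 2) (hs : Function.Surjective f)
    (hperf : ⁅(⊤ : Subgroup Z), (⊤ : Subgroup Z)⁆ = ⊤) :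
    ∃ (T' : Subgroup Z) (n' : I → Z) (X' : (I → ℤ) → Subgroup Z), TorDat cs h m T' n' X' := by
  have : Fact (Nat.Prime 2) := ⟨Nat.prime_two⟩
  obtain ⟨T', n', X', h1, h2, h3, h4, -, -, h5⟩ := lift hf hp hs R hperf (rank1 S hG1 hN) hG1
  refine ⟨T', n', X', h1, h2, h3, h4, fun x hx => ?_, fun x hx => ?_⟩
  · rw [card_of_map (h5 x hx).1 (h5 x hx).2, ← hm]
    refine Nat.card_congr (Equiv.ofBijective (fun g : X x => ((S.mem_X x hx g).1 g.2).choose) ⟨?_, ?_⟩)
    · intro g g' hgg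
      have e1 := ((S.mem_X x hx g).1 g.2).choose_spec
      have e2 := ((S.mem_X x hx g').1 g'.2).choose_spec
      apply Subtype.ext
      rw [← e1, ← e2]
      exact congrArg (e x) hgg
    · intro t
      have ht : e x t ∈ X x := (S.mem_X x hx _).2 ⟨t, rfl⟩
      refine ⟨⟨e x t, ht⟩, ?_⟩
      apply S.data.injective hx
      exact ((S.mem_X x hx (e x t)).1 ht).choose_spec
  · refine sq_of_map (h5 x hx).1 (h5 x hx).2 fun y hy => ?_
    obtain ⟨t, rfl⟩ := (S.mem_X x hx y).1 hy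
    exact S.data.sq hx t

end Cfsg.Agent.Omega.EH3.Kf.TorSys
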