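import Mathlib
import Cfsg.Agent.Omega.EH3.Kf.FamRow
import Cfsg.Agent.Omega.EH3.Kf.InL

/-!
# EH3, Lie rows: the family level interface with a node of exponent 4 (helper227)

* `BdU M h T n X` : like `Bd`, but one node may be of the kind `InL.Ex` (the last node of `PSU_{2m+1}(q)`);
* `KfRowU K`, `KfRowU.of_equiv`; `KfRow.toU`.
-/

set_option autoImplicit false

namespace Cfsg.Agent.Omega.EH3.Kf.FamRowU

open CoxeterSystem Cfsg.Agent.ChevalleyStructure.CoxeterGeom Cfsg.Agent.Tits.Roots Cfsg.Agent.Tits.Core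
  Cfsg.Agent.Tits.RootComb Cfsg.Agent.Nodes.Comb Cfsg.Agent.Nodes.Reps Cfsg.Agent.Nodes.BNOf
  Cfsg.Agent.Nodes.StabComb Cfsg.Agent.Nodes.Bruhat Cfsg.Agent.Nodes.LeviDec Cfsg.Agent.Nodes.RGDLib
  Cfsg.Agent.Omega.EH3.Kf.Base Cfsg.Agent.Omega.EH3.Kf.Out Cfsg.Agent.Omega.EH3.Kf.Goal
  Cfsg.Agent.Omega.EH3.Kf.FamRow

universe u v w

/-- The bundle of data of the group `K`, one node may be of exponent 4. -/
structure BdU {K : Type v} [Group K] {l : ℕ} (M : CoxeterMatrix (Fin l)) {A : Fin l → Fin l → ℤ} (h : IsCartan M A)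
    (T : Subgroup K) (n : Fin l → K) (X : (Fin l → ℤ) → Subgroup K) : Prop where
  fin : Finite M.Group
  rgd : RGD M.toCoxeterSystem h 2 T n X
  gen : RGD.Sup X {x | IsRoot M.toCoxeterSystem h x} = ⊤
  ab : ∀ s ∈ T, ∀ t ∈ T, s * t = t * s
  nd : ∀ i, InL.Nd T X i
  one : ∀ i j, ¬ (∀ u ∈ X (sr i), u * u = 1) → ¬ (∀ u ∈ X (sr j), u * u = 1) → i = j

/-- **The row of `K`** (irreducible shape, `End = F₂`). -/
def KfRowU (K : Type v) [Group K] : Prop :=
  ∃ (l : ℕ) (M : CoxeterMatrix (Fin l)) (A : Fin l → Fin l → ℤ) (h : IsCartan M A) (T : Subgroup K)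
    (n : Fin l → K) (X : (Fin l → ℤ) → Subgroup K), BdU M h T n X ∧ RowEnd.{u} M h T n X

section map

variable {K : Type v} [Group K] {K' : Type w} [Group K'] {l : ℕ} {M : CoxeterMatrix (Fin l)}
  {A : Fin l → Fin l → ℤ} {h : IsCartan M A} {T : Subgroup K} {n : Fin l → K} {X : (Fin l → ℤ) → Subgroup K}

theorem _root_.Cfsg.Agent.Omega.EH3.Kf.FamRow.Bd.toU (B : Bd M h T n X) : BdU M h T n X where
  fin := B.fin
  rgd := B.rgd
  gen := B.gen
  ab := B.ab
  nd i := Or.inl (B.el i)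
  one i _ hi := (hi (B.el i)).elim

theorem _root_.Cfsg.Agent.Omega.EH3.Kf.FamRow.KfRow.toU (hK : KfRow.{u} K) : KfRowU.{u} K := by
  obtain ⟨l, M, A, h, T, n, X, B, H⟩ := hK
  exact ⟨l, M, A, h, T, n, X, B.toU, H⟩

theorem Ex.map {i : Fin l} (E : InL.Ex T X i) (e : K ≃* K') :
    InL.Ex (T.map e.toMonoidHom) (fun x => (X x).map e.toMonoidHom) i where
  cen := by
    rintro _ ⟨u, hu, rfl⟩ huu _ ⟨v, hv, rfl⟩
    have h1 : u * u = 1 := e.injective (by rw [map_mul, map_one]; exact huu)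
    show e u * e v = e v * e u
    rw [← map_mul, E.cen u hu h1 v hv, map_mul]
  com := by
    rintro _ ⟨u, hu, rfl⟩ _ ⟨v, hv, rfl⟩
    show (e u * e v * (e u)⁻¹ * (e v)⁻¹) * (e u * e v * (e u)⁻¹ * (e v)⁻¹) = 1
    have h1 := congrArg e (E.com u hu v hv)
    simpa only [map_mul, map_inv, map_one] using h1
  sq := by
    rintro _ ⟨z, hz, rfl⟩ hzz
    have h1 : z * z = 1 := e.injective (by rw [map_mul, map_one]; exact hzz)
    obtain ⟨y, hy, rfl⟩ := E.sq z hz h1
    exact ⟨e y, ⟨y, hy, rfl⟩, by show e (y * y) = e y * e y; rw [map_mul]⟩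
  irr := by
    intro S hS hz hT
    have h0 : ∀ k : K, k ∈ S.comap e.toMonoidHom ↔ e k ∈ S := fun k => Iff.rfl
    rcases E.irr (S.comap e.toMonoidHom) (fun k hk => by
        obtain ⟨k', hk', h2⟩ := hS hk
        rwa [← e.injective h2])
      (fun z hz' hzz => hz (e z) ⟨z, hz', rfl⟩ (by rw [← map_mul, hzz, map_one]))
      (fun t ht k hk => by
        rw [h0, map_mul, map_mul, map_inv]
        exact hT (e t) ⟨t, ht, rfl⟩ (e k) hk) with h1 | h1
    · left
      intro z hz'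
      obtain ⟨k, -, rfl⟩ := hS hz'
      show e k * e k = 1
      rw [← map_mul, h1 k hz', map_one]
    · right
      rintro _ ⟨k, hk, rfl⟩
      exact h1 hk
  card := by
    intro Z hZ
    have h1 := E.card (Z.comap e.toMonoidHom) (fun z hz => by
      obtain ⟨⟨k, hk, h2⟩, h3⟩ := hZ (e z) hz
      refine ⟨by rwa [← e.injective h2], e.injective ?_⟩
      rw [map_mul, map_one]
      exact h3)
    have h2 : Nat.card (Z.comap e.toMonoidHom) = Nat.card Z :=
      Nat.card_congr (e.toEquiv.subtypeEquiv fun a => Iff.rfl)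
    rw [h2] at h1
    show Nat.card Z * Nat.card Z < Nat.card ((X (sr i)).map e.toMonoidHom)
    rwa [Subgroup.card_map_of_injective e.injective]

theorem BdU.map (B : BdU M h T n X) (e : K ≃* K') :
    BdU M h (T.map e.toMonoidHom) (fun i => e (n i)) (fun x => (X x).map e.toMonoidHom) where
  fin := B.fin
  rgd := rgd_map_of_injective B.rgd e.toMonoidHom e.injective
  gen := by
    have h1 : (RGD.Sup X {x | IsRoot M.toCoxeterSystem h x}).map e.toMonoidHom =
        RGD.Sup (fun x => (X x).map e.toMonoidHom) {x | IsRoot M.toCoxeterSystem h x} := by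
      unfold RGD.Sup
      rw [Subgroup.map_iSup]
    rw [← h1, B.gen, Subgroup.map_top_of_surjective _ e.surjective]
  ab := by
    rintro _ ⟨s, hs, rfl⟩ _ ⟨t, ht, rfl⟩
    rw [← map_mul, B.ab s hs t ht, map_mul]
  nd i := by
    refine (B.nd i).imp ?_ fun E => Ex.map E e
    rintro h1 _ ⟨u, hu, rfl⟩
    show e u * e u = 1
    rw [← map_mul, h1 u hu, map_one]
  one i j hi hj := by
    refine B.one i j (fun h1 => hi ?_) (fun h1 => hj ?_)
    · rintro _ ⟨u, hu, rfl⟩
      show e u * e u = 1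
      rw [← map_mul, h1 u hu, map_one]
    · rintro _ ⟨u, hu, rfl⟩
      show e u * e u = 1
      rw [← map_mul, h1 u hu, map_one]

theorem KfRowU.of_equiv (hK : KfRowU.{u} K) (e : K ≃* K') : KfRowU.{u} K' := by
  obtain ⟨l, M, A, h, T, n, X, B, H⟩ := hK
  exact ⟨l, M, A, h, _, _, _, B.map e, H.map e⟩

end map

end Cfsg.Agent.Omega.EH3.Kf.FamRowU
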