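import Mathlib
import Cfsg.Agent.Omega.EH3.Kf.TwC
import Cfsg.Agent.Omega.EH3.Kf.ThmA
import Cfsg.Agent.Omega.EH3.Kf.FamRowU
import Cfsg.Agent.Nodes.RGDAllP

/-!
# EH3, Lie rows in characteristic 2: `PSU_{2m+1}(q)`, `m ≥ 2` (helper944)

* `Gd` for the unitary frames with `V0 = ⟨d⟩` (type `BC_m`), the root group of `2 ε_0` is not abelian;
* `exists_bdU` : `PSU (2m+1) F q` has the data `FamRowU.BdU` (helper227), and there is no `Row` for them;
* `kfRowU` : `KfRowU (PSU (2m+1) F q)`; `kfRowU_of_odd` : odd dimension `≥ 5`.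
-/

set_option autoImplicit false

namespace Cfsg.Agent.Omega.EH3.Kf.UOdd

open CoxeterSystem Cfsg.Agent.ChevalleyStructure.CoxeterGeom Cfsg.Agent.Tits.Roots
  Cfsg.Agent.Nodes.Comb Cfsg.Agent.Nodes.Reps Cfsg.Agent.Nodes.BNOf Cfsg.Agent.Nodes.TypeC
  Cfsg.Agent.Nodes.WittRoot Cfsg.Agent.Nodes.WittRGD Cfsg.Agent.Nodes.WittModel
  Cfsg.Agent.Omega.EH3.Kf.Base Cfsg.Agent.Omega.EH3.Kf.TwC Cfsg.Agent.Omega.EH3.Kf.FamRow
  Cfsg.Agent.Omega.EH3.Kf.FamRowU
open Cfsg Cfsg.Agent.LieClassical.HermBasic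
open Cfsg.Agent.TitsThree Cfsg.Agent.TitsThree.Siegel Cfsg.Agent.TitsThree.SiegelGen
  Cfsg.Agent.TitsThree.WittFrame Cfsg.Agent.TitsThree.WBridge Cfsg.Agent.TitsThree.WittWeyl
  Cfsg.Agent.TitsThree.FrameCN Cfsg.Agent.TitsThree.KSideU Cfsg.Agent.TitsThree.KSideUDesc
open scoped commutatorElement

/-! ### Frames -/

section Frame

variable {F : Type*} [Field F] {V : Type*} [AddCommGroup V] [Module F V] {H : HForm F V} {n : ℕ}
  {Fr : Frame H (Fin n)} {G0 : Subgroup (V ≃ₗ[F] V)}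

/-- the torus is abelian if `V0` is a line -/
theorem tor_comm (hA : Amb Fr G0) {d : V} (hd : d ∈ Fr.V0) (hV0 : ∀ w ∈ Fr.V0, ∃ a : F, w = a • d)
    {g k : V ≃ₗ[F] V} (hg : g ∈ Tor Fr G0) (hk : k ∈ Tor Fr G0) : g * k = k * g := by
  have hgd : ∃ l : F, g d = l • d := hV0 _ (hA.map_V0 hg.1 hg.2 (ρ := id) (fun _ => rfl) hd)
  have hkd : ∃ l : F, k d = l • d := hV0 _ (hA.map_V0 hk.1 hk.2 (ρ := id) (fun _ => rfl) hd)
  obtain ⟨l, hl⟩ := hgd
  obtain ⟨m, hm⟩ := hkd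
  have h1 : ∀ x, (g * k) (Fr.b x) = (k * g) (Fr.b x) := by
    intro x
    obtain ⟨a, -, ha⟩ := hg.2 x
    obtain ⟨c, -, hc⟩ := hk.2 x
    rw [id] at ha hc
    rw [mul_apply', mul_apply', ha, hc, map_smul, map_smul, ha, hc, smul_smul, smul_smul, mul_comm]
  have h2 : ∀ w ∈ Fr.V0, (g * k) w = (k * g) w := by
    intro w hw
    obtain ⟨a, rfl⟩ := hV0 w hw
    rw [map_smul, map_smul]
    congr 1
    rw [mul_apply', mul_apply', hl, hm, map_smul, map_smul, hl, hm, smul_smul, smul_smul, mul_comm]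
  have h3 : (k * g)⁻¹ * (g * k) = 1 := by
    refine Amb.eq_one_of_fix hA (fun x => ?_) (fun w hw => ?_)
    · rw [mul_apply', h1, ← mul_apply', inv_mul_cancel]; rfl
    · rw [mul_apply', h2 w hw, ← mul_apply', inv_mul_cancel]; rfl
  exact (inv_mul_eq_one.1 h3).symm

/-- a torus element which multiplies `b (j, true)` by `t` and fixes `V0`; `j` the last index -/
theorem exists_tor (hA : Amb Fr G0) {i : Fin n} (hi : (i : ℕ) + 1 < n) {t : F} (ht : t ≠ 0) :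
    ∃ g ∈ Tor Fr G0, g (Fr.b (⟨i + 1, hi⟩, true)) = t • Fr.b (⟨i + 1, hi⟩, true) ∧ ∀ w ∈ Fr.V0, g w = w := by
  have hne : ((i, true) : Fin n × Bool).1 ≠ (nx i).1 := by
    unfold nx; rw [dif_pos hi]; simp [Fin.ext_iff]
  have hnx : nx i = (⟨i + 1, hi⟩, false) := by unfold nx; rw [dif_pos hi]
  have e0 : neg (nx i) = ((⟨i + 1, hi⟩, true) : Fin n × Bool) := by rw [hnx]; rfl
  have h1 := nX_apply_neg Fr hne ht
  have h2 := nX_apply_neg Fr hne (t := (1 : F)) one_ne_zero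
  rw [e0] at h1 h2
  rw [one_smul] at h2
  refine ⟨(nX Fr (i, true) (nx i) 1)⁻¹ * nX Fr (i, true) (nx i) t, ?_, ?_, ?_⟩
  · refine ⟨mul_mem (inv_mem (nX_mem hA _ _ _)) (nX_mem hA _ _ _), ?_⟩
    exact (((mono_nX hi one_ne_zero).inv (sg_sg i)).mul (mono_nX hi ht)).congr fun x => sg_sg i x
  · rw [mul_apply', h1, map_smul, ← h2, ← mul_apply', inv_mul_cancel]; rfl
  · intro w hw
    rw [mul_apply', nX_apply_V0 Fr hne hw]
    conv_lhs => rw [← nX_apply_V0 Fr hne hw 1]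
    rw [← mul_apply', inv_mul_cancel]; rfl

end Frame

/-! ### The commutator identities -/

section Model

variable {F : Type*} [Field F] {V : Type*} [AddCommGroup V] [Module F V] {H : HForm F V} {n : ℕ}
  {Fr : Frame H (Fin n)} {K : Type*} [Group K] (M : Model Fr K)

theorem map_comm {x y : Fin n → ℤ} {g k : V ≃ₗ[F] V} (hg : g ∈ M.I) (hk : k ∈ M.I) (hgx : g ∈ rg Fr x)
    (hky : k ∈ rg Fr y) (h : ⁅g, k⁆ ∈ M.I) : M.φ ⟨⁅g, k⁆, h⟩ ∈ ⁅X M x, X M y⁆ := by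
  have e : (⟨⁅g, k⁆, h⟩ : M.I) = ⁅(⟨g, hg⟩ : M.I), ⟨k, hk⟩⁆ := by
    apply Subtype.ext
    rfl
  rw [e, map_commutatorElement]
  exact Subgroup.commutator_mem_commutator (mem_X_of M hg hgx) (mem_X_of M hk hky)

theorem X_mem_rg {x : Fin n → ℤ} {a b : Fin n × Bool} (hab : a.1 ≠ b.1) (e : ee x = wt a + wt b) (t : F) :
    Fr.X a b t ∈ rg Fr x := by
  rw [rg_eq Fr (Or.inl hab) e, PG_ne Fr hab]
  exact ⟨t, rfl⟩

theorem Z_mem_rg {x : Fin n → ℤ} {a : Fin n × Bool} (e : ee x = wt a + wt a) (p : Fr.Adm) :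
    Fr.Z a p ∈ rg Fr x := by
  rw [rg_eq Fr (Or.inr rfl) e, PG_self]
  exact ⟨p, rfl⟩

/-- **The commutator identities**: frames with `V0 ∋ d`, `h(d,d) ≠ 0`. -/
theorem gd (hp : ∃ d : V, H.h d d ≠ 0 ∧ ∀ a : F, ∃ c, Fr.ok (a • d) c) : Gd (X M) where
  a2 i j k hij hjk x y z ex ey ez := by
    intro u hu
    obtain ⟨g, hg, hgz, rfl⟩ := (mem_X M).1 hu
    rw [rg_eq Fr (Or.inl (hij.trans hjk).ne) ez, PG_ne Fr (hij.trans hjk).ne] at hgz
    obtain ⟨t, rfl⟩ := hgz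
    have e1 := Fr.conj_X_X (x := (i, true)) (y := (j, false)) (z := (k, false)) hij.ne hjk.ne (hij.trans hjk).ne 1 t
    rw [one_mul] at e1
    have e2 : Fr.X (i, true) (k, false) t = ⁅Fr.X (i, true) (j, false) 1, Fr.X (j, true) (k, false) t⁆ := by
      rw [commutatorElement_def]
      have e3 : Fr.X (i, true) (j, false) 1 * Fr.X (j, true) (k, false) t * (Fr.X (i, true) (j, false) 1)⁻¹ = _ := e1
      rw [e3]
      exact (mul_inv_cancel_right _ _).symm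
    have e4 : (⟨Fr.X (i, true) (k, false) t, hg⟩ : M.I) =
        ⟨⁅Fr.X (i, true) (j, false) 1, Fr.X (j, true) (k, false) t⁆, e2 ▸ hg⟩ := Subtype.ext e2
    rw [e4]
    exact map_comm M (M.hX _ _ _) (M.hX _ _ _) (X_mem_rg hij.ne ex 1) (X_mem_rg hjk.ne ey t) _
  mid i j hij x y z t ex ey ez et := by
    refine le_trans ?_ le_sup_right
    intro u hu
    obtain ⟨g, hg, hgz, rfl⟩ := (mem_X M).1 hu
    rw [rg_eq Fr (Or.inl hij.ne) ex, PG_ne Fr hij.ne] at hgz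
    obtain ⟨s, rfl⟩ := hgz
    obtain ⟨d, hdd, hok⟩ := hp
    obtain ⟨c0, hc0⟩ := hok 1
    rw [one_smul] at hc0
    have hη := Fr.η_ne (j, true)
    obtain ⟨c, hc⟩ := hok (H.σ (-((Fr.η (j, true))⁻¹ * s)) * (H.h d d)⁻¹)
    have e1 := Fr.Z_mul_Z (x := (i, true)) (y := (j, true)) hij.ne ⟨_, c, hc⟩ ⟨d, c0, hc0⟩
    have e2 : -(Fr.η (j, true) * H.σ (H.h ((H.σ (-((Fr.η (j, true))⁻¹ * s)) * (H.h d d)⁻¹) • d) d)) = s := by
      rw [H.smul_left, mul_assoc, inv_mul_cancel₀ hdd, mul_one, H.σσ]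
      field_simp
    simp only at e1
    rw [e2] at e1
    have e3 : Fr.X (i, true) (j, true) s = ⁅Fr.Z (i, true) ⟨_, c, hc⟩, Fr.Z (j, true) ⟨d, c0, hc0⟩⁆ := by
      rw [commutatorElement_def, e1]; group
    have e4 : (⟨Fr.X (i, true) (j, true) s, hg⟩ : M.I) =
        ⟨⁅Fr.Z (i, true) ⟨_, c, hc⟩, Fr.Z (j, true) ⟨d, c0, hc0⟩⁆, e3 ▸ hg⟩ := Subtype.ext e3
    rw [e4]
    exact map_comm M (M.hZ _ _) (M.hZ _ _) (Z_mem_rg ez _) (Z_mem_rg et _) _
  lng i j hij x y z t ex ey ez et := by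
    intro u hu
    obtain ⟨g, hg, hgz, rfl⟩ := (mem_X M).1 hu
    rw [rg_eq Fr (Or.inr rfl) ez, PG_self] at hgz
    obtain ⟨p, rfl⟩ := hgz
    have e1 := Fr.conj_X_Z (x := (i, true)) (y := (j, true)) hij.ne 1 p
    rw [map_one, Frame.Adm.one_smul, mul_one] at e1
    set s : F := -(H.ε⁻¹ * Fr.η (j, true) * H.σ p.c) with hs
    have e2 : Fr.Z (i, true) p = ⁅Fr.X (i, true) (j, false) 1, Fr.Z (j, true) p⁆ * (Fr.X (i, true) (j, true) s)⁻¹ := by
      rw [commutatorElement_def]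
      have e3 : Fr.X (i, true) (j, false) 1 * Fr.Z (j, true) p * (Fr.X (i, true) (j, false) 1)⁻¹ = _ := e1
      rw [e3]; group
    have hI : ⁅Fr.X (i, true) (j, false) 1, Fr.Z (j, true) p⁆ ∈ M.I :=
      mul_mem (mul_mem (mul_mem (M.hX _ _ _) (M.hZ _ _)) (inv_mem (M.hX _ _ _))) (inv_mem (M.hZ _ _))
    have e4 : (⟨Fr.Z (i, true) p, hg⟩ : M.I) =
        ⟨⁅Fr.X (i, true) (j, false) 1, Fr.Z (j, true) p⁆, hI⟩ * (⟨Fr.X (i, true) (j, true) s, M.hX _ _ _⟩ : M.I)⁻¹ :=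
      Subtype.ext e2
    rw [e4, map_mul, map_inv]
    refine mul_mem ?_ (inv_mem ?_)
    · exact (le_sup_left.trans le_sup_left : ⁅X M y, X M t⁆ ≤ ⁅X M y, X M t⁆ ⊔ ⁅X M x, X M y⁆ ⊔ ⁅X M z, X M t⁆)
        (map_comm M (M.hX _ _ _) (M.hZ _ _) (X_mem_rg hij.ne ey 1) (Z_mem_rg et p) _)
    · -- the same as `mid`
      obtain ⟨d, hdd, hok⟩ := hp
      obtain ⟨c0, hc0⟩ := hok 1
      rw [one_smul] at hc0
      have hη := Fr.η_ne (j, true)
      obtain ⟨c, hc⟩ := hok (H.σ (-((Fr.η (j, true))⁻¹ * s)) * (H.h d d)⁻¹)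
      have e1 := Fr.Z_mul_Z (x := (i, true)) (y := (j, true)) hij.ne ⟨_, c, hc⟩ ⟨d, c0, hc0⟩
      have e2 : -(Fr.η (j, true) * H.σ (H.h ((H.σ (-((Fr.η (j, true))⁻¹ * s)) * (H.h d d)⁻¹) • d) d)) = s := by
        rw [H.smul_left, mul_assoc, inv_mul_cancel₀ hdd, mul_one, H.σσ]
        field_simp
      simp only at e1
      rw [e2] at e1
      have e3 : Fr.X (i, true) (j, true) s = ⁅Fr.Z (i, true) ⟨_, c, hc⟩, Fr.Z (j, true) ⟨d, c0, hc0⟩⁆ := by
        rw [commutatorElement_def, e1]; group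
      have e5 : (⟨Fr.X (i, true) (j, true) s, M.hX _ _ _⟩ : M.I) =
          ⟨⁅Fr.Z (i, true) ⟨_, c, hc⟩, Fr.Z (j, true) ⟨d, c0, hc0⟩⁆, e3 ▸ M.hX _ _ _⟩ := Subtype.ext e3
      rw [e5]
      exact (le_sup_right : ⁅X M z, X M t⁆ ≤ ⁅X M y, X M t⁆ ⊔ ⁅X M x, X M y⁆ ⊔ ⁅X M z, X M t⁆)
        (map_comm M (M.hZ _ _) (M.hZ _ _) (Z_mem_rg ez _) (Z_mem_rg et _) _)

variable (hA : Amb Fr M.I)

include hA in
/-- `φ` is injective on the root groups of type II -/
theorem phi_Z {x : Fin n × Bool} {p : Fr.Adm} {h : Fr.Z x p ∈ M.I} (h1 : M.φ ⟨Fr.Z x p, h⟩ = 1) : p = 1 := by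
  obtain ⟨l, hl⟩ := M.ker (Fr.b (neg x)) _ h1
  change Fr.Z x p (Fr.b (neg x)) = l • Fr.b (neg x) at hl
  rw [Z_apply_neg] at hl
  have h2 := congrArg (fun v => H.h v (Fr.b (neg x))) hl
  simp only [H.add_left, H.smul_left, Fr.hb_self, mul_zero, zero_add, add_zero, Fr.h0' _ (Fr.ok_mem p.ok),
    Fr.hb_self_neg] at h2
  have hc : p.c = 0 := by
    rcases mul_eq_zero.1 h2 with h3 | h3
    · rcases mul_eq_zero.1 h3 with h4 | h4
      · exact h4
      · exact absurd h4 (Fr.η_ne _)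
    · exact absurd h3 (Fr.η_ne _)
  have hw : p.w = 0 := hA.ok_aniso _ (by have := p.ok; rwa [hc] at this)
  exact Frame.Adm.ext hw hc

/-- type II elements of `K` -/
noncomputable abbrev zz (x : Fin n × Bool) (p : Fr.Adm) : K := M.Z x p

theorem zz_mul (x : Fin n × Bool) (p q : Fr.Adm) : M.Z x (p * q) = M.Z x p * M.Z x q := by
  unfold Model.Z
  rw [← map_mul]
  congr 1
  exact Subtype.ext (Fr.Z_mul x p q)

theorem zz_one (x : Fin n × Bool) : M.Z x 1 = 1 := by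
  have h := zz_mul M x 1 1
  rw [one_mul] at h
  exact mul_eq_left.1 h.symm

theorem zz_inv (x : Fin n × Bool) (p : Fr.Adm) : M.Z x p⁻¹ = (M.Z x p)⁻¹ := by
  rw [eq_inv_iff_mul_eq_one, ← zz_mul, inv_mul_cancel, zz_one]

include hA in
theorem zz_inj {x : Fin n × Bool} {p q : Fr.Adm} (h : M.Z x p = M.Z x q) : p = q := by
  have h1 : M.Z x (p * q⁻¹) = 1 := by rw [zz_mul, zz_inv, h, mul_inv_cancel]
  exact mul_inv_eq_one.1 (phi_Z M hA h1)

/-- the root group of the last node -/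
theorem mem_X_last {i : Fin n} (hi : ¬ (i : ℕ) + 1 < n) {k : K} : k ∈ X M (sr i) ↔ ∃ p : Fr.Adm, k = M.Z (i, true) p := by
  have hnx : nx i = (i, true) := by unfold nx; rw [dif_neg hi]
  rw [mem_X]
  constructor
  · rintro ⟨g, hg, h, rfl⟩
    rw [rg_sr, hnx, PG_self] at h
    obtain ⟨p, rfl⟩ := h
    exact ⟨p, rfl⟩
  · rintro ⟨p, rfl⟩
    exact ⟨_, M.hZ _ _, by rw [rg_sr, hnx, PG_self]; exact ⟨p, rfl⟩, rfl⟩

/-- the root groups of the other nodes have exponent two -/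
theorem sq_of_lt [CharP F 2] {i : Fin n} (hi : (i : ℕ) + 1 < n) {u : K} (hu : u ∈ X M (sr i)) : u * u = 1 := by
  have hne : ((i, true) : Fin n × Bool).1 ≠ (nx i).1 := by
    unfold nx; rw [dif_pos hi]; simp [Fin.ext_iff]
  obtain ⟨g, hg, h, rfl⟩ := (mem_X M).1 hu
  rw [rg_sr, PG_ne Fr hne] at h
  obtain ⟨t, rfl⟩ := h
  rw [← map_mul]
  have e : (⟨Fr.X (i, true) (nx i) t, hg⟩ : M.I) * ⟨Fr.X (i, true) (nx i) t, hg⟩ = 1 := by
    apply Subtype.ext
    show Fr.X (i, true) (nx i) t * Fr.X (i, true) (nx i) t = 1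
    rw [← Fr.X_add, CharTwo.add_self_eq_zero, Fr.X_zero]
  rw [e, map_one]

include hA in
/-- `T` is abelian -/
theorem T_comm {d : V} (hd : d ∈ Fr.V0) (hV0 : ∀ w ∈ Fr.V0, ∃ a : F, w = a • d) :
    ∀ s ∈ T M, ∀ t ∈ T M, s * t = t * s := by
  rintro _ ⟨g, hg, rfl⟩ _ ⟨k, hk, rfl⟩
  have h1 := tor_comm hA hd hV0 (Subgroup.mem_subgroupOf.1 hg) (Subgroup.mem_subgroupOf.1 hk)
  rw [← map_mul, ← map_mul]
  congr 1
  exact Subtype.ext h1

end Model

/-! ### Admissible pairs in characteristic two -/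

section Adm

variable {F : Type*} [Field F] {V : Type*} [AddCommGroup V] [Module F V] {H : HForm F V} {n : ℕ}
  {Fr : Frame H (Fin n)} {G0 : Subgroup (V ≃ₗ[F] V)} [CharP F 2]

theorem sq_w (p : Fr.Adm) : (p * p).w = 0 := by
  have h1 : p.w + p.w = ((1 : F) + 1) • p.w := by rw [add_smul, one_smul]
  rw [Frame.Adm.mul_w, h1, CharTwo.add_self_eq_zero, zero_smul]

theorem sq_c (p : Fr.Adm) : (p * p).c = -(H.ε⁻¹ * H.h p.w p.w) := by
  rw [Frame.Adm.mul_c, CharTwo.add_self_eq_zero, zero_sub]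

theorem sq_eq_one (hA : Amb Fr G0) {p : Fr.Adm} : p * p = 1 ↔ p.w = 0 := by
  constructor
  · intro h
    have h1 := sq_c p
    rw [h, Frame.Adm.one_c, eq_comm, neg_eq_zero, mul_eq_zero] at h1
    rcases h1 with h2 | h2
    · exact absurd h2 (inv_ne_zero H.ε_ne)
    · exact hA.aniso _ (Fr.ok_mem p.ok) h2
  · intro h
    refine Frame.Adm.ext (sq_w p) ?_
    rw [sq_c, h, H.zero_left, mul_zero, neg_zero, Frame.Adm.one_c]

omit [CharP F 2] in
theorem cen_of_w {p : Fr.Adm} (h : p.w = 0) (r : Fr.Adm) : p * r = r * p := by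
  refine Frame.Adm.ext ?_ ?_
  · rw [Frame.Adm.mul_w, Frame.Adm.mul_w, add_comm]
  · rw [Frame.Adm.mul_c, Frame.Adm.mul_c, h, H.zero_left, H.zero_right, add_comm]

end Adm

/-! ### The unitary groups of odd dimension -/

section Unitary

variable {F : Type*} [Field F] [Fintype F] [CharP F 2] {q N m : ℕ} (hF : Fintype.card F = q ^ 2) (hN : 3 ≤ N)
  (W : WFrame (PU hF N) m) {d : Fin N → F} (hd : hermForm N F q d d = 1) (hW : W.V0 = Submodule.span F {d})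

include hW in
theorem d_mem : d ∈ (toFrame W).V0 := by
  show d ∈ W.V0
  rw [hW]; exact Submodule.mem_span_singleton_self d

include hW in
theorem exists_smul : ∀ w ∈ (toFrame W).V0, ∃ a : F, w = a • d := by
  intro w hw
  have hw' : w ∈ W.V0 := hw
  rw [hW] at hw'
  obtain ⟨a, ha⟩ := Submodule.mem_span_singleton.1 hw'
  exact ⟨a, ha.symm⟩

include hW in
theorem exists_ok (a : F) : ∃ c, (toFrame W).ok (a • d) c := by
  obtain ⟨c, hc⟩ := (PU hF N).ex (a • d)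
  exact ⟨c, (toFrame W).V0.smul_mem a (d_mem hF W hW), hc⟩

include hd in
theorem d_ne : d ≠ 0 := by
  rintro rfl
  rw [herm_zero_left] at hd
  exact zero_ne_one hd

include hd in
theorem smul_inj {a b : F} (h : a • d = b • d) : a = b := by
  have h1 : (a - b) • d = 0 := by rw [sub_smul, h, sub_self]
  rcases smul_eq_zero.1 h1 with h2 | h2
  · exact sub_eq_zero.1 h2
  · exact absurd h2 (d_ne hd)

include hd hW in
/-- elements of `Ω₁` are squares -/
theorem exists_sq {z : (toFrame W).Adm} (hz : z.w = 0) : ∃ y : (toFrame W).Adm, z = y * y := by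
  have h1 : z.c + z.c ^ q = 0 := by
    have h2 := z.ok.2
    rw [ok_iff, hz, herm_zero_left, neg_zero] at h2
    exact h2
  have h2 : z.c ^ q = z.c := by
    have h3 := eq_neg_of_add_eq_zero_right h1
    rw [h3, CharTwo.neg_eq]
  obtain ⟨a, ha⟩ := exists_norm_eq hF h2
  obtain ⟨c, hc⟩ := exists_ok hF W hW a
  refine ⟨⟨a • d, c, hc⟩, ?_⟩
  refine Frame.Adm.ext ?_ ?_
  · rw [sq_w, hz]
  · rw [sq_c]
    show z.c = -((1 : F)⁻¹ * hermForm N F q (a • d) (a • d))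
    rw [inv_one, one_mul, herm_smul_left, herm_smul_right, hd, mul_one, ha, CharTwo.neg_eq]

include hd hW in
theorem card_lt {i : Fin m} (hi : ¬ (i : ℕ) + 1 < m) (Z : Subgroup (PSU N F q))
    (hZ : ∀ z ∈ Z, z ∈ X (KInstU.model hF hN W) (sr i) ∧ z * z = 1) :
    Nat.card Z * Nat.card Z < Nat.card (X (KInstU.model hF hN W) (sr i)) := by
  classical
  set M := KInstU.model hF hN W with hM
  have hA : Amb (toFrame W) M.I := Nodes.WittU.amb_U hF W
  let Om := {c : F // c + c ^ q = 0}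
  have hw : ∀ z : Z, ∃ p : (toFrame W).Adm, (z : PSU N F q) = M.Z (i, true) p ∧ p.w = 0 := by
    intro z
    obtain ⟨h1, h2⟩ := hZ z z.2
    obtain ⟨p, hp⟩ := (mem_X_last M hi).1 h1
    refine ⟨p, hp, (sq_eq_one hA).1 ?_⟩
    rw [hp, ← zz_mul, ← zz_one M (i, true)] at h2
    exact zz_inj M hA h2
  choose f hf hf0 using hw
  have hok : ∀ z, (f z).c + (f z).c ^ q = 0 := by
    intro z
    have h2 := (f z).ok.2
    rw [ok_iff, hf0, herm_zero_left, neg_zero] at h2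
    exact h2
  have h1 : Nat.card Z ≤ Nat.card Om := by
    refine Nat.card_le_card_of_injective (fun z => (⟨(f z).c, hok z⟩ : Om)) ?_
    intro z z' hzz
    have h3 : (f z).c = (f z').c := congrArg Subtype.val hzz
    have h4 : f z = f z' := Frame.Adm.ext (by rw [hf0, hf0]) h3
    apply Subtype.ext
    rw [hf z, hf z', h4]
  have h2 : Nat.card Om < Nat.card F := by
    obtain ⟨x, hx⟩ := exists_trace_ne hF
    rw [Nat.card_eq_fintype_card, Nat.card_eq_fintype_card]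
    exact Fintype.card_subtype_lt hx
  have h3 : Nat.card F * Nat.card Om ≤ Nat.card (X M (sr i)) := by
    choose s hs using exists_ok hF W hW
    rw [← Nat.card_prod]
    refine Nat.card_le_card_of_injective
      (fun x : F × Om => (⟨M.Z (i, true) ((⟨x.1 • d, s x.1, hs x.1⟩ : (toFrame W).Adm) *
        ⟨0, x.2.1, ⟨W.V0.zero_mem, by rw [ok_iff, herm_zero_left, neg_zero]; exact x.2.2⟩⟩),
        (mem_X_last M hi).2 ⟨_, rfl⟩⟩ : X M (sr i))) ?_
    rintro ⟨a, c⟩ ⟨a', c'⟩ h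
    have h4 := zz_inj M hA (congrArg Subtype.val h)
    have h5 := congrArg Frame.Adm.w h4
    simp only [Frame.Adm.mul_w, add_zero] at h5
    have h6 : a = a' := smul_inj hd h5
    subst h6
    have h7 := mul_left_cancel h4
    have h8 := congrArg Frame.Adm.c h7
    exact Prod.ext rfl (Subtype.ext h8)
  have h4 : 0 < Nat.card Om := by
    have : Nonempty Om := ⟨⟨0, by rw [zero_pow_q hF, add_zero]⟩⟩
    exact Nat.card_pos
  calc Nat.card Z * Nat.card Z ≤ Nat.card Om * Nat.card Om := Nat.mul_le_mul h1 h1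
    _ < Nat.card F * Nat.card Om := Nat.mul_lt_mul_of_pos_right h2 h4
    _ ≤ _ := h3

include hd hW in
/-- **The last node.** -/
theorem ex_last {i : Fin m} (hi : (i : ℕ) + 1 < m) (hi' : (i : ℕ) + 2 = m) :
    InL.Ex (T (KInstU.model hF hN W)) (X (KInstU.model hF hN W)) (⟨i + 1, hi⟩ : Fin m) where
  cen := by
    set M := KInstU.model hF hN W with hM
    have hA : Amb (toFrame W) M.I := Nodes.WittU.amb_U hF W
    have hl : ¬ (((⟨i + 1, hi⟩ : Fin m) : ℕ) + 1 < m) := by simp only; omega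
    intro u hu hu2 v hv
    obtain ⟨p, rfl⟩ := (mem_X_last M hl).1 hu
    obtain ⟨r, rfl⟩ := (mem_X_last M hl).1 hv
    rw [← zz_mul, ← zz_one M (⟨i + 1, hi⟩, true)] at hu2
    rw [← zz_mul, ← zz_mul, cen_of_w ((sq_eq_one hA).1 (zz_inj M hA hu2))]
  com := by
    set M := KInstU.model hF hN W with hM
    have hA : Amb (toFrame W) M.I := Nodes.WittU.amb_U hF W
    have hl : ¬ (((⟨i + 1, hi⟩ : Fin m) : ℕ) + 1 < m) := by simp only; omega
    intro u hu v hv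
    obtain ⟨p, rfl⟩ := (mem_X_last M hl).1 hu
    obtain ⟨r, rfl⟩ := (mem_X_last M hl).1 hv
    rw [← zz_inv, ← zz_inv, ← zz_mul, ← zz_mul, ← zz_mul, ← zz_mul, (sq_eq_one hA).2, zz_one]
    simp only [Frame.Adm.mul_w, Frame.Adm.inv_w]
    abel
  sq := by
    set M := KInstU.model hF hN W with hM
    have hA : Amb (toFrame W) M.I := Nodes.WittU.amb_U hF W
    have hl : ¬ (((⟨i + 1, hi⟩ : Fin m) : ℕ) + 1 < m) := by simp only; omega
    intro z hz hz2
    obtain ⟨p, rfl⟩ := (mem_X_last M hl).1 hz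
    rw [← zz_mul, ← zz_one M (⟨i + 1, hi⟩, true)] at hz2
    obtain ⟨y, hy⟩ := exists_sq hF W hd hW ((sq_eq_one hA).1 (zz_inj M hA hz2))
    exact ⟨M.Z (⟨i + 1, hi⟩, true) y, (mem_X_last M hl).2 ⟨y, rfl⟩, by rw [← zz_mul, ← hy]⟩
  irr := by
    set M := KInstU.model hF hN W with hM
    have hA : Amb (toFrame W) M.I := Nodes.WittU.amb_U hF W
    have hl : ¬ (((⟨i + 1, hi⟩ : Fin m) : ℕ) + 1 < m) := by simp only; omega
    intro K hK hO hT
    by_cases hK2 : ∀ z ∈ K, z * z = 1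
    · exact Or.inl hK2
    right
    push Not at hK2
    obtain ⟨k, hk, hk2⟩ := hK2
    obtain ⟨p, rfl⟩ := (mem_X_last M hl).1 (hK hk)
    have hp : p.w ≠ 0 := by
      intro h0
      apply hk2
      rw [← zz_mul, (sq_eq_one hA).2 h0, zz_one]
    obtain ⟨a, ha⟩ := exists_smul hF W hW _ ((toFrame W).ok_mem p.ok)
    have ha0 : a ≠ 0 := by
      rintro rfl
      rw [zero_smul] at ha
      exact hp ha
    have hOm : ∀ r : (toFrame W).Adm, r.w = 0 → M.Z (⟨i + 1, hi⟩, true) r ∈ K := by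
      intro r hr
      refine hO _ ((mem_X_last M hl).2 ⟨r, rfl⟩) ?_
      rw [← zz_mul, (sq_eq_one hA).2 hr, zz_one]
    intro u hu
    obtain ⟨r, rfl⟩ := (mem_X_last M hl).1 hu
    by_cases hr : r.w = 0
    · exact hOm r hr
    obtain ⟨b, hb⟩ := exists_smul hF W hW _ ((toFrame W).ok_mem r.ok)
    have hb0 : b ≠ 0 := by
      rintro rfl
      rw [zero_smul] at hb
      exact hr hb
    have ht0 : (HU hF N).σ (b * a⁻¹) ≠ 0 := by
      rw [ne_eq, map_eq_zero]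
      exact mul_ne_zero hb0 (inv_ne_zero ha0)
    obtain ⟨g, hg, hg1, hg2⟩ := exists_tor hA hi ht0
    have h1 := conj_Z (toFrame W) (hA.iso g hg.1) hg1 p p (hg2 _ ((toFrame W).ok_mem p.ok)) rfl
    rw [(HU hF N).σσ] at h1
    have h2 : M.Z (⟨i + 1, hi⟩, true) (Frame.Adm.smul (b * a⁻¹) p) ∈ K := by
      have h3 := hT (M.φ ⟨g, hg.1⟩) (Subgroup.mem_map_of_mem _ (Subgroup.mem_subgroupOf.2 hg)) _ hk
      have h4 : M.φ ⟨g, hg.1⟩ * M.Z (⟨i + 1, hi⟩, true) p * (M.φ ⟨g, hg.1⟩)⁻¹ =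
          M.Z (⟨i + 1, hi⟩, true) (Frame.Adm.smul (b * a⁻¹) p) := by
        unfold Model.Z
        rw [← map_inv, ← map_mul, ← map_mul]
        congr 1
        exact Subtype.ext h1
      rwa [h4] at h3
    have h3 : ((Frame.Adm.smul (b * a⁻¹) p)⁻¹ * r).w = 0 := by
      rw [Frame.Adm.mul_w, Frame.Adm.inv_w, Frame.Adm.smul_w, ha, hb, smul_smul, inv_mul_cancel_right₀ ha0,
        neg_add_cancel]
    have h4 := mul_mem h2 (hOm _ h3)
    rwa [← zz_mul, mul_inv_cancel_left] at h4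
  card := card_lt hF hN W hd hW (by simp only; omega)

include hd hW in
/-- the root group of `2 ε_0` is not abelian -/
theorem not_comm {x : Fin m → ℤ} {i : Fin m} (ex : ee x = wt (i, true) + wt (i, true)) :
    ⁅X (KInstU.model hF hN W) x, X (KInstU.model hF hN W) x⁆ ≠ ⊥ := by
  intro hbot
  set M := KInstU.model hF hN W with hM
  have hA : Amb (toFrame W) M.I := Nodes.WittU.amb_U hF W
  obtain ⟨b, hb⟩ := exists_not_fixed hF
  obtain ⟨c, hc⟩ := exists_ok hF W hW b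
  obtain ⟨e, he⟩ := exists_ok hF W hW 1
  have h1 : ∀ p : (toFrame W).Adm, M.Z (i, true) p ∈ X M x := fun p => mem_X_of M (M.hZ _ _) (Z_mem_rg ex p)
  have h2 : ⁅M.Z (i, true) ⟨b • d, c, hc⟩, M.Z (i, true) ⟨(1 : F) • d, e, he⟩⁆ = 1 := by
    rw [← Subgroup.mem_bot, ← hbot]
    exact Subgroup.commutator_mem_commutator (h1 _) (h1 _)
  rw [commutatorElement_eq_one_iff_mul_comm, ← zz_mul, ← zz_mul] at h2
  have h3 := congrArg Frame.Adm.c (zz_inj M hA h2)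
  have h4 : c + e - (1 : F)⁻¹ * hermForm N F q ((1 : F) • d) (b • d) =
      e + c - (1 : F)⁻¹ * hermForm N F q (b • d) ((1 : F) • d) := h3
  rw [inv_one, one_mul, one_mul, herm_smul_left, herm_smul_right, herm_smul_left, herm_smul_right, hd, one_pow,
    mul_one, mul_one, one_mul, add_comm e c, sub_right_inj] at h4
  exact hb (h4.trans (mul_one b))

include hd hW in
/-- **There is no row.** -/
theorem row_false (hm : 0 < m) {nn : Fin m → PSU N F q} {V : Type*} [AddCommGroup V] [Module (ZMod 2) V]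
    {ρ : PSU N F q →* (V ≃ₗ[ZMod 2] V)} {b : LinearMap.BilinForm (ZMod 2) V} {a : V} {D : Submodule (ZMod 2) V}
    {X0 : Subgroup (PSU N F q)} {w : ℕ}
    (R : Row (CoxeterMatrix.B m).toCoxeterSystem (isCartan m) (T (KInstU.model hF hN W)) nn
      (X (KInstU.model hF hN W)) ρ b a D X0 w) : False := by
  set M := KInstU.model hF hN W with hM
  have : Finite (CoxeterMatrix.B m).Group := finite_W (CoxeterMatrix.B m).toCoxeterSystem
  have hG : Gd (X M) := gd M ⟨d, by show hermForm N F q d d ≠ 0; rw [hd]; exact one_ne_zero, exists_ok hF W hW⟩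
  have hX : X0 = Nodes.LeviDec.VJ (CoxeterMatrix.B m).toCoxeterSystem (isCartan m) (X M) (Mv ρ nn a)ᶜ :=
    Cov.eq_VJ R (fun u hu => ThmA.thmA R.core le_rfl u hu) (fun x hx h0 hs => hG.gen _ hx h0 hs)
  obtain ⟨k, hk⟩ := mv_nonempty R
  obtain ⟨x, hx, ex⟩ := exists_root (CoxeterMatrix.B m).toCoxeterSystem (a := ((⟨0, hm⟩ : Fin m), true))
    (b := ((⟨0, hm⟩ : Fin m), true)) (Or.inr rfl) rfl le_rfl
  have h0 : (⟨0, hm⟩ : Fin m) ≤ k := Nat.zero_le _
  exact not_comm hF hN W hd hW ex (comm_bot R hX hx hx hk hk (pos_add ex h0) (pos_add ex h0))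

end Unitary

universe u

/-- **`PSU_{2m+1}(q)`, `q` even, `m ≥ 2`**: the data, and there is no `Row`. -/
theorem exists_bdU {F : Type*} [Field F] [Fintype F] [CharP F 2] {q m : ℕ} (hF : Fintype.card F = q ^ 2)
    (hm : 2 ≤ m) :
    ∃ (T : Subgroup (PSU (2 * m + 1) F q)) (n : Fin m → PSU (2 * m + 1) F q)
      (X : (Fin m → ℤ) → Subgroup (PSU (2 * m + 1) F q)), BdU (CoxeterMatrix.B m) (isCartan m) T n X ∧
      ∀ (V : Type u) [AddCommGroup V] [Module (ZMod 2) V] (ρ : PSU (2 * m + 1) F q →* (V ≃ₗ[ZMod 2] V))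
        (b : LinearMap.BilinForm (ZMod 2) V) (a : V) (D : Submodule (ZMod 2) V) (X0 : Subgroup (PSU (2 * m + 1) F q))
        (w : ℕ), ¬ Row (CoxeterMatrix.B m).toCoxeterSystem (isCartan m) T n X ρ b a D X0 w := by
  have hN : 3 ≤ 2 * m + 1 := by omega
  obtain ⟨W, d, hd, hW⟩ := exists_wframe_odd (N := 2 * m + 1) hF rfl
  obtain ⟨p0, hp0, -⟩ := Nodes.WittU.exists_adm hF W
  have hA : Amb (toFrame W) (KInstU.model hF hN W).I := Nodes.WittU.amb_U hF W
  have hlast : ∀ j : Fin m, ¬ (j : ℕ) + 1 < m → InL.Ex (T (KInstU.model hF hN W)) (X (KInstU.model hF hN W)) j := by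
    intro j hj
    have hj2 := j.2
    have h1 := ex_last hF hN W hd hW (i := ⟨m - 2, by omega⟩) (by simp only; omega) (by simp only; omega)
    have e : (⟨((⟨m - 2, by omega⟩ : Fin m) : ℕ) + 1, by simp only; omega⟩ : Fin m) = j := Fin.ext (by simp only; omega)
    rwa [e] at h1
  refine ⟨_, nw (KInstU.model hF hN W) hA p0, _, ⟨finite_W (CoxeterMatrix.B m).toCoxeterSystem,
    Nodes.RGDAllP.rgd_model (KInstU.model hF hN W) hA hp0 _, G1_eq_top _ (by omega) _,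
    T_comm _ hA (d_mem hF W hW) (exists_smul hF W hW), fun j => ?_, fun i j h1 h2 => ?_⟩,
    fun V _ _ ρ b a D X0 w R => row_false hF hN W hd hW (by omega) R⟩
  · by_cases hj : (j : ℕ) + 1 < m
    · exact Or.inl fun u hu => sq_of_lt _ hj hu
    · exact Or.inr (hlast j hj)
  · have hi' : ¬ (i : ℕ) + 1 < m := fun hi => h1 fun u hu => sq_of_lt _ hi hu
    have hj' : ¬ (j : ℕ) + 1 < m := fun hj => h2 fun u hu => sq_of_lt _ hj hu
    exact Fin.ext (by have := i.2; have := j.2; omega)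

/-- **`KfRowU` for `PSU_{2m+1}(q)`.** -/
theorem kfRowU {F : Type*} [Field F] [Fintype F] [CharP F 2] {q m : ℕ} (hF : Fintype.card F = q ^ 2)
    (hm : 2 ≤ m) : KfRowU.{u} (PSU (2 * m + 1) F q) := by
  obtain ⟨T, n, X, B, h⟩ := exists_bdU.{u} hF hm
  exact ⟨m, _, _, _, T, n, X, B, fun V _ _ ρ b a D X0 w R => absurd R (h V ρ b a D X0 w)⟩

/-- **`KfRowU` for the unitary groups of odd dimension `≥ 5`.** -/
theorem kfRowU_of_odd {F : Type*} [Field F] [Fintype F] [CharP F 2] {q N : ℕ} (hF : Fintype.card F = q ^ 2)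
    (hN : 5 ≤ N) (h : ¬ Even N) : KfRowU.{u} (PSU N F q) := by
  obtain ⟨m, rfl⟩ := Nat.not_even_iff_odd.1 h
  exact kfRowU hF (by omega)

end Cfsg.Agent.Omega.EH3.Kf.UOdd
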