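import Mathlib
import Cfsg.Agent.Omega.EH3.Kf.FamRow
import Cfsg.Agent.Omega.EH3.Kf.UOdd
import Cfsg.Agent.OddHalf.DblR.MinusTor

/-!
# EH3, Lie rows in characteristic 2: the data of `PΩ⁻_{2m}(q)` (helper944, for row `omm` of `Kf/Table.lean`)

* `bd_of_orth` : `FamRow.Bd` for a model `M : Model Fr K`, `Fr` of orthogonal type with `V0` a plane;
* `bd_minus` : the same for `KSideO.model (wminus m F a b hab) hG hp` (`SpecMinus.modelMinus` is an instance);
* `exists_h` : `h(p.w, q.w) = t` has a solution in `Fr.Adm`; `card_adm` : `|Fr.Adm| = |F|²`.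
-/

set_option autoImplicit false
set_option linter.unusedSectionVars false

namespace Cfsg.Agent.Omega.EH3.Kf.OMinusBd

open CoxeterSystem Cfsg.Agent.ChevalleyStructure.CoxeterGeom Cfsg.Agent.Tits.Roots
  Cfsg.Agent.Nodes.Comb Cfsg.Agent.Nodes.Reps Cfsg.Agent.Nodes.BNOf Cfsg.Agent.Nodes.TypeC
  Cfsg.Agent.Nodes.WittRoot Cfsg.Agent.Nodes.RGDLib
open Cfsg Cfsg.Agent.TitsThree Cfsg.Agent.TitsThree.Siegel Cfsg.Agent.TitsThree.SiegelGen
  Cfsg.Agent.TitsThree.WittFrame Cfsg.Agent.TitsThree.WBridge Cfsg.Agent.TitsThree.WittWeyl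
  Cfsg.Agent.TitsThree.FrameCN Cfsg.Agent.TitsThree.KSideO
open Cfsg.Agent.KFacts.WittOrth Cfsg.Agent.KFacts.SpecMinus Cfsg.Agent.OddHalf.DblR.MinusTor
open Cfsg.Agent.Omega.EH3.Kf.Base Cfsg.Agent.Omega.EH3.Kf.FamRow
open Cfsg.Agent.LieClassical Cfsg.Agent.LieClassical.OrthCore Cfsg.Agent.LieClassical.OrthTrans
open Cfsg.Agent.LieClassical.OrthSimple Cfsg.Agent.LieClassical.OrthFinite
open Cfsg.Agent.LieClassical.OrthForms

/-! ### Frames -/

section Frame

variable {F : Type*} [Field F] {V : Type*} [AddCommGroup V] [Module F V] {H : HForm F V} {n : ℕ}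
  {Fr : Frame H (Fin n)} (O : Orth Fr)

include O

/-- the form is onto on admissible pairs, if `V0` is a plane -/
theorem exists_h (hP : IsPlane Fr) (t : F) : ∃ p q : Fr.Adm, H.h p.w q.w = t := by
  obtain ⟨q, v0, w0, P, -⟩ := hP
  obtain ⟨c, hc⟩ := O.full _ (Fr.V0.smul_mem t v0.2)
  obtain ⟨d, hd⟩ := O.full _ w0.2
  refine ⟨⟨_, c, hc⟩, ⟨_, d, hd⟩, ?_⟩
  have h1 : H.h v0.1 w0.1 = 1 := P.pair
  rw [H.smul_left, h1, mul_one]

/-- the admissible pairs are the vectors of `V0` -/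
theorem card_adm_V0 : Nat.card Fr.Adm = Nat.card Fr.V0 := by
  refine Nat.card_congr (Equiv.ofBijective (fun p : Fr.Adm => (⟨p.w, Fr.ok_mem p.ok⟩ : Fr.V0)) ⟨?_, ?_⟩)
  · intro p q h
    exact O.adm_ext (congrArg Subtype.val h)
  · rintro ⟨w, hw⟩
    obtain ⟨p, hp⟩ := O.exists_adm hw
    exact ⟨p, Subtype.ext hp⟩

theorem card_adm (hP : IsPlane Fr) : Nat.card Fr.Adm = Nat.card F ^ 2 := by
  obtain ⟨q, v0, w0, P, -⟩ := hP
  have hpair : H.h v0.1 w0.1 = 1 := P.pair
  have hpair' : H.h w0.1 v0.1 = 1 := by rw [O.h_comm, hpair]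
  have h0 : ∀ v : Fr.V0, H.h v.1 v.1 = 0 := by
    intro v
    obtain ⟨p, hp⟩ := O.exists_adm v.2
    rw [← hp]
    exact O.h_self p
  rw [card_adm_V0 O, pow_two, ← Nat.card_prod]
  refine (Nat.card_congr (Equiv.ofBijective (fun x : F × F => x.1 • v0 + x.2 • w0) ⟨?_, ?_⟩)).symm
  · rintro ⟨a, b⟩ ⟨a', b'⟩ h
    have h1 : a • v0.1 + b • w0.1 = a' • v0.1 + b' • w0.1 := congrArg Subtype.val h
    have h2 := congrArg (fun v => H.h v w0.1) h1
    have h3 := congrArg (fun v => H.h v v0.1) h1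
    simp only [H.add_left, H.smul_left, hpair, hpair', h0, mul_one, mul_zero, add_zero, zero_add] at h2 h3
    exact Prod.ext h2 h3
  · intro x
    obtain ⟨c, d, h⟩ := P.span x
    exact ⟨(c, d), h.symm⟩

end Frame

/-! ### Models -/

section Model

variable {F : Type*} [Field F] {V : Type*} [AddCommGroup V] [Module F V] {H : HForm F V} {n : ℕ}
  {Fr : Frame H (Fin n)} {K : Type*} [Group K] (M : Model Fr K) (O : Orth Fr)

include O

/-- the simple root groups have exponent two -/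
theorem sq_eq_one {i : Fin n} {u : K} (hu : u ∈ Nodes.WittModel.X M (sr i)) : u * u = 1 := by
  have : CharP F 2 := CharTwo.of_one_ne_zero_of_two_eq_zero one_ne_zero O.two
  by_cases hi : (i : ℕ) + 1 < n
  · exact UOdd.sq_of_lt M hi hu
  · obtain ⟨p, rfl⟩ := (UOdd.mem_X_last M hi).1 hu
    rw [← UOdd.zz_mul, O.adm_sq, UOdd.zz_one]

/-- **The data of a model of orthogonal type, `V0` a plane.** -/
theorem bd_of_orth [Finite V] (hn : 0 < n) (hP : IsPlane Fr) (hA : Nodes.WittAll.AmbT Fr 2 M.I) {p0 : Fr.Adm}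
    (hp0 : p0.c ≠ 0) :
    Bd (CoxeterMatrix.B n) (isCartan n) (Nodes.WittModel.T M)
      (fun i => M.φ ⟨Nodes.WittRGD.nn Fr p0 i, Nodes.WittAll.nn_mem hA p0 i⟩) (Nodes.WittModel.X M) := by
  have : CharP F 2 := CharTwo.of_one_ne_zero_of_two_eq_zero one_ne_zero O.two
  have : Fact (Nat.Prime 2) := ⟨Nat.prime_two⟩
  exact ⟨finite_W (CoxeterMatrix.B n).toCoxeterSystem, Nodes.WittAll.rgdC_model M hA hp0 _,
    Nodes.WittModel.G1_eq_top M hn _, tab_model O hP M hA, fun i u hu => sq_eq_one M O hu⟩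

end Model

/-! ### The minus form -/

section Minus

variable {F : Type*} [Field F] [Finite F] [CharP F 2] {m : ℕ} (a b : F)
    (hab : ∀ z₁ z₂ : F, z₁ ^ 2 + a * z₁ * z₂ + b * z₂ ^ 2 = 0 → z₁ = 0 ∧ z₂ = 0)

include hab

theorem ambT (hm : 2 ≤ m) (hG : Good (minusForm m F a b)) :
    Nodes.WittAll.AmbT (toFrame (wminus m F a b hab)) 2 (E (minusForm m F a b)) :=
  Nodes.WittInst.ambT_O _ fun _ hg hg2 hb =>
    Nodes.WittInst.fixp_minus a b hab CharTwo.two_eq_zero hm hG hg hg2 hb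

theorem orth : Orth (toFrame (wminus m F a b hab)) := orth_minus CharTwo.two_eq_zero m a b hab

theorem isPlane : IsPlane (toFrame (wminus m F a b hab)) := isPlane_minus CharTwo.two_eq_zero m a b hab

theorem exists_h_minus (t : F) : ∃ p q : (toFrame (wminus m F a b hab)).Adm,
    (HO (minusForm m F a b)).h p.w q.w = t := exists_h (orth a b hab) (isPlane a b hab) t

theorem card_adm_minus : Nat.card (toFrame (wminus m F a b hab)).Adm = Nat.card F ^ 2 :=
  card_adm (orth a b hab) (isPlane a b hab)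

/-- **The data of `PΩ⁻_{2m+2}(F)`, `F` finite of characteristic two, `m ≥ 2`** (any `Good`, `hp`, `hA`). -/
theorem bd_minus (hm : 2 ≤ m) (hG : Good (minusForm m F a b))
    (hp : ∃ p : (toFrame (wminus m F a b hab)).Adm, p.c ≠ 0)
    (hA : Nodes.WittAll.AmbT (toFrame (wminus m F a b hab)) 2 (model (wminus m F a b hab) hG hp).I)
    {p0 : (toFrame (wminus m F a b hab)).Adm} (hp0 : p0.c ≠ 0) :
    Bd (CoxeterMatrix.B m) (isCartan m) (Nodes.WittModel.T (model (wminus m F a b hab) hG hp))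
      (fun i => (model (wminus m F a b hab) hG hp).φ
        ⟨Nodes.WittRGD.nn (toFrame (wminus m F a b hab)) p0 i, Nodes.WittAll.nn_mem hA p0 i⟩)
      (Nodes.WittModel.X (model (wminus m F a b hab) hG hp)) :=
  bd_of_orth (model (wminus m F a b hab) hG hp) (orth a b hab) (by omega) (isPlane a b hab) hA hp0

end Minus

end Cfsg.Agent.Omega.EH3.Kf.OMinusBd
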