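import Cfsg.Agent.Omega.EH3.Kf.Base
import Cfsg.Agent.Omega.EH3.Kf.Node

/-!
# EH3, Lie rows in characteristic 2: piece K4 = (G) (helper827; blueprints/OMEGA-EH3-KF3-helper227.md)

`tr ρ b c x y t = b (y-1)(x-1)c, (t-1)c` is trilinear and alternating on `X0`, does not depend on `c` and is invariant
under the stabiliser of `a` (`tr_conj`).  `not_kills` : simply laced, `q = 2`, `X0` the product of the root groups with
coefficient one at `i`: the triples of roots are not all killed.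
-/

set_option autoImplicit false
set_option linter.unusedSectionVars false

namespace Cfsg.Agent.Omega.EH3.Kf.Tri

open CoxeterSystem Cfsg.Agent.ChevalleyStructure.CoxeterGeom Cfsg.Agent.Tits.Roots Cfsg.Agent.Tits.Core
  Cfsg.Agent.Tits.RootComb Cfsg.Agent.Nodes.Comb Cfsg.Agent.Nodes.Reps Cfsg.Agent.Nodes.BNOf
  Cfsg.Agent.Nodes.Coroot Cfsg.Agent.KFacts.RgdSL Cfsg.Agent.Omega.EH3.Kf.Base Cfsg.Agent.Omega.EH3.Kf.Node
  Cfsg.Agent.Nodes.OppDec Cfsg.Agent.Nodes.StabComb Cfsg.Agent.Nodes.Bruhat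
open scoped commutatorElement

variable {I W Y V : Type*} [Fintype I] [DecidableEq I] [Group W] [Group Y] [AddCommGroup V] [Module (ZMod 2) V]
  {M : CoxeterMatrix I} {cs : CoxeterSystem M W} {A : I → I → ℤ} {h : IsCartan M A}
  {T : Subgroup Y} {n : I → Y} {X : (I → ℤ) → Subgroup Y} {ρ : Y →* (V ≃ₗ[ZMod 2] V)}
  {b : LinearMap.BilinForm (ZMod 2) V} {a : V} {D : Submodule (ZMod 2) V} {X0 : Subgroup Y} {w : ℕ}

/-- the trilinear form -/
def tr (ρ : Y →* (V ≃ₗ[ZMod 2] V)) (b : LinearMap.BilinForm (ZMod 2) V) (c : V) (x y t : Y) : ZMod 2 :=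
  b (dl ρ y (dl ρ x c)) (dl ρ t c)

theorem vv (v : V) : v + v = 0 := by
  have : v + v = (2 : ZMod 2) • v := by rw [two_smul]
  rw [this, show (2 : ZMod 2) = 0 from rfl, zero_smul]

theorem dl_add (x : Y) (u v : V) : dl ρ x (u + v) = dl ρ x u + dl ρ x v := by
  unfold dl; rw [map_add]; abel

theorem dl_one (v : V) : dl ρ 1 v = 0 := by
  unfold dl
  rw [map_one]
  exact vv v

theorem dl_mul (x y : Y) (v : V) : dl ρ (x * y) v = dl ρ x (dl ρ y v) + dl ρ x v + dl ρ y v := by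
  unfold dl
  rw [map_mul, map_add]
  have h1 := vv (ρ x v)
  have h2 := vv (ρ y v)
  have h3 := vv v
  show ρ x (ρ y v) + v = _
  have : ρ x (ρ y v) + ρ x v + (ρ y v + v) + (ρ x v + v) + (ρ y v + v) =
      ρ x (ρ y v) + v + (ρ x v + ρ x v) + (ρ y v + ρ y v) + (v + v) := by abel
  rw [this, h1, h2, h3]
  simp

theorem dl_conj (g x : Y) (v : V) : dl ρ (g * x * g⁻¹) (ρ g v) = ρ g (dl ρ x v) := by
  unfold dl
  rw [map_mul, map_mul, map_add]
  show ρ g (ρ x (ρ g⁻¹ (ρ g v))) + _ = _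
  have : ρ g⁻¹ (ρ g v) = v := by
    have h1 : ρ (g⁻¹ * g) v = ρ g⁻¹ (ρ g v) := by rw [map_mul]; rfl
    rw [← h1, inv_mul_cancel, map_one]; rfl
  rw [this]

theorem dl_comm {x y : Y} (hxy : x * y = y * x) (v : V) : dl ρ x (dl ρ y v) = dl ρ y (dl ρ x v) := by
  have h1 := dl_mul (ρ := ρ) x y v
  have h2 := dl_mul (ρ := ρ) y x v
  rw [hxy, h2] at h1
  have h3 : dl ρ y (dl ρ x v) + dl ρ y v + dl ρ x v = dl ρ y (dl ρ x v) + (dl ρ x v + dl ρ y v) := by abel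
  rw [h3, add_assoc] at h1
  exact (add_right_cancel h1).symm

section Row

variable (R : Row cs h T n X ρ b a D X0 w)

include R

theorem bc (u v : V) : b u v = b v u := by
  have h1 := R.b_self (u + v)
  rw [map_add, map_add, LinearMap.add_apply, LinearMap.add_apply, R.b_self, R.b_self, zero_add, add_zero] at h1
  exact (CharTwo.add_eq_zero.1 h1).symm

theorem comm0 {x y : Y} (hx : x ∈ X0) (hy : y ∈ X0) : x * y = y * x := by
  have h1 := R.sq _ (X0.mul_mem hx hy)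
  have hx2 : x⁻¹ = x := inv_eq_of_mul_eq_one_left (R.sq x hx)
  have hy2 : y⁻¹ = y := inv_eq_of_mul_eq_one_left (R.sq y hy)
  have h2 : (x * y)⁻¹ = x * y := inv_eq_of_mul_eq_one_left h1
  rw [mul_inv_rev, hx2, hy2] at h2
  exact h2.symm

theorem exists_c : ∃ c, b a c = 1 := by
  by_contra hcon
  push Not at hcon
  apply R.a_ne
  apply R.nondeg
  intro u
  have : b a u = 0 ∨ b a u = 1 := by generalize b a u = r; revert r; decide
  rcases this with h1 | h1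
  · exact h1
  · exact absurd h1 (hcon u)

theorem dD {x y : Y} (hx : x ∈ X0) (hy : y ∈ X0) (c : V) : dl ρ y (dl ρ x c) ∈ D := R.two y hy _ (R.one x hx c)

theorem tr_swap {x y : Y} (hx : x ∈ X0) (hy : y ∈ X0) (c : V) (t : Y) : tr ρ b c x y t = tr ρ b c y x t := by
  unfold tr; rw [dl_comm (comm0 R hx hy)]

theorem tr_self {x : Y} (hx : x ∈ X0) (c : V) (t : Y) : tr ρ b c x x t = 0 := by
  have h1 := dl_mul (ρ := ρ) x x c
  rw [R.sq x hx, dl_one, add_assoc, vv, add_zero] at h1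
  unfold tr
  rw [← h1, map_zero, LinearMap.zero_apply]

theorem tr_add3 {x y t t' : Y} (hx : x ∈ X0) (hy : y ∈ X0) (ht : t ∈ X0) (ht' : t' ∈ X0) (c : V) :
    tr ρ b c x y (t * t') = tr ρ b c x y t + tr ρ b c x y t' := by
  unfold tr
  rw [dl_mul, map_add, map_add, R.b_D _ (dD R hx hy c) _ (dD R ht' ht c), zero_add]

theorem b_a_dl {t : Y} (ht : t ∈ X0) (c : V) : b a (dl ρ t c) = 0 := R.one t ht c

theorem tr_add2 {x y y' t : Y} (hx : x ∈ X0) (hy : y ∈ X0) (hy' : y' ∈ X0) (ht : t ∈ X0) (c : V) :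
    tr ρ b c x (y * y') t = tr ρ b c x y t + tr ρ b c x y' t := by
  unfold tr
  rw [dl_mul, map_add, map_add, LinearMap.add_apply, LinearMap.add_apply]
  have h1 : b (dl ρ y (dl ρ y' (dl ρ x c))) (dl ρ t c) = 0 := by
    rcases R.three y hy _ (dD R hx hy' c) with h2 | h2
    · rw [h2, map_zero, LinearMap.zero_apply]
    · rw [h2]; exact b_a_dl R ht c
  rw [h1, zero_add]

theorem tr_add1 {x x' y t : Y} (hx : x ∈ X0) (hx' : x' ∈ X0) (hy : y ∈ X0) (ht : t ∈ X0) (c : V) :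
    tr ρ b c (x * x') y t = tr ρ b c x y t + tr ρ b c x' y t := by
  rw [tr_swap R (X0.mul_mem hx hx') hy, tr_add2 R hy hx hx' ht, tr_swap R hy hx, tr_swap R hy hx']

theorem tr_self' {y : Y} (hy : y ∈ X0) (x : Y) (c : V) : tr ρ b c x y y = 0 := by
  unfold tr
  set u := dl ρ x c with hu
  have e0 : ∀ v, ρ y (ρ y v) = v := fun v => by
    have h1 : ρ (y * y) v = ρ y (ρ y v) := by rw [map_mul]; rfl
    rw [← h1, R.sq y hy, map_one]; rfl
  have e1 : b (ρ y u) (ρ y c) = b u c := R.b_inv y _ _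
  have e2 : b u (ρ y c) = b (ρ y u) c := by
    have h1 := R.b_inv y (ρ y u) c
    rwa [e0] at h1
  show b (ρ y u + u) (ρ y c + c) = 0
  rw [map_add, map_add, LinearMap.add_apply, LinearMap.add_apply, e1, e2]
  generalize b u c = r
  generalize b (ρ y u) c = s
  revert r s
  decide

theorem tr_swap23 {x y t : Y} (hx : x ∈ X0) (hy : y ∈ X0) (ht : t ∈ X0) (c : V) :
    tr ρ b c x y t = tr ρ b c x t y := by
  have h1 := tr_self' R (X0.mul_mem hy ht) x c
  rw [tr_add3 R hx (X0.mul_mem hy ht) hy ht, tr_add2 R hx hy ht hy, tr_add2 R hx hy ht ht, tr_self' R hy,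
    tr_self' R ht, zero_add, add_zero] at h1
  exact (CharTwo.add_eq_zero.1 h1).symm

theorem tr_indep {c c' : V} (hc : b a c = 1) (hc' : b a c' = 1) {x y t : Y} (hx : x ∈ X0) (hy : y ∈ X0)
    (ht : t ∈ X0) : tr ρ b c' x y t = tr ρ b c x y t := by
  obtain ⟨v, rfl⟩ : ∃ v, c' = c + v := ⟨c' - c, by abel⟩
  have hv : b a v = 0 := by
    rw [map_add, hc] at hc'
    generalize b a v = r at hc'
    revert r; decide
  have h1 : dl ρ x v ∈ D := R.two x hx v hv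
  have h2 : dl ρ t v ∈ D := R.two t ht v hv
  unfold tr
  rw [dl_add, dl_add, dl_add, map_add, map_add, LinearMap.add_apply, LinearMap.add_apply,
    R.b_D _ (dD R hx hy c) _ h2, R.b_D _ (dD R hx hy v) _ h2]
  have h3 : b (dl ρ y (dl ρ x v)) (dl ρ t c) = 0 := by
    rcases R.three y hy _ h1 with h4 | h4
    · rw [h4, map_zero, LinearMap.zero_apply]
    · rw [h4]; exact b_a_dl R ht c
  rw [h3]; simp

/-- The form is invariant under the stabiliser of `a`. -/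
theorem tr_conj {c : V} (hc : b a c = 1) {g : Y} (hg : ρ g a = a) {x y t : Y} (hx : x ∈ X0) (hy : y ∈ X0)
    (ht : t ∈ X0) : tr ρ b c (g * x * g⁻¹) (g * y * g⁻¹) (g * t * g⁻¹) = tr ρ b c x y t := by
  have h1 : b a (ρ g c) = 1 := by
    rw [← hc]
    nth_rewrite 1 [← hg]
    exact R.b_inv g a c
  rw [← tr_indep R hc h1 (R.norm g hg x hx) (R.norm g hg y hy) (R.norm g hg t ht)]
  unfold tr
  rw [dl_conj, dl_conj, dl_conj, R.b_inv]

theorem tr_one1 (c : V) (y t : Y) : tr ρ b c 1 y t = 0 := by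
  unfold tr
  rw [dl_one]
  unfold dl
  simp

/-! ### The root elements -/

variable (hs : SL cs h) [Finite W] {i : I}

/-- The value of the form on root elements vanishes for a killed triple. -/
theorem tr_killed (hs : SL cs h) {i : I} (h2 : ∀ x, IsRoot cs h x → Nat.card (X x) = 2)
    (hX0 : ∀ x, IsRoot cs h x → x i = 1 → X x ≤ X0)
    (hfix : ∀ x, IsRoot cs h x → x i = 0 → ∀ g ∈ X x, ρ g a = a) {c : V} (hc : b a c = 1)
    {α β ε : I → ℤ} (hα : IsRoot cs h α) (hβ : IsRoot cs h β) (hε : IsRoot cs h ε) (hα1 : α i = 1) (hβ1 : β i = 1)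
    (hε1 : ε i = 1) (_hαε : α ≠ ε) (hk : Killed cs h i α β ε) {x y z : Y} (hx : x ∈ X α) (hy : y ∈ X β) (hz : z ∈ X ε) :
    tr ρ b c x y z = 0 := by
  obtain ⟨δ, hδ, hδ0, hβδ, k1, k2⟩ := hk
  -- the element `u` of `X (β - δ)` and `d ∈ X δ`
  have hA : A2 cs h (β - δ) δ := hs.a2 hβδ hδ (cpr_of_add hs hβδ hδ (by rwa [sub_add_cancel]))
  have hβδ1 : (β - δ) i = 1 := by rw [Pi.sub_apply, hβ1, hδ0]; rfl
  obtain ⟨u, hu, hu1⟩ : ∃ u ∈ X (β - δ), u ≠ 1 := by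
    have := X_ne_bot R.rgd hβδ
    rw [Subgroup.ne_bot_iff_exists_ne_one] at this
    obtain ⟨⟨a, ha⟩, h1⟩ := this
    exact ⟨a, ha, fun h2 => h1 (Subtype.ext h2)⟩
  obtain ⟨d, hd, hud⟩ := A2.comm_surj R.rgd hA hu hu1 (w := y) (by rwa [sub_add_cancel])
  have hu0 : u ∈ X0 := hX0 _ hβδ hβδ1 hu
  have hy0 : y ∈ X0 := hX0 _ hβ hβ1 hy
  have hx0 : x ∈ X0 := hX0 _ hα hα1 hx
  have hz0 : z ∈ X0 := hX0 _ hε hε1 hz
  have hda : ρ d a = a := hfix δ hδ hδ0 d hd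
  have e1 : d * u * d⁻¹ = u * y := by
    have h3 : y⁻¹ = y := inv_eq_of_mul_eq_one_left (R.sq y hy0)
    have h4 : d * u * d⁻¹ = y⁻¹ * u := by
      rw [← hud, commutatorElement_def]; group
    rw [h4, h3, comm0 R hy0 hu0]
  have key : ∀ {γ γ' : I → ℤ}, IsRoot cs h γ → IsRoot cs h γ' → γ i = 1 → γ' i = 1 → (IsRoot cs h (γ + δ) → γ + δ = γ') →
      ∀ {g g' : Y}, g ∈ X γ → g' ∈ X γ' → g' ≠ 1 → d * g * d⁻¹ = g ∨ (γ + δ = γ' ∧ d * g * d⁻¹ = g * g') := by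
    intro γ γ' hγ hγ' hγ1 hγ1' hk g g' hg hg' hg1'
    by_cases hr : IsRoot cs h (γ + δ)
    · have h3 := hk hr
      have hA' : A2 cs h γ δ := hs.a2 hγ hδ (cpr_of_add hs hγ hδ hr)
      by_cases h4 : ⁅d, g⁆ = 1
      · left
        rw [commutatorElement_eq_one_iff_mul_comm] at h4
        rw [h4]; group
      · right
        refine ⟨h3, ?_⟩
        have h5 : ⁅d, g⁆ ∈ X γ' := by
          have := A2.comm_mem R.rgd hA'.symm hd hg
          rwa [add_comm, h3] at this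
        have h6 : ⁅d, g⁆ = g' := by
          have hc2 := h2 γ' hγ'
          rw [Nat.card_eq_two_iff' (1 : X γ')] at hc2
          obtain ⟨r, hr1, hr2⟩ := hc2
          have e3 := hr2 ⟨_, h5⟩ (fun e => h4 (congrArg Subtype.val e))
          have e4 := hr2 ⟨_, hg'⟩ (fun e => hg1' (congrArg Subtype.val e))
          exact congrArg Subtype.val (e3.trans e4.symm)
        have h7 : d * g * d⁻¹ = ⁅d, g⁆ * g := by rw [commutatorElement_def]; group
        rw [h7, h6, comm0 R (hX0 _ hγ' hγ1' hg') (hX0 _ hγ hγ1 hg)]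
    · left
      have hne : γ ≠ -δ := by
        intro e
        rw [e, Pi.neg_apply, hδ0] at hγ1
        norm_num at hγ1
      have hne' : γ ≠ δ := by
        intro e
        rw [e, hδ0] at hγ1
        norm_num at hγ1
      have h3 := comm_of_not_btwn R.rgd hγ hδ hne' hne
        (fun z hz => hs.not_btwn hγ hδ hne' (nonneg_of_not_add hs hγ hδ hne hr) z hz) hg hd
      rw [← h3]; group
  by_cases hx1 : x = 1
  · rw [hx1, tr_one1 R]
  by_cases hz1 : z = 1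
  · rw [hz1]
    unfold tr
    rw [dl_one, map_zero]
  have e2 := tr_conj R hc hda hx0 hu0 hz0
  rw [e1] at e2
  rcases key hα hε hα1 hε1 k1 hx hz hz1 with h3 | ⟨h3, h3'⟩ <;>
    rcases key hε hα hε1 hα1 k2 hz hx hx1 with h4 | ⟨h4, h4'⟩
  · rw [h3, h4, tr_add2 R hx0 hu0 hy0 hz0] at e2
    exact add_left_cancel (e2.trans (add_zero _).symm)
  · rw [h3, h4', tr_add3 R hx0 (X0.mul_mem hu0 hy0) hz0 hx0, tr_add2 R hx0 hu0 hy0 hz0,
      tr_swap23 R hx0 (X0.mul_mem hu0 hy0) hx0, tr_self R hx0, add_zero] at e2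
    exact add_left_cancel (e2.trans (add_zero _).symm)
  · rw [h3', h4, tr_add1 R hx0 hz0 (X0.mul_mem hu0 hy0) hz0, tr_add2 R hx0 hu0 hy0 hz0,
      tr_swap R hz0 (X0.mul_mem hu0 hy0), tr_self' R hz0, add_zero] at e2
    exact add_left_cancel (e2.trans (add_zero _).symm)
  · exfalso
    apply hδ.ne_zero
    have h5 : α + (δ + δ) = α := by rw [← add_assoc, h3, h4]
    have h6 : (2 : ℤ) • δ = 0 := by rw [two_smul]; simpa using h5
    exact (smul_eq_zero.1 h6).resolve_left (by norm_num)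

/-- **(G)** -/
theorem not_kills (hs : SL cs h) {i : I} (h2 : ∀ x, IsRoot cs h x → Nat.card (X x) = 2)
    (hX0 : X0 = RGD.Sup X {x | IsRoot cs h x ∧ x i = 1})
    (hfix : ∀ x, IsRoot cs h x → x i = 0 → ∀ g ∈ X x, ρ g a = a) : ¬ Kills cs h i := by
  intro hk
  obtain ⟨c, hc⟩ := exists_c R
  have hX0' : ∀ x, IsRoot cs h x → x i = 1 → X x ≤ X0 := fun x hx hx1 => by
    rw [hX0]; exact RGD.le_Sup (S := {x | IsRoot cs h x ∧ x i = 1}) ⟨hx, hx1⟩
  have eq2 : ∀ {γ : I → ℤ}, IsRoot cs h γ → ∀ {g g' : Y}, g ∈ X γ → g' ∈ X γ → g ≠ 1 → g' ≠ 1 → g = g' := by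
    intro γ hγ g g' hg hg' h3 h4
    have hc2 := h2 γ hγ
    rw [Nat.card_eq_two_iff' (1 : X γ)] at hc2
    obtain ⟨r, hr1, hr2⟩ := hc2
    have e3 := hr2 ⟨_, hg⟩ (fun e => h3 (congrArg Subtype.val e))
    have e4 := hr2 ⟨_, hg'⟩ (fun e => h4 (congrArg Subtype.val e))
    exact congrArg Subtype.val (e3.trans e4.symm)
  -- root elements
  have k0 : ∀ α β ε, IsRoot cs h α → IsRoot cs h β → IsRoot cs h ε → α i = 1 → β i = 1 → ε i = 1 →
      ∀ x ∈ X α, ∀ y ∈ X β, ∀ z ∈ X ε, tr ρ b c x y z = 0 := by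
    intro α β ε hα hβ hε hα1 hβ1 hε1 x hx y hy z hz
    have hx0 := hX0' _ hα hα1 hx
    have hy0 := hX0' _ hβ hβ1 hy
    have hz0 := hX0' _ hε hε1 hz
    by_cases hx1 : x = 1
    · rw [hx1, tr_one1 R]
    by_cases hy1 : y = 1
    · rw [tr_swap R hx0 hy0, hy1, tr_one1 R]
    by_cases hz1 : z = 1
    · rw [hz1]
      unfold tr
      rw [dl_one, map_zero]
    by_cases h3 : α = β
    · subst h3
      rw [eq2 hα hx hy hx1 hy1, tr_self R hy0]
    by_cases h4 : β = ε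
    · subst h4
      rw [eq2 hβ hy hz hy1 hz1, tr_self' R hz0]
    by_cases h5 : α = ε
    · subst h5
      rw [tr_swap R hx0 hy0, eq2 hα hx hz hx1 hz1, tr_self' R hz0]
    rcases hk α β ε hα hβ hε hα1 hβ1 hε1 h3 h4 h5 with h6 | h6 | h6
    · exact tr_killed R hs h2 hX0' hfix hc hα hβ hε hα1 hβ1 hε1 h5 h6 hx hy hz
    · rw [tr_swap R hx0 hy0]
      exact tr_killed R hs h2 hX0' hfix hc hβ hα hε hβ1 hα1 hε1 h4 h6 hy hx hz
    · rw [tr_swap23 R hx0 hy0 hz0]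
      exact tr_killed R hs h2 hX0' hfix hc hα hε hβ hα1 hε1 hβ1 h3 h6 hx hz hy
  -- extension to `X0`
  have ind : ∀ P : Y → Prop, P 1 → (∀ x ∈ X0, ∀ y ∈ X0, P x → P y → P (x * y)) →
      (∀ α, IsRoot cs h α → α i = 1 → ∀ x ∈ X α, P x) → ∀ x ∈ X0, P x := by
    intro P h1 hm hg x hx
    have hx' : x ∈ ⨆ z : {x | IsRoot cs h x ∧ x i = 1}, X z.1 := by
      have := hx
      rw [hX0] at this
      exact this
    suffices hh : x ∈ X0 ∧ P x from hh.2
    refine Subgroup.iSup_induction (C := fun x => x ∈ X0 ∧ P x) _ hx' ?_ ?_ ?_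
    · rintro ⟨z, hz⟩ y hy
      exact ⟨hX0' z hz.1 hz.2 hy, hg z hz.1 hz.2 y hy⟩
    · exact ⟨X0.one_mem, h1⟩
    · rintro y z ⟨hy, hy'⟩ ⟨hz, hz'⟩
      exact ⟨X0.mul_mem hy hz, hm y hy z hz hy' hz'⟩
  have k1 : ∀ x ∈ X0, ∀ y ∈ X0, ∀ z ∈ X0, tr ρ b c x y z = 0 := by
    refine ind (fun x => ∀ y ∈ X0, ∀ z ∈ X0, tr ρ b c x y z = 0) (fun y _ z _ => tr_one1 R _ _ _) ?_ ?_
    · intro x hx x' hx' h3 h4 y hy z hz
      rw [tr_add1 R hx hx' hy hz, h3 y hy z hz, h4 y hy z hz, add_zero]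
    intro α hα hα1 x hx
    have hx0 := hX0' _ hα hα1 hx
    refine ind (fun y => ∀ z ∈ X0, tr ρ b c x y z = 0) (fun z _ => ?_) ?_ ?_
    · rw [tr_swap R hx0 X0.one_mem, tr_one1 R]
    · intro y hy y' hy' h3 h4 z hz
      rw [tr_add2 R hx0 hy hy' hz, h3 z hz, h4 z hz, add_zero]
    intro β hβ hβ1 y hy
    have hy0 := hX0' _ hβ hβ1 hy
    refine ind (fun z => tr ρ b c x y z = 0) ?_ ?_ ?_
    · unfold tr
      rw [dl_one, map_zero]
    · intro z hz z' hz' h3 h4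
      rw [tr_add3 R hx0 hy0 hz hz', h3, h4, add_zero]
    · intro ε hε hε1 z hz
      exact k0 α β ε hα hβ hε hα1 hβ1 hε1 x hx y hy z hz
  -- contradiction
  obtain ⟨x, hx, hx1⟩ : ∃ x ∈ X0, x ≠ 1 := by
    by_contra hcon
    push Not at hcon
    have h3 : X0 = ⊥ := by
      rw [eq_bot_iff]
      exact fun x hx => Subgroup.mem_bot.2 (hcon x hx)
    have h4 := R.card_X
    rw [h3, Subgroup.card_bot] at h4
    have h5 : 1 < 2 ^ (w - 1) := Nat.one_lt_two_pow (by have := R.six; omega)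
    omega
  obtain ⟨y, hy, z, hz, h3⟩ := R.tri x hx hx1 c hc
  exact h3 (k1 x hx y hy z hz)

end Row

end Cfsg.Agent.Omega.EH3.Kf.Tri
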