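import Mathlib
import Cfsg.Agent.Omega.EH3.Kf.TwC
import Cfsg.Agent.Nodes.CardWitt
import Cfsg.Agent.Nodes.WittAll

/-!
# EH3, Lie rows in characteristic 2: root groups of a Witt model (helper94; K6)

`M : FrameCN.Model Fr K`.  Relations of the root elements `M.X a b t`, `M.Z a p` of `K`; `Gd`, `NAX`, `NAZ`, `NAS` for
the root groups `WittModel.X M`; the orders.
-/

set_option autoImplicit false
set_option linter.unusedVariables false

namespace Cfsg.Agent.Omega.EH3.Kf.TwWitt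

open CoxeterSystem Cfsg.Agent.ChevalleyStructure.CoxeterGeom Cfsg.Agent.Tits.Roots Cfsg.Agent.Nodes.TypeC
open Cfsg.Agent.Nodes.Comb Cfsg.Agent.Nodes.Reps Cfsg.Agent.Nodes.WittRoot Cfsg.Agent.Nodes.BNOf
open Cfsg.Agent.Nodes.RGDLib Cfsg.Agent.Nodes.WittAll
open Cfsg.Agent.TitsThree Cfsg.Agent.TitsThree.Siegel Cfsg.Agent.TitsThree.WittFrame
  Cfsg.Agent.TitsThree.WittWeyl Cfsg.Agent.TitsThree.FrameCN
open Cfsg.Agent.Omega.EH3.Kf.TwC
open scoped commutatorElement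

variable {F : Type*} [Field F] {V : Type*} [AddCommGroup V] [Module F V] {H : HForm F V} {n : ℕ}
  {Fr : Frame H (Fin n)} {K : Type*} [Group K] (M : Model Fr K)

/-- a model of an isomorphic group -/
def mapEquiv {K' : Type*} [Group K'] (e : K ≃* K') : Model Fr K' where
  I := M.I
  φ := e.toMonoidHom.comp M.φ
  hX := M.hX
  hZ := M.hZ
  ker v g h := M.ker v g (e.injective (by rw [map_one]; exact h))
  gen l L h1 h2 := by
    have h3 := M.gen l (L.comap e.toMonoidHom) (fun i j hij t => ⟨(h1 i j hij t).1, (h1 i j hij t).2⟩)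
      (fun p => ⟨(h2 p).1, (h2 p).2⟩)
    rw [← Subgroup.map_comap_eq_self_of_surjective (f := e.toMonoidHom) e.surjective L, h3,
      Subgroup.map_top_of_surjective _ e.surjective]

/-! ### Relations -/

theorem X_add (a b : Fin n × Bool) (s t : F) : M.X a b (s + t) = M.X a b s * M.X a b t := by
  unfold Model.X
  rw [← map_mul]
  exact congrArg M.φ (Subtype.ext (Fr.X_add a b s t))

theorem X_zero (a b : Fin n × Bool) : M.X a b 0 = 1 := by
  unfold Model.X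
  rw [← map_one M.φ]
  exact congrArg M.φ (Subtype.ext (Fr.X_zero a b))

theorem Z_mul (a : Fin n × Bool) (p q : Fr.Adm) : M.Z a (p * q) = M.Z a p * M.Z a q := by
  unfold Model.Z
  rw [← map_mul]
  exact congrArg M.φ (Subtype.ext (Fr.Z_mul a p q))

theorem Z_one (a : Fin n × Bool) : M.Z a 1 = 1 := by
  unfold Model.Z
  rw [← map_one M.φ]
  exact congrArg M.φ (Subtype.ext (Fr.Z_one a))

theorem X_swap {a b : Fin n × Bool} (h : a.1 ≠ b.1) (t : F) :
    M.X a b t = M.X b a (-(H.ε⁻¹ * Fr.η a * Fr.η b * H.σ t)) := by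
  unfold Model.X
  exact congrArg M.φ (Subtype.ext (Fr.X_swap h t))

theorem comm_XX {x y z : Fin n × Bool} (hxy : x.1 ≠ y.1) (hyz : y.1 ≠ z.1) (hxz : x.1 ≠ z.1) (s t : F) :
    ⁅M.X x y s, M.X (neg y) z t⁆ = M.X x z (s * t) := by
  rw [commutatorElement_def, mul_inv_eq_iff_eq_mul]
  unfold Model.X
  rw [← map_mul, ← map_inv, ← map_mul, ← map_mul]
  exact congrArg M.φ (Subtype.ext (Fr.conj_X_X hxy hyz hxz s t))

theorem comm_same {x y : Fin n × Bool} (hxy : x.1 ≠ y.1) (s t : F) :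
    ⁅M.X x y s, M.X x (neg y) t⁆ = M.Z x (Frame.Adm.tr (H.σ s * t * (Fr.η (neg y))⁻¹)) := by
  rw [commutatorElement_def, mul_inv_eq_iff_eq_mul, mul_inv_eq_iff_eq_mul]
  unfold Model.X Model.Z
  rw [← map_mul, ← map_mul, ← map_mul]
  refine congrArg M.φ (Subtype.ext ?_)
  exact (Fr.X_mul_X_same hxy s t).trans (mul_assoc _ _ _).symm

theorem comm_XZ {x y : Fin n × Bool} (hxy : x.1 ≠ y.1) (t : F) (p : Fr.Adm) :
    ⁅M.X x (neg y) t, M.Z y p⁆ =
      M.Z x (Frame.Adm.smul (H.σ t) p) * M.X x y (-(H.ε⁻¹ * Fr.η y * H.σ p.c * t)) := by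
  rw [commutatorElement_def, mul_inv_eq_iff_eq_mul]
  unfold Model.X Model.Z
  rw [← map_mul, ← map_inv, ← map_mul, ← map_mul, ← map_mul]
  exact congrArg M.φ (Subtype.ext (Fr.conj_X_Z hxy t p))

theorem comm_ZZ {x y : Fin n × Bool} (hxy : x.1 ≠ y.1) (p q : Fr.Adm) :
    ⁅M.Z x p, M.Z y q⁆ = M.X x y (-(Fr.η y * H.σ (H.h p.w q.w))) := by
  rw [commutatorElement_def, mul_inv_eq_iff_eq_mul, mul_inv_eq_iff_eq_mul]
  unfold Model.X Model.Z
  rw [← map_mul, ← map_mul, ← map_mul]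
  refine congrArg M.φ (Subtype.ext ?_)
  exact (Fr.Z_mul_Z hxy p q).trans (mul_assoc _ _ _).symm

/-! ### Root groups -/

theorem mem_XK {x : Fin n → ℤ} {a b : Fin n × Bool} (hab : a.1 ≠ b.1) (e : ee x = wt a + wt b) {k : K} :
    k ∈ Nodes.WittModel.X M x ↔ ∃ t, k = M.X a b t := by
  rw [Nodes.WittModel.mem_X, rg_eq Fr (Or.inl hab) e, PG_ne Fr hab]
  constructor
  · rintro ⟨g, hg, ⟨t, rfl⟩, rfl⟩
    exact ⟨t, rfl⟩
  · rintro ⟨t, rfl⟩
    exact ⟨_, M.hX a b t, ⟨t, rfl⟩, rfl⟩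

theorem mem_ZK {x : Fin n → ℤ} {a : Fin n × Bool} (e : ee x = wt a + wt a) {k : K} :
    k ∈ Nodes.WittModel.X M x ↔ ∃ p, k = M.Z a p := by
  rw [Nodes.WittModel.mem_X, rg_eq Fr (Or.inr rfl) e, PG_self]
  constructor
  · rintro ⟨g, hg, ⟨t, rfl⟩, rfl⟩
    exact ⟨t, rfl⟩
  · rintro ⟨t, rfl⟩
    exact ⟨_, M.hZ a t, ⟨t, rfl⟩, rfl⟩

theorem X_mem {x : Fin n → ℤ} {a b : Fin n × Bool} (hab : a.1 ≠ b.1) (e : ee x = wt a + wt b) (t : F) :
    M.X a b t ∈ Nodes.WittModel.X M x := (mem_XK M hab e).2 ⟨t, rfl⟩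

theorem Z_mem {x : Fin n → ℤ} {a : Fin n × Bool} (e : ee x = wt a + wt a) (p : Fr.Adm) :
    M.Z a p ∈ Nodes.WittModel.X M x := (mem_ZK M e).2 ⟨p, rfl⟩

/-- `φ` is injective on the root groups -/
theorem eq_one_of_ker {p : ℕ} [Fact p.Prime] [CharP F p] [Finite V] (hA : AmbT Fr p M.I) {g : V ≃ₗ[F] V} (hg : g ∈ M.I)
    {a b : Fin n × Bool} (hgx : g ∈ PG Fr a b) (h1 : M.φ ⟨g, hg⟩ = 1) : g = 1 := by
  have : Finite (V ≃ₗ[F] V) := Finite.of_injective (fun g : V ≃ₗ[F] V => (g : V → V)) DFunLike.coe_injective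
  have hT : g ∈ Nodes.WittRGD.Tor Fr M.I := by
    refine ⟨hg, fun x => ?_⟩
    obtain ⟨c, hc⟩ := M.ker (Fr.b x) ⟨g, hg⟩ h1
    refine ⟨c, ?_, hc⟩
    rintro rfl
    rw [zero_smul] at hc
    exact Nodes.WittRGD.b_ne_zero x (g.map_eq_zero_iff.1 hc)
  have hp := Nodes.WittRGD.isPGroup_PG (p := p) (Fr := Fr) a b
  have h2 := (IsPGroup.iff_orderOf.1 hp) ⟨g, hgx⟩
  obtain ⟨k, hk⟩ := h2
  rw [Subgroup.orderOf_mk] at hk
  have h3 : orderOf g ∣ Nat.card (Nodes.WittRGD.Tor Fr M.I) := by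
    have := orderOf_dvd_natCard (⟨g, hT⟩ : Nodes.WittRGD.Tor Fr M.I)
    rwa [Subgroup.orderOf_mk] at this
  have h4 : Nat.Coprime (orderOf g) (orderOf g) :=
    Nat.Coprime.coprime_dvd_left h3 (by rw [hk]; exact (hA.tcop).pow_right k)
  rw [← orderOf_eq_one_iff]
  exact Nat.Coprime.eq_one_of_dvd h4 dvd_rfl

theorem X_eq_one {p : ℕ} [Fact p.Prime] [CharP F p] [Finite V] (hA : AmbT Fr p M.I) {a b : Fin n × Bool} (hab : a.1 ≠ b.1)
    {t : F} (h : M.X a b t = 1) : t = 0 := by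
  have h1 := eq_one_of_ker M hA (M.hX a b t) (a := a) (b := b) (by rw [PG_ne Fr hab]; exact ⟨t, rfl⟩) h
  have h2 := X_apply_neg Fr hab t
  rw [h1] at h2
  have h3 : t • Fr.b a = 0 := by
    have h4 : Fr.b (neg b) = Fr.b (neg b) + t • Fr.b a := h2
    exact (left_eq_add.1 h4)
  exact (smul_eq_zero.1 h3).resolve_right (Nodes.WittRGD.b_ne_zero a)

theorem Z_eq_one {p : ℕ} [Fact p.Prime] [CharP F p] [Finite V] (hA : AmbT Fr p M.I) {a : Fin n × Bool}
    {q : Fr.Adm} (h : M.Z a q = 1) : q = 1 := by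
  have h1 := eq_one_of_ker M hA (M.hZ a q) (a := a) (b := a) (by rw [PG_self]; exact ⟨q, rfl⟩) h
  have h2 := Z_apply_neg Fr a q
  rw [h1] at h2
  have h4 : Fr.b (neg a) = Fr.b (neg a) + Fr.η a • q.w + (q.c * Fr.η a) • Fr.b a := h2
  rw [add_assoc] at h4
  have h5 : Fr.η a • q.w + (q.c * Fr.η a) • Fr.b a = 0 := left_eq_add.1 h4
  have h6 : H.h (Fr.b (neg a)) (Fr.η a • q.w + (q.c * Fr.η a) • Fr.b a) = 0 := by rw [h5, H.zero_right]
  rw [H.add_right, H.smul_right, H.smul_right, Fr.h0 _ _ (Fr.ok_mem q.ok), Fr.hb_neg_self] at h6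
  have hη := Fr.η_ne a
  have hc : q.c = 0 := by
    by_contra hne
    have h7 : H.σ (q.c * Fr.η a) ≠ 0 := by
      rw [map_mul]
      exact mul_ne_zero (by simpa using hne) (by simpa using hη)
    rw [mul_zero, zero_add] at h6
    exact (mul_ne_zero h7 hη) h6
  have hw : q.w = 0 := by
    rw [hc, zero_mul, zero_smul, add_zero] at h5
    exact (smul_eq_zero.1 h5).resolve_left hη
  ext <;> simp [hw, hc]

/-! ### Generation -/

theorem le_comm_XX {a b c : Fin n × Bool} (hab : a.1 ≠ b.1) (hbc : b.1 ≠ c.1) (hac : a.1 ≠ c.1) {x y z : Fin n → ℤ}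
    (ex : ee x = wt a + wt b) (ey : ee y = wt (neg b) + wt c) (ez : ee z = wt a + wt c) :
    Nodes.WittModel.X M z ≤ ⁅Nodes.WittModel.X M x, Nodes.WittModel.X M y⁆ := by
  intro k hk
  obtain ⟨t, rfl⟩ := (mem_XK M hac ez).1 hk
  rw [← mul_one t, ← comm_XX M hab hbc hac t 1]
  exact Subgroup.commutator_mem_commutator (X_mem M hab ex t) (X_mem M (a := neg b) (b := c) hbc ey 1)

theorem le_comm_ZZ (hs : ∀ m : F, ∃ p q : Fr.Adm, H.h p.w q.w = m) {a b : Fin n × Bool} (hab : a.1 ≠ b.1)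
    {x y z : Fin n → ℤ} (ex : ee x = wt a + wt a) (ey : ee y = wt b + wt b) (ez : ee z = wt a + wt b) :
    Nodes.WittModel.X M z ≤ ⁅Nodes.WittModel.X M x, Nodes.WittModel.X M y⁆ := by
  intro k hk
  obtain ⟨t, rfl⟩ := (mem_XK M hab ez).1 hk
  obtain ⟨p, q, hpq⟩ := hs (H.σ (-(t * (Fr.η b)⁻¹)))
  have h1 : -(Fr.η b * H.σ (H.h p.w q.w)) = t := by
    rw [hpq, H.σσ, mul_neg, _root_.neg_neg]
    have := Fr.η_ne b
    field_simp
  rw [← h1, ← comm_ZZ M hab p q]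
  exact Subgroup.commutator_mem_commutator (Z_mem M ex p) (Z_mem M ey q)

theorem le_comm_same (htr : ∀ p : Fr.Adm, ∃ m, p = Frame.Adm.tr m) {a b : Fin n × Bool} (hab : a.1 ≠ b.1)
    {x y z : Fin n → ℤ} (ex : ee x = wt a + wt b) (ey : ee y = wt a + wt (neg b)) (ez : ee z = wt a + wt a) :
    Nodes.WittModel.X M z ≤ ⁅Nodes.WittModel.X M x, Nodes.WittModel.X M y⁆ := by
  intro k hk
  obtain ⟨p, rfl⟩ := (mem_ZK M ez).1 hk
  obtain ⟨m, rfl⟩ := htr p
  have h1 : H.σ 1 * (m * Fr.η (neg b)) * (Fr.η (neg b))⁻¹ = m := by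
    rw [map_one, one_mul, mul_assoc, mul_inv_cancel₀ (Fr.η_ne _), mul_one]
  rw [← h1, ← comm_same M hab]
  exact Subgroup.commutator_mem_commutator (X_mem M hab ex _) (X_mem M (b := neg b) hab ey _)

/-- `X_{a+b} ≤ Q` if `Q` contains `[X_{a-b}, Z_b]` and `Z_a` -/
theorem X_le_of {p0 : Fr.Adm} (hp0 : p0.c ≠ 0) {a b : Fin n × Bool} (hab : a.1 ≠ b.1) {x y z t : Fin n → ℤ}
    (ex : ee x = wt a + wt b) (ey : ee y = wt a + wt (neg b)) (ez : ee z = wt a + wt a)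
    (et : ee t = wt b + wt b) {Q : Subgroup K} (h1 : ⁅Nodes.WittModel.X M y, Nodes.WittModel.X M t⁆ ≤ Q)
    (h2 : Nodes.WittModel.X M z ≤ Q) : Nodes.WittModel.X M x ≤ Q := by
  intro k hk
  obtain ⟨s, rfl⟩ := (mem_XK M hab ex).1 hk
  have hσ : H.σ p0.c ≠ 0 := by simpa using hp0
  set r : F := -(s * H.ε * (Fr.η b)⁻¹ * (H.σ p0.c)⁻¹) with hr
  have h3 : -(H.ε⁻¹ * Fr.η b * H.σ p0.c * r) = s := by
    rw [hr]
    have := Fr.η_ne b
    have := H.ε_ne
    field_simp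
  have h4 := comm_XZ M hab r p0
  rw [h3] at h4
  have h5 : M.X a b s = (M.Z a (Frame.Adm.smul (H.σ r) p0))⁻¹ * ⁅M.X a (neg b) r, M.Z b p0⁆ := by
    rw [h4]; group
  rw [h5]
  exact mul_mem (inv_mem (h2 (Z_mem M ez _)))
    (h1 (Subgroup.commutator_mem_commutator (X_mem M (b := neg b) hab ey _) (Z_mem M et _)))

/-- `Z_a ≤ Q` if `Q` contains `[X_{a-b}, Z_b]` and `X_{a+b}` -/
theorem Z_le_of {a b : Fin n × Bool} (hab : a.1 ≠ b.1) {x y z t : Fin n → ℤ}
    (ex : ee x = wt a + wt b) (ey : ee y = wt a + wt (neg b)) (ez : ee z = wt a + wt a)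
    (et : ee t = wt b + wt b) {Q : Subgroup K} (h1 : ⁅Nodes.WittModel.X M y, Nodes.WittModel.X M t⁆ ≤ Q)
    (h2 : Nodes.WittModel.X M x ≤ Q) : Nodes.WittModel.X M z ≤ Q := by
  intro k hk
  obtain ⟨p, rfl⟩ := (mem_ZK M ez).1 hk
  have h4 := comm_XZ M hab 1 p
  rw [map_one, Frame.Adm.one_smul] at h4
  have h5 : M.Z a p = ⁅M.X a (neg b) 1, M.Z b p⁆ * (M.X a b (-(H.ε⁻¹ * Fr.η b * H.σ p.c * 1)))⁻¹ := by
    rw [h4]; group
  rw [h5]
  exact mul_mem (h1 (Subgroup.commutator_mem_commutator (X_mem M (b := neg b) hab ey _) (Z_mem M et _)))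
    (inv_mem (h2 (X_mem M hab ex _)))

/-- symplectic groups over a field with more than two elements -/
theorem Z_le_sp (hw : ∀ p : Fr.Adm, p.w = 0) (hσ : ∀ t, H.σ t = t) (hc : ∀ c, ∃ p : Fr.Adm, p.c = c)
    {l : F} (hl0 : l ≠ 0) (hl1 : l ≠ 1) {a b : Fin n × Bool} (hab : a.1 ≠ b.1) {y z t : Fin n → ℤ}
    (ey : ee y = wt a + wt (neg b)) (ez : ee z = wt a + wt a) (et : ee t = wt b + wt b) :
    Nodes.WittModel.X M z ≤ ⁅Nodes.WittModel.X M y, Nodes.WittModel.X M t⁆ := by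
  intro k hk
  obtain ⟨p, rfl⟩ := (mem_ZK M ez).1 hk
  have hl2 : l * l - l ≠ 0 := by
    have h1 : l * l - l = l * (l - 1) := by ring
    rw [h1]
    exact mul_ne_zero hl0 (sub_ne_zero.2 hl1)
  obtain ⟨q, hq⟩ := hc (p.c / (l * l - l))
  obtain ⟨q', hq'⟩ := hc (l * q.c)
  have h1 := comm_XZ M hab l q
  have h2 := comm_XZ M hab 1 q'
  rw [map_one, Frame.Adm.one_smul] at h2
  rw [hσ, hσ] at h1
  rw [hσ, hq'] at h2
  have e1 : -(H.ε⁻¹ * Fr.η b * (l * q.c) * 1) = -(H.ε⁻¹ * Fr.η b * q.c * l) := by ring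
  rw [e1] at h2
  have e2 : Frame.Adm.smul l q = p * q' := by
    ext
    · rw [hw, hw]
    · rw [Frame.Adm.smul_c, Frame.Adm.mul_c, hw, hw, H.zero_right, mul_zero, sub_zero, hσ, hq', hq]
      field_simp
      ring
  have h3 : M.Z a p = ⁅M.X a (neg b) l, M.Z b q⁆ * ⁅M.X a (neg b) 1, M.Z b q'⁆⁻¹ := by
    rw [h1, h2, e2, Z_mul]; group
  rw [h3]
  exact mul_mem (Subgroup.commutator_mem_commutator (X_mem M (b := neg b) hab ey _) (Z_mem M et _))
    (inv_mem (Subgroup.commutator_mem_commutator (X_mem M (b := neg b) hab ey _) (Z_mem M et _)))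

theorem a2 (i j k : Fin n) (hij : i < j) (hjk : j < k) (x y z : Fin n → ℤ) (ex : ee x = wt (i, true) + wt (j, false))
    (ey : ee y = wt (j, true) + wt (k, false)) (ez : ee z = wt (i, true) + wt (k, false)) :
    Nodes.WittModel.X M z ≤ ⁅Nodes.WittModel.X M x, Nodes.WittModel.X M y⁆ :=
  le_comm_XX M (a := (i, true)) (b := (j, false)) (c := (k, false)) hij.ne hjk.ne (hij.trans hjk).ne ex ey ez

/-- the groups with `h` not zero on `V0` -/
theorem gd_of_surj (hs : ∀ m : F, ∃ p q : Fr.Adm, H.h p.w q.w = m) : Gd (Nodes.WittModel.X M) where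
  a2 := a2 M
  mid i j hij x y z t ex ey ez et := (le_comm_ZZ M hs (a := (i, true)) (b := (j, true)) hij.ne ez et ex).trans
    le_sup_right
  lng i j hij x y z t ex ey ez et := Z_le_of M (a := (i, true)) (b := (j, true)) hij.ne ex ey ez et
    (le_sup_left.trans le_sup_left)
    ((le_comm_ZZ M hs (a := (i, true)) (b := (j, true)) hij.ne ez et ex).trans le_sup_right)

/-- the unitary groups of even dimension -/
theorem gd_of_tr (htr : ∀ p : Fr.Adm, ∃ m, p = Frame.Adm.tr m) {p0 : Fr.Adm} (hp0 : p0.c ≠ 0) :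
    Gd (Nodes.WittModel.X M) where
  a2 := a2 M
  mid i j hij x y z t ex ey ez et := X_le_of M hp0 (a := (i, true)) (b := (j, true)) hij.ne ex ey ez et
    (le_sup_left.trans le_sup_left)
    ((le_comm_same M htr (a := (i, true)) (b := (j, true)) hij.ne ex ey ez).trans
      (le_sup_right.trans le_sup_left))
  lng i j hij x y z t ex ey ez et :=
    (le_comm_same M htr (a := (i, true)) (b := (j, true)) hij.ne ex ey ez).trans (le_sup_right.trans le_sup_left)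

/-- the symplectic groups, `q > 2` -/
theorem gd_of_sp (hw : ∀ p : Fr.Adm, p.w = 0) (hσ : ∀ t, H.σ t = t) (hc : ∀ c, ∃ p : Fr.Adm, p.c = c)
    {l : F} (hl0 : l ≠ 0) (hl1 : l ≠ 1) : Gd (Nodes.WittModel.X M) where
  a2 := a2 M
  mid i j hij x y z t ex ey ez et := by
    obtain ⟨p0, hp0⟩ := hc 1
    exact X_le_of M (p0 := p0) (by rw [hp0]; exact one_ne_zero) (a := (i, true)) (b := (j, true)) hij.ne ex ey ez et
      (le_sup_left.trans le_sup_left)
      ((Z_le_sp M hw hσ hc hl0 hl1 (a := (i, true)) (b := (j, true)) hij.ne ey ez et).trans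
        (le_sup_left.trans le_sup_left))
  lng i j hij x y z t ex ey ez et :=
    (Z_le_sp M hw hσ hc hl0 hl1 (a := (i, true)) (b := (j, true)) hij.ne ey ez et).trans
      (le_sup_left.trans le_sup_left)

/-! ### Pairs which do not commute -/

section NonAb

variable {p : ℕ} [Fact p.Prime] [CharP F p] [Finite V] (hA : AmbT Fr p M.I)

include hA

theorem X_ne_bot {a b : Fin n × Bool} (hab : a.1 ≠ b.1) {x : Fin n → ℤ} (ex : ee x = wt a + wt b) :
    Nodes.WittModel.X M x ≠ ⊥ := by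
  intro h
  have h1 := X_mem M hab ex 1
  rw [h, Subgroup.mem_bot] at h1
  exact one_ne_zero (X_eq_one M hA hab h1)

theorem nas : NAS (Nodes.WittModel.X M) := by
  intro i j k hij hjk x y ex ey h
  obtain ⟨z, -, ez⟩ := rt_of_ok (cs := (CoxeterMatrix.B n).toCoxeterSystem)
    (show Ok ((i, true) : Fin n × Bool) (j, true) from Or.inl hij.ne)
  have h1 := le_comm_XX M (a := (i, true)) (b := (k, false)) (c := (j, true)) (hij.trans hjk).ne hjk.ne' hij.ne
    ex (show ee y = wt (k, true) + wt (j, true) by rw [ey, add_comm]) ez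
  rw [h] at h1
  exact X_ne_bot M hA (a := (i, true)) (b := (j, true)) hij.ne ez (le_bot_iff.1 h1)

theorem naz (hs : ∀ m : F, ∃ p q : Fr.Adm, H.h p.w q.w = m) : NAZ (Nodes.WittModel.X M) := by
  intro i j hij x y ex ey h
  obtain ⟨z, -, ez⟩ := rt_of_ok (cs := (CoxeterMatrix.B n).toCoxeterSystem)
    (show Ok ((i, true) : Fin n × Bool) (j, true) from Or.inl hij.ne)
  have h1 := le_comm_ZZ M hs (a := (i, true)) (b := (j, true)) hij.ne ex ey ez
  rw [h] at h1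
  exact X_ne_bot M hA (a := (i, true)) (b := (j, true)) hij.ne ez (le_bot_iff.1 h1)

theorem nax {m : F} (hm : (Frame.Adm.tr m : Fr.Adm) ≠ 1) : NAX (Nodes.WittModel.X M) := by
  intro i j hij x y ex ey h
  have h1 : H.σ 1 * (m * Fr.η (neg (j, true))) * (Fr.η (neg (j, true)))⁻¹ = m := by
    rw [map_one, one_mul, mul_assoc, mul_inv_cancel₀ (Fr.η_ne _), mul_one]
  have h2 := comm_same M (x := (i, true)) (y := (j, true)) hij.ne 1 (m * Fr.η (neg (j, true)))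
  rw [h1] at h2
  have h3 := Subgroup.commutator_mem_commutator
    (X_mem M (a := (i, true)) (b := (j, true)) hij.ne ex 1)
    (X_mem M (a := (i, true)) (b := (j, false)) hij.ne ey (m * Fr.η (neg (j, true))))
  rw [h, Subgroup.mem_bot] at h3
  exact hm (Z_eq_one M hA (h2.symm.trans h3))

theorem naz_self {q r : Fr.Adm} (hqr : q * r ≠ r * q) {a : Fin n × Bool} {x : Fin n → ℤ} (ex : ee x = wt a + wt a) :
    ⁅Nodes.WittModel.X M x, Nodes.WittModel.X M x⁆ ≠ ⊥ := by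
  intro h
  have h3 := Subgroup.commutator_mem_commutator (Z_mem M ex q) (Z_mem M ex r)
  rw [h, Subgroup.mem_bot, commutatorElement_eq_one_iff_mul_comm, ← Z_mul, ← Z_mul] at h3
  apply hqr
  have h4 : M.Z a (q * r * (r * q)⁻¹) = 1 := by
    have h5 : M.Z a (q * r * (r * q)⁻¹) * M.Z a (r * q) = M.Z a (q * r) := by rw [← Z_mul]; group
    rw [h3] at h5
    exact mul_eq_right.1 h5
  exact mul_inv_eq_one.1 (Z_eq_one M hA h4)

end NonAb

end Cfsg.Agent.Omega.EH3.Kf.TwWitt
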