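import Mathlib
import Cfsg.Agent.Omega.EH3.Kf.TwWitt
import Cfsg.Agent.Omega.EH3.Kf.Orth

/-!
# EH3, Lie rows in characteristic 2: the rows of relative type `C_n` (helper94; K6)

* `dead_odd` : unitary groups of odd dimension;
* `short_le`, `long_le` : (F);
* `dead_sp` : symplectic groups, `q > 2`;
* `even_end` : unitary groups of even dimension.
-/

set_option autoImplicit false
set_option linter.unusedVariables false
set_option linter.unusedSectionVars false

namespace Cfsg.Agent.Omega.EH3.Kf.TwRow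

open CoxeterSystem Cfsg.Agent.ChevalleyStructure.CoxeterGeom Cfsg.Agent.Tits.Roots Cfsg.Agent.Tits.Core
  Cfsg.Agent.Tits.RootComb Cfsg.Agent.Nodes.TypeC
open Cfsg.Agent.Nodes.Comb Cfsg.Agent.Nodes.Reps Cfsg.Agent.Nodes.WittRoot Cfsg.Agent.Nodes.BNOf
open Cfsg.Agent.Nodes.StabComb Cfsg.Agent.Nodes.Bruhat Cfsg.Agent.Nodes.LeviDec
open Cfsg.Agent.Nodes.RGDLib Cfsg.Agent.Nodes.WittAll
open Cfsg.Agent.TitsThree Cfsg.Agent.TitsThree.Siegel Cfsg.Agent.TitsThree.WittFrame
  Cfsg.Agent.TitsThree.WittWeyl Cfsg.Agent.TitsThree.FrameCN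
open Cfsg.Agent.Omega.EH3.Kf.TwC Cfsg.Agent.Omega.EH3.Kf.TwWitt Cfsg.Agent.Omega.EH3.Kf.Base
open scoped commutatorElement

/-! ### Conjugate roots -/

section Orb

variable {n : ℕ} {W : Type*} [Group W] {cs : CoxeterSystem (CoxeterMatrix.B n) W}

/-- `x` is conjugate to `α_k` under the other reflections -/
def Orb (cs : CoxeterSystem (CoxeterMatrix.B n) W) (k : Fin n) (x : Fin n → ℤ) : Prop :=
  ∃ v ∈ WJ cs ({k}ᶜ : Set (Fin n)), x = rep cs (isCartan n) v (sr k)

theorem orb_self (k : Fin n) : Orb cs k (sr k) := ⟨1, one_mem _, by rw [map_one]; rfl⟩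

theorem Orb.step {k i : Fin n} (hik : i ≠ k) {x y : Fin n → ℤ} (hx : Orb cs k x) {a b : Fin n × Bool}
    (ex : ee x = wt a + wt b) (ey : ee y = wt (sg i a) + wt (sg i b)) : Orb cs k y := by
  obtain ⟨v, hv, rfl⟩ := hx
  refine ⟨cs.simple i * v, mul_mem (Subgroup.subset_closure ⟨i, hik, rfl⟩) hv, ?_⟩
  rw [rep_mul_apply, rep_simple]
  exact ee_injective (ey.trans (ee_refl_of ex).symm)

theorem ee_add_comm {x : Fin n → ℤ} {a b : Fin n × Bool} (h : ee x = wt a + wt b) : ee x = wt b + wt a := by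
  rw [h, add_comm]

/-- the long roots `2 ε_j` are conjugate to the last fundamental root -/
theorem orb_long {k : Fin n} (hk : (k : ℕ) + 1 = n) (d : ℕ) : ∀ (j : Fin n), (j : ℕ) + d + 1 = n →
    ∀ x, ee x = wt (j, true) + wt (j, true) → Orb cs k x := by
  induction d with
  | zero =>
    intro j hj x ex
    have hjk : j = k := Fin.ext (by omega)
    subst hjk
    have h1 : x = sr j := ee_injective (by rw [ex, ee_sr, bt, nx, dif_neg (by omega)])
    rw [h1]
    exact orb_self j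
  | succ d ih =>
    intro j hj x ex
    have hj1 : (j : ℕ) + 1 < n := by omega
    obtain ⟨y, -, ey⟩ := rt_of_ok (cs := cs) (show Ok ((⟨j + 1, hj1⟩, true) : Fin n × Bool) (⟨j + 1, hj1⟩, true) from
      Or.inr rfl)
    have h1 := ih ⟨j + 1, hj1⟩ (by simp only; omega) y ey
    refine h1.step (i := j) (by rintro rfl; omega) ey ?_
    rw [sg_down hj1, ex]

/-- the roots `ε_0 - ε_j` are conjugate to the first fundamental root -/
theorem orb_sub {k : Fin n} (hk : (k : ℕ) = 0) (d : ℕ) : ∀ (j : Fin n), (j : ℕ) = d + 1 →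
    ∀ x, ee x = wt (k, true) + wt (j, false) → Orb cs k x := by
  induction d with
  | zero =>
    intro j hj x ex
    have h1 : x = sr k := by
      refine ee_injective ?_
      rw [ex, ee_sr, bt, nx, dif_pos (by rw [hk]; exact hj ▸ j.2)]
      congr 3
      exact Fin.ext (by simp only; omega)
    rw [h1]
    exact orb_self k
  | succ d ih =>
    intro j hj x ex
    have hj2 := j.2
    set i : Fin n := ⟨d + 1, by omega⟩ with hi
    have hi1 : (i : ℕ) + 1 < n := by simp only [hi]; omega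
    have hji : j = ⟨i + 1, hi1⟩ := Fin.ext (by simp only [hi]; omega)
    have hki : k ≠ i := by
      intro h; have := congrArg Fin.val h; simp only [hi] at this; omega
    obtain ⟨y, -, ey⟩ := rt_of_ok (cs := cs) (show Ok ((k, true) : Fin n × Bool) (i, false) from Or.inl hki)
    have h1 := ih i rfl y ey
    refine h1.step (i := i) hki.symm ey ?_
    rw [sg_up hi1, sg_of_ne (i := i) (x := (k, true)) hki (by simp only [hi]; omega), ex, hji]

/-- the roots `ε_0 + ε_j` are conjugate to the first fundamental root -/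
theorem orb_add {k : Fin n} (hk : (k : ℕ) = 0) (d : ℕ) : ∀ (j : Fin n), 0 < (j : ℕ) → (j : ℕ) + d + 1 = n →
    ∀ x, ee x = wt (k, true) + wt (j, true) → Orb cs k x := by
  induction d with
  | zero =>
    intro j hj0 hj x ex
    have hkj : k ≠ j := by rintro rfl; omega
    obtain ⟨y, -, ey⟩ := rt_of_ok (cs := cs) (show Ok ((k, true) : Fin n × Bool) (j, false) from Or.inl hkj)
    have h1 := orb_sub (cs := cs) hk (j - 1) j (by omega) y ey
    refine h1.step (i := j) hkj.symm ey ?_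
    rw [sg_last (by omega), sg_of_ne (i := j) (x := (k, true)) hkj (by simp only; omega), ex]
    rfl
  | succ d ih =>
    intro j hj0 hj x ex
    have hkj : k ≠ j := by rintro rfl; omega
    have hj1 : (j : ℕ) + 1 < n := by omega
    obtain ⟨y, -, ey⟩ := rt_of_ok (cs := cs) (show Ok ((k, true) : Fin n × Bool) (⟨j + 1, hj1⟩, true) from
      Or.inl (by intro h; have := congrArg Fin.val h; simp only at this; omega))
    have h1 := ih ⟨j + 1, hj1⟩ (by simp only; omega) (by simp only; omega) y ey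
    refine h1.step (i := j) hkj.symm ey ?_
    rw [sg_down hj1, sg_of_ne (i := j) (x := (k, true)) hkj (by simp only; omega), ex]

end Orb

variable {F : Type*} [Field F] {V' : Type*} [AddCommGroup V'] [Module F V'] {H : HForm F V'} {n : ℕ}
  {Fr : Frame H (Fin n)} {K : Type*} [Group K] (M : Model Fr K)

/-! ### Orders and commuting pairs -/

section Card

variable {p : ℕ} [Fact p.Prime] [CharP F p] [Finite V'] (hA : AmbT Fr p M.I)

include hA

theorem card_short {a b : Fin n × Bool} (hab : a.1 ≠ b.1) {x : Fin n → ℤ} (ex : ee x = wt a + wt b) :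
    Nat.card (Nodes.WittModel.X M x) = Nat.card F := by
  symm
  refine Nat.card_congr (Equiv.ofBijective
    (fun t : F => (⟨M.X a b t, X_mem M hab ex t⟩ : Nodes.WittModel.X M x)) ⟨?_, ?_⟩)
  · intro s t e
    have e1 : M.X a b s = M.X a b t := congrArg Subtype.val e
    have e2 : M.X a b (s - t) = 1 := by
      have e3 : M.X a b (s - t) * M.X a b t = M.X a b s := by rw [← X_add]; congr 1; ring
      rw [e1] at e3
      exact mul_eq_right.1 e3
    exact sub_eq_zero.1 (X_eq_one M hA hab e2)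
  · rintro ⟨k, hk⟩
    obtain ⟨t, rfl⟩ := (mem_XK M hab ex).1 hk
    exact ⟨t, rfl⟩

theorem card_long {a : Fin n × Bool} {x : Fin n → ℤ} (ex : ee x = wt a + wt a) :
    Nat.card (Nodes.WittModel.X M x) = Nat.card Fr.Adm := by
  symm
  refine Nat.card_congr (Equiv.ofBijective
    (fun q : Fr.Adm => (⟨M.Z a q, Z_mem M ex q⟩ : Nodes.WittModel.X M x)) ⟨?_, ?_⟩)
  · intro s t e
    have e1 : M.Z a s = M.Z a t := congrArg Subtype.val e
    have e2 : M.Z a (s * t⁻¹) = 1 := by
      have e3 : M.Z a (s * t⁻¹) * M.Z a t = M.Z a s := by rw [← Z_mul, inv_mul_cancel_right]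
      rw [e1] at e3
      exact mul_eq_right.1 e3
    exact mul_inv_eq_one.1 (Z_eq_one M hA e2)
  · rintro ⟨k, hk⟩
    obtain ⟨t, rfl⟩ := (mem_ZK M ex).1 hk
    exact ⟨t, rfl⟩

end Card

theorem comm_short (htr : ∀ m, (Frame.Adm.tr m : Fr.Adm) = 1) {a b : Fin n × Bool} (hab : a.1 ≠ b.1) {x y : Fin n → ℤ}
    (ex : ee x = wt a + wt b) (ey : ee y = wt a + wt (neg b)) :
    ∀ u ∈ Nodes.WittModel.X M x, ∀ v ∈ Nodes.WittModel.X M y, u * v = v * u := by
  intro u hu v hv
  obtain ⟨s, rfl⟩ := (mem_XK M hab ex).1 hu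
  obtain ⟨t, rfl⟩ := (mem_XK M (a := a) (b := neg b) hab ey).1 hv
  rw [← commutatorElement_eq_one_iff_mul_comm, comm_same M hab, htr, Z_one]

theorem comm_long (hw : ∀ p : Fr.Adm, p.w = 0) {a b : Fin n × Bool} (hab : a.1 ≠ b.1) {x y : Fin n → ℤ}
    (ex : ee x = wt a + wt a) (ey : ee y = wt b + wt b) :
    ∀ u ∈ Nodes.WittModel.X M x, ∀ v ∈ Nodes.WittModel.X M y, u * v = v * u := by
  intro u hu v hv
  obtain ⟨s, rfl⟩ := (mem_ZK M ex).1 hu
  obtain ⟨t, rfl⟩ := (mem_ZK M ey).1 hv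
  rw [← commutatorElement_eq_one_iff_mul_comm, comm_ZZ M hab, hw, hw, H.zero_left, map_zero, mul_zero,
    _root_.neg_zero, X_zero]

theorem sup_comm {Y : Type*} [Group Y] {A B C : Subgroup Y} (h1 : ∀ u ∈ A, ∀ v ∈ C, u * v = v * u)
    (h2 : ∀ u ∈ B, ∀ v ∈ C, u * v = v * u) : ∀ u ∈ A ⊔ B, ∀ v ∈ C, u * v = v * u := by
  have h3 : A ⊔ B ≤ Subgroup.centralizer (C : Set Y) :=
    sup_le (fun u hu => Subgroup.mem_centralizer_iff.2 fun v hv => (h1 u hu v hv).symm)
      (fun u hu => Subgroup.mem_centralizer_iff.2 fun v hv => (h2 u hu v hv).symm)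
  exact fun u hu v hv => (Subgroup.mem_centralizer_iff.1 (h3 hu) v hv).symm

/-! ### Rows -/

section Rows

variable {W : Type*} [Group W] {cs : CoxeterSystem (CoxeterMatrix.B n) W}
  {V : Type*} [AddCommGroup V] [Module (ZMod 2) V] {T : Subgroup K} {nn : Fin n → K}
  {ρ : K →* (V ≃ₗ[ZMod 2] V)} {b : LinearMap.BilinForm (ZMod 2) V} {a : V}
  {D : Submodule (ZMod 2) V} {X0 : Subgroup K} {w : ℕ}
  (R : Row cs (isCartan n) T nn (Nodes.WittModel.X M) ρ b a D X0 w)
  [CharP F 2] [Finite V'] (hA : AmbT Fr 2 M.I) [Finite K]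

include R

omit [CharP F 2] [Finite V'] in
theorem eq_VJ (G : Gd (Nodes.WittModel.X M)) : X0 = VJ cs (isCartan n) (Nodes.WittModel.X M) (Mv ρ nn a)ᶜ := by
  have : Finite W := finite_W cs
  exact Cov.eq_VJ R (fun u hu => ThmA.thmA R.core le_rfl u hu) fun x hx h0 hs => G.gen cs hx h0 hs

include hA

/-- **the unitary groups of odd dimension** -/
theorem dead_odd (hs : ∀ m : F, ∃ p q : Fr.Adm, H.h p.w q.w = m) {m : F} (hm : (Frame.Adm.tr m : Fr.Adm) ≠ 1)
    {q r : Fr.Adm} (hqr : q * r ≠ r * q) : False := by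
  have : Fact (Nat.Prime 2) := ⟨Nat.prime_two⟩
  have : Finite W := finite_W cs
  have hX := eq_VJ M R (gd_of_surj M hs)
  obtain ⟨k, hk⟩ := mv_nonempty R
  have h1 := mv_nax R hX (nax M hA hm) hk
  have h2 := mv_naz R hX (naz M hA hs) hk
  have h3 : ¬ (k : ℕ) + 1 < n := by omega
  have e : ee (sr k) = wt (k, true) + wt (k, true) := by rw [ee_sr, bt, nx, dif_neg h3]
  exact naz_self M hA hqr e (comm_bot R hX ⟨isRoot_sr cs _ k, sr_nonneg k⟩ ⟨isRoot_sr cs _ k, sr_nonneg k⟩ hk hk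
    (by rw [sr_self]; norm_num) (by rw [sr_self]; norm_num))

/-- (F), first node -/
theorem short_le (hX : X0 = VJ cs (isCartan n) (Nodes.WittModel.X M) (Mv ρ nn a)ᶜ) {k : Fin n} (hk : (k : ℕ) = 0)
    (hK : Mv ρ nn a = {k}) (hn : 1 < n) (htr : ∀ m, (Frame.Adm.tr m : Fr.Adm) = 1) {m : ℕ}
    (hc : Nat.card F = 2 ^ m) : 2 * m ≤ 3 := by
  have : Fact (Nat.Prime 2) := ⟨Nat.prime_two⟩
  have : Finite W := finite_W cs
  set j : Fin n := ⟨1, hn⟩ with hj
  have hkj : k < j := by rw [Fin.lt_def]; simp [hk, hj]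
  obtain ⟨x, hx, ex⟩ := exists_root cs (a := (k, true)) (b := (j, false)) (Or.inl hkj.ne) rfl hkj.le
  obtain ⟨y, hy, ey⟩ := exists_root cs (a := (k, true)) (b := (j, true)) (Or.inl hkj.ne) rfl hkj.le
  have hkM : k ∈ Mv ρ nn a := by rw [hK]; rfl
  have enx : ee (-x) = wt (j, true) + wt (k, false) := by
    rw [ee_neg, ex, neg_add, ← wt_ng, ← wt_ng, add_comm]; rfl
  have key := Orth.sum_le_three R [x, y] (fun _ => m) ?_ ?_ ?_ ?_
  · simp only [List.map_cons, List.map_nil, List.sum_cons, List.sum_nil] at key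
    omega
  · intro z hz
    rw [hK]
    simp only [List.mem_cons, List.not_mem_nil, or_false] at hz
    rcases hz with rfl | rfl
    · obtain ⟨v, hv, e⟩ := orb_sub (cs := cs) hk 0 j rfl z ex
      exact ⟨v, hv, k, rfl, e⟩
    · obtain ⟨v, hv, e⟩ := orb_add (cs := cs) hk (n - 2) j (by simp [hj]) (by simp only [hj]; omega) z ey
      exact ⟨v, hv, k, rfl, e⟩
  · intro z hz
    simp only [List.mem_cons, List.not_mem_nil, or_false] at hz
    rw [hX]
    rcases hz with rfl | rfl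
    · exact X_le_VJ hx hkM (pos_sub ex le_rfl hkj)
    · exact X_le_VJ hy hkM (pos_add ey le_rfl)
  · intro z hz
    simp only [List.mem_cons, List.not_mem_nil, or_false] at hz
    rcases hz with rfl | rfl
    · rw [card_short M hA (a := (k, true)) (b := (j, false)) hkj.ne ex, hc]
    · rw [card_short M hA (a := (k, true)) (b := (j, true)) hkj.ne ey, hc]
  · rw [List.pairwise_pair]
    refine sup_comm ?_ ?_
    · exact comm_short M htr (a := (k, true)) (b := (j, false)) hkj.ne ex ey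
    · exact comm_short M htr (a := (j, true)) (b := (k, false)) hkj.ne' enx (ee_add_comm ey)

/-- (F), last node -/
theorem long_le (hX : X0 = VJ cs (isCartan n) (Nodes.WittModel.X M) (Mv ρ nn a)ᶜ) {k : Fin n} (hk : (k : ℕ) + 1 = n)
    (hK : Mv ρ nn a = {k}) (hw : ∀ p : Fr.Adm, p.w = 0) {m : ℕ} (hc : Nat.card Fr.Adm = 2 ^ m) : n * m ≤ 3 := by
  have : Fact (Nat.Prime 2) := ⟨Nat.prime_two⟩
  have : Finite W := finite_W cs
  have hkM : k ∈ Mv ρ nn a := by rw [hK]; rfl
  choose x hx ex using fun j : Fin n => exists_root cs (a := (j, true)) (b := (j, true)) (Or.inr rfl) rfl le_rfl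
  have key := Orth.sum_le_three R (List.ofFn x) (fun _ => m) ?_ ?_ ?_ ?_
  · rw [List.map_ofFn, List.sum_ofFn] at key
    simpa using key
  · intro z hz
    rw [List.mem_ofFn] at hz
    obtain ⟨j, rfl⟩ := hz
    obtain ⟨v, hv, e⟩ := orb_long (cs := cs) hk (n - 1 - j) j (by have := j.2; omega) (x j) (ex j)
    exact ⟨v, by rw [hK]; exact hv, k, hkM, e⟩
  · intro z hz
    rw [List.mem_ofFn] at hz
    obtain ⟨j, rfl⟩ := hz
    rw [hX]
    exact X_le_VJ (hx j) hkM (pos_add (ex j) (by rw [Fin.le_def]; have := j.2; omega))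
  · intro z hz
    rw [List.mem_ofFn] at hz
    obtain ⟨j, rfl⟩ := hz
    rw [card_long M hA (ex j), hc]
  · rw [List.pairwise_ofFn]
    intro i j hij
    refine sup_comm (comm_long M hw (a := (i, true)) (b := (j, true)) hij.ne (ex i) (ex j))
      (comm_long M hw (a := (i, false)) (b := (j, true)) hij.ne ?_ (ex j))
    rw [ee_neg, ex i, neg_add, ← wt_ng]
    rfl

/-- **the symplectic groups, `q > 2`** -/
theorem dead_sp (hn : 1 < n) (hw : ∀ p : Fr.Adm, p.w = 0) (hσ : ∀ t, H.σ t = t) (hcs : ∀ c, ∃ p : Fr.Adm, p.c = c)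
    {l : F} (hl0 : l ≠ 0) (hl1 : l ≠ 1) (htr : ∀ m, (Frame.Adm.tr m : Fr.Adm) = 1) {m : ℕ} (hm : 1 < m)
    (hc : Nat.card F = 2 ^ m) (hc' : Nat.card Fr.Adm = 2 ^ m) : False := by
  have : Fact (Nat.Prime 2) := ⟨Nat.prime_two⟩
  have : Finite W := finite_W cs
  have hX := eq_VJ M R (gd_of_sp M hw hσ hcs hl0 hl1)
  obtain ⟨k, hk⟩ := mv_nonempty R
  have hK : Mv ρ nn a = {k} := by
    ext j
    exact ⟨fun hj => mv_one R hX (nas M hA) hj hk, by rintro rfl; exact hk⟩
  rcases mv_int R hX (nas M hA) hk with h1 | h1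
  · have := short_le M R hA hX h1 hK hn htr hc
    omega
  · have := long_le M R hA hX h1 hK hw hc'
    nlinarith

/-- the unitary groups of even dimension -/
theorem even_le (hn : 1 < n) (htr : ∀ p : Fr.Adm, ∃ m, p = Frame.Adm.tr m) {p0 : Fr.Adm} (hp0 : p0.c ≠ 0)
    {m : ℕ} (hm : 0 < m) (hc' : Nat.card Fr.Adm = 2 ^ m) :
    m = 1 ∧ n ≤ 3 ∧ ∃ k : Fin n, (k : ℕ) + 1 = n ∧ Mv ρ nn a = {k} ∧
      X0 = VJ cs (isCartan n) (Nodes.WittModel.X M) {k}ᶜ := by
  have : Fact (Nat.Prime 2) := ⟨Nat.prime_two⟩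
  have : Finite W := finite_W cs
  have hw : ∀ p : Fr.Adm, p.w = 0 := by
    intro p
    obtain ⟨m, rfl⟩ := htr p
    rfl
  have hX := eq_VJ M R (gd_of_tr M htr hp0)
  obtain ⟨m', hm'⟩ := htr p0
  have hm1 : (Frame.Adm.tr m' : Fr.Adm) ≠ 1 := by
    rw [← hm']
    rintro rfl
    exact hp0 rfl
  obtain ⟨k, hk⟩ := mv_nonempty R
  have h1 := mv_nax R hX (nax M hA hm1) hk
  have hK : Mv ρ nn a = {k} := by
    ext j
    refine ⟨fun hj => ?_, by rintro rfl; exact hk⟩
    have h2 := mv_nax R hX (nax M hA hm1) hj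
    exact Fin.ext (by omega)
  have h3 := long_le M R hA hX h1 hK hw hc'
  have h4 : m = 1 := by nlinarith
  subst h4
  exact ⟨rfl, by omega, k, h1, hK, by rw [← hK]; exact hX⟩

end Rows

end Cfsg.Agent.Omega.EH3.Kf.TwRow
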