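import Mathlib
import Cfsg.Agent.Omega.EH3.Kf.TwRow
import Cfsg.Agent.Omega.EH3.Kf.Tri
import Cfsg.Agent.Omega.EH3.Kf.Opp

/-!
# EH3, Lie rows in characteristic 2: `Ω⁻` (helper94; K6)

`dead_minus` : a frame of orthogonal type (`tr = 1`, `h` onto on the anisotropic part), `n ≥ 3`: there is no `Row`.
The moved node is the first one, `q = 2` by (F), and the trilinear form vanishes.
-/

set_option autoImplicit false
set_option linter.unusedVariables false
set_option linter.unusedSectionVars false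

namespace Cfsg.Agent.Omega.EH3.Kf.TwMinus

open CoxeterSystem Cfsg.Agent.ChevalleyStructure.CoxeterGeom Cfsg.Agent.Tits.Roots Cfsg.Agent.Tits.Core
  Cfsg.Agent.Tits.RootComb Cfsg.Agent.Nodes.TypeC
open Cfsg.Agent.Nodes.Comb Cfsg.Agent.Nodes.Reps Cfsg.Agent.Nodes.WittRoot Cfsg.Agent.Nodes.BNOf
open Cfsg.Agent.Nodes.StabComb Cfsg.Agent.Nodes.Bruhat Cfsg.Agent.Nodes.LeviDec
open Cfsg.Agent.Nodes.RGDLib Cfsg.Agent.Nodes.WittAll
open Cfsg.Agent.TitsThree Cfsg.Agent.TitsThree.Siegel Cfsg.Agent.TitsThree.WittFrame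
  Cfsg.Agent.TitsThree.WittWeyl Cfsg.Agent.TitsThree.FrameCN
open Cfsg.Agent.Omega.EH3.Kf.TwC Cfsg.Agent.Omega.EH3.Kf.TwWitt Cfsg.Agent.Omega.EH3.Kf.TwRow
  Cfsg.Agent.Omega.EH3.Kf.Base Cfsg.Agent.Omega.EH3.Kf.Tri
open scoped commutatorElement

variable {F : Type*} [Field F] {V' : Type*} [AddCommGroup V'] [Module F V'] {H : HForm F V'} {n : ℕ}
  {Fr : Frame H (Fin n)} {K : Type*} [Group K] (M : Model Fr K)
  {W : Type*} [Group W] {cs : CoxeterSystem (CoxeterMatrix.B n) W}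
  {V : Type*} [AddCommGroup V] [Module (ZMod 2) V] {T : Subgroup K} {nn : Fin n → K}
  {ρ : K →* (V ≃ₗ[ZMod 2] V)} {b : LinearMap.BilinForm (ZMod 2) V} {a : V}
  {D : Submodule (ZMod 2) V} {X0 : Subgroup K} {w : ℕ}
  (R : Row cs (isCartan n) T nn (Nodes.WittModel.X M) ρ b a D X0 w) [Finite K]
  (hX : X0 = VJ cs (isCartan n) (Nodes.WittModel.X M) (Mv ρ nn a)ᶜ) {k : Fin n} (hk : (k : ℕ) = 0)
  (hK : Mv ρ nn a = {k})

include R hX hk hK

theorem lt_of_ne {β : Fin n × Bool} (hβ : β.1 ≠ k) : k < β.1 := by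
  rw [Fin.lt_def]
  have : (β.1 : ℕ) ≠ k := fun h => hβ (Fin.ext h)
  omega

theorem x_mem {β : Fin n × Bool} (hβ : β.1 ≠ k) (t : F) : M.X (k, true) β t ∈ X0 := by
  have hlt := lt_of_ne M R hX hk hK hβ
  obtain ⟨r, hr, er⟩ := exists_root cs (a := (k, true)) (b := β) (Or.inl hlt.ne) rfl hlt.le
  rw [hX]
  have hkM : k ∈ Mv ρ nn a := by rw [hK]; rfl
  have h1 := coef er k
  simp only [le_refl, if_true, if_neg (not_le.2 hlt)] at h1
  simp only [sn, if_true] at h1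
  refine X_le_VJ hr hkM ?_ (X_mem M hlt.ne er t)
  split_ifs at h1 <;> omega

theorem z_mem (p : Fr.Adm) : M.Z (k, true) p ∈ X0 := by
  obtain ⟨r, hr, er⟩ := exists_root cs (a := (k, true)) (b := (k, true)) (Or.inr rfl) rfl le_rfl
  rw [hX]
  have hkM : k ∈ Mv ρ nn a := by rw [hK]; rfl
  exact X_le_VJ hr hkM (pos_add er le_rfl) (Z_mem M er p)

/-- `Z_β` fixes `a` -/
theorem z_fix {β : Fin n × Bool} (hβ : β.1 ≠ k) (p : Fr.Adm) : ρ (M.Z β p) a = a := by
  have : Finite W := finite_W cs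
  have hlt := lt_of_ne M R hX hk hK hβ
  obtain ⟨r, hr, er⟩ := rt_of_ok (cs := cs) (show Ok β β from Or.inr rfl)
  have h1 := coef er k
  simp only [if_neg (not_le.2 hlt), add_zero] at h1
  refine Opp.PJ_fix R (LJ_le_PJ (X_le_LJ (x := r) ⟨hr, fun j hj => ?_⟩ (Z_mem M er p)))
  have hj : j = k := by
    by_contra hne
    apply hj
    rw [hK]
    exact hne
  rw [hj]
  split_ifs at h1 <;> omega

/-! ### The conjugates -/

theorem conj_x {β γ : Fin n × Bool} (hβ : β.1 ≠ k) (hγ : γ ≠ neg β) (p : Fr.Adm) (t : F) :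
    M.Z β p * M.X (k, true) γ t * (M.Z β p)⁻¹ = M.X (k, true) γ t := by
  have h1 : ((k, true) : Fin n × Bool) ≠ neg β := by
    intro h; exact hβ (congrArg Prod.fst h).symm
  have h2 := (M.commute_ZX h1 hγ p t).eq
  rw [h2]; group

theorem conj_z {β : Fin n × Bool} (hβ : β.1 ≠ k) (p q : Fr.Adm) :
    ∃ s : F, M.Z β p * M.Z (k, true) q * (M.Z β p)⁻¹ = M.X (k, true) β s * M.Z (k, true) q := by
  have h1 := comm_ZZ M (x := β) (y := (k, true)) hβ p q
  refine ⟨-(H.ε⁻¹ * Fr.η β * Fr.η (k, true) * H.σ (-(Fr.η (k, true) * H.σ (H.h p.w q.w)))), ?_⟩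
  rw [← X_swap M (a := β) (b := (k, true)) hβ, ← h1, commutatorElement_def]; group

/-- the value of the parameter -/
theorem conj_z' (hs : ∀ m : F, ∃ p q : Fr.Adm, H.h p.w q.w = m) {β : Fin n × Bool} (hβ : β.1 ≠ k) (s : F) :
    ∃ p q : Fr.Adm, M.Z β p * M.Z (k, true) q * (M.Z β p)⁻¹ = M.X (k, true) β s * M.Z (k, true) q := by
  set t : F := -(H.ε⁻¹ * Fr.η (k, true) * Fr.η β * H.σ s) with ht
  obtain ⟨p, q, hpq⟩ := hs (H.σ (-(t * (Fr.η (k, true))⁻¹)))
  have h1 := comm_ZZ M (x := β) (y := (k, true)) hβ p q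
  have h2 : -(Fr.η (k, true) * H.σ (H.h p.w q.w)) = t := by
    rw [hpq, H.σσ, mul_neg, _root_.neg_neg]
    have := Fr.η_ne (k, true)
    field_simp
  rw [h2, ht, ← X_swap M (a := (k, true)) (b := β) (Ne.symm hβ)] at h1
  exact ⟨p, q, by rw [← h1, commutatorElement_def]; group⟩

theorem conj_x_neg {β : Fin n × Bool} (hβ : β.1 ≠ k) (p : Fr.Adm) :
    ∃ s : F, M.Z β p * M.X (k, true) (neg β) 1 * (M.Z β p)⁻¹ =
      (M.Z (k, true) p * M.X (k, true) β s)⁻¹ * M.X (k, true) (neg β) 1 := by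
  have h1 := comm_XZ M (x := (k, true)) (y := β) (Ne.symm hβ) 1 p
  rw [map_one, Frame.Adm.one_smul] at h1
  exact ⟨_, by rw [← h1, commutatorElement_def]; group⟩

theorem inv_eq {x : K} (hx : x ∈ X0) : x⁻¹ = x := inv_eq_of_mul_eq_one_left (R.sq x hx)

/-! ### The trilinear form vanishes -/

section Zero

variable (hF2 : ∀ t : F, t = 0 ∨ t = 1) {c : V} (hc : b a c = 1)

/-- the third slot kills -/
theorem tr_a (hs : ∀ m : F, ∃ p q : Fr.Adm, H.h p.w q.w = m) (hc : b a c = 1) {β : Fin n × Bool} (hβ : β.1 ≠ k)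
    {α γ : Fin n × Bool} (hα : α.1 ≠ k) (hγ : γ.1 ≠ k) (hαβ : α ≠ neg β) (hγβ : γ ≠ neg β) (s t u : F) :
    tr ρ b c (M.X (k, true) α s) (M.X (k, true) γ t) (M.X (k, true) β u) = 0 := by
  obtain ⟨p, q, h1⟩ := conj_z' M R hX hk hK hs hβ u
  have hg := z_fix M R hX hk hK hβ p
  have m1 := x_mem M R hX hk hK hα s
  have m2 := x_mem M R hX hk hK hγ t
  have m3 := x_mem M R hX hk hK hβ u
  have m4 := z_mem M R hX hk hK q
  have h2 := tr_conj R hc hg m1 m2 m4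
  rw [conj_x M R hX hk hK hβ hαβ, conj_x M R hX hk hK hβ hγβ, h1, tr_add3 R m1 m2 m3 m4] at h2
  exact add_eq_right.1 h2

theorem xone {α : Fin n × Bool} {s : F} (hF2 : ∀ t : F, t = 0 ∨ t = 1) :
    M.X (k, true) α s = 1 ∨ M.X (k, true) α s = M.X (k, true) α 1 := by
  rcases hF2 s with rfl | rfl
  · exact Or.inl (X_zero M _ _)
  · exact Or.inr rfl

theorem tr_one2 (x t : K) : tr ρ b c x 1 t = 0 := by
  unfold tr
  rw [dl_one, map_zero, LinearMap.zero_apply]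

theorem tr_one3 (x y : K) : tr ρ b c x y 1 = 0 := by
  unfold tr
  rw [dl_one, map_zero]

/-- (a') three root elements -/
theorem tr_xxx (hs : ∀ m : F, ∃ p q : Fr.Adm, H.h p.w q.w = m) (hF2 : ∀ t : F, t = 0 ∨ t = 1) (hc : b a c = 1)
    {α β γ : Fin n × Bool} (hα : α.1 ≠ k) (hβ : β.1 ≠ k) (hγ : γ.1 ≠ k) :
    tr ρ b c (M.X (k, true) α 1) (M.X (k, true) β 1) (M.X (k, true) γ 1) = 0 := by
  have m1 := x_mem M R hX hk hK hα 1
  have m2 := x_mem M R hX hk hK hβ 1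
  have m3 := x_mem M R hX hk hK hγ 1
  by_cases e1 : α = β
  · subst e1; exact tr_self R m1 c _
  by_cases e2 : β = γ
  · subst e2; exact tr_self' R m2 _ c
  by_cases e3 : α = γ
  · subst e3
    rw [tr_swap23 R m1 m2 m1 c]
    exact tr_self R m1 c _
  by_cases e4 : α = neg γ
  · -- slot `β`
    rw [tr_swap23 R m1 m2 m3 c]
    refine tr_a M R hX hk hK hs hc hβ hα hγ ?_ ?_ 1 1 1
    · rintro rfl
      apply e2
      have := congrArg neg e4
      rwa [neg_neg, neg_neg] at this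
    · rintro rfl
      rw [neg_neg] at e4
      exact e1 e4
  by_cases e5 : β = neg γ
  · -- slot `α`
    have h1 : tr ρ b c (M.X (k, true) α 1) (M.X (k, true) β 1) (M.X (k, true) γ 1) =
        tr ρ b c (M.X (k, true) β 1) (M.X (k, true) γ 1) (M.X (k, true) α 1) := by
      rw [tr_swap R m1 m2, tr_swap23 R m2 m1 m3]
    rw [h1]
    refine tr_a M R hX hk hK hs hc hα hβ hγ ?_ ?_ 1 1 1
    · rintro rfl
      apply e3
      have := congrArg neg e5
      rwa [neg_neg, neg_neg] at this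
    · rintro rfl
      rw [neg_neg] at e5
      exact e1 e5.symm
  · exact tr_a M R hX hk hK hs hc hγ hα hβ e4 e5 1 1 1

/-- (b) -/
theorem tr_zxx (hn : 3 ≤ n) (hs : ∀ m : F, ∃ p q : Fr.Adm, H.h p.w q.w = m) (hF2 : ∀ t : F, t = 0 ∨ t = 1)
    (hc : b a c = 1) {α β : Fin n × Bool} (hα : α.1 ≠ k) (hβ : β.1 ≠ k) (p : Fr.Adm) :
    tr ρ b c (M.Z (k, true) p) (M.X (k, true) α 1) (M.X (k, true) β 1) = 0 := by
  obtain ⟨γ, hγ, h1, h2⟩ : ∃ γ : Fin n × Bool, γ.1 ≠ k ∧ α ≠ neg γ ∧ β ≠ neg γ := by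
    have e1 : (⟨1, by omega⟩ : Fin n) ≠ k := by intro h; have := congrArg Fin.val h; simp only at this; omega
    have e2 : (⟨2, by omega⟩ : Fin n) ≠ k := by intro h; have := congrArg Fin.val h; simp only at this; omega
    have e3 : (⟨1, by omega⟩ : Fin n) ≠ ⟨2, by omega⟩ := by intro h; have := congrArg Fin.val h; simp at this
    by_cases h1 : α.1 = ⟨1, by omega⟩
    · by_cases h2 : β.1 = ⟨1, by omega⟩
      · exact ⟨(⟨2, by omega⟩, true), e2, fun h => e3 (h1 ▸ congrArg Prod.fst h), fun h => e3 (h2 ▸ congrArg Prod.fst h)⟩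
      · -- `β` may have index 2
        refine ⟨(⟨1, by omega⟩, α.2), e1, ?_, fun h => h2 (congrArg Prod.fst h)⟩
        intro h
        have h3 : α.2 = !α.2 := congrArg Prod.snd h
        cases h4 : α.2 <;> rw [h4] at h3 <;> exact absurd h3 (by decide)
    · by_cases h2 : β.1 = ⟨1, by omega⟩
      · refine ⟨(⟨1, by omega⟩, β.2), e1, fun h => h1 (congrArg Prod.fst h), ?_⟩
        intro h
        have h3 : β.2 = !β.2 := congrArg Prod.snd h
        cases h4 : β.2 <;> rw [h4] at h3 <;> exact absurd h3 (by decide)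
      · exact ⟨(⟨1, by omega⟩, true), e1, fun h => h1 (congrArg Prod.fst h), fun h => h2 (congrArg Prod.fst h)⟩
  have hnγ : (neg γ).1 ≠ k := hγ
  obtain ⟨s, h3⟩ := conj_x_neg M R hX hk hK hγ p
  have hg := z_fix M R hX hk hK hγ p
  have m1 := x_mem M R hX hk hK hα 1
  have m2 := x_mem M R hX hk hK hβ 1
  have m3 := x_mem M R hX hk hK hnγ 1
  have m4 := z_mem M R hX hk hK p
  have m5 := x_mem M R hX hk hK hγ s
  have h4 := tr_conj R hc hg m3 m1 m2
  rw [conj_x M R hX hk hK hγ h1, conj_x M R hX hk hK hγ h2, h3, inv_eq M R hX hk hK (mul_mem m4 m5),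
    tr_add1 R (mul_mem m4 m5) m3 m1 m2, tr_add1 R m4 m5 m1 m2] at h4
  have h5 : tr ρ b c (M.X (k, true) γ s) (M.X (k, true) α 1) (M.X (k, true) β 1) = 0 := by
    rcases xone M R hX hk hK (α := γ) (s := s) hF2 with h6 | h6
    · rw [h6]; exact tr_one1 R c _ _
    · rw [h6]; exact tr_xxx M R hX hk hK hs hF2 hc hγ hα hβ
  rw [h5, add_zero] at h4
  exact add_eq_right.1 h4

/-- (c) -/
theorem tr_zzx (hn : 3 ≤ n) (hs : ∀ m : F, ∃ p q : Fr.Adm, H.h p.w q.w = m) (hF2 : ∀ t : F, t = 0 ∨ t = 1)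
    (hc : b a c = 1) {α : Fin n × Bool} (hα : α.1 ≠ k) (p q : Fr.Adm) :
    tr ρ b c (M.Z (k, true) p) (M.Z (k, true) q) (M.X (k, true) α 1) = 0 := by
  have hnα : (neg α).1 ≠ k := hα
  obtain ⟨s, h3⟩ := conj_x_neg M R hX hk hK hα p
  obtain ⟨t, h4⟩ := conj_z M R hX hk hK hα p q
  have hg := z_fix M R hX hk hK hα p
  have m1 := x_mem M R hX hk hK hα 1
  have m3 := x_mem M R hX hk hK hnα 1
  have m4 := z_mem M R hX hk hK p
  have m5 := x_mem M R hX hk hK hα s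
  have m6 := z_mem M R hX hk hK q
  have m7 := x_mem M R hX hk hK hα t
  have hne : α ≠ neg α := by
    intro h
    have h3 : α.2 = !α.2 := congrArg Prod.snd h
    cases h4 : α.2 <;> rw [h4] at h3 <;> exact absurd h3 (by decide)
  have h5 := tr_conj R hc hg m3 m6 m1
  have k1 : ∀ x ∈ X0, ∀ u : F, tr ρ b c x (M.X (k, true) α u) (M.X (k, true) α 1) = 0 := by
    intro x hx u
    rcases xone M R hX hk hK (α := α) (s := u) hF2 with h6 | h6
    · rw [h6]; exact tr_one2 M R hX hk hK _ _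
    · rw [h6]; exact tr_self' R m1 x c
  have k2 : ∀ x ∈ X0, ∀ u : F, tr ρ b c (M.X (k, true) α u) x (M.X (k, true) α 1) = 0 := by
    intro x hx u
    rw [tr_swap R (x_mem M R hX hk hK hα u) hx]
    exact k1 x hx u
  rw [conj_x M R hX hk hK hα hne, h4, h3, inv_eq M R hX hk hK (mul_mem m4 m5),
    tr_add1 R (mul_mem m4 m5) m3 (mul_mem m7 m6) m1, tr_add1 R m4 m5 (mul_mem m7 m6) m1,
    tr_add2 R m4 m7 m6 m1, k1 _ m4 t, k2 _ (mul_mem m7 m6) s, tr_add2 R m3 m7 m6 m1, k1 _ m3 t] at h5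
  rw [zero_add, add_zero, zero_add] at h5
  exact add_eq_right.1 h5

/-- (d) -/
theorem tr_zzz (hd : ∀ p q r : Fr.Adm, p = 1 ∨ q = 1 ∨ p = q ∨ p = r ∨ q = r ∨ r = 1 ∨ r = p * q)
    (p q r : Fr.Adm) : tr ρ b c (M.Z (k, true) p) (M.Z (k, true) q) (M.Z (k, true) r) = 0 := by
  have m1 := z_mem M R hX hk hK p
  have m2 := z_mem M R hX hk hK q
  have m3 := z_mem M R hX hk hK r
  rcases hd p q r with h | h | h | h | h | h | h
  · subst h; rw [Z_one]; exact tr_one1 R c _ _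
  · subst h; rw [Z_one]; exact tr_one2 M R hX hk hK _ _
  · subst h; exact tr_self R m1 c _
  · subst h
    rw [tr_swap23 R m1 m2 m1 c]
    exact tr_self R m1 c _
  · subst h; exact tr_self' R m2 _ c
  · subst h; rw [Z_one]; exact tr_one3 M R hX hk hK _ _
  · subst h
    rw [Z_mul, tr_add3 R m1 m2 m1 m2, tr_swap23 R m1 m2 m1 c, tr_self R m1 c, tr_self' R m2, add_zero]

/-- induction over `X0` -/
theorem ind {P : K → Prop} (hF2 : ∀ t : F, t = 0 ∨ t = 1) (h1 : P 1) (hmul : ∀ u ∈ X0, ∀ v ∈ X0, P u → P v → P (u * v))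
    (hx : ∀ α : Fin n × Bool, α.1 ≠ k → P (M.X (k, true) α 1)) (hz : ∀ p, P (M.Z (k, true) p)) : ∀ u ∈ X0, P u := by
  have : Finite W := finite_W cs
  intro u hu
  have hu' : u ∈ RGD.Sup (Nodes.WittModel.X M) (NotJ cs (isCartan n) (Mv ρ nn a)ᶜ) := by rw [hX] at hu; exact hu
  have hle : ∀ r ∈ NotJ cs (isCartan n) (Mv ρ nn a)ᶜ, Nodes.WittModel.X M r ≤ X0 := by
    intro r hr
    rw [hX]
    exact RGD.le_Sup hr
  have key : u ∈ X0 ∧ P u := by
    unfold RGD.Sup at hu'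
    refine Subgroup.iSup_induction (C := fun u => u ∈ X0 ∧ P u) _ hu' ?_ ⟨one_mem _, h1⟩
      (fun x y hx hy => ⟨mul_mem hx.1 hy.1, hmul x hx.1 y hy.1 hx.2 hy.2⟩)
    rintro ⟨r, hr⟩ g hg
    refine ⟨hle r hr hg, ?_⟩
    obtain ⟨hr1, h0, i, hi, hri⟩ := hr
    have hik : i = k := by
      by_contra hne
      apply hi
      intro h2
      rw [hK] at h2
      exact hne h2
    subst hik
    obtain ⟨⟨j, s⟩, β, hs1, hij, hok, e⟩ := exists_pos hr1 h0
    simp only at hs1 hij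
    subst hs1
    have hj : j = i := by
      by_contra hne
      have h3 := coef e i
      have h4 : ¬ j ≤ i := by
        intro h5
        exact hne (le_antisymm h5 (by rw [Fin.le_def]; omega))
      have h5 : ¬ β.1 ≤ i := fun h6 => h4 (hij.trans h6)
      simp only [h4, h5, if_false, add_zero] at h3
      split_ifs at h3 <;> omega
    subst hj
    rcases hok with h4 | h4
    · have hβ : β.1 ≠ j := fun h5 => h4 h5.symm
      obtain ⟨t, rfl⟩ := (mem_XK M h4 e).1 hg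
      rcases hF2 t with rfl | rfl
      · rw [X_zero]; exact h1
      · exact hx β hβ
    · subst h4
      obtain ⟨p, rfl⟩ := (mem_ZK M e).1 hg
      exact hz p
  exact key.2

theorem tr_zero (hn : 3 ≤ n) (hs : ∀ m : F, ∃ p q : Fr.Adm, H.h p.w q.w = m) (hF2 : ∀ t : F, t = 0 ∨ t = 1)
    (hd : ∀ p q r : Fr.Adm, p = 1 ∨ q = 1 ∨ p = q ∨ p = r ∨ q = r ∨ r = 1 ∨ r = p * q)
    (hc : b a c = 1) : ∀ x ∈ X0, ∀ y ∈ X0, ∀ t ∈ X0, tr ρ b c x y t = 0 := by
  have mx := fun (α : Fin n × Bool) (hα : α.1 ≠ k) => x_mem M R hX hk hK hα 1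
  have mz := z_mem M R hX hk hK
  have zxz : ∀ (p q : Fr.Adm) (α : Fin n × Bool) (hα : α.1 ≠ k),
      tr ρ b c (M.Z (k, true) p) (M.X (k, true) α 1) (M.Z (k, true) q) = 0 := by
    intro p q α hα
    rw [tr_swap23 R (mz p) (mx α hα) (mz q)]
    exact tr_zzx M R hX hk hK hn hs hF2 hc hα p q
  have xzz : ∀ (p q : Fr.Adm) (α : Fin n × Bool) (hα : α.1 ≠ k),
      tr ρ b c (M.X (k, true) α 1) (M.Z (k, true) p) (M.Z (k, true) q) = 0 := by
    intro p q α hα
    rw [tr_swap R (mx α hα) (mz p)]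
    exact zxz p q α hα
  have xzx : ∀ (p : Fr.Adm) (α β : Fin n × Bool) (hα : α.1 ≠ k) (hβ : β.1 ≠ k),
      tr ρ b c (M.X (k, true) α 1) (M.Z (k, true) p) (M.X (k, true) β 1) = 0 := by
    intro p α β hα hβ
    rw [tr_swap R (mx α hα) (mz p)]
    exact tr_zxx M R hX hk hK hn hs hF2 hc hα hβ p
  have xxz : ∀ (p : Fr.Adm) (α β : Fin n × Bool) (hα : α.1 ≠ k) (hβ : β.1 ≠ k),
      tr ρ b c (M.X (k, true) α 1) (M.X (k, true) β 1) (M.Z (k, true) p) = 0 := by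
    intro p α β hα hβ
    rw [tr_swap23 R (mx α hα) (mx β hβ) (mz p)]
    exact xzx p α β hα hβ
  refine ind M R hX hk hK hF2 (fun y _ t _ => tr_one1 R c y t)
    (fun u hu v hv h1 h2 y hy t ht => by rw [tr_add1 R hu hv hy ht, h1 y hy t ht, h2 y hy t ht, add_zero]) ?_ ?_
  · intro α hα
    refine ind M R hX hk hK hF2 (fun t _ => tr_one2 M R hX hk hK _ t)
      (fun u hu v hv h1 h2 t ht => by rw [tr_add2 R (mx α hα) hu hv ht, h1 t ht, h2 t ht, add_zero]) ?_ ?_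
    · intro β hβ
      exact ind M R hX hk hK hF2 (tr_one3 M R hX hk hK _ _)
        (fun u hu v hv h1 h2 => by rw [tr_add3 R (mx α hα) (mx β hβ) hu hv, h1, h2, add_zero])
        (fun γ hγ => tr_xxx M R hX hk hK hs hF2 hc hα hβ hγ) (fun p => xxz p α β hα hβ)
    · intro p
      exact ind M R hX hk hK hF2 (tr_one3 M R hX hk hK _ _)
        (fun u hu v hv h1 h2 => by rw [tr_add3 R (mx α hα) (mz p) hu hv, h1, h2, add_zero])
        (fun γ hγ => xzx p α γ hα hγ) (fun q => xzz p q α hα)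
  · intro p
    refine ind M R hX hk hK hF2 (fun t _ => tr_one2 M R hX hk hK _ t)
      (fun u hu v hv h1 h2 t ht => by rw [tr_add2 R (mz p) hu hv ht, h1 t ht, h2 t ht, add_zero]) ?_ ?_
    · intro β hβ
      exact ind M R hX hk hK hF2 (tr_one3 M R hX hk hK _ _)
        (fun u hu v hv h1 h2 => by rw [tr_add3 R (mz p) (mx β hβ) hu hv, h1, h2, add_zero])
        (fun γ hγ => tr_zxx M R hX hk hK hn hs hF2 hc hβ hγ p) (fun q => zxz p q β hβ)
    · intro q
      exact ind M R hX hk hK hF2 (tr_one3 M R hX hk hK _ _)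
        (fun u hu v hv h1 h2 => by rw [tr_add3 R (mz p) (mz q) hu hv, h1, h2, add_zero])
        (fun γ hγ => tr_zzx M R hX hk hK hn hs hF2 hc hγ p q) (fun r => tr_zzz M R hX hk hK hd p q r)

end Zero

omit hX hk hK in
/-- **The orthogonal groups of minus type.** -/
theorem dead_minus [CharP F 2] [Finite V'] (hA : AmbT Fr 2 M.I) (hn : 3 ≤ n)
    (hs : ∀ m : F, ∃ p q : Fr.Adm, H.h p.w q.w = m) (htr : ∀ m, (Frame.Adm.tr m : Fr.Adm) = 1) {m : ℕ} (hm : 0 < m)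
    (hcF : Nat.card F = 2 ^ m)
    (hd : Nat.card F = 2 → ∀ p q r : Fr.Adm, p = 1 ∨ q = 1 ∨ p = q ∨ p = r ∨ q = r ∨ r = 1 ∨ r = p * q) : False := by
  have : Fact (Nat.Prime 2) := ⟨Nat.prime_two⟩
  have : Finite W := finite_W cs
  have hX := eq_VJ M R (gd_of_surj M hs)
  obtain ⟨k, hkM⟩ := mv_nonempty R
  have hk := mv_naz R hX (naz M hA hs) hkM
  have hK : Mv ρ nn a = {k} := by
    ext j
    refine ⟨fun hj => ?_, by rintro rfl; exact hkM⟩
    have h2 := mv_naz R hX (naz M hA hs) hj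
    exact Fin.ext (by omega)
  have h1 := short_le M R hA hX hk hK (by omega) htr hcF
  have hm1 : m = 1 := by omega
  rw [hm1, pow_one] at hcF
  have hF2 : ∀ t : F, t = 0 ∨ t = 1 := by
    intro t
    by_contra hcon
    push Not at hcon
    have : Finite F := Nat.finite_of_card_ne_zero (by rw [hcF]; norm_num)
    have := Fintype.ofFinite F
    rw [Nat.card_eq_fintype_card] at hcF
    have h2 : 2 < Fintype.card F := Fintype.two_lt_card_iff.2 ⟨t, 0, 1, hcon.1, hcon.2, zero_ne_one⟩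
    omega
  obtain ⟨c, hc⟩ := exists_c R
  have hne : X0 ≠ ⊥ := by
    intro h2
    have h3 := R.card_X
    rw [h2, Subgroup.card_bot] at h3
    have h4 : 2 ^ 1 ≤ 2 ^ (w - 1) := Nat.pow_le_pow_right (by norm_num) (by have := R.six; omega)
    omega
  obtain ⟨⟨x, hx⟩, hx1⟩ := Subgroup.ne_bot_iff_exists_ne_one.1 hne
  have hx1 : x ≠ 1 := fun h => hx1 (Subtype.ext h)
  obtain ⟨y, hy, t, ht, h2⟩ := R.tri x hx hx1 c hc
  exact h2 (tr_zero M R hX hk hK hn hs hF2 (hd hcF) hc x hx y hy t ht)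

end Cfsg.Agent.Omega.EH3.Kf.TwMinus
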