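import Mathlib
import Cfsg.Agent.Omega.EH3.Kf.TwMinus
import Cfsg.Agent.Omega.EH3.Kf.FamRow
import Cfsg.Agent.KFacts.RgdFiltClass

/-!
# EH3, Lie rows in characteristic 2: `PΩ⁻_{2n+2}(q)` (helper94; K6)
-/

set_option autoImplicit false
set_option linter.unusedVariables false
set_option linter.unusedSectionVars false

namespace Cfsg.Agent.Omega.EH3.Kf.TwOmm

open Cfsg.Agent.ChevalleyStructure.CoxeterGeom Cfsg.Agent.Tits.Roots Cfsg.Agent.Nodes.TypeC
open Cfsg.Agent.Nodes.WittAll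
open Cfsg Cfsg.Agent.TitsThree Cfsg.Agent.TitsThree.Siegel Cfsg.Agent.TitsThree.SiegelGen
  Cfsg.Agent.TitsThree.WittFrame Cfsg.Agent.TitsThree.WBridge Cfsg.Agent.TitsThree.WittWeyl
  Cfsg.Agent.TitsThree.FrameCN Cfsg.Agent.TitsThree.KSideO Cfsg.Agent.LieClassical.OrthForms

universe u

section Frame

variable (m : ℕ) (F : Type*) [Field F] (a b : F)
  (hab : ∀ z₁ z₂ : F, z₁ ^ 2 + a * z₁ * z₂ + b * z₂ ^ 2 = 0 → z₁ = 0 ∧ z₂ = 0)

theorem adm_ext {p r : (toFrame (wminus m F a b hab)).Adm} (h0 : p.w (Sum.inr 0) = r.w (Sum.inr 0))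
    (h1 : p.w (Sum.inr 1) = r.w (Sum.inr 1)) : p = r := by
  have hw : p.w = r.w := by
    funext j
    rcases j with j | j
    · rw [p.ok.1 j, r.ok.1 j]
    · fin_cases j
      · exact h0
      · exact h1
  refine Frame.Adm.ext hw ?_
  have e1 : p.c = -(minusForm m F a b) p.w := p.ok.2
  have e2 : r.c = -(minusForm m F a b) r.w := r.ok.2
  rw [e1, e2, hw]

theorem htr (t : F) : (Frame.Adm.tr t : (toFrame (wminus m F a b hab)).Adm) = 1 := adm_ext m F a b hab rfl rfl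

theorem hd (hF2 : ∀ t : F, t = 0 ∨ t = 1) [CharP F 2] (p q r : (toFrame (wminus m F a b hab)).Adm) :
    p = 1 ∨ q = 1 ∨ p = q ∨ p = r ∨ q = r ∨ r = 1 ∨ r = p * q := by
  have h2 : (1 : F) + 1 = 0 := CharTwo.add_self_eq_zero 1
  have one0 : (1 : (toFrame (wminus m F a b hab)).Adm).w (Sum.inr 0) = 0 := rfl
  have one1 : (1 : (toFrame (wminus m F a b hab)).Adm).w (Sum.inr 1) = 0 := rfl
  have mul0 : (p * q).w (Sum.inr 0) = p.w (Sum.inr 0) + q.w (Sum.inr 0) := rfl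
  have mul1 : (p * q).w (Sum.inr 1) = p.w (Sum.inr 1) + q.w (Sum.inr 1) := rfl
  have key : ∀ u v : (toFrame (wminus m F a b hab)).Adm, u ≠ v →
      u.w (Sum.inr 0) ≠ v.w (Sum.inr 0) ∨ u.w (Sum.inr 1) ≠ v.w (Sum.inr 1) := by
    intro u v huv
    by_contra hcon
    push Not at hcon
    exact huv (adm_ext m F a b hab hcon.1 hcon.2)
  by_contra hcon
  push Not at hcon
  obtain ⟨e1, e2, e3, e4, e5, e6, e7⟩ := hcon
  have k1 := key _ _ e1
  have k2 := key _ _ e2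
  have k3 := key _ _ e3
  have k4 := key _ _ e4
  have k5 := key _ _ e5
  have k6 := key _ _ e6
  have k7 := key _ _ e7
  rw [one0, one1] at k1 k2 k6
  rw [mul0, mul1] at k7
  rcases hF2 (p.w (Sum.inr 0)) with h | h <;> rcases hF2 (p.w (Sum.inr 1)) with h' | h' <;>
    rcases hF2 (q.w (Sum.inr 0)) with g | g <;> rcases hF2 (q.w (Sum.inr 1)) with g' | g' <;>
    rcases hF2 (r.w (Sum.inr 0)) with l | l <;> rcases hF2 (r.w (Sum.inr 1)) with l' | l' <;>
    simp [h, h', g, g', l, l', h2] at k1 k2 k3 k4 k5 k6 k7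

end Frame

/-- the row, from the bundle of data -/
theorem kfRow_of_bd {F : Type*} [Field F] [Fintype F] [CharP F 2] (m : ℕ) (hm : 3 ≤ m) (a b : F)
    (hab : ∀ z₁ z₂ : F, z₁ ^ 2 + a * z₁ * z₂ + b * z₂ ^ 2 = 0 → z₁ = 0 ∧ z₂ = 0) {K : Type*} [Group K] [Finite K]
    (M : Model (toFrame (wminus m F a b hab)) K) (hA : AmbT (toFrame (wminus m F a b hab)) 2 M.I)
    (hs : ∀ t : F, ∃ p q : (toFrame (wminus m F a b hab)).Adm,
      (Cfsg.Agent.TitsThree.KSideO.HO (minusForm m F a b)).h p.w q.w = t)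
    {T : Subgroup K} {nn : Fin m → K}
    (B : FamRow.Bd (CoxeterMatrix.B m) (isCartan m) T nn (Nodes.WittModel.X M)) : FamRow.KfRow.{u} K := by
  refine ⟨m, CoxeterMatrix.B m, A m, isCartan m, T, nn, Nodes.WittModel.X M, B, ?_⟩
  intro V _ _ ρ b a D X0 w R
  exfalso
  obtain ⟨j, -, hj⟩ := FiniteField.card F 2
  refine TwMinus.dead_minus M R hA hm hs (htr m F _ _ hab) (m := (j : ℕ)) j.2 (by rw [Nat.card_eq_fintype_card, hj]) ?_
  intro hc p q r
  refine hd m F _ _ hab ?_ p q r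
  intro t
  by_contra hcon
  push Not at hcon
  rw [Nat.card_eq_fintype_card] at hc
  have h2 : 2 < Fintype.card F := Fintype.two_lt_card_iff.2 ⟨t, 0, 1, hcon.1, hcon.2, zero_ne_one⟩
  omega

end Cfsg.Agent.Omega.EH3.Kf.TwOmm
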