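import Mathlib
import Cfsg.Agent.Omega.EH3.Kf.TwOmm
import Cfsg.Agent.Omega.EH3.Kf.OMinusBd
import Cfsg.Agent.Omega.EH3.Kf.Main

/-!
# EH3, Lie rows: the field `omm` of `Table.Rows` (helper94, helper944)
-/

set_option autoImplicit false

namespace Cfsg.Agent.Omega.EH3.Kf.FamOmm

open Cfsg Cfsg.Agent.TitsThree Cfsg.Agent.TitsThree.WittFrame Cfsg.Agent.TitsThree.WBridge
  Cfsg.Agent.TitsThree.FrameCN Cfsg.Agent.TitsThree.KSideO Cfsg.Agent.LieClassical.OrthForms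
  Cfsg.Agent.LieClassical.OrthSimple Cfsg.Agent.Nodes.WittAll

universe u

theorem kfRow_minus {F : Type*} [Field F] [Fintype F] [CharP F 2] {m : ℕ} (hm : 3 ≤ m) (a b : F)
    (hab : ∀ z₁ z₂ : F, z₁ ^ 2 + a * z₁ * z₂ + b * z₂ ^ 2 = 0 → z₁ = 0 ∧ z₂ = 0) :
    FamRow.KfRow.{u} (POmega F (quadFormMinus m F a b)) := by
  have : Finite (POmega F (quadFormMinus m F a b)) := Quotient.finite _
  rw [← coe_minusForm] at *
  have hG := KFacts.SpecMinus.good_minus (F := F) (m := m) (by omega) a b hab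
  obtain ⟨p0, hp0⟩ := KFacts.SpecMinus.adm_minus m a b hab
  exact TwOmm.kfRow_of_bd m hm a b hab (model (wminus m F a b hab) hG ⟨p0, hp0⟩)
    (OMinusBd.ambT a b hab (by omega) hG) (OMinusBd.exists_h_minus a b hab)
    (OMinusBd.bd_minus a b hab (by omega) hG ⟨p0, hp0⟩ (OMinusBd.ambT a b hab (by omega) hG) hp0)

/-- **The field `omm` of `Table.Rows`.** -/
theorem omm (F : Type) [Field F] [Fintype F] [CharP F 2] (m : ℕ) (a b : F) (hm : 4 ≤ m)
    (hab : ∀ z₁ z₂ : F, z₁ ^ 2 + a * z₁ * z₂ + b * z₂ ^ 2 = 0 → z₁ = 0 ∧ z₂ = 0) :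
    Main.Fam.{u} (POmega F (quadFormMinus (m - 1) F a b)) :=
  Or.inr (kfRow_minus (by omega) a b hab).toU

end Cfsg.Agent.Omega.EH3.Kf.FamOmm
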