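import Mathlib
import Cfsg.Agent.Nodes.Unique
import Cfsg.Agent.KFacts.RgdPerf

/-!
# Leading roots (EH3, Lie rows in characteristic 2; helper134)

`f : (I → ℤ) →+ ℤ` positive on the simple roots, `F f t = ⟨X z : z > 0, f z ≥ t⟩`.

* `Strict cs h X` : root groups of positive roots are abelian and `⁅X s, X t⁆ ≤ ⟨X (i s + j t) : i, j ≥ 1⟩`;
* `Cst cs h X s t` : `⁅a, b⁆` is nontrivial in `X (s + t)` modulo the other `X (i s + j t)`, for `a, b ≠ 1`;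
* `comm_F` : `⁅F s, F t⁆ ≤ F (s + t)`;
* `Ldg f r x` : `x = a o`, `1 ≠ a ∈ X r`, `o ∈ F (f r + 1)`;
* `lead_comm` : `Ldg r x`, `Ldg s y`, `Cst r s` ==> `Ldg (r + s) ⁅x, y⁆`;
* `Idl` : the leading roots of an abelian subgroup normalised by `U`: `Idl.add`, `Idl.false`.
-/

set_option autoImplicit false
set_option linter.unusedSectionVars false

namespace Cfsg.Agent.Omega.EH3.Kf.Lead

open CoxeterSystem Cfsg.Agent.ChevalleyStructure.CoxeterGeom Cfsg.Agent.Tits.Roots Cfsg.Agent.Tits.Core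
  Cfsg.Agent.Tits.RootComb Cfsg.Agent.Nodes.Comb Cfsg.Agent.Nodes.Reps Cfsg.Agent.Nodes.BNOf
  Cfsg.Agent.Nodes.StabComb Cfsg.Agent.Nodes.Bruhat Cfsg.Agent.KFacts.RgdPerf
open scoped commutatorElement

variable {I W Y : Type*} [Fintype I] [DecidableEq I] [Group W] [Group Y] {M : CoxeterMatrix I}
  {cs : CoxeterSystem M W} {A : I → I → ℤ} {h : IsCartan M A} {p : ℕ} {T : Subgroup Y} {n : I → Y}
  {X : (I → ℤ) → Subgroup Y}

/-! ### Commutators of joins -/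

section Gen

variable {G : Type*} [Group G]

/-- the elements of `B` whose commutators with the elements of `A` lie in `N` -/
def cz (A B N : Subgroup G) (hN : B ≤ Subgroup.normalizer (N : Set G)) : Subgroup G where
  carrier := {b | b ∈ B ∧ ∀ a ∈ A, ⁅a, b⁆ ∈ N}
  one_mem' := ⟨one_mem _, fun a _ => by rw [commutatorElement_one_right]; exact one_mem _⟩
  mul_mem' := by
    rintro b b' ⟨hb, h1⟩ ⟨hb', h2⟩
    refine ⟨mul_mem hb hb', fun a ha => ?_⟩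
    have e : ⁅a, b * b'⁆ = ⁅a, b⁆ * (b * ⁅a, b'⁆ * b⁻¹) := by
      rw [commutatorElement_def, commutatorElement_def, commutatorElement_def]; group
    rw [e]
    exact mul_mem (h1 a ha) ((Subgroup.mem_normalizer_iff.1 (hN hb) _).1 (h2 a ha))
  inv_mem' := by
    rintro b ⟨hb, h1⟩
    refine ⟨inv_mem hb, fun a ha => ?_⟩
    have e : ⁅a, b⁻¹⁆ = b⁻¹ * ⁅a, b⁆⁻¹ * b⁻¹⁻¹ := by
      rw [commutatorElement_def, commutatorElement_def]; group
    rw [e]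
    exact (Subgroup.mem_normalizer_iff.1 (hN (inv_mem hb)) _).1 (inv_mem (h1 a ha))

theorem commutator_le_right {κ : Type*} {A N : Subgroup G} {B : κ → Subgroup G}
    (hB : ∀ j, B j ≤ Subgroup.normalizer (N : Set G)) (h : ∀ j, ⁅A, B j⁆ ≤ N) : ⁅A, ⨆ j, B j⁆ ≤ N := by
  have hN : (⨆ j, B j) ≤ Subgroup.normalizer (N : Set G) := iSup_le hB
  have h1 : (⨆ j, B j) ≤ cz A (⨆ j, B j) N hN := iSup_le fun j b hb =>
    ⟨(le_iSup B j) hb, fun a ha => h j (Subgroup.commutator_mem_commutator ha hb)⟩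
  rw [Subgroup.commutator_le]
  exact fun a ha b hb => (h1 hb).2 a ha

theorem commutator_le_both {ι κ : Type*} {N : Subgroup G} {A : ι → Subgroup G} {B : κ → Subgroup G}
    (hA : ∀ i, A i ≤ Subgroup.normalizer (N : Set G)) (hB : ∀ j, B j ≤ Subgroup.normalizer (N : Set G))
    (h : ∀ i j, ⁅A i, B j⁆ ≤ N) : ⁅⨆ i, A i, ⨆ j, B j⁆ ≤ N := by
  rw [Subgroup.commutator_comm]
  refine commutator_le_right hA fun i => ?_
  rw [Subgroup.commutator_comm]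
  exact commutator_le_right hB (h i)

end Gen

/-! ### The filtration -/

/-- the roots `i s + j t`, `i, j ≥ 1` -/
def SumR (cs : CoxeterSystem M W) (h : IsCartan M A) (s t : I → ℤ) : Set (I → ℤ) :=
  {z | IsRoot cs h z ∧ ∃ i j : ℤ, 0 < i ∧ 0 < j ∧ z = i • s + j • t}

/-- the roots `i s + j t`, `i, j ≥ 1`, other than `s + t` -/
def SumR' (cs : CoxeterSystem M W) (h : IsCartan M A) (s t : I → ℤ) : Set (I → ℤ) :=
  {z | IsRoot cs h z ∧ ∃ i j : ℤ, 0 < i ∧ 0 < j ∧ 2 < i + j ∧ z = i • s + j • t}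

/-- Commutators only involve sums. -/
structure Strict (cs : CoxeterSystem M W) (h : IsCartan M A) (X : (I → ℤ) → Subgroup Y) : Prop where
  ab : ∀ r ∈ RGD.Pos cs h, ∀ a ∈ X r, ∀ b ∈ X r, a * b = b * a
  comm : ∀ s ∈ RGD.Pos cs h, ∀ t ∈ RGD.Pos cs h, s ≠ t → ∀ a ∈ X s, ∀ b ∈ X t,
    ⁅a, b⁆ ∈ RGD.Sup X (SumR cs h s t)

/-- The structure constant of `s`, `t` is nonzero. -/
def Cst (cs : CoxeterSystem M W) (h : IsCartan M A) (X : (I → ℤ) → Subgroup Y) (s t : I → ℤ) : Prop :=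
  IsRoot cs h (s + t) ∧ ∀ a ∈ X s, a ≠ 1 → ∀ b ∈ X t, b ≠ 1 → ∃ d ∈ X (s + t), d ≠ 1 ∧
    ∃ e ∈ RGD.Sup X (SumR' cs h s t), ⁅a, b⁆ = d * e

/-- the filtration -/
def F (cs : CoxeterSystem M W) (h : IsCartan M A) (X : (I → ℤ) → Subgroup Y) (f : (I → ℤ) →+ ℤ) (t : ℤ) : Subgroup Y :=
  RGD.Sup X {z | z ∈ RGD.Pos cs h ∧ t ≤ f z}

variable {f : (I → ℤ) →+ ℤ}

theorem F_mono {s t : ℤ} (hst : s ≤ t) : F cs h X f t ≤ F cs h X f s :=
  RGD.Sup_mono fun _ hz => ⟨hz.1, le_trans hst hz.2⟩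

theorem X_le_F {z : I → ℤ} (hz : z ∈ RGD.Pos cs h) {t : ℤ} (ht : t ≤ f z) : X z ≤ F cs h X f t :=
  RGD.le_Sup (S := {z | z ∈ RGD.Pos cs h ∧ t ≤ f z}) ⟨hz, ht⟩

theorem f_sum (x : I → ℤ) : f x = ∑ k, x k * f (sr k) := by
  have h1 : x = ∑ k, x k • (sr k : I → ℤ) := by
    funext j
    simp [Finset.sum_apply, sr, Pi.single_apply]
  conv_lhs => rw [h1, map_sum]
  exact Finset.sum_congr rfl fun k _ => by rw [map_zsmul, smul_eq_mul]

theorem f_pos (hf : ∀ i, 0 < f (sr i)) {z : I → ℤ} (hz : z ∈ RGD.Pos cs h) : 0 < f z := by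
  rw [f_sum]
  obtain ⟨k, hk⟩ : ∃ k, 0 < z k := by
    by_contra hcon
    push Not at hcon
    exact hz.1.ne_zero (funext fun k => le_antisymm (hcon k) (hz.2 k))
  exact Finset.sum_pos' (fun k _ => mul_nonneg (hz.2 k) (hf k).le) ⟨k, Finset.mem_univ k, mul_pos hk (hf k)⟩

theorem sum_mem {s t z : I → ℤ} (hs : s ∈ RGD.Pos cs h) (ht : t ∈ RGD.Pos cs h) (hz : z ∈ SumR cs h s t) :
    z ∈ RGD.Pos cs h := by
  obtain ⟨hzr, i, j, hi, hj, rfl⟩ := hz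
  refine ⟨hzr, fun k => ?_⟩
  have h1 := mul_nonneg hi.le (hs.2 k)
  have h2 := mul_nonneg hj.le (ht.2 k)
  simpa using add_nonneg h1 h2

theorem f_sum_le (hf : ∀ i, 0 < f (sr i)) {s t z : I → ℤ} (hs : s ∈ RGD.Pos cs h) (ht : t ∈ RGD.Pos cs h)
    (hz : z ∈ SumR cs h s t) : f s + f t ≤ f z := by
  obtain ⟨hzr, i, j, hi, hj, rfl⟩ := hz
  have h1 := f_pos hf hs
  have h2 := f_pos hf ht
  rw [map_add, map_zsmul, map_zsmul, smul_eq_mul, smul_eq_mul]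
  nlinarith

theorem f_sum_lt (hf : ∀ i, 0 < f (sr i)) {s t z : I → ℤ} (hs : s ∈ RGD.Pos cs h) (ht : t ∈ RGD.Pos cs h)
    (hz : z ∈ SumR' cs h s t) : f s + f t + 1 ≤ f z := by
  obtain ⟨hzr, i, j, hi, hj, hij, rfl⟩ := hz
  have h1 := f_pos hf hs
  have h2 := f_pos hf ht
  rw [map_add, map_zsmul, map_zsmul, smul_eq_mul, smul_eq_mul]
  have h3 : 1 ≤ i - 1 ∨ 1 ≤ j - 1 := by omega
  rcases h3 with h3 | h3
  · nlinarith
  · nlinarith

variable (S : Strict cs h X) (hf : ∀ i, 0 < f (sr i))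

include S hf

theorem conj_F {t : ℤ} {r : I → ℤ} (hr : r ∈ RGD.Pos cs h) : X r ≤ Subgroup.normalizer (F cs h X f t : Set Y) := by
  have key : ∀ a ∈ X r, ∀ b ∈ F cs h X f t, a * b * a⁻¹ ∈ F cs h X f t := by
    intro a ha b hb
    have h1 : F cs h X f t ≤ (F cs h X f t).comap (MulAut.conj a).toMonoidHom := by
      refine RGD.Sup_le fun z hz b hb => ?_
      rw [Subgroup.mem_comap]
      show a * b * a⁻¹ ∈ F cs h X f t
      have e : a * b * a⁻¹ = ⁅a, b⁆ * b := by rw [commutatorElement_def]; group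
      rw [e]
      refine mul_mem ?_ (X_le_F hz.1 hz.2 hb)
      by_cases hrz : r = z
      · subst hrz
        have : ⁅a, b⁆ = 1 := by
          rw [commutatorElement_eq_one_iff_mul_comm]; exact S.ab r hr a ha b hb
        rw [this]; exact one_mem _
      · refine RGD.Sup_mono (fun y hy => ?_) (S.comm r hr z hz.1 hrz a ha b hb)
        refine ⟨sum_mem hr hz.1 hy, ?_⟩
        have h2 := f_sum_le hf hr hz.1 hy
        have h3 := f_pos hf hr
        have h4 := hz.2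
        omega
    exact h1 hb
  intro a ha
  rw [Subgroup.mem_normalizer_iff]
  intro b
  refine ⟨key a ha b, fun hb => ?_⟩
  have := key a⁻¹ (inv_mem ha) _ hb
  have e : a⁻¹ * (a * b * a⁻¹) * a⁻¹⁻¹ = b := by group
  rwa [e] at this

theorem F_normal {s t : ℤ} : F cs h X f s ≤ Subgroup.normalizer (F cs h X f t : Set Y) :=
  RGD.Sup_le fun _ hz => conj_F S hf hz.1

/-- `⁅F s, F t⁆ ≤ F (s + t)` -/
theorem comm_F (s t : ℤ) : ⁅F cs h X f s, F cs h X f t⁆ ≤ F cs h X f (s + t) := by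
  unfold F RGD.Sup
  refine commutator_le_both (fun z => conj_F S hf z.2.1) (fun z => conj_F S hf z.2.1) ?_
  rintro ⟨z, hz, hz1⟩ ⟨y, hy, hy1⟩
  rw [Subgroup.commutator_le]
  intro a ha b hb
  by_cases hzy : z = y
  · subst hzy
    have : ⁅a, b⁆ = 1 := by
      rw [commutatorElement_eq_one_iff_mul_comm]; exact S.ab z hz a ha b hb
    rw [this]; exact one_mem _
  · refine RGD.Sup_mono (fun x hx => ?_) (S.comm z hz y hy hzy a ha b hb)
    refine ⟨sum_mem hz hy hx, ?_⟩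
    have h2 := f_sum_le hf hz hy hx
    omega

omit S hf in
/-- `x` has leading root `r` -/
def Ldg (cs : CoxeterSystem M W) (h : IsCartan M A) (X : (I → ℤ) → Subgroup Y) (f : (I → ℤ) →+ ℤ)
    (r : I → ℤ) (x : Y) : Prop :=
  r ∈ RGD.Pos cs h ∧ ∃ a ∈ X r, a ≠ 1 ∧ ∃ o ∈ F cs h X f (f r + 1), x = a * o

theorem lead_comm {r s : I → ℤ} {x y : Y} (hx : Ldg cs h X f r x) (hy : Ldg cs h X f s y)
    (hc : Cst cs h X r s) : Ldg cs h X f (r + s) ⁅x, y⁆ := by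
  obtain ⟨hr, a, ha, ha1, o, ho, rfl⟩ := hx
  obtain ⟨hs, b, hb, hb1, q, hq, rfl⟩ := hy
  obtain ⟨hrs, hc⟩ := hc
  obtain ⟨d, hd, hd1, e, he, hde⟩ := hc a ha ha1 b hb hb1
  have hrsP : r + s ∈ RGD.Pos cs h := ⟨hrs, add_nonneg hr.2 hs.2⟩
  refine ⟨hrsP, d, hd, hd1, ?_⟩
  set N : Subgroup Y := F cs h X f (f (r + s) + 1) with hN
  have hfrs : f (r + s) = f r + f s := map_add f r s
  have hbF : b ∈ F cs h X f (f s) := X_le_F hs le_rfl hb
  have haF : a ∈ F cs h X f (f r) := X_le_F hr le_rfl ha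
  have hqF : q ∈ F cs h X f (f s) := F_mono (by omega) hq
  have h1 : ⁅o, b * q⁆ ∈ N := by
    have := comm_F S hf (f r + 1) (f s) (Subgroup.commutator_mem_commutator ho (mul_mem hbF hqF))
    rw [hN, hfrs]
    exact F_mono (by omega) this
  have h2 : ⁅a, q⁆ ∈ N := by
    have := comm_F S hf (f r) (f s + 1) (Subgroup.commutator_mem_commutator haF hq)
    rw [hN, hfrs]
    exact F_mono (by omega) this
  have h3 : e ∈ N := RGD.Sup_mono (fun z hz => by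
    have h4 := f_sum_lt hf hr hs hz
    obtain ⟨hz1, i, j, hi, hj, -, hz2⟩ := hz
    exact ⟨sum_mem hr hs ⟨hz1, i, j, hi, hj, hz2⟩, by omega⟩) he
  have hc' : ∀ g ∈ F cs h X f 0, ∀ u ∈ N, g * u * g⁻¹ ∈ N := fun g hg u hu =>
    (Subgroup.mem_normalizer_iff.1 (F_normal S hf hg) u).1 hu
  have hF0 : ∀ {z : I → ℤ}, z ∈ RGD.Pos cs h → X z ≤ F cs h X f 0 := fun {z} hz =>
    X_le_F hz (f_pos hf hz).le
  refine ⟨d⁻¹ * (a * ⁅o, b * q⁆ * a⁻¹) * d⁻¹⁻¹ * (e * (b * ⁅a, q⁆ * b⁻¹)), ?_, ?_⟩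
  · refine mul_mem (hc' d⁻¹ (inv_mem (hF0 hrsP hd)) _ (hc' a (hF0 hr ha) _ h1)) (mul_mem h3 (hc' b (hF0 hs hb) _ h2))
  · have e1 : ⁅a * o, b * q⁆ = (a * ⁅o, b * q⁆ * a⁻¹) * (⁅a, b⁆ * (b * ⁅a, q⁆ * b⁻¹)) := by
      simp only [commutatorElement_def]; group
    rw [e1, hde]; group

omit hf in
/-- a nontrivial element of a root group -/
theorem lead_of_mem {r : I → ℤ} (hr : r ∈ RGD.Pos cs h) {a : Y} (ha : a ∈ X r) (ha1 : a ≠ 1) : Ldg cs h X f r a :=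
  ⟨hr, a, ha, ha1, 1, one_mem _, (mul_one a).symm⟩

omit S hf in
/-- leading roots are unique in the weak sense that an element with a leading root is not `1` -/
theorem lead_ne_one (hinf : ∀ r ∈ RGD.Pos cs h, X r ⊓ F cs h X f (f r + 1) = ⊥) {r : I → ℤ} {x : Y}
    (hx : Ldg cs h X f r x) : x ≠ 1 := by
  obtain ⟨hr, a, ha, ha1, o, ho, rfl⟩ := hx
  intro h1
  apply ha1
  have h2 : a ∈ X r ⊓ F cs h X f (f r + 1) := by
    refine Subgroup.mem_inf.2 ⟨ha, ?_⟩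
    rw [eq_inv_of_mul_eq_one_left h1]
    exact inv_mem ho
  rwa [hinf r hr, Subgroup.mem_bot] at h2

omit S hf in
/-- `r` is the leading root of an element of `X0` -/
def Idl (cs : CoxeterSystem M W) (h : IsCartan M A) (X : (I → ℤ) → Subgroup Y) (f : (I → ℤ) →+ ℤ) (X0 : Subgroup Y)
    (r : I → ℤ) : Prop := ∃ x ∈ X0, Ldg cs h X f r x

/-- the leading roots form an ideal -/
theorem Idl.add [Finite W] (R : RGD cs h p T n X) {X0 : Subgroup Y}
    (hn : ∀ g ∈ RGD.Sup X (RGD.Pos cs h), ∀ x ∈ X0, g * x * g⁻¹ ∈ X0) {r s : I → ℤ} (hr : Idl cs h X f X0 r)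
    (hs : s ∈ RGD.Pos cs h) (hc : Cst cs h X r s) : Idl cs h X f X0 (r + s) := by
  obtain ⟨x, hx, hL⟩ := hr
  obtain ⟨b, hb, hb1⟩ := exists_ne R hs.1
  refine ⟨⁅x, b⁆, ?_, lead_comm S hf hL (lead_of_mem S hs hb hb1) hc⟩
  have e : ⁅x, b⁆ = x * (b * x⁻¹ * b⁻¹) := by rw [commutatorElement_def]; group
  rw [e]
  exact mul_mem hx (hn b (RGD.le_Sup hs hb) _ (inv_mem hx))

/-- the leading roots are pairwise not linked -/
theorem Idl.false (hinf : ∀ r ∈ RGD.Pos cs h, X r ⊓ F cs h X f (f r + 1) = ⊥) {X0 : Subgroup Y}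
    (hab : ∀ x ∈ X0, ∀ y ∈ X0, x * y = y * x) {r s : I → ℤ} (hr : Idl cs h X f X0 r) (hs : Idl cs h X f X0 s)
    (hc : Cst cs h X r s) : False := by
  obtain ⟨x, hx, hL⟩ := hr
  obtain ⟨y, hy, hL'⟩ := hs
  refine lead_ne_one hinf (lead_comm S hf hL hL' hc) ?_
  rw [commutatorElement_eq_one_iff_mul_comm]
  exact hab x hx y hy

end Cfsg.Agent.Omega.EH3.Kf.Lead
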