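import Mathlib
import Cfsg.Agent.Nodes.MuSq
import Cfsg.Agent.Nodes.ShortSum
import Cfsg.Agent.Nodes.Unique
import Cfsg.Agent.Nodes.CardSup

/-!
# Root group data with root groups of order 2, no label 6 (helper532)

* `btwn_cases` : the roots between two roots;
* `Dat` : root group datum, all root groups of order `2`, no label `6`; `u X x` the nontrivial element of `X x`;
* `comm_of_nonneg` : `u x`, `u y` commute if `⟨y, x^∨⟩ ≥ 0`;
* `comm_one_one`, `comm_one_two`, `comm_two_one` : the other commutators, exactly.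
-/

set_option autoImplicit false
set_option linter.unusedSectionVars false

namespace Cfsg.Agent.Omega.EH3.Kf.Two

open CoxeterSystem Cfsg.Agent.ChevalleyStructure.CoxeterGeom Cfsg.Agent.Tits.Roots Cfsg.Agent.Tits.Core
  Cfsg.Agent.Tits.RootComb Cfsg.Agent.Nodes.Comb Cfsg.Agent.Nodes.Reps Cfsg.Agent.Nodes.BNOf
  Cfsg.Agent.Nodes.RGDLib Cfsg.Agent.Nodes.SubComb Cfsg.Agent.Nodes.Sub Cfsg.Agent.Nodes.PosPair
  Cfsg.Agent.Nodes.ZFam Cfsg.Agent.Nodes.Coroot Cfsg.Agent.Nodes.PairOf Cfsg.Agent.Nodes.MuSq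
  Cfsg.Agent.Nodes.OppDec Cfsg.Agent.Nodes.ShortSum
open scoped commutatorElement

variable {I W Y : Type*} [Fintype I] [DecidableEq I] [Group W] [Group Y] {M : CoxeterMatrix I}
  {cs : CoxeterSystem M W} {A : I → I → ℤ} {h : IsCartan M A} {T : Subgroup Y} {n : I → Y}
  {X : (I → ℤ) → Subgroup Y}

/-! ### Roots between two roots -/

/-- `⟨y, α_i^∨⟩` for the root `l` -/
def PP (a0 : ℤ) (c : ℤ × ℤ) : ℤ := 2 * c.1 - a0 * c.2

/-- `b0 |y|² / |α_i|²` -/
def NN (a0 b0 : ℤ) (c : ℤ × ℤ) : ℤ := b0 * (c.1 * c.1) - a0 * b0 * (c.1 * c.2) + a0 * (c.2 * c.2)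

/-- the table -/
def Res (a0 b0 : ℤ) (c r : ℤ × ℤ) : Prop :=
  (PP a0 c = 0 ∧ b0 ≠ 0 ∧ NN a0 b0 c = b0 ∧ ((r.1 = 1 + c.1 ∧ r.2 = c.2) ∨ (2 * r.1 = 1 + c.1 ∧ 2 * r.2 = c.2))) ∨
  (PP a0 c = -1 ∧ b0 ≠ 0 ∧ NN a0 b0 c = b0 ∧ r.1 = 1 + c.1 ∧ r.2 = c.2) ∨
  (PP a0 c = -1 ∧ b0 ≠ 0 ∧ 2 * NN a0 b0 c = b0 ∧ ((r.1 = 1 + c.1 ∧ r.2 = c.2) ∨ (r.1 = 1 + 2 * c.1 ∧ r.2 = 2 * c.2))) ∨
  (PP a0 c = -2 ∧ b0 ≠ 0 ∧ NN a0 b0 c = 2 * b0 ∧ ((r.1 = 1 + c.1 ∧ r.2 = c.2) ∨ (r.1 = 2 + c.1 ∧ r.2 = c.2)))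

instance (a0 b0 : ℤ) (c r : ℤ × ℤ) : Decidable (Res a0 b0 c r) := by unfold Res; infer_instance

/-- the root `l` is not `± α_i` -/
def HL (a0 b0 : ℤ) (l : ℕ) : Prop := 1 ≤ l ∧ co a0 b0 l ≠ (1, 0) ∧ co a0 b0 l ≠ (-1, 0)

instance (a0 b0 : ℤ) (l : ℕ) : Decidable (HL a0 b0 l) := by unfold HL; infer_instance

/-- the root `r` is strictly between `α_i` and the root `l` -/
def HR (a0 b0 : ℤ) (l r : ℕ) : Prop := 0 < (co a0 b0 r).2 * (co a0 b0 l).2 ∧
    0 < ((co a0 b0 r).1 * (co a0 b0 l).2 - (co a0 b0 r).2 * (co a0 b0 l).1) * (co a0 b0 l).2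

instance (a0 b0 : ℤ) (l r : ℕ) : Decidable (HR a0 b0 l r) := by unfold HR; infer_instance

def Tab (m : ℕ) (a0 b0 : ℤ) : Prop :=
  ∀ l, l < 2 * m + 1 → HL a0 b0 l → ∀ r, r < 2 * m + 1 → HR a0 b0 l r → Res a0 b0 (co a0 b0 l) (co a0 b0 r)

instance (m : ℕ) (a0 b0 : ℤ) : Decidable (Tab m a0 b0) := by unfold Tab; infer_instance

omit [Fintype I] [DecidableEq I] in
theorem tab (h6 : ∀ i j, M i j ≠ 6) (h : IsCartan M A) {i j : I} (hij : i ≠ j) :
    Tab (M i j) (-A i j) (-A j i) := by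
  rcases h.rel i j hij with ⟨h0, h1, h2⟩ | ⟨h0, h1, h2⟩ | ⟨h0, ⟨h1, h2⟩ | ⟨h1, h2⟩⟩ | ⟨h0, ⟨h1, h2⟩ | ⟨h1, h2⟩⟩ <;>
    first
    | exact absurd h0 (h6 i j)
    | (rw [h0, h1, h2]; decide)

theorem btwn_aux [Fintype W] (h6 : ∀ i j, M i j ≠ 6) {x y : I → ℤ} (hx : IsRoot cs h x) (hy : IsRoot cs h y)
    (hne : x ≠ y) (hne' : x ≠ -y) {z : I → ℤ} (hz : Btwn cs h x y z) :
    (cpr cs h y x = 0 ∧ form cs h x x = form cs h y y ∧ (z = x + y ∨ (2 : ℤ) • z = x + y)) ∨
    (cpr cs h y x = -1 ∧ form cs h x x = form cs h y y ∧ z = x + y) ∨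
    (cpr cs h y x = -1 ∧ form cs h x x = 2 * form cs h y y ∧ (z = x + y ∨ z = x + (2 : ℤ) • y)) ∨
    (cpr cs h y x = -2 ∧ 2 * form cs h x x = form cs h y y ∧ (z = x + y ∨ z = (2 : ℤ) • x + y)) := by
  obtain ⟨w, i, j, hij, hwx, ⟨l, hl1, hl2, hwy⟩, hall⟩ := exists_std cs h hx hy hne hne'
  obtain ⟨hzr, m, c, d, hm, hc, hd, e⟩ := hz
  obtain ⟨r, hr1, hr2, hwz⟩ := hall z hzr m hm c d e
  have hT := tab h6 h hij l hl2
  have hyi := (cyc_apply cs h hij l).1
  have hyj := (cyc_apply cs h hij l).2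
  have hzi := (cyc_apply cs h hij r).1
  have hzj := (cyc_apply cs h hij r).2
  have hyeq := cyc_eq cs h i j l
  have hzeq := cyc_eq cs h i j r
  set c' := (co (-A i j) (-A j i) l).1 with hc'
  set d' := (co (-A i j) (-A j i) l).2 with hd'
  set e' := (co (-A i j) (-A j i) r).1 with he'
  set f' := (co (-A i j) (-A j i) r).2 with hf'
  have h1 : co (-A i j) (-A j i) l ≠ (1, 0) := by
    intro h0
    have e1 : c' = 1 := by rw [hc', h0]
    have e2 : d' = 0 := by rw [hd', h0]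
    apply hne
    apply rep_injective_apply cs h w
    rw [hwx, hwy, hyeq, e1, e2]
    module
  have h2 : co (-A i j) (-A j i) l ≠ (-1, 0) := by
    intro h0
    have e1 : c' = -1 := by rw [hc', h0]
    have e2 : d' = 0 := by rw [hd', h0]
    apply hne'
    apply rep_injective_apply cs h w
    rw [map_neg, hwx, hwy, hyeq, e1, e2]
    module
  have h3 : cpr cs h y x = 2 * c' - (-A i j) * d' := by
    have h4 := cpr_rep cs h w y hx
    rw [hwx, cpr_sr, hwy, hyeq, pairing_add, pairing_smul, pairing_smul, pairing_sr', pairing_sr', h.diag] at h4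
    linarith
  have hsym : A i j * form cs h (sr i) (sr i) = A j i * form cs h (sr j) (sr j) := by
    have h4 := two_form cs h i (sr j)
    have h5 := two_form cs h j (sr i)
    rw [pairing_sr'] at h4 h5
    rw [← h4, ← h5, form_comm]
  have hyy : form cs h y y = c' * c' * form cs h (sr i) (sr i) + A i j * (c' * d') * form cs h (sr i) (sr i) +
      d' * d' * form cs h (sr j) (sr j) := by
    have h4 : form cs h y y = form cs h (cyc cs h i j l) (cyc cs h i j l) := by rw [← hwy, form_rep]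
    have h5 := two_form cs h i (sr j)
    rw [pairing_sr'] at h5
    rw [h4, hyeq, form_add_left, form_add_right, form_add_right, form_smul_left, form_smul_right, form_smul_left,
      form_smul_right, form_smul_left, form_smul_right, form_smul_left, form_smul_right,
      form_comm cs h (sr i) (sr j)]
    linear_combination (c' * d') * h5
  have hxx : form cs h x x = form cs h (sr i) (sr i) := by rw [← hwx, form_rep]
  have hN : (-A j i) * form cs h y y = NN (-A i j) (-A j i) (co (-A i j) (-A j i) l) * form cs h x x := by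
    unfold NN
    rw [← hc', ← hd', hyy, hxx]
    linear_combination (d' * d') * hsym
  -- coordinates of the relation
  have he2 := congrArg (rep cs h w) e
  rw [map_add, map_smul, map_smul, map_smul, hwx, hwy, hwz] at he2
  have ei := congrFun he2 i
  have ej := congrFun he2 j
  simp only [Pi.add_apply, Pi.smul_apply, smul_eq_mul, hyi, hyj, hzi, hzj, sr_self, sr_ne hij.symm] at ei ej
  have hd0 : d' ≠ 0 := by
    intro h0
    rw [h0, zero_smul, add_zero] at hyeq
    have h5 : rep cs h w y = c' • sr i := by rw [hwy, hyeq]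
    rcases eq_or_eq_neg_of_smul cs h (hx.act w) (hy.act w) (a := c') (b := 1) (by
      intro hc0
      rw [hc0, zero_smul] at h5
      exact (hy.act w).ne_zero h5) (by rw [one_smul, h5, hwx]) with h6 | h6
    · exact hne (rep_injective_apply cs h w h6)
    · exact hne' (rep_injective_apply cs h w (by rw [map_neg]; exact h6))
  have hdd : 0 < d' * d' := mul_self_pos.2 hd0
  have p1 : 0 < f' * d' := by
    have h5 : m * (f' * d') = d * (d' * d') := by linear_combination d' * ej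
    have h6 : 0 < m * (f' * d') := by rw [h5]; exact mul_pos hd hdd
    exact (mul_pos_iff_of_pos_left hm).1 h6
  have p2 : 0 < (e' * d' - f' * c') * d' := by
    have h5 : m * ((e' * d' - f' * c') * d') = c * (d' * d') := by
      linear_combination (d' * d') * ei - (c' * d') * ej
    have h6 : 0 < m * ((e' * d' - f' * c') * d') := by rw [h5]; exact mul_pos hc hdd
    exact (mul_pos_iff_of_pos_left hm).1 h6
  have hR := hT ⟨hl1, h1, h2⟩ r hr2 ⟨p1, p2⟩
  unfold Res at hR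
  rw [show PP (-A i j) (co (-A i j) (-A j i) l) = cpr cs h y x from h3.symm] at hR
  rw [← hc', ← hd', ← he', ← hf'] at hR
  have q1 : e' = 1 + c' ∧ f' = d' → z = x + y := by
    rintro ⟨e1, e2⟩
    apply rep_injective_apply cs h w
    rw [map_add, hwx, hwy, hwz, hyeq, hzeq, e1, e2]
    module
  have q2 : 2 * e' = 1 + c' ∧ 2 * f' = d' → (2 : ℤ) • z = x + y := by
    rintro ⟨e1, e2⟩
    apply rep_injective_apply cs h w
    rw [map_add, map_smul, hwx, hwy, hwz, hyeq, hzeq, smul_add, smul_smul, smul_smul, e1, e2]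
    module
  have q3 : e' = 1 + 2 * c' ∧ f' = 2 * d' → z = x + (2 : ℤ) • y := by
    rintro ⟨e1, e2⟩
    apply rep_injective_apply cs h w
    rw [map_add, map_smul, hwx, hwy, hwz, hyeq, hzeq, e1, e2]
    module
  have q4 : e' = 2 + c' ∧ f' = d' → z = (2 : ℤ) • x + y := by
    rintro ⟨e1, e2⟩
    apply rep_injective_apply cs h w
    rw [map_add, map_smul, hwx, hwy, hwz, hyeq, hzeq, e1, e2]
    module
  rcases hR with ⟨g1, g2, g3, g4⟩ | ⟨g1, g2, g3, g4⟩ | ⟨g1, g2, g3, g4⟩ | ⟨g1, g2, g3, g4⟩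
  · refine Or.inl ⟨g1, ?_, g4.imp q1 q2⟩
    rw [g3] at hN
    exact (mul_left_cancel₀ g2 hN).symm
  · refine Or.inr (Or.inl ⟨g1, ?_, q1 g4⟩)
    rw [g3] at hN
    exact (mul_left_cancel₀ g2 hN).symm
  · refine Or.inr (Or.inr (Or.inl ⟨g1, ?_, g4.imp q1 q3⟩))
    refine mul_left_cancel₀ g2 ?_
    rw [mul_left_comm, hN, ← mul_assoc, g3]
  · refine Or.inr (Or.inr (Or.inr ⟨g1, ?_, g4.imp q1 q4⟩))
    refine mul_left_cancel₀ g2 ?_
    rw [hN, g3]; ring

/-- **The roots between two roots.** -/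
theorem btwn_cases [Finite W] (h6 : ∀ i j, M i j ≠ 6) {x y : I → ℤ} (hx : IsRoot cs h x) (hy : IsRoot cs h y)
    (hne : x ≠ y) (hne' : x ≠ -y) {z : I → ℤ} (hz : Btwn cs h x y z) :
    (cpr cs h y x = 0 ∧ (z = x + y ∨ (2 : ℤ) • z = x + y)) ∨
    (cpr cs h y x = -1 ∧ cpr cs h x y = -1 ∧ z = x + y) ∨
    (cpr cs h y x = -1 ∧ cpr cs h x y = -2 ∧ (z = x + y ∨ z = x + (2 : ℤ) • y)) ∨
    (cpr cs h y x = -2 ∧ cpr cs h x y = -1 ∧ (z = x + y ∨ z = (2 : ℤ) • x + y)) := by
  have := Fintype.ofFinite W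
  have e1 := two_form_cpr cs h y hx
  have e2 := two_form_cpr cs h x hy
  have hy0 := (form_pos cs h hy.ne_zero).ne'
  rw [form_comm cs h y x] at e1
  rcases btwn_aux h6 hx hy hne hne' hz with ⟨g1, g2, g3⟩ | ⟨g1, g2, g3⟩ | ⟨g1, g2, g3⟩ | ⟨g1, g2, g3⟩
  · exact Or.inl ⟨g1, g3⟩
  · refine Or.inr (Or.inl ⟨g1, mul_right_cancel₀ hy0 ?_, g3⟩)
    rw [g1, g2] at e1; linarith
  · refine Or.inr (Or.inr (Or.inl ⟨g1, mul_right_cancel₀ hy0 ?_, g3⟩))
    rw [g1, g2] at e1; linarith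
  · refine Or.inr (Or.inr (Or.inr ⟨g1, mul_right_cancel₀ hy0 ?_, g3⟩))
    rw [g1] at e1; linarith

theorem not_btwn_of_pos [Finite W] (h6 : ∀ i j, M i j ≠ 6) {x y : I → ℤ} (hx : IsRoot cs h x) (hy : IsRoot cs h y)
    (hne : x ≠ y) (hne' : x ≠ -y) (hp : 0 < cpr cs h y x) (z : I → ℤ) : ¬ Btwn cs h x y z := by
  intro hz
  rcases btwn_cases h6 hx hy hne hne' hz with ⟨g, -⟩ | ⟨g, -, -⟩ | ⟨g, -, -⟩ | ⟨g, -, -⟩ <;> omega

theorem ne_neg_of_cpr [Finite W] {x y : I → ℤ} (hx : IsRoot cs h x) (hp : -2 < cpr cs h y x) : x ≠ -y := by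
  intro e
  have h1 : y = -x := by rw [e, neg_neg]
  rw [h1, cpr_neg cs h x hx, cpr_self cs h hx] at hp
  omega

/-- the Cartan numbers of two roots at an obtuse angle -/
theorem neg_cases [Finite W] (h6 : ∀ i j, M i j ≠ 6) {x y : I → ℤ} (hx : IsRoot cs h x) (hy : IsRoot cs h y)
    (hne' : x ≠ -y) (hp : cpr cs h y x < 0) :
    (cpr cs h y x = -1 ∧ cpr cs h x y = -1) ∨ (cpr cs h y x = -1 ∧ cpr cs h x y = -2) ∨
      (cpr cs h y x = -2 ∧ cpr cs h x y = -1) := by
  have hne : x ≠ y := by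
    rintro rfl
    rw [cpr_self cs h hx] at hp
    omega
  have hz : Btwn cs h x y (y - cpr cs h y x • x) :=
    ⟨isRoot_refl cs h hy hx, 1, -cpr cs h y x, 1, one_pos, by omega, one_pos, by module⟩
  rcases btwn_cases h6 hx hy hne hne' hz with ⟨g, -⟩ | ⟨g, g', -⟩ | ⟨g, g', -⟩ | ⟨g, g', -⟩
  · omega
  · exact Or.inl ⟨g, g'⟩
  · exact Or.inr (Or.inl ⟨g, g'⟩)
  · exact Or.inr (Or.inr ⟨g, g'⟩)

/-! ### The datum -/

/-- the nontrivial element of `X x` (`1` if there is none) -/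
noncomputable def u (X : (I → ℤ) → Subgroup Y) (x : I → ℤ) : Y := by
  classical
  exact if hx : ∃ g ∈ X x, g ≠ 1 then Classical.choose hx else 1

/-- Root group datum with root groups of order `2`, no label `6`. -/
structure Dat (cs : CoxeterSystem M W) {A : I → I → ℤ} (h : IsCartan M A) (T : Subgroup Y) (n : I → Y)
    (X : (I → ℤ) → Subgroup Y) : Prop where
  rgd : RGD cs h 2 T n X
  two : ∀ i, Nat.card (X (sr i)) = 2
  six : ∀ i j, M i j ≠ 6

section

variable (D : Dat cs h T n X)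

include D

theorem Dat.card {x : I → ℤ} (hx : IsRoot cs h x) : Nat.card (X x) = 2 := by
  obtain ⟨w, i, rfl⟩ := hx
  obtain ⟨g, hg⟩ := exists_rp cs D.rgd.nsys w
  rw [← D.rgd.conj_rp hg (isRoot_sr cs h i), Cfsg.Agent.Nodes.CardSup.card_cj]
  exact D.two i

theorem Dat.exists_ne {x : I → ℤ} (hx : IsRoot cs h x) : ∃ g ∈ X x, g ≠ 1 := by
  obtain ⟨y, hy, -⟩ := (Nat.card_eq_two_iff' (1 : X x)).1 (D.card hx)
  exact ⟨y, y.2, fun e => hy (Subtype.ext e)⟩

theorem Dat.u_mem {x : I → ℤ} (hx : IsRoot cs h x) : u X x ∈ X x := by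
  unfold u
  rw [dif_pos (D.exists_ne hx)]
  exact (Classical.choose_spec (D.exists_ne hx)).1

theorem Dat.u_ne {x : I → ℤ} (hx : IsRoot cs h x) : u X x ≠ 1 := by
  unfold u
  rw [dif_pos (D.exists_ne hx)]
  exact (Classical.choose_spec (D.exists_ne hx)).2

theorem Dat.eq_u {x : I → ℤ} (hx : IsRoot cs h x) {g : Y} (hg : g ∈ X x) (hg1 : g ≠ 1) : g = u X x := by
  obtain ⟨y, -, hy⟩ := (Nat.card_eq_two_iff' (1 : X x)).1 (D.card hx)
  have h1 := hy ⟨g, hg⟩ (fun e => hg1 (congrArg Subtype.val e))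
  have h2 := hy ⟨u X x, D.u_mem hx⟩ (fun e => D.u_ne hx (congrArg Subtype.val e))
  exact congrArg Subtype.val (h1.trans h2.symm)

theorem Dat.mem_iff {x : I → ℤ} (hx : IsRoot cs h x) {g : Y} : g ∈ X x ↔ g = 1 ∨ g = u X x := by
  constructor
  · intro hg
    by_cases h1 : g = 1
    · exact Or.inl h1
    · exact Or.inr (D.eq_u hx hg h1)
  · rintro (rfl | rfl)
    · exact one_mem _
    · exact D.u_mem hx

theorem Dat.u_sq {x : I → ℤ} (hx : IsRoot cs h x) : u X x * u X x = 1 := by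
  by_contra h1
  have h2 := D.eq_u hx (mul_mem (D.u_mem hx) (D.u_mem hx)) h1
  exact D.u_ne hx (mul_eq_left.1 h2)

theorem Dat.u_inv {x : I → ℤ} (hx : IsRoot cs h x) : (u X x)⁻¹ = u X x :=
  inv_eq_of_mul_eq_one_right (D.u_sq hx)

theorem Dat.conj_u {w : W} {k : Y} (hk : Rp cs D.rgd.nsys w k) {x : I → ℤ} (hx : IsRoot cs h x) :
    k * u X x * k⁻¹ = u X (rep cs h w x) := by
  refine D.eq_u (hx.act w) (D.rgd.conj_mem hk hx (D.u_mem hx)) fun e => D.u_ne hx ?_
  have : u X x = k⁻¹ * (k * u X x * k⁻¹) * k := by group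
  rw [this, e]; group

theorem Dat.u_inj [Finite W] {x y : I → ℤ} (hx : IsRoot cs h x) (hy : IsRoot cs h y) (e : u X x = u X y) : x = y := by
  by_contra hne
  have h1 : u X x ∈ X x ⊓ X y := ⟨D.u_mem hx, e ▸ D.u_mem hy⟩
  rw [X_inf_X D.rgd hx hy hne, Subgroup.mem_bot] at h1
  exact D.u_ne hx h1

/-- acute angles -/
theorem Dat.comm_of_pos [Finite W] {x y : I → ℤ} (hx : IsRoot cs h x) (hy : IsRoot cs h y)
    (hp : 0 < cpr cs h y x) : u X x * u X y = u X y * u X x := by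
  by_cases hne : x = y
  · rw [hne]
  have hne' : x ≠ -y := ne_neg_of_cpr hx (by omega)
  exact commutatorElement_eq_one_iff_mul_comm.1
    (comm_of_no_btwn D.rgd hx hy hne hne' (not_btwn_of_pos D.six hx hy hne hne' hp) _ (D.u_mem hx) _ (D.u_mem hy))

/-! ### Orthogonal roots -/

omit D in
theorem Sq.swap' [Fintype W] {m : ℤ} {y₁ y₂ x b : I → ℤ} (S : Sq cs h m y₁ y₂ x b) : Sq cs h m y₂ y₁ x (-b) where
  pos := S.pos
  root₁ := S.root₂
  root₂ := S.root₁
  root := S.root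
  rootb := S.rootb.neg
  orth := by rw [form_comm]; exact S.orth
  len := S.len.symm
  add := by rw [S.add]; abel
  sub := by rw [smul_neg, S.sub]; abel

theorem Dat.orth_aux [Fintype W] {m : ℤ} {y₁ y₂ x b : I → ℤ} (S : Sq cs h m y₁ y₂ x b)
    (hc : ⁅u X y₁, u X y₂⁆ = u X x) : u X b * u X y₁ * (u X b)⁻¹ = u X y₁ ∨
      u X b * u X y₁ * (u X b)⁻¹ = u X x * u X y₁ := by
  have c1 : u X x * u X y₁ = u X y₁ * u X x :=
    (D.comm_of_pos S.root₁ S.root ((cpr_pos_iff cs h x S.root₁).2 S.x₁_pos)).symm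
  have c2 : u X x * u X y₂ = u X y₂ * u X x :=
    (D.comm_of_pos S.root₂ S.root ((cpr_pos_iff cs h x S.root₂).2 S.x₂_pos)).symm
  have hcc : ∀ a ∈ X y₂, ∀ b ∈ X x, a * b = b * a := by
    intro a ha b hb
    rcases (D.mem_iff S.root₂).1 ha with rfl | rfl
    · rw [one_mul, mul_one]
    rcases (D.mem_iff S.root).1 hb with rfl | rfl
    · rw [one_mul, mul_one]
    exact c2.symm
  obtain ⟨a, ha, c, hc', e⟩ := comm_two D.rgd S.root₁ S.rootb S.ne_b.1 S.ne_b.2 (fun z hz => S.btwn' hz) hcc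
    (D.u_mem S.root₁) (D.u_mem S.rootb)
  have e1 : u X b * u X y₁ * (u X b)⁻¹ = c⁻¹ * a⁻¹ * u X y₁ := by
    have h1 : u X b * u X y₁ * (u X b)⁻¹ = ⁅u X y₁, u X b⁆⁻¹ * u X y₁ := by
      rw [commutatorElement_def]; group
    rw [h1, e, mul_inv_rev]
  have hsq : (c⁻¹ * a⁻¹ * u X y₁) * (c⁻¹ * a⁻¹ * u X y₁) = 1 := by
    rw [← e1]
    have h1 : u X b * u X y₁ * (u X b)⁻¹ * (u X b * u X y₁ * (u X b)⁻¹) =
      u X b * (u X y₁ * u X y₁) * (u X b)⁻¹ := by group
    rw [h1, D.u_sq S.root₁, mul_one, mul_inv_cancel]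
  have i1 := D.u_inv S.root₁
  have i2 := D.u_inv S.root₂
  have ix := D.u_inv S.root
  have ha1 : a = 1 := by
    rcases (D.mem_iff S.root₂).1 ha with h1 | rfl
    · exact h1
    exfalso
    apply D.u_ne S.root
    have h2 : (u X y₂ * u X y₁) * (u X y₂ * u X y₁) = 1 := by
      rcases (D.mem_iff S.root).1 hc' with rfl | rfl
      · rwa [inv_one, one_mul, i2] at hsq
      · rw [i2, ix] at hsq
        have h3 : u X x * u X y₂ * u X y₁ * (u X x * u X y₂ * u X y₁) =
            (u X x * u X x) * ((u X y₂ * u X y₁) * (u X y₂ * u X y₁)) := by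
          calc u X x * u X y₂ * u X y₁ * (u X x * u X y₂ * u X y₁)
              = u X x * u X y₂ * (u X y₁ * u X x) * (u X y₂ * u X y₁) := by group
            _ = u X x * (u X y₂ * u X x) * u X y₁ * (u X y₂ * u X y₁) := by rw [← c1]; group
            _ = _ := by rw [← c2]; group
        rw [h3, D.u_sq S.root, one_mul] at hsq
        exact hsq
    have h3 : ⁅u X y₁, u X y₂⁆ = ((u X y₂ * u X y₁) * (u X y₂ * u X y₁))⁻¹ := by
      rw [commutatorElement_def]
      nth_rewrite 1 [← i1]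
      nth_rewrite 1 [← i2]
      group
    rw [← hc, h3, h2, inv_one]
  rw [ha1, inv_one, mul_one] at e1
  rcases (D.mem_iff S.root).1 hc' with rfl | rfl
  · left; rw [e1, inv_one, one_mul]
  · right; rw [e1, ix]

/-- orthogonal roots -/
theorem Dat.comm_of_orth [Finite W] {x y : I → ℤ} (hx : IsRoot cs h x) (hy : IsRoot cs h y)
    (hp : cpr cs h y x = 0) : u X x * u X y = u X y * u X x := by
  have := Fintype.ofFinite W
  have hne : x ≠ y := by
    rintro rfl
    rw [cpr_self cs h hx] at hp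
    omega
  have hne' : x ≠ -y := ne_neg_of_cpr hx (by omega)
  by_cases hno : ∀ z, ¬ Btwn cs h x y z
  · exact commutatorElement_eq_one_iff_mul_comm.1 (comm_of_no_btwn D.rgd hx hy hne hne' hno _ (D.u_mem hx) _ (D.u_mem hy))
  push Not at hno
  obtain ⟨z, hz⟩ := hno
  obtain ⟨m, hm, hz', hl⟩ : ∃ m : ℤ, 0 < m ∧ m • z = x + y ∧ form cs h x x = form cs h y y := by
    rcases btwn_aux D.six hx hy hne hne' hz with ⟨-, g2, g3 | g3⟩ | ⟨g1, -, -⟩ | ⟨g1, -, -⟩ | ⟨g1, -, -⟩
    · exact ⟨1, one_pos, by rw [one_smul, g3], g2⟩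
    · exact ⟨2, two_pos, g3, g2⟩
    all_goals omega
  have ho : form cs h x y = 0 := by rw [form_comm]; exact (cpr_zero_iff cs h y hx).1 hp
  have S := Sq.of_add hm hx hy hz.1 ho hl hz'
  set b := z - cpr cs h z x • x with hb
  by_contra hcon
  have hc : ⁅u X x, u X y⁆ = u X z :=
    D.eq_u hz.1 (comm_in D.rgd hx hy hne hne' (fun w hw => S.btwn hw) (D.u_mem hx) (D.u_mem hy))
      fun e => hcon (commutatorElement_eq_one_iff_mul_comm.1 e)
  have iz := D.u_inv hz.1
  have hz2 := D.u_sq hz.1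
  have c1 : u X z * u X x = u X x * u X z :=
    (D.comm_of_pos S.root₁ S.root ((cpr_pos_iff cs h z S.root₁).2 S.x₁_pos)).symm
  have c2 : u X z * u X y = u X y * u X z :=
    (D.comm_of_pos S.root₂ S.root ((cpr_pos_iff cs h z S.root₂).2 S.x₂_pos)).symm
  have hc' : ⁅u X y, u X x⁆ = u X z := by
    rw [← commutatorElement_inv, hc, iz]
  have k1 := D.orth_aux S hc
  have k2 := D.orth_aux (Sq.swap' S) hc'
  -- `-b` commutes with `x`, and with `z`
  have hbx : u X (-b) * u X x = u X x * u X (-b) := by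
    refine (D.comm_of_pos hx S.rootb.neg ?_).symm
    rw [cpr_pos_iff cs h (-b) hx, form_neg_left]
    have := S.b₁_neg
    omega
  have hbz : u X (-b) * u X z * (u X (-b))⁻¹ = u X z := by
    have h1 : u X (-b) * u X z * (u X (-b))⁻¹ =
        ⁅u X (-b) * u X x * (u X (-b))⁻¹, u X (-b) * u X y * (u X (-b))⁻¹⁆ := by
      rw [← hc, commutatorElement_def, commutatorElement_def]; group
    have h2 : u X (-b) * u X x * (u X (-b))⁻¹ = u X x := by rw [hbx, mul_inv_cancel_right]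
    rw [h1, h2]
    rcases k2 with k2 | k2
    · rw [k2, hc]
    · rw [k2]
      have h3 : ⁅u X x, u X z * u X y⁆ = ⁅u X x, u X y⁆ := by
        rw [commutatorElement_def, commutatorElement_def, mul_inv_rev]
        calc u X x * (u X z * u X y) * (u X x)⁻¹ * ((u X y)⁻¹ * (u X z)⁻¹)
            = (u X x * u X z) * u X y * (u X x)⁻¹ * (u X y)⁻¹ * (u X z)⁻¹ := by group
          _ = u X z * (u X x * u X y * (u X x)⁻¹ * (u X y)⁻¹) * (u X z)⁻¹ := by rw [← c1]; group
          _ = u X z * u X z * (u X z)⁻¹ := by rw [← commutatorElement_def, hc]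
          _ = u X x * u X y * (u X x)⁻¹ * (u X y)⁻¹ := by
              rw [← commutatorElement_def, hc]; group
      rw [h3, hc]
  have hb2 : ∀ g ∈ X (-b), g * u X x * g⁻¹ = u X x ∧ g * u X z * g⁻¹ = u X z := by
    intro g hg
    rcases (D.mem_iff S.rootb.neg).1 hg with rfl | rfl
    · constructor <;> group
    · exact ⟨by rw [hbx, mul_inv_cancel_right], hbz⟩
  obtain ⟨g, hg, g', hg', w, hw, -, hr⟩ := exists_mu' D.rgd S.rootb (D.u_mem S.rootb) (D.u_ne S.rootb)
  have hrx : rep cs h w x = y := by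
    rw [hr]
    have h1 := two_form_cpr cs h x S.rootb
    have h2 : m * (m * form cs h b b) = 2 * form cs h x x := by
      rw [← form_smul_left, ← form_smul_right, S.sub, form_sub_left, form_sub_right, form_sub_right,
        form_comm cs h y x, ho, ← hl]; ring
    have h3 : m * (m * form cs h x b) = -(m * form cs h x x) := by
      rw [form_comm cs h x b, S.form_b₁]; ring
    have h4 : cpr cs h x b = -m := by
      have h5 : (cpr cs h x b) * (2 * form cs h x x) = (-m) * (2 * form cs h x x) := by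
        rw [← h2]
        calc cpr cs h x b * (m * (m * form cs h b b)) = m * (m * (cpr cs h x b * form cs h b b)) := by ring
          _ = 2 * (m * (m * form cs h x b)) := by rw [← h1]; ring
          _ = _ := by rw [h3, h2]; ring
      have h6 := S.ypos
      exact mul_right_cancel₀ (by omega) h5
    rw [h4, neg_smul, S.sub]; abel
  have hm1 : g * u X b * g' * u X x * (g * u X b * g')⁻¹ = u X y := by
    rw [D.conj_u hw hx, hrx]
  have hm2 : g * u X b * g' * u X x * (g * u X b * g')⁻¹ =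
      g * (u X b * (g' * u X x * g'⁻¹) * (u X b)⁻¹) * g⁻¹ := by group
  rw [hm2, (hb2 g' hg').1] at hm1
  apply hcon
  rcases k1 with k1 | k1
  · rw [k1, (hb2 g hg).1] at hm1
    rw [hm1]
  · have h5 : g * (u X z * u X x) * g⁻¹ = (g * u X z * g⁻¹) * (g * u X x * g⁻¹) := by group
    rw [k1, h5, (hb2 g hg).1, (hb2 g hg).2] at hm1
    rw [← hm1]
    rw [← mul_assoc, c1, mul_assoc]

/-- **Roots at an angle of at most 90 degrees have commuting root groups.** -/
theorem Dat.comm_of_nonneg [Finite W] {x y : I → ℤ} (hx : IsRoot cs h x) (hy : IsRoot cs h y)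
    (hp : 0 ≤ cpr cs h y x) : u X x * u X y = u X y * u X x := by
  rcases hp.eq_or_lt with h0 | h0
  · exact D.comm_of_orth hx hy h0.symm
  · exact D.comm_of_pos hx hy h0

/-! ### Obtuse angles -/

omit D in
/-- `x + k y` is a root, `k = -⟨x, y^∨⟩` -/
theorem isRoot_add_smul [Finite W] {x y : I → ℤ} (hx : IsRoot cs h x) (hy : IsRoot cs h y) {k : ℤ}
    (hk : cpr cs h x y = -k) : IsRoot cs h (x + k • y) := by
  have := isRoot_refl cs h hx hy
  rwa [hk, neg_smul, sub_neg_eq_add] at this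

omit D in
theorem isRoot_add [Finite W] {x y : I → ℤ} (hx : IsRoot cs h x) (hy : IsRoot cs h y)
    (hk : cpr cs h x y = -1) : IsRoot cs h (x + y) := by
  have := isRoot_add_smul hx hy (k := 1) hk
  rwa [one_smul] at this

theorem Dat.ne_comm_of_neg [Finite W] {x y : I → ℤ} (hx : IsRoot cs h x) (hy : IsRoot cs h y)
    (hne' : x ≠ -y) (hp : cpr cs h y x < 0) : u X x * u X y ≠ u X y * u X x := by
  have := Fintype.ofFinite W
  have hne : x ≠ y := by
    rintro rfl
    rw [cpr_self cs h hx] at hp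
    omega
  intro e
  have hp' : 0 < cpr cs h y (-x) := by rw [cpr_neg_right cs h y hx]; omega
  have h1 := eq_one_of_comm D.rgd hx hy hne hne'
    (not_btwn_of_pos D.six hx.neg hy (fun e => hne' (by rw [← e, neg_neg])) (fun e => hne (neg_injective e)) hp')
    hp.ne (D.u_mem hx) (D.u_ne hx) (D.u_mem hy) e
  exact D.u_ne hy h1

/-- angle 120 degrees -/
theorem Dat.comm_one_one [Finite W] {x y : I → ℤ} (hx : IsRoot cs h x) (hy : IsRoot cs h y)
    (h1 : cpr cs h y x = -1) (h2 : cpr cs h x y = -1) : ⁅u X x, u X y⁆ = u X (x + y) := by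
  have := Fintype.ofFinite W
  have hne : x ≠ y := by
    rintro rfl
    rw [cpr_self cs h hx] at h1
    omega
  have hne' : x ≠ -y := ne_neg_of_cpr hx (by omega)
  refine D.eq_u (isRoot_add hx hy h2) (comm_in D.rgd hx hy hne hne' ?_ (D.u_mem hx) (D.u_mem hy)) ?_
  · intro z hz
    rcases btwn_cases D.six hx hy hne hne' hz with ⟨g1, -⟩ | ⟨-, -, g3⟩ | ⟨-, g2, -⟩ | ⟨g1, -, -⟩
    · omega
    · exact g3
    · omega
    · omega
  · intro e
    exact D.ne_comm_of_neg hx hy hne' (by omega) (commutatorElement_eq_one_iff_mul_comm.1 e)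

/-- angle 135 degrees, `x` long -/
theorem Dat.comm_one_two [Finite W] {x y : I → ℤ} (hx : IsRoot cs h x) (hy : IsRoot cs h y)
    (h1 : cpr cs h y x = -1) (h2 : cpr cs h x y = -2) :
    ⁅u X x, u X y⁆ = u X (x + y) * u X (x + (2 : ℤ) • y) := by
  have := Fintype.ofFinite W
  have hne : x ≠ y := by
    rintro rfl
    rw [cpr_self cs h hx] at h1
    omega
  have hne' : x ≠ -y := ne_neg_of_cpr hx (by omega)
  have r1 : IsRoot cs h (x + y) := by
    have := isRoot_add hy hx h1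
    rwa [add_comm] at this
  have r2 : IsRoot cs h (x + (2 : ℤ) • y) := isRoot_add_smul hx hy h2
  have hxx := cpr_self cs h hx
  have hyy := cpr_self cs h hy
  -- Cartan numbers
  have f1 := two_form_cpr cs h y hx
  have f2 := two_form_cpr cs h x hy
  have f0 := form_pos cs h hy.ne_zero
  rw [form_comm cs h y x] at f1
  rw [h1] at f1
  rw [h2] at f2
  have p12 : 0 < cpr cs h (x + (2 : ℤ) • y) (x + y) := by
    rw [cpr_pos_iff cs h _ r1, form_add_left, form_add_right, form_add_right, form_smul_left, form_smul_left,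
      form_comm cs h y x]
    linarith
  have c12 : u X (x + (2 : ℤ) • y) * u X (x + y) = u X (x + y) * u X (x + (2 : ℤ) • y) :=
    (D.comm_of_nonneg r1 r2 p12.le).symm
  have hcc : ∀ a ∈ X (x + y), ∀ b ∈ X (x + (2 : ℤ) • y), a * b = b * a := by
    intro a ha b hb
    rcases (D.mem_iff r1).1 ha with rfl | rfl
    · rw [one_mul, mul_one]
    rcases (D.mem_iff r2).1 hb with rfl | rfl
    · rw [one_mul, mul_one]
    exact c12.symm
  obtain ⟨a, ha, b, hb, e⟩ := comm_two D.rgd hx hy hne hne' (w₁ := x + y) (w₂ := x + (2 : ℤ) • y) (fun z hz => by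
    rcases btwn_cases D.six hx hy hne hne' hz with ⟨g1, -⟩ | ⟨-, g2, -⟩ | ⟨-, -, g3⟩ | ⟨g1, -, -⟩
    · omega
    · omega
    · exact g3
    · omega) hcc (D.u_mem hx) (D.u_mem hy)
  have q1 : cpr cs h (x + y) x = 1 := by rw [cpr_add cs h _ _ hx, hxx, h1]; norm_num
  have q2 : cpr cs h (x + (2 : ℤ) • y) x = 0 := by rw [cpr_add cs h _ _ hx, cpr_smul cs h _ _ hx, hxx, h1]; norm_num
  have q3 : cpr cs h (x + y) y = 0 := by rw [cpr_add cs h _ _ hy, hyy, h2]; norm_num
  have q4 : cpr cs h (x + (2 : ℤ) • y) y = 2 := by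
    rw [cpr_add cs h _ _ hy, cpr_smul cs h _ _ hy, hyy, h2]; norm_num
  have k1 : u X x * u X (x + y) = u X (x + y) * u X x := D.comm_of_nonneg hx r1 (by omega)
  have k2 : u X x * u X (x + (2 : ℤ) • y) = u X (x + (2 : ℤ) • y) * u X x := D.comm_of_nonneg hx r2 (by omega)
  have k3 : u X y * u X (x + y) = u X (x + y) * u X y := D.comm_of_nonneg hy r1 (by omega)
  have k4 : u X y * u X (x + (2 : ℤ) • y) = u X (x + (2 : ℤ) • y) * u X y := D.comm_of_nonneg hy r2 (by omega)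
  have hnc := D.ne_comm_of_neg hx hy hne' (by omega)
  -- `a ≠ 1`
  have ha' : a ≠ 1 := by
    intro ha1
    rw [ha1, one_mul] at e
    obtain ⟨g, hg, g', hg', w, hw, -, hr⟩ := exists_mu' D.rgd hx (D.u_mem hx) (D.u_ne hx)
    have m1 : ∀ g ∈ X (-x), g * u X y = u X y * g := by
      intro g hg
      rcases (D.mem_iff hx.neg).1 hg with rfl | rfl
      · rw [one_mul, mul_one]
      · exact D.comm_of_nonneg hx.neg hy (by rw [cpr_neg_right cs h y hx]; omega)
    have m2 : ∀ g ∈ X (-x), g * b = b * g := by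
      intro g hg
      rcases (D.mem_iff hx.neg).1 hg with rfl | rfl
      · rw [one_mul, mul_one]
      rcases (D.mem_iff r2).1 hb with rfl | rfl
      · rw [one_mul, mul_one]
      · exact D.comm_of_nonneg hx.neg r2 (by rw [cpr_neg_right cs h _ hx]; omega)
    have m3 : g * u X x * g' * u X y * (g * u X x * g')⁻¹ = u X (x + y) := by
      rw [D.conj_u hw hy, hr, h1]
      congr 1
      module
    have m4 : g * u X x * g' * u X y * (g * u X x * g')⁻¹ = b * u X y := by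
      calc g * u X x * g' * u X y * (g * u X x * g')⁻¹
          = g * u X x * (g' * u X y) * g'⁻¹ * (u X x)⁻¹ * g⁻¹ := by group
        _ = g * ⁅u X x, u X y⁆ * u X y * g⁻¹ := by rw [m1 g' hg', commutatorElement_def]; group
        _ = g * b * (u X y * g⁻¹) := by rw [e]; group
        _ = (g * b) * (g⁻¹ * u X y) := by rw [m1 _ (inv_mem hg)]
        _ = b * u X y := by rw [m2 g hg]; group
    rw [m4] at m3
    rcases (D.mem_iff r2).1 hb with rfl | rfl
    · rw [one_mul] at m3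
      have := D.u_inj hy r1 m3
      exact hx.ne_zero (right_eq_add.1 this)
    · apply hnc
      have h3 : u X y = (u X (x + (2 : ℤ) • y))⁻¹ * u X (x + y) := by rw [← m3]; group
      rw [h3, D.u_inv r2, ← mul_assoc, k2, mul_assoc, k1, ← mul_assoc]
  have hb' : b ≠ 1 := by
    intro hb1
    rw [hb1, mul_one] at e
    obtain ⟨g, hg, g', hg', w, hw, -, hr⟩ := exists_mu' D.rgd hy (D.u_mem hy) (D.u_ne hy)
    have m1 : ∀ g ∈ X (-y), g * u X x = u X x * g := by
      intro g hg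
      rcases (D.mem_iff hy.neg).1 hg with rfl | rfl
      · rw [one_mul, mul_one]
      · exact D.comm_of_nonneg hy.neg hx (by rw [cpr_neg_right cs h x hy]; omega)
    have m2 : ∀ g ∈ X (-y), g * a = a * g := by
      intro g hg
      rcases (D.mem_iff hy.neg).1 hg with rfl | rfl
      · rw [one_mul, mul_one]
      rcases (D.mem_iff r1).1 ha with rfl | rfl
      · rw [one_mul, mul_one]
      · exact D.comm_of_nonneg hy.neg r1 (by rw [cpr_neg_right cs h _ hy]; omega)
    have m3 : g * u X y * g' * u X x * (g * u X y * g')⁻¹ = u X (x + (2 : ℤ) • y) := by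
      rw [D.conj_u hw hx, hr, h2]
      congr 1
      module
    have e' : ⁅u X y, u X x⁆ = a⁻¹ := by rw [← commutatorElement_inv, e]
    have m4 : g * u X y * g' * u X x * (g * u X y * g')⁻¹ = a⁻¹ * u X x := by
      calc g * u X y * g' * u X x * (g * u X y * g')⁻¹
          = g * u X y * (g' * u X x) * g'⁻¹ * (u X y)⁻¹ * g⁻¹ := by group
        _ = g * ⁅u X y, u X x⁆ * u X x * g⁻¹ := by rw [m1 g' hg', commutatorElement_def]; group
        _ = g * a⁻¹ * (u X x * g⁻¹) := by rw [e']; group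
        _ = (g * a⁻¹) * (g⁻¹ * u X x) := by rw [m1 _ (inv_mem hg)]
        _ = (a * g⁻¹)⁻¹ * g⁻¹ * u X x := by group
        _ = a⁻¹ * u X x := by rw [← m2 _ (inv_mem hg)]; group
    rw [m4] at m3
    rcases (D.mem_iff r1).1 ha with rfl | rfl
    · rw [inv_one, one_mul] at m3
      have h3 := D.u_inj hx r2 m3
      have h4 : (2 : ℤ) • y = 0 := left_eq_add.1 h3
      exact hy.ne_zero ((smul_eq_zero.1 h4).resolve_left two_ne_zero)
    · apply hnc
      have h3 : u X x = u X (x + y) * u X (x + (2 : ℤ) • y) := by rw [← m3]; group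
      rw [h3, mul_assoc, ← k4, ← mul_assoc, ← k3, mul_assoc]
  rw [e, ← D.eq_u r1 ha ha', ← D.eq_u r2 hb hb']

/-- angle 135 degrees, `x` short -/
theorem Dat.comm_two_one [Finite W] {x y : I → ℤ} (hx : IsRoot cs h x) (hy : IsRoot cs h y)
    (h1 : cpr cs h y x = -2) (h2 : cpr cs h x y = -1) :
    ⁅u X x, u X y⁆ = u X (x + y) * u X ((2 : ℤ) • x + y) := by
  have := Fintype.ofFinite W
  have e := D.comm_one_two hy hx h2 h1
  have r1 : IsRoot cs h (x + y) := isRoot_add hx hy h2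
  have r2 : IsRoot cs h ((2 : ℤ) • x + y) := by
    have := isRoot_add_smul hy hx h1
    rwa [add_comm] at this
  rw [← commutatorElement_inv, e, mul_inv_rev, add_comm y x, add_comm y, D.u_inv r1, D.u_inv r2]
  have f1 := two_form_cpr cs h y hx
  have f2 := two_form_cpr cs h x hy
  have f0 := form_pos cs h hx.ne_zero
  rw [form_comm cs h y x] at f1
  rw [h1] at f1
  rw [h2] at f2
  have p12 : 0 < cpr cs h (x + y) ((2 : ℤ) • x + y) := by
    rw [cpr_pos_iff cs h _ r2, form_add_left, form_add_right, form_add_right, form_smul_right, form_smul_right,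
      form_comm cs h y x]
    linarith
  exact D.comm_of_nonneg r2 r1 p12.le

/-- the roots which can occur in `⁅X x, X y⁆` -/
def Cm (cs : CoxeterSystem M W) {A : I → I → ℤ} (h : IsCartan M A) (x y : I → ℤ) : Set (I → ℤ) :=
  {z | IsRoot cs h z ∧ cpr cs h y x < 0 ∧ (z = x + y ∨ z = (2 : ℤ) • x + y ∨ z = x + (2 : ℤ) • y)}

/-- the commutator of two root groups -/
theorem Dat.comm_mem [Finite W] {x y : I → ℤ} (hx : IsRoot cs h x) (hy : IsRoot cs h y) (hne' : x ≠ -y)
    {a b : Y} (ha : a ∈ X x) (hb : b ∈ X y) : ⁅a, b⁆ ∈ RGD.Sup X (Cm cs h x y) := by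
  rcases (D.mem_iff hx).1 ha with rfl | rfl
  · rw [commutatorElement_one_left]; exact one_mem _
  rcases (D.mem_iff hy).1 hb with rfl | rfl
  · rw [commutatorElement_one_right]; exact one_mem _
  by_cases hp : 0 ≤ cpr cs h y x
  · rw [commutatorElement_eq_one_iff_mul_comm.2 (D.comm_of_nonneg hx hy hp)]
    exact one_mem _
  have hp' : cpr cs h y x < 0 := not_le.1 hp
  rcases neg_cases D.six hx hy hne' hp' with ⟨h1, h2⟩ | ⟨h1, h2⟩ | ⟨h1, h2⟩
  · rw [D.comm_one_one hx hy h1 h2]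
    have r := isRoot_add hx hy h2
    exact RGD.le_Sup (show x + y ∈ Cm cs h x y from ⟨r, hp', Or.inl rfl⟩) (D.u_mem r)
  · rw [D.comm_one_two hx hy h1 h2]
    have r1 : IsRoot cs h (x + y) := by
      have := isRoot_add hy hx h1
      rwa [add_comm] at this
    have r2 : IsRoot cs h (x + (2 : ℤ) • y) := isRoot_add_smul hx hy h2
    exact mul_mem (RGD.le_Sup (show x + y ∈ Cm cs h x y from ⟨r1, hp', Or.inl rfl⟩) (D.u_mem r1))
      (RGD.le_Sup (show x + (2 : ℤ) • y ∈ Cm cs h x y from ⟨r2, hp', Or.inr (Or.inr rfl)⟩) (D.u_mem r2))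
  · rw [D.comm_two_one hx hy h1 h2]
    have r1 : IsRoot cs h (x + y) := isRoot_add hx hy h2
    have r2 : IsRoot cs h ((2 : ℤ) • x + y) := by
      have := isRoot_add_smul hy hx h1
      rwa [add_comm] at this
    exact mul_mem (RGD.le_Sup (show x + y ∈ Cm cs h x y from ⟨r1, hp', Or.inl rfl⟩) (D.u_mem r1))
      (RGD.le_Sup (show (2 : ℤ) • x + y ∈ Cm cs h x y from ⟨r2, hp', Or.inr (Or.inl rfl)⟩) (D.u_mem r2))

/-- the commutator of two root groups at an obtuse angle: the leading term is `u (x + y)` -/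
theorem Dat.comm_lead [Finite W] {x y : I → ℤ} (hx : IsRoot cs h x) (hy : IsRoot cs h y) (hne' : x ≠ -y)
    (hp : cpr cs h y x < 0) : IsRoot cs h (x + y) ∧ ∃ z, (z = (2 : ℤ) • x + y ∨ z = x + (2 : ℤ) • y) ∧
      (⁅u X x, u X y⁆ = u X (x + y) ∨ (IsRoot cs h z ∧ ⁅u X x, u X y⁆ = u X (x + y) * u X z)) := by
  rcases neg_cases D.six hx hy hne' hp with ⟨h1, h2⟩ | ⟨h1, h2⟩ | ⟨h1, h2⟩
  · exact ⟨isRoot_add hx hy h2, _, Or.inl rfl, Or.inl (D.comm_one_one hx hy h1 h2)⟩
  · refine ⟨?_, _, Or.inr rfl, Or.inr ⟨isRoot_add_smul hx hy h2, D.comm_one_two hx hy h1 h2⟩⟩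
    have := isRoot_add hy hx h1
    rwa [add_comm] at this
  · refine ⟨isRoot_add hx hy h2, _, Or.inl rfl, Or.inr ⟨?_, D.comm_two_one hx hy h1 h2⟩⟩
    have := isRoot_add_smul hy hx h1
    rwa [add_comm] at this

end

end Cfsg.Agent.Omega.EH3.Kf.Two
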