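import Mathlib
import Cfsg.Agent.KFacts.ChevTwoSys
import Cfsg.Agent.Omega.EH3.Kf.ThmA
import Cfsg.Agent.Omega.EH3.Kf.Cov
import Cfsg.Agent.Omega.EH3.Kf.Lead
import Cfsg.Agent.Omega.EH3.Kf.Two

/-!
# EH3, Lie rows in characteristic 2: leading roots of `X0` (helper134)

`Obt cs h X` : no label `6`, commutators of positive root groups involve only sums, two positive roots at an obtuse angle
have a nonzero structure constant.

* `Obt.of_dat` : root groups of order `2`; `Obt.of_sys` : every `ChevTwo.Sys`;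
* `wt k` : the weight with value `1` at `α_k` and `2` at the other simple roots;
* `idl_sr` : the node `k` moves `a` ==> `α_k` is the leading root of an element of `X0` (Theorem A);
* `idl_add` : `r` leading root of `X0`, `s > 0`, `⟨s, r^∨⟩ < 0` ==> `r + s` leading root of `X0`;
* `idl_false` : two leading roots of `X0` are never at an obtuse angle.
-/

set_option autoImplicit false
set_option linter.unusedSectionVars false
set_option linter.dupNamespace false

namespace Cfsg.Agent.Omega.EH3.Kf.Obt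

open CoxeterSystem Cfsg.Agent.ChevalleyStructure.CoxeterGeom Cfsg.Agent.Tits.Roots Cfsg.Agent.Tits.Core
  Cfsg.Agent.Tits.RootComb Cfsg.Agent.Nodes.Comb Cfsg.Agent.Nodes.Reps Cfsg.Agent.Nodes.BNOf
  Cfsg.Agent.Nodes.StabComb Cfsg.Agent.Nodes.LeviDec Cfsg.Agent.Nodes.Coroot
  Cfsg.Agent.Omega.EH3.Kf.Lead Cfsg.Agent.Omega.EH3.Kf.Base Cfsg.Agent.Omega.EH3.Kf.Two
  Cfsg.Agent.Omega.EH3.Kf.ThmA
open scoped commutatorElement

section General

variable {I W Y : Type*} [Fintype I] [DecidableEq I] [Group W] [Group Y] {M : CoxeterMatrix I}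
  {cs : CoxeterSystem M W} {A : I → I → ℤ} {h : IsCartan M A} {T : Subgroup Y} {n : I → Y}
  {X : (I → ℤ) → Subgroup Y}

theorem ne_neg_of_pos {x y : I → ℤ} (hx : x ∈ RGD.Pos cs h) (hy : y ∈ RGD.Pos cs h) : x ≠ -y := by
  intro e
  have h1 : x ≤ 0 := by rw [e]; exact neg_nonpos.2 hy.2
  exact hx.1.ne_zero (le_antisymm h1 hx.2)

/-- The leading root calculus applies. -/
structure Obt (cs : CoxeterSystem M W) (h : IsCartan M A) (X : (I → ℤ) → Subgroup Y) : Prop where
  six : ∀ i j, M i j ≠ 6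
  strict : Strict cs h X
  cst : ∀ x ∈ RGD.Pos cs h, ∀ y ∈ RGD.Pos cs h, cpr cs h y x < 0 → Cst cs h X x y

/-- root groups of order `2` -/
theorem Obt.of_dat [Finite W] (D : Dat cs h T n X) : Obt cs h X where
  six := D.six
  strict := by
    refine ⟨fun r hr a ha b hb => ?_, fun s hs t ht _ a ha b hb => ?_⟩
    · rcases (D.mem_iff hr.1).1 ha with rfl | rfl
      · rw [one_mul, mul_one]
      rcases (D.mem_iff hr.1).1 hb with rfl | rfl
      · rw [one_mul, mul_one]
      rfl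
    · refine RGD.Sup_mono (fun z hz => ?_) (D.comm_mem hs.1 ht.1 (ne_neg_of_pos hs ht) ha hb)
      obtain ⟨hz, -, rfl | rfl | rfl⟩ := hz
      · exact ⟨hz, 1, 1, by norm_num, by norm_num, by rw [one_smul, one_smul]⟩
      · exact ⟨hz, 2, 1, by norm_num, by norm_num, by rw [one_smul]⟩
      · exact ⟨hz, 1, 2, by norm_num, by norm_num, by rw [one_smul]⟩
  cst x hx y hy hp := by
    obtain ⟨h1, z, hz, h2⟩ := D.comm_lead hx.1 hy.1 (ne_neg_of_pos hx hy) hp
    refine ⟨h1, fun a ha ha1 b hb hb1 => ⟨u X (x + y), D.u_mem h1, D.u_ne h1, ?_⟩⟩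
    rw [D.eq_u hx.1 ha ha1, D.eq_u hy.1 hb hb1]
    rcases h2 with h2 | ⟨h3, h2⟩
    · exact ⟨1, one_mem _, by rw [h2, mul_one]⟩
    · refine ⟨u X z, RGD.le_Sup (S := SumR' cs h x y) ?_ (D.u_mem h3), h2⟩
      rcases hz with rfl | rfl
      · exact ⟨h3, 2, 1, by norm_num, by norm_num, by norm_num, by rw [one_smul]⟩
      · exact ⟨h3, 1, 2, by norm_num, by norm_num, by norm_num, by rw [one_smul]⟩

section Sys

variable {K : Type*} [Field K] {e : (I → ℤ) → K → Y} {p : ℕ} {R : RGD cs h p T n X}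

open Cfsg.Agent.KFacts.ChevTwo

/-- the commutator of two root elements at an obtuse angle -/
theorem lead_sys [Finite W] (h6 : ∀ i j, M i j ≠ 6) (D : Data cs h e) {x y : I → ℤ} (hx : IsRoot cs h x)
    (hy : IsRoot cs h y) (hne' : x ≠ -y) (hp : cpr cs h y x < 0) (t s : K) : IsRoot cs h (x + y) ∧ ∃ z u,
      (z = (2 : ℤ) • x + y ∨ z = x + (2 : ℤ) • y) ∧
      (⁅e x t, e y s⁆ = e (x + y) (t * s) ∨ (IsRoot cs h z ∧ ⁅e x t, e y s⁆ = e (x + y) (t * s) * e z u)) := by
  rcases neg_cases h6 hx hy hne' hp with ⟨h1, h2⟩ | ⟨h1, h2⟩ | ⟨h1, h2⟩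
  · exact ⟨isRoot_add hx hy h2, _, 0, Or.inl rfl, Or.inl (D.comm1 x y hx hy h2 h1 t s)⟩
  · refine ⟨?_, _, t * s ^ 2, Or.inr rfl, Or.inr ⟨isRoot_add_smul hx hy h2, D.comm2 x y hx hy h2 h1 t s⟩⟩
    have := isRoot_add hy hx h1
    rwa [add_comm] at this
  · have r1 : IsRoot cs h (x + y) := isRoot_add hx hy h2
    have r2 : IsRoot cs h ((2 : ℤ) • x + y) := by
      have := isRoot_add_smul hy hx h1
      rwa [add_comm] at this
    refine ⟨r1, _, s * t ^ 2, Or.inl rfl, Or.inr ⟨r2, ?_⟩⟩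
    have h3 := D.comm2 y x hy hx h1 h2 s t
    rw [← commutatorElement_inv, h3, mul_inv_rev, add_comm y x, add_comm y, D.inv r1, D.inv r2, mul_comm s t]
    -- the two factors commute
    have := Fintype.ofFinite W
    refine D.comm_of_nonneg r2 r1 ?_ _ _
    have f1 := two_form_cpr cs h y hx
    have f2 := two_form_cpr cs h x hy
    have f0 := form_pos cs h hx.ne_zero
    rw [form_comm cs h y x] at f1
    rw [h1] at f1
    rw [h2] at f2
    refine le_of_lt ((cpr_pos_iff cs h _ r1).2 ?_)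
    rw [form_add_left, form_add_right, form_add_right, form_smul_left, form_smul_left, form_comm cs h y x]
    linarith

/-- Chevalley groups in characteristic two. -/
theorem Obt.of_sys [Finite W] (h6 : ∀ i j, M i j ≠ 6) (S : Sys R e) : Obt cs h X where
  six := h6
  strict := by
    have D := S.data
    refine ⟨fun r hr a ha b hb => ?_, fun s hs t ht hst a ha b hb => ?_⟩
    · obtain ⟨a, rfl⟩ := (S.mem_X r hr.1 a).1 ha
      obtain ⟨b, rfl⟩ := (S.mem_X r hr.1 b).1 hb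
      exact D.comm_same hr.1 a b
    · obtain ⟨a, rfl⟩ := (S.mem_X s hs.1 a).1 ha
      obtain ⟨b, rfl⟩ := (S.mem_X t ht.1 b).1 hb
      by_cases hp : 0 ≤ cpr cs h t s
      · have h1 := D.comm_of_nonneg ht.1 hs.1 hp b a
        rw [commutatorElement_eq_one_iff_mul_comm.2 h1.symm]
        exact one_mem _
      · obtain ⟨h1, z, v, hz, h2⟩ := lead_sys h6 D hs.1 ht.1 (ne_neg_of_pos hs ht) (not_le.1 hp) a b
        have h3 : e (s + t) (a * b) ∈ RGD.Sup X (SumR cs h s t) :=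
          RGD.le_Sup (S := SumR cs h s t) ⟨h1, 1, 1, by norm_num, by norm_num, by rw [one_smul, one_smul]⟩
            (S.mem h1 _)
        rcases h2 with h2 | ⟨hzr, h2⟩
        · rw [h2]; exact h3
        · rw [h2]
          refine mul_mem h3 (RGD.le_Sup (S := SumR cs h s t) ?_ (S.mem hzr _))
          rcases hz with rfl | rfl
          · exact ⟨hzr, 2, 1, by norm_num, by norm_num, by rw [one_smul]⟩
          · exact ⟨hzr, 1, 2, by norm_num, by norm_num, by rw [one_smul]⟩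
  cst x hx y hy hp := by
    have D := S.data
    refine ⟨(lead_sys h6 D hx.1 hy.1 (ne_neg_of_pos hx hy) hp 0 0).1, fun a ha ha1 b hb hb1 => ?_⟩
    obtain ⟨t, ht, rfl⟩ := S.exists_e hx.1 ha ha1
    obtain ⟨s, hs, rfl⟩ := S.exists_e hy.1 hb hb1
    obtain ⟨h1, z, v, hz, h2⟩ := lead_sys h6 D hx.1 hy.1 (ne_neg_of_pos hx hy) hp t s
    refine ⟨e (x + y) (t * s), S.mem h1 _, D.ne_one h1 (mul_ne_zero ht hs), ?_⟩
    rcases h2 with h2 | ⟨hzr, h2⟩
    · exact ⟨1, one_mem _, by rw [h2, mul_one]⟩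
    · refine ⟨e z v, RGD.le_Sup (S := SumR' cs h x y) ?_ (S.mem hzr _), h2⟩
      rcases hz with rfl | rfl
      · exact ⟨hzr, 2, 1, by norm_num, by norm_num, by norm_num, by rw [one_smul]⟩
      · exact ⟨hzr, 1, 2, by norm_num, by norm_num, by norm_num, by rw [one_smul]⟩

end Sys

/-- unique factorisation modulo the filtration -/
theorem Obt.inf_bot [Finite W] {p : ℕ} (O : Obt cs h X) (R : RGD cs h p T n X) {f : (I → ℤ) →+ ℤ}
    (hf : ∀ i, 0 < f (sr i)) : ∀ r ∈ RGD.Pos cs h, X r ⊓ F cs h X f (f r + 1) = ⊥ := by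
  intro r hr
  have h1 : X r = RGD.Sup X {r} := by
    apply le_antisymm
    · exact RGD.le_Sup (S := {r}) rfl
    · exact RGD.Sup_le fun z hz => by rw [Set.mem_singleton_iff.1 hz]
  have h2 : RGD.Sup X (∅ : Set (I → ℤ)) = ⊥ := le_bot_iff.1 (RGD.Sup_le fun z hz => absurd hz (Set.notMem_empty z))
  unfold F
  rw [h1, Nodes.Unique.inf_eq R (Set.singleton_subset_iff.2 hr) (fun z hz => hz.1) ?_ ?_]
  · have h3 : ({r} : Set (I → ℤ)) ∩ {z | z ∈ RGD.Pos cs h ∧ f r + 1 ≤ f z} = ∅ := by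
      rw [Set.eq_empty_iff_forall_notMem]
      rintro z ⟨hz, -, hz2⟩
      rw [Set.mem_singleton_iff.1 hz] at hz2
      omega
    rw [h3, h2]
  · intro x hx y hy z hz
    rw [Set.mem_singleton_iff] at hx hy
    subst hx hy
    exact Nodes.Unique.btwn_self hr.1 hz
  · rintro x ⟨hx, hx2⟩ y ⟨hy, hy2⟩ z hz
    by_cases hxy : x = y
    · subst hxy
      rw [Nodes.Unique.btwn_self hx.1 hz]
      exact ⟨hx, hx2⟩
    · have hz0 : z ∈ RGD.Pos cs h := ⟨hz.1, RGD.nonneg_of_btwn hx.2 hy.2 hz⟩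
      refine ⟨hz0, ?_⟩
      have h4 := f_pos hf hr
      rcases btwn_cases O.six hx.1 hy.1 hxy (ne_neg_of_pos hx hy) hz with ⟨-, e | e⟩ | ⟨-, -, e⟩ | ⟨-, -, e | e⟩ |
        ⟨-, -, e | e⟩
      all_goals
        have e' := congrArg f e
        simp only [map_add, map_zsmul, smul_eq_mul] at e'
        omega

end General

section Row

variable {I W Y V : Type*} [Fintype I] [DecidableEq I] [Group W] [Group Y] [AddCommGroup V]
    [Module (ZMod 2) V] {M : CoxeterMatrix I} {cs : CoxeterSystem M W} {A : I → I → ℤ} {h : IsCartan M A}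
    {T : Subgroup Y} {n : I → Y} {X : (I → ℤ) → Subgroup Y} {ρ : Y →* (V ≃ₗ[ZMod 2] V)}
    {b : LinearMap.BilinForm (ZMod 2) V} {a : V} {D : Submodule (ZMod 2) V} {X0 : Subgroup Y} {w : ℕ}

/-- the weight with value `1` at `α_k` and `2` at the other simple roots -/
def wt (k : I) : (I → ℤ) →+ ℤ where
  toFun x := ∑ j, x j * (if j = k then 1 else 2)
  map_zero' := by simp
  map_add' x y := by
    rw [← Finset.sum_add_distrib]
    exact Finset.sum_congr rfl fun j _ => by rw [Pi.add_apply, add_mul]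

theorem wt_apply (k : I) (x : I → ℤ) : wt k x = ∑ j, x j * (if j = k then 1 else 2) := rfl

theorem wt_sr (k i : I) : wt k (sr i) = if i = k then 1 else 2 := by
  rw [wt_apply, Finset.sum_eq_single i]
  · rw [sr_self, one_mul]
  · intro j _ hj
    rw [sr_ne hj, zero_mul]
  · intro hi; exact absurd (Finset.mem_univ i) hi

theorem wt_pos (k i : I) : 0 < wt k (sr i) := by
  rw [wt_sr]; split_ifs <;> norm_num

theorem two_le_wt {k j : I} (hj : j ≠ k) {x : I → ℤ} (hx : 0 ≤ x) (hxj : 0 < x j) : 2 ≤ wt k x := by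
  rw [wt_apply]
  have h1 : x j * (if j = k then 1 else 2) ≤ ∑ j, x j * (if j = k then 1 else 2) :=
    Finset.single_le_sum (f := fun j => x j * (if j = k then 1 else 2)) (fun i _ => by
      have := hx i
      simp only [Pi.zero_apply] at this
      split_ifs <;> omega) (Finset.mem_univ j)
  rw [if_neg hj] at h1
  omega

/-- **the simple root of a node moving `a` is a leading root of `X0`** (no hypothesis on the type) -/
theorem idl_sr [Finite W] [Finite Y] (R : Row cs h T n X ρ b a D X0 w) {k : I} (hk : k ∈ Mv ρ n a) :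
    Idl cs h X (wt k) X0 (sr k) := by
  have hP : (sr k : I → ℤ) ∈ RGD.Pos cs h := ⟨isRoot_sr cs h k, sr_nonneg k⟩
  obtain ⟨v, hv, hv1⟩ := Cfsg.Agent.KFacts.RgdPerf.exists_ne R.rgd hP.1
  obtain ⟨x, hx, ho⟩ := thmA R.core (K := {k}) (Set.singleton_subset_iff.2 hk) v (RGD.le_Sup hP hv)
  refine ⟨x, hx, hP, v, hv, hv1, v⁻¹ * x, ?_, by group⟩
  refine RGD.Sup_mono (fun z hz => ?_) ho
  obtain ⟨hz, hz0, j, hj, hzj⟩ := hz
  refine ⟨⟨hz, hz0⟩, ?_⟩
  have h1 : j ≠ k := fun e => hj (by rw [e]; exact Set.mem_singleton k)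
  rw [wt_sr, if_pos rfl]
  exact two_le_wt h1 hz0 hzj

/-- the leading roots of `X0` are closed under obtuse sums with positive roots -/
theorem idl_add [Finite W] [Finite Y] (R : Row cs h T n X ρ b a D X0 w) (O : Obt cs h X) {f : (I → ℤ) →+ ℤ}
    (hf : ∀ i, 0 < f (sr i)) {r s : I → ℤ} (hr : Idl cs h X f X0 r) (hs : s ∈ RGD.Pos cs h)
    (hp : cpr cs h s r < 0) : Idl cs h X f X0 (r + s) := by
  have hr0 : r ∈ RGD.Pos cs h := by
    obtain ⟨x, -, hx⟩ := hr
    exact hx.1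
  exact Idl.add O.strict hf R.rgd (fun g hg x hx => R.norm g (R.fixB g (RGD.U_le_B hg)) x hx) hr hs
    (O.cst r hr0 s hs hp)

/-- the leading roots of `X0` are not at an obtuse angle -/
theorem idl_false [Finite W] [Finite Y] (R : Row cs h T n X ρ b a D X0 w) (O : Obt cs h X) {f : (I → ℤ) →+ ℤ}
    (hf : ∀ i, 0 < f (sr i)) {r s : I → ℤ} (hr : Idl cs h X f X0 r) (hs : Idl cs h X f X0 s)
    (hp : cpr cs h s r < 0) : False := by
  have hr0 : r ∈ RGD.Pos cs h := by
    obtain ⟨x, -, hx⟩ := hr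
    exact hx.1
  have hs0 : s ∈ RGD.Pos cs h := by
    obtain ⟨x, -, hx⟩ := hs
    exact hx.1
  exact Idl.false O.strict hf (O.inf_bot R.rgd hf) (fun _ hx _ hy => Cov.comm_X0 R hx hy) hr hs
    (O.cst r hr0 s hs0 hp)

end Row

end Cfsg.Agent.Omega.EH3.Kf.Obt
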