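import Mathlib
import Cfsg.Agent.Omega.EH3.Kf.Two
import Cfsg.Agent.Omega.EH3.Kf.Opp

/-!
# Root groups of order 2: the action on `V` (helper532)

* `mu X x = u x * u (-x) * u x` : the canonical representative of the reflection in `x`; `rp_mu`, `mu_conj`, `conj_mu`;
* `Mr X ρ a r` : `(u r - 1) (mu r a) = a`; true for the moved nodes (`Mr.base`) and conjugates (`Mr.refl`);
* `comm_Sup` : commutators with a fixed element;
* `exists_x` : the element of `X0` over `u (sr k)`.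
-/

set_option autoImplicit false
set_option linter.unusedSectionVars false

namespace Cfsg.Agent.Omega.EH3.Kf.TwoV

open CoxeterSystem Cfsg.Agent.ChevalleyStructure.CoxeterGeom Cfsg.Agent.Tits.Roots Cfsg.Agent.Tits.Core
  Cfsg.Agent.Tits.RootComb Cfsg.Agent.Nodes.Comb Cfsg.Agent.Nodes.Reps Cfsg.Agent.Nodes.BNOf
  Cfsg.Agent.Nodes.StabComb Cfsg.Agent.Nodes.Bruhat Cfsg.Agent.Nodes.OppDec Cfsg.Agent.Nodes.LeviDec
  Cfsg.Agent.Nodes.Coroot Cfsg.Agent.Nodes.PairOf Cfsg.Agent.Nodes.MuSq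
  Cfsg.Agent.Omega.EH3.Kf.Base Cfsg.Agent.Omega.EH3.Kf.Nm Cfsg.Agent.Omega.EH3.Kf.Two
open scoped commutatorElement

variable {I W Y : Type*} [Fintype I] [DecidableEq I] [Group W] [Group Y] {M : CoxeterMatrix I}
  {cs : CoxeterSystem M W} {A : I → I → ℤ} {h : IsCartan M A} {T : Subgroup Y} {n : I → Y}
  {X : (I → ℤ) → Subgroup Y}

/-- the reflection element -/
noncomputable def mu (X : (I → ℤ) → Subgroup Y) (x : I → ℤ) : Y := u X x * u X (-x) * u X x

section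

variable (D : Dat cs h T n X)

include D

theorem mu_sq {x : I → ℤ} (hx : IsRoot cs h x) : mu X x * mu X x = 1 := by
  unfold mu
  calc u X x * u X (-x) * u X x * (u X x * u X (-x) * u X x)
      = u X x * u X (-x) * (u X x * u X x) * u X (-x) * u X x := by group
    _ = u X x * (u X (-x) * u X (-x)) * u X x := by rw [D.u_sq hx]; group
    _ = 1 := by rw [D.u_sq hx.neg, mul_one, D.u_sq hx]

theorem mu_inv {x : I → ℤ} (hx : IsRoot cs h x) : (mu X x)⁻¹ = mu X x := inv_eq_of_mul_eq_one_right (mu_sq D hx)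

theorem rp_mu [Finite W] {x : I → ℤ} (hx : IsRoot cs h x) :
    ∃ w, Rp cs D.rgd.nsys w (mu X x) ∧ w⁻¹ = w ∧ ∀ z, rep cs h w z = z - cpr cs h z x • x := by
  have := Fintype.ofFinite W
  obtain ⟨g, hg, g', hg', w, hw, hwi, hr⟩ := exists_mu' D.rgd hx.neg (D.u_mem hx.neg) (D.u_ne hx.neg)
  rw [neg_neg] at hg hg'
  have hr' : ∀ z, rep cs h w z = z - cpr cs h z x • x := by
    intro z
    rw [hr, cpr_neg_right cs h z hx, neg_smul, smul_neg, neg_neg]
  have hxx : x ≠ -x := by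
    intro e
    have h1 : (2 : ℤ) • x = 0 := by
      rw [two_smul]
      nth_rewrite 2 [e]
      exact add_neg_cancel x
    exact hx.ne_zero ((smul_eq_zero.1 h1).resolve_left two_ne_zero)
  have hne : u X x ≠ u X (-x) := fun e => hxx (D.u_inj hx hx.neg e)
  have e1 : rep cs h w x = -x := by
    rw [hr', cpr_self cs h hx]; module
  have e2 : rep cs h w (-x) = x := by rw [map_neg, e1, neg_neg]
  have c1 := D.conj_u hw hx
  have c2 := D.conj_u hw hx.neg
  rw [e1] at c1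
  rw [e2] at c2
  have key : g = u X x ∧ g' = u X x := by
    rcases (D.mem_iff hx).1 hg with rfl | rfl <;> rcases (D.mem_iff hx).1 hg' with rfl | rfl
    · exfalso
      apply hne
      have h1 : 1 * u X (-x) * 1 * u X (-x) * (1 * u X (-x) * 1)⁻¹ = u X (-x) := by group
      rw [← c2, h1]
    · exfalso
      apply hne
      have h1 : 1 * u X (-x) * u X x * u X x * (1 * u X (-x) * u X x)⁻¹ = u X (-x) * u X x * (u X (-x))⁻¹ := by group
      rw [h1] at c1
      have h2 : u X x = (u X (-x))⁻¹ * (u X (-x) * u X x * (u X (-x))⁻¹) * u X (-x) := by group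
      rw [h2, c1]; group
    · exfalso
      apply hne
      have h1 : u X x * u X (-x) * 1 * u X (-x) * (u X x * u X (-x) * 1)⁻¹ = u X x * u X (-x) * (u X x)⁻¹ := by group
      rw [h1] at c2
      have h2 : u X (-x) = (u X x)⁻¹ * (u X x * u X (-x) * (u X x)⁻¹) * u X x := by group
      rw [h2, c2]; group
    · exact ⟨rfl, rfl⟩
  rw [key.1, key.2] at hw
  exact ⟨w, hw, hwi, hr'⟩

/-- conjugation by the reflection element -/
theorem mu_conj [Finite W] {x y : I → ℤ} (hx : IsRoot cs h x) (hy : IsRoot cs h y) :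
    mu X x * u X y * (mu X x)⁻¹ = u X (y - cpr cs h y x • x) := by
  obtain ⟨w, hw, -, hr⟩ := rp_mu D hx
  rw [D.conj_u hw hy, hr]

theorem conj_mu {w : W} {k : Y} (hk : Rp cs D.rgd.nsys w k) {x : I → ℤ} (hx : IsRoot cs h x) :
    k * mu X x * k⁻¹ = mu X (rep cs h w x) := by
  unfold mu
  rw [← map_neg, ← D.conj_u hk hx, ← D.conj_u hk hx.neg]
  group

/-- reflection elements of reflections -/
theorem mu_conj_mu [Finite W] {x y : I → ℤ} (hx : IsRoot cs h x) (hy : IsRoot cs h y) :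
    mu X x * mu X y * (mu X x)⁻¹ = mu X (y - cpr cs h y x • x) := by
  obtain ⟨w, hw, -, hr⟩ := rp_mu D hx
  rw [conj_mu D hw hy, hr]

/-- orthogonal roots -/
theorem mu_comm_u [Finite W] {x y : I → ℤ} (hx : IsRoot cs h x) (hy : IsRoot cs h y) (h0 : cpr cs h y x = 0) :
    mu X x * u X y = u X y * mu X x := by
  have h1 := mu_conj D hx hy
  rw [h0, zero_smul, sub_zero] at h1
  exact mul_inv_eq_iff_eq_mul.1 h1

end

/-! ### Commutators -/

/-- commutators with a fixed element -/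
theorem comm_Sup {Q : Subgroup Y} {S : Set (I → ℤ)} {g : Y} (hQ : ∀ r ∈ S, ∀ a ∈ X r, ∀ q ∈ Q, a * q = q * a)
    (hg : ∀ r ∈ S, ∀ a ∈ X r, ⁅a, g⁆ ∈ Q) : ∀ s ∈ RGD.Sup X S, ⁅s, g⁆ ∈ Q := by
  let K : Subgroup Y :=
    { carrier := {s | ⁅s, g⁆ ∈ Q ∧ ∀ q ∈ Q, s * q = q * s}
      one_mem' := ⟨by rw [commutatorElement_one_left]; exact one_mem _, fun q _ => by rw [one_mul, mul_one]⟩
      mul_mem' := by
        rintro s t ⟨hs, hs'⟩ ⟨ht, ht'⟩
        refine ⟨?_, fun q hq => by rw [mul_assoc, ht' q hq, ← mul_assoc, hs' q hq, mul_assoc]⟩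
        have h1 : ⁅s * t, g⁆ = s * ⁅t, g⁆ * s⁻¹ * ⁅s, g⁆ := by
          rw [commutatorElement_def, commutatorElement_def, commutatorElement_def]; group
        rw [h1, hs' _ ht, mul_inv_cancel_right]
        exact mul_mem ht hs
      inv_mem' := by
        rintro s ⟨hs, hs'⟩
        have hc : ∀ q ∈ Q, s⁻¹ * q = q * s⁻¹ := fun q hq => by
          have := hs' q hq
          calc s⁻¹ * q = s⁻¹ * (q * s) * s⁻¹ := by group
            _ = q * s⁻¹ := by rw [← this]; group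
        refine ⟨?_, hc⟩
        have h1 : ⁅s⁻¹, g⁆ = s⁻¹ * ⁅s, g⁆⁻¹ * s := by
          rw [commutatorElement_def, commutatorElement_def]; group
        rw [h1, hc _ (inv_mem hs), inv_mul_cancel_right]
        exact inv_mem hs }
  have h1 : RGD.Sup X S ≤ K := RGD.Sup_le fun r hr a ha => ⟨hg r hr a ha, hQ r hr a ha⟩
  exact fun s hs => (h1 hs).1

/-- elements commuting with the generators -/
theorem comm_of_gen {S : Set (I → ℤ)} {g : Y} (hg : ∀ r ∈ S, ∀ a ∈ X r, a * g = g * a) :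
    ∀ s ∈ RGD.Sup X S, s * g = g * s := by
  have h1 : RGD.Sup X S ≤ Subgroup.centralizer {g} := RGD.Sup_le fun r hr a ha => by
    rw [Subgroup.mem_centralizer_singleton_iff]
    exact hg r hr a ha
  intro s hs
  exact Subgroup.mem_centralizer_singleton_iff.1 (h1 hs)

theorem comm_mul_left {s t g : Y} (ht : t * g = g * t) : ⁅s * t, g⁆ = ⁅s, g⁆ := by
  rw [commutatorElement_def, commutatorElement_def]
  calc s * t * g * (s * t)⁻¹ * g⁻¹ = s * (t * g) * t⁻¹ * s⁻¹ * g⁻¹ := by group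
    _ = s * g * s⁻¹ * g⁻¹ := by rw [ht]; group

/-! ### The action on `V` -/

section V

variable {V : Type*} [AddCommGroup V] [Module (ZMod 2) V] {ρ : Y →* (V ≃ₗ[ZMod 2] V)} {a : V}
  {b : LinearMap.BilinForm (ZMod 2) V} {DD : Submodule (ZMod 2) V} {X0 : Subgroup Y} {w0 : ℕ}

theorem vv (v : V) : v + v = 0 := by
  have : v + v = (2 : ZMod 2) • v := by rw [two_smul]
  rw [this, show (2 : ZMod 2) = 0 from rfl, zero_smul]

theorem eq_add_of {v x y : V} (e : v + x = y) : v = y + x := by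
  rw [← e, add_assoc, vv, add_zero]

theorem fix_mul {g k : Y} (hg : ρ g a = a) (hk : ρ k a = a) : ρ (g * k) a = a := by
  rw [rho_mul, hk, hg]

theorem fix_comm {g k : Y} (hg : ρ g a = a) (hk : ρ k a = a) : ρ ⁅g, k⁆ a = a := by
  rw [commutatorElement_def]
  exact fix_mul (fix_mul (fix_mul hg hk) (fix_inv hg)) (fix_inv hk)

theorem mu_fix {x : I → ℤ} (h1 : ρ (u X x) a = a) (h2 : ρ (u X (-x)) a = a) : ρ (mu X x) a = a :=
  fix_mul (fix_mul h1 h2) h1

/-- `(u r - 1) (mu r a) = a` -/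
def Mr (X : (I → ℤ) → Subgroup Y) (ρ : Y →* (V ≃ₗ[ZMod 2] V)) (a : V) (r : I → ℤ) : Prop :=
  ρ (u X r) (ρ (mu X r) a) = ρ (mu X r) a + a

section

variable (D : Dat cs h T n X)

include D

theorem Mr.base [Finite W] [Finite Y] (R : ThmA.Core cs h T n X ρ a X0) {i : I} (hi : ρ (n i) a ≠ a) :
    Mr X ρ a (sr i) := by
  classical
  have hr := isRoot_sr cs h i
  obtain ⟨w, hw, -, hrw⟩ := rp_mu D hr
  have hwi : w = cs.simple i := by
    apply rep_injective cs h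
    refine LinearMap.ext fun z => ?_
    rw [hrw, rep_simple, refl_apply, cpr_sr]
    congr 1
    funext k
    simp [sr, Pi.single_apply]
  subst hwi
  have h1 := (rp_simple cs D.rgd.nsys i).unique hw
  have h2 : ρ (mu X (sr i)) a = ρ (n i) a := by
    have e : mu X (sr i) = n i * ((n i)⁻¹ * mu X (sr i)) := by group
    rw [e, rho_mul, R.fixB _ (RGD.T_le_B h1)]
  unfold Mr
  rw [h2]
  have h3 := ThmA.nm_simple R hi
  unfold Nm at h3
  have h4 : fs (X (sr i)) = {1, u X (sr i)} := by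
    ext g
    rw [mem_fs, D.mem_iff hr, Finset.mem_insert, Finset.mem_singleton]
  rw [h4, Finset.sum_pair (Ne.symm (D.u_ne hr)), rho_one] at h3
  rw [add_comm] at h3
  rw [eq_add_of h3, add_comm]

theorem Mr.act {w : W} {k : Y} (hk : Rp cs D.rgd.nsys w k) (hka : ρ k a = a) {r : I → ℤ} (hr : IsRoot cs h r)
    (H : Mr X ρ a r) : Mr X ρ a (rep cs h w r) := by
  unfold Mr at H ⊢
  rw [← conj_mu D hk hr, ← D.conj_u hk hr]
  have e1 : ρ (k * mu X r * k⁻¹) a = ρ k (ρ (mu X r) a) := by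
    rw [rho_mul, rho_mul, fix_inv hka]
  rw [e1]
  have e2 : ρ (k * u X r * k⁻¹) (ρ k (ρ (mu X r) a)) = ρ k (ρ (u X r) (ρ (mu X r) a)) := by
    rw [rho_mul, rho_mul, rho_inv]
  rw [e2, H, map_add, hka]

theorem Mr.refl [Finite W] {r s : I → ℤ} (hr : IsRoot cs h r) (hs : IsRoot cs h s) (h1 : ρ (u X s) a = a)
    (h2 : ρ (u X (-s)) a = a) (H : Mr X ρ a r) : Mr X ρ a (r - cpr cs h r s • s) := by
  obtain ⟨w, hw, -, hrw⟩ := rp_mu D hs
  rw [← hrw]
  exact H.act D hw (mu_fix h1 h2) hr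

theorem Mr.neg [Finite W] {r : I → ℤ} (hr : IsRoot cs h r) (H : Mr X ρ a r) : ρ (u X (-r)) a = ρ (mu X r) a + a := by
  have h1 : u X (-r) = mu X r * u X r * (mu X r)⁻¹ := by
    rw [mu_conj D hr hr, cpr_self cs h hr]
    congr 1
    module
  rw [h1, mu_inv D hr, rho_mul, rho_mul, H, map_add, ← rho_mul, mu_sq D hr, rho_one, add_comm]

/-! ### Elements of `X0` -/

theorem fix_pos (R : Row cs h T n X ρ b a DD X0 w0) {x : I → ℤ} (hx : IsRoot cs h x) (h0 : 0 ≤ x) :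
    ρ (u X x) a = a := R.fixB _ (RGD.X_le_B hx h0 (D.u_mem hx))

theorem fix_J [Finite W] (R : Row cs h T n X ρ b a DD X0 w0) {x : I → ℤ} (hx : x ∈ RootsJ cs h (Mv ρ n a)ᶜ) :
    ρ (u X x) a = a := Opp.PJ_fix R (LJ_le_PJ (X_le_LJ hx (D.u_mem hx.1)))

theorem refl_mem [Finite W] (R : Row cs h T n X ρ b a DD X0 w0) {r s : I → ℤ} (hr : IsRoot cs h r)
    (hs : IsRoot cs h s) (h1 : ρ (u X s) a = a) (h2 : ρ (u X (-s)) a = a) (H : u X r ∈ X0) :
    u X (r - cpr cs h r s • s) ∈ X0 := by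
  rw [← mu_conj D hs hr]
  exact R.norm _ (mu_fix h1 h2) _ H

omit D in
theorem comm_mem_X0 (R : Row cs h T n X ρ b a DD X0 w0) {x g : Y} (hx : x ∈ X0) (hg : ρ g a = a) : ⁅x, g⁆ ∈ X0 := by
  have h1 : ⁅x, g⁆ = x * (g * x⁻¹ * g⁻¹) := by rw [commutatorElement_def]; group
  rw [h1]
  exact mul_mem hx (R.norm g hg _ (inv_mem hx))

/-- the element of `X0` over `u (sr k)` -/
theorem exists_x [Finite W] [Finite Y] (R : Row cs h T n X ρ b a DD X0 w0) {k : I} (hk : k ∈ Mv ρ n a) :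
    ∃ s ∈ RGD.Sup X (NotJ cs h {k} ∩ NotJ cs h (Mv ρ n a)ᶜ), u X (sr k) * s ∈ X0 := by
  have hr := isRoot_sr cs h k
  have hpos : u X (sr k) ∈ RGD.Sup X (RGD.Pos cs h) :=
    RGD.le_Sup (show sr k ∈ RGD.Pos cs h from ⟨hr, sr_nonneg k⟩) (D.u_mem hr)
  obtain ⟨x, hx, hxk⟩ := ThmA.thmA R.core (K := {k}) (Set.singleton_subset_iff.2 hk) _ hpos
  refine ⟨(u X (sr k))⁻¹ * x, ?_, by rwa [mul_inv_cancel_left]⟩
  have hcl : ∀ J : Set I, Nodes.Unique.Closed cs h (NotJ cs h J) := fun J x hx y hy z hz => by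
    refine ⟨hz.1, btwn_nonneg hz hx.2.1 hy.2.1, ?_⟩
    obtain ⟨k, hk, hk0⟩ := hx.2.2
    exact ⟨k, hk, btwn_apply_pos hz hk0 (hy.2.1 k)⟩
  have hsub : ∀ J : Set I, NotJ cs h J ⊆ RGD.Pos cs h := fun J x hx => ⟨hx.1, hx.2.1⟩
  rw [← Nodes.Unique.inf_eq R.rgd (hsub _) (hsub _) (hcl _) (hcl _)]
  have h1 : u X (sr k) ∈ VJ cs h X (Mv ρ n a)ᶜ :=
    RGD.le_Sup (sr_mem_NotJ (J := (Mv ρ n a)ᶜ) (not_not.2 hk)) (D.u_mem hr)
  exact ⟨hxk, (VJ cs h X (Mv ρ n a)ᶜ).mul_mem ((VJ cs h X (Mv ρ n a)ᶜ).inv_mem h1) (Cov.le_VJ R hx)⟩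

end

end V

end Cfsg.Agent.Omega.EH3.Kf.TwoV
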