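import Mathlib
import Cfsg.Agent.Omega.EH3.Kf.TwoV
import Cfsg.Agent.Omega.EH3.Kf.TwC
import Cfsg.Agent.Nodes.KindBC

/-!
# `Sp_2n(2)`: the commutator relations in coordinates (helper532)

`E X a b = u X (rt a b)`, `a`, `b` signed indices.
* `comm_E`, `comm_flip`, `comm_A2`, `comm_B2`;
* `fix_E`, `refl_E`, .. : the action on `X0` and `a`.
-/

set_option autoImplicit false
set_option linter.unusedSectionVars false

namespace Cfsg.Agent.Omega.EH3.Kf.SpTwo

open CoxeterSystem Cfsg.Agent.ChevalleyStructure.CoxeterGeom Cfsg.Agent.Tits.Roots Cfsg.Agent.Tits.Core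
  Cfsg.Agent.Tits.RootComb Cfsg.Agent.Nodes.Comb Cfsg.Agent.Nodes.Reps Cfsg.Agent.Nodes.BNOf
  Cfsg.Agent.Nodes.StabComb Cfsg.Agent.Nodes.Bruhat Cfsg.Agent.Nodes.OppDec Cfsg.Agent.Nodes.LeviDec
  Cfsg.Agent.Nodes.Coroot Cfsg.Agent.Nodes.TypeC Cfsg.Agent.Nodes.TypeCForm Cfsg.Agent.Nodes.KindBC
  Cfsg.Agent.Omega.EH3.Kf.Base Cfsg.Agent.Omega.EH3.Kf.Nm Cfsg.Agent.Omega.EH3.Kf.Two
  Cfsg.Agent.Omega.EH3.Kf.TwoV
open scoped commutatorElement

variable {n : ℕ} {W Y : Type*} [Group W] [Group Y] {cs : CoxeterSystem (CoxeterMatrix.B n) W}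
  {T : Subgroup Y} {nn : Fin n → Y} {X : (Fin n → ℤ) → Subgroup Y}

theorem six_B (i j : Fin n) : CoxeterMatrix.B n i j ≠ 6 := by
  show (if i = j then 1 else if (i : ℕ) = n - 1 ∧ (j : ℕ) = n - 2 ∨ (j : ℕ) = n - 1 ∧ (i : ℕ) = n - 2
        then 4 else (if (j : ℕ) + 1 = i ∨ (i : ℕ) + 1 = j then 3 else 2)) ≠ 6
  split_ifs <;> decide

/-! ### Cartan numbers -/

/-- the scalar product of two signed indices -/
def dt (a c : Fin n × Bool) : ℤ := wt a c.1 * sn c

theorem dt_self (a : Fin n × Bool) : dt a a = 1 := by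
  unfold dt; rw [wt_apply_self]; exact sn_mul_self a

theorem dt_ng_right (a c : Fin n × Bool) : dt a (ng c) = -dt a c := by
  unfold dt; rw [ng_fst, sn_ng, mul_neg]

theorem dt_ng_left (a c : Fin n × Bool) : dt (ng a) c = -dt a c := by
  unfold dt; rw [wt_ng, Pi.neg_apply, neg_mul]

theorem dt_ne {a c : Fin n × Bool} (h : a.1 ≠ c.1) : dt a c = 0 := by
  unfold dt; rw [wt_apply_ne (Ne.symm h), zero_mul]

theorem dt_nonneg {a c : Fin n × Bool} (h : a ≠ ng c) : 0 ≤ dt a c := by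
  by_cases h1 : a.1 = c.1
  · have h2 : a = c := by
      obtain ⟨i, s⟩ := a
      obtain ⟨j, t⟩ := c
      simp only at h1
      subst h1
      cases s <;> cases t <;> simp_all [ng]
    rw [h2, dt_self]; norm_num
  · rw [dt_ne h1]

section

variable [Finite W]

theorem cpr_E (a b : Fin n × Bool) {c d : Fin n × Bool} (hcd : c.1 ≠ d.1) :
    cpr cs (isCartan n) (rt a b) (rt c d) = dt a c + dt b c + (dt a d + dt b d) := by
  rw [cpr_rt cs _ hcd, ee_rt]
  unfold dt
  simp only [Pi.add_apply]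
  ring

theorem cpr_EE (a b c : Fin n × Bool) : cpr cs (isCartan n) (rt a b) (rt c c) = dt a c + dt b c := by
  rw [cpr_rt_self cs, ee_rt]
  unfold dt
  simp only [Pi.add_apply]
  ring

theorem cpr_nonneg {a b c d : Fin n × Bool} (hcd : Ok c d) (h1 : a ≠ ng c) (h2 : a ≠ ng d) (h3 : b ≠ ng c)
    (h4 : b ≠ ng d) : 0 ≤ cpr cs (isCartan n) (rt a b) (rt c d) := by
  have e1 := dt_nonneg h1
  have e2 := dt_nonneg h2
  have e3 := dt_nonneg h3
  have e4 := dt_nonneg h4
  rcases hcd with hcd | rfl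
  · rw [cpr_E a b hcd]; omega
  · rw [cpr_EE]; omega

end

/-! ### Root elements -/

/-- the root element of `wt a + wt b` -/
noncomputable def E (X : (Fin n → ℤ) → Subgroup Y) (a b : Fin n × Bool) : Y := u X (rt a b)

theorem E_comm (a b : Fin n × Bool) : E X a b = E X b a := by unfold E; rw [rt_comm]

theorem ne_ng (a : Fin n × Bool) : a ≠ ng a := by
  obtain ⟨i, s⟩ := a
  cases s <;> simp [ng]

section

variable [Finite W] (D : Dat cs (isCartan n) T nn X)

include D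

theorem comm_E {a b c d : Fin n × Bool} (hab : Ok a b) (hcd : Ok c d) (h1 : a ≠ ng c) (h2 : a ≠ ng d)
    (h3 : b ≠ ng c) (h4 : b ≠ ng d) : E X a b * E X c d = E X c d * E X a b :=
  (D.comm_of_nonneg (isRoot_rt cs hcd) (isRoot_rt cs hab) (cpr_nonneg hcd h1 h2 h3 h4)).symm

theorem comm_flip {a b : Fin n × Bool} (hab : a.1 ≠ b.1) : E X a b * E X a (ng b) = E X a (ng b) * E X a b := by
  refine (D.comm_of_nonneg (isRoot_rt cs (Or.inl hab)) (isRoot_rt cs (Or.inl hab)) ?_)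
  rw [cpr_E a (ng b) hab, dt_self, dt_ng_left, dt_ng_left, dt_self, dt_ne hab, dt_ne (Ne.symm hab)]
  norm_num

theorem comm_A2 {a b c : Fin n × Bool} (hab : a.1 ≠ b.1) (hbc : b.1 ≠ c.1) (hac : a.1 ≠ c.1) :
    ⁅E X a b, E X (ng b) c⁆ = E X a c := by
  have h1 : cpr cs (isCartan n) (rt (ng b) c) (rt a b) = -1 := by
    rw [cpr_E _ _ hab, dt_ng_left, dt_ng_left, dt_self, dt_ne hab.symm, dt_ne hac.symm, dt_ne hbc.symm]
    norm_num
  have h2 : cpr cs (isCartan n) (rt a b) (rt (ng b) c) = -1 := by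
    rw [cpr_E _ _ (show (ng b).1 ≠ c.1 from hbc), dt_ng_right, dt_ng_right, dt_self, dt_ne hab, dt_ne hac,
      dt_ne hbc]
    norm_num
  unfold E
  rw [D.comm_one_one (isRoot_rt cs (Or.inl hab)) (isRoot_rt cs (Or.inl (show (ng b).1 ≠ c.1 from hbc))) h1 h2]
  congr 1
  apply ee_injective
  rw [ee_add, ee_rt, ee_rt, ee_rt, wt_ng]
  abel

theorem comm_B2 {a b : Fin n × Bool} (hab : a.1 ≠ b.1) : ⁅E X a a, E X (ng a) b⁆ = E X a b * E X b b := by
  have h1 : cpr cs (isCartan n) (rt (ng a) b) (rt a a) = -1 := by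
    rw [cpr_EE, dt_ng_left, dt_self, dt_ne hab.symm]
    norm_num
  have h2 : cpr cs (isCartan n) (rt a a) (rt (ng a) b) = -2 := by
    rw [cpr_E _ _ (show (ng a).1 ≠ b.1 from hab), dt_ng_right, dt_self, dt_ne hab]
    norm_num
  unfold E
  rw [D.comm_one_two (isRoot_rt cs (Or.inr rfl)) (isRoot_rt cs (Or.inl (show (ng a).1 ≠ b.1 from hab))) h1 h2]
  congr 2
  · apply ee_injective
    rw [ee_add, ee_rt, ee_rt, ee_rt, wt_ng]
    abel
  · apply ee_injective
    rw [ee_add, ee_smul, ee_rt, ee_rt, ee_rt, wt_ng]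
    module

theorem E_ne {a b : Fin n × Bool} (hab : Ok a b) : E X a b ≠ 1 := D.u_ne (isRoot_rt cs hab)

theorem E_sq {a b : Fin n × Bool} (hab : Ok a b) : E X a b * E X a b = 1 := D.u_sq (isRoot_rt cs hab)

theorem E_inv {a b : Fin n × Bool} (hab : Ok a b) : (E X a b)⁻¹ = E X a b := D.u_inv (isRoot_rt cs hab)

end

/-! ### Reflections in coordinates -/

section

variable [Finite W]

theorem refl_short {a b c : Fin n × Bool} (hab : a.1 ≠ b.1) (hbc : b.1 ≠ c.1) (hac : a.1 ≠ c.1) :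
    rt a b - cpr cs (isCartan n) (rt a b) (rt (ng b) c) • rt (ng b) c = rt a c := by
  rw [cpr_E _ _ (show (ng b).1 ≠ c.1 from hbc), dt_ng_right, dt_ng_right, dt_self, dt_ne hab, dt_ne hac,
      dt_ne hbc]
  apply ee_injective
  rw [sub_eq_add_neg, ee_add, ee_neg, ee_smul, ee_rt, ee_rt, ee_rt, wt_ng]
  module

theorem refl_long {a b : Fin n × Bool} (hab : a.1 ≠ b.1) :
    rt a a - cpr cs (isCartan n) (rt a a) (rt (ng a) b) • rt (ng a) b = rt b b := by
  rw [cpr_E _ _ (show (ng a).1 ≠ b.1 from hab), dt_ng_right, dt_self, dt_ne hab]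
  apply ee_injective
  rw [sub_eq_add_neg, ee_add, ee_neg, ee_smul, ee_rt, ee_rt, ee_rt, wt_ng]
  module

theorem refl_flip {a b : Fin n × Bool} (hab : a.1 ≠ b.1) :
    rt a b - cpr cs (isCartan n) (rt a b) (rt b b) • rt b b = rt a (ng b) := by
  rw [cpr_EE, dt_self, dt_ne hab]
  apply ee_injective
  rw [sub_eq_add_neg, ee_add, ee_neg, ee_smul, ee_rt, ee_rt, ee_rt, wt_ng]
  module

theorem neg_rt (a b : Fin n × Bool) : -rt a b = rt (ng a) (ng b) := (rt_ng a b).symm

end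

/-! ### The Weyl group on signed indices -/

theorem exists_perm (w : W) : ∃ f : Fin n × Bool → Fin n × Bool,
    (∀ a b, rep cs (isCartan n) w (rt a b) = rt (f a) (f b)) ∧ (∀ a, f (ng a) = ng (f a)) ∧
      ∀ a b, (f a).1 = (f b).1 ↔ a.1 = b.1 := by
  induction w using cs.simple_induction_left with
  | one =>
    refine ⟨id, fun a b => ?_, fun a => rfl, fun a b => Iff.rfl⟩
    rw [map_one, Module.End.one_apply]; rfl
  | mul_simple_left w i ih =>
    obtain ⟨f, h1, h2, h3⟩ := ih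
    refine ⟨fun a => sg i (f a), fun a b => ?_, fun a => ?_, fun a b => ?_⟩
    · apply ee_injective
      rw [rep_mul_apply, rep_simple, ee_refl_of (show ee (rep cs (isCartan n) w (rt a b)) = _ by rw [h1, ee_rt]),
        ee_rt]
    · show sg i (f (ng a)) = ng (sg i (f a))
      rw [h2, sg_ng]
    · show (sg i (f a)).1 = (sg i (f b)).1 ↔ a.1 = b.1
      rw [sg_fst_eq, h3]

/-! ### Coefficients -/

/-- the roots with positive first coefficient -/
theorem first_form {o : Fin n} (ho : (o : ℕ) = 0) {x : Fin n → ℤ} (hx : IsRoot cs (isCartan n) x) (h0 : 0 ≤ x)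
    (hxo : 0 < x o) : ∃ b, Ok (o, true) b ∧ x = rt (o, true) b := by
  obtain ⟨a, b, ha, hab, hok, e⟩ := TwC.exists_pos hx h0
  have h1 := TwC.coef e o
  have hao : a.1 = o := by
    by_contra hne
    have h2 : ¬ a.1 ≤ o := fun h => hne (Fin.ext (by have := Fin.le_def.1 h; omega))
    have h3 : ¬ b.1 ≤ o := fun h => h2 (hab.trans h)
    rw [if_neg h2, if_neg h3, add_zero] at h1
    split_ifs at h1 <;> omega
  have ha' : a = (o, true) := Prod.ext hao ha
  subst ha'
  exact ⟨b, hok, eq_rt e⟩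

/-- the roots with positive last coefficient -/
theorem last_form {l : Fin n} (hl : (l : ℕ) + 1 = n) {x : Fin n → ℤ} (hx : IsRoot cs (isCartan n) x) (h0 : 0 ≤ x)
    (hxl : 0 < x l) : ∃ i j, x = rt (i, true) (j, true) := by
  obtain ⟨a, b, ha, hab, hok, e⟩ := TwC.exists_pos hx h0
  have h1 := TwC.coef e l
  have h2 : a.1 ≤ l := by rw [Fin.le_def]; have := a.1.2; omega
  have h3 : b.1 ≤ l := by rw [Fin.le_def]; have := b.1.2; omega
  rw [if_neg (by omega), if_pos h2, if_pos h3, ha] at h1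
  have hb : b.2 = true := by
    by_contra hb
    rw [Bool.not_eq_true] at hb
    rw [hb] at h1
    simp only [TwC.sn] at h1
    simp at h1
    omega
  refine ⟨a.1, b.1, ?_⟩
  rw [← ha, show ((b.1, a.2) : Fin n × Bool) = b from Prod.ext rfl (by rw [ha, hb])]
  exact eq_rt e

theorem coef_zero {o : Fin n} (ho : (o : ℕ) = 0) {a b : Fin n × Bool} (ha : a.1 ≠ o) (hb : b.1 ≠ o) :
    rt a b o = 0 := by
  have h1 := TwC.coef (ee_rt a b) o
  have h2 : ¬ a.1 ≤ o := fun h => ha (Fin.ext (by have := Fin.le_def.1 h; omega))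
  have h3 : ¬ b.1 ≤ o := fun h => hb (Fin.ext (by have := Fin.le_def.1 h; omega))
  rw [if_neg h2, if_neg h3, add_zero] at h1
  split_ifs at h1 <;> omega

theorem coef_last {l : Fin n} (hl : (l : ℕ) + 1 = n) {i j : Fin n} {s : Bool} : rt (i, s) (j, !s) l = 0 := by
  have h1 := TwC.coef (ee_rt (i, s) (j, !s)) l
  have h2 : i ≤ l := by rw [Fin.le_def]; have := i.2; omega
  have h3 : j ≤ l := by rw [Fin.le_def]; have := j.2; omega
  rw [if_neg (by omega)] at h1
  simp only at h1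
  rw [if_pos h2, if_pos h3] at h1
  cases s <;> simp only [TwC.sn, Bool.not_false, Bool.not_true, if_true] at h1 ⊢ <;> simp at h1 <;> omega

end Cfsg.Agent.Omega.EH3.Kf.SpTwo
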