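import Mathlib
import Cfsg.Agent.Omega.EH3.Kf.SpTwoC

/-!
# `Sp_2n(2)`, `n ≥ 3`: the case `Mv = {α_1}` (helper532)

`X0 = R = ⟨X (e_1 ± e_j), X (2 e_1)⟩`; `(u (2e_1) - 1) (mu (2e_1) a) = a`, and this contradicts (X4).
-/

set_option autoImplicit false
set_option linter.unusedSectionVars false

namespace Cfsg.Agent.Omega.EH3.Kf.SpTwo

open CoxeterSystem Cfsg.Agent.ChevalleyStructure.CoxeterGeom Cfsg.Agent.Tits.Roots Cfsg.Agent.Tits.Core
  Cfsg.Agent.Tits.RootComb Cfsg.Agent.Nodes.Comb Cfsg.Agent.Nodes.Reps Cfsg.Agent.Nodes.BNOf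
  Cfsg.Agent.Nodes.StabComb Cfsg.Agent.Nodes.Bruhat Cfsg.Agent.Nodes.OppDec Cfsg.Agent.Nodes.LeviDec
  Cfsg.Agent.Nodes.Coroot Cfsg.Agent.Nodes.TypeC Cfsg.Agent.Nodes.TypeCForm Cfsg.Agent.Nodes.KindBC
  Cfsg.Agent.Omega.EH3.Kf.Base Cfsg.Agent.Omega.EH3.Kf.Nm Cfsg.Agent.Omega.EH3.Kf.Two
  Cfsg.Agent.Omega.EH3.Kf.TwoV
open scoped commutatorElement

variable {n : ℕ} {W Y : Type*} [Group W] [Group Y] {cs : CoxeterSystem (CoxeterMatrix.B n) W}
  {T : Subgroup Y} {nn : Fin n → Y} {X : (Fin n → ℤ) → Subgroup Y}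
  {V : Type*} [AddCommGroup V] [Module (ZMod 2) V] {ρ : Y →* (V ≃ₗ[ZMod 2] V)} {a : V}
  {b : LinearMap.BilinForm (ZMod 2) V} {DD : Submodule (ZMod 2) V} {X0 : Subgroup Y} {w0 : ℕ}

section

variable [Finite W] [Finite Y] (D : Dat cs (isCartan n) T nn X)
  (R : Row cs (isCartan n) T nn X ρ b a DD X0 w0) {o : Fin n} (ho : (o : ℕ) = 0) (hK : Mv ρ nn a = {o})

include D R ho hK

theorem F_fixJ {c d : Fin n × Bool} (hok : Ok c d) (hc : c.1 ≠ o) (hd : d.1 ≠ o) : ρ (E X c d) a = a := by
  refine fix_J D R ⟨isRoot_rt cs hok, fun k hk => ?_⟩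
  rw [hK] at hk
  have hk' : k = o := not_not.1 hk
  subst hk'
  exact coef_zero ho hc hd

omit hK in
theorem F_fixP {d : Fin n × Bool} (hok : Ok (o, true) d) : ρ (E X (o, true) d) a = a :=
  fix_pos D R (isRoot_rt cs hok) (TwC.nonneg_of (ee_rt _ _) rfl (Fin.le_def.2 (by simp only; omega)))

omit D R in
theorem F_form {r : Fin n → ℤ} (hr : r ∈ NotJ cs (isCartan n) (Mv ρ nn a)ᶜ) :
    ∃ c, Ok (o, true) c ∧ r = rt (o, true) c := by
  obtain ⟨k, hk, hk0⟩ := hr.2.2
  rw [hK] at hk
  have hk' : k = o := not_not.1 hk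
  subst hk'
  exact first_form ho hr.1 hr.2.1 hk0

/-- the elements `u (e_1 + e_2) u (2 e_1)`, `u (e_1 + e_3)` of `X0` -/
theorem F_mem (p q : Fin n) (hp : (p : ℕ) = 1) (hq : (q : ℕ) = 2) :
    E X (o, true) (p, true) * E X (o, true) (o, true) ∈ X0 ∧ E X (o, true) (q, true) ∈ X0 := by
  have hop : o ≠ p := fun e => by rw [e] at ho; omega
  have hoq : o ≠ q := fun e => by rw [e] at ho; omega
  have hpq : p ≠ q := fun e => by rw [e] at hp; omega
  have hko : o ∈ Mv ρ nn a := by rw [hK]; rfl
  obtain ⟨s, hs, hx⟩ := exists_x D R hko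
  have hso : (sr o : Fin n → ℤ) = rt (o, true) (p, false) := by
    rw [sr_eq_rt, nx, dif_pos (by have := q.2; omega)]
    congr 2
    exact Fin.ext (by simp only; omega)
  rw [hso] at hx
  change E X (o, true) (p, false) * s ∈ X0 at hx
  set g := E X (p, true) (p, true) with hg
  have hgfix : ρ g a = a := F_fixJ D R ho hK (Or.inr rfl) hop.symm hop.symm
  have hsg : s * g = g * s := by
    refine comm_of_gen ?_ s hs
    rintro r ⟨hr1, hr2⟩ a' ha'
    obtain ⟨c, hok, rfl⟩ := F_form ho hK hr2
    have hc : c ≠ (p, false) := by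
      rintro rfl
      obtain ⟨k, hk, hk0⟩ := hr1.2.2
      rw [← hso, sr_ne (fun e => hk (by rw [e]; rfl))] at hk0
      exact absurd hk0 (lt_irrefl _)
    rcases (D.mem_iff (isRoot_rt cs hok)).1 ha' with rfl | rfl
    · rw [one_mul, mul_one]
    · refine comm_E D hok (Or.inr rfl) ?_ ?_ hc hc <;> exact fun e => hop (congrArg Prod.fst e)
  have h1 : ⁅E X (o, true) (p, false) * s, g⁆ ∈ X0 := comm_mem_X0 R hx hgfix
  rw [comm_mul_left hsg] at h1
  have h2 : ⁅E X (o, true) (p, false), g⁆ = (E X (o, true) (p, true) * E X (o, true) (o, true))⁻¹ := by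
    have h3 := comm_B2 D (a := (p, true)) (b := (o, true)) hop.symm
    rw [E_comm (o, true) (p, false), E_comm (o, true) (p, true), ← h3, commutatorElement_inv]
    rfl
  rw [h2] at h1
  have h3 := inv_mem h1
  rw [inv_inv] at h3
  refine ⟨h3, ?_⟩
  have h4 : ρ (E X (p, false) (q, true)) a = a := F_fixJ D R ho hK (Or.inl hpq) hop.symm hoq.symm
  have h5 := comm_mem_X0 R h3 h4
  have h6 : E X (o, true) (o, true) * E X (p, false) (q, true) = E X (p, false) (q, true) * E X (o, true) (o, true) := by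
    refine comm_E D (Or.inr rfl) (Or.inl hpq) ?_ ?_ ?_ ?_
    · exact fun e => hop (congrArg Prod.fst e)
    · exact fun e => hoq (congrArg Prod.fst e)
    · exact fun e => hop (congrArg Prod.fst e)
    · exact fun e => hoq (congrArg Prod.fst e)
  rw [comm_mul_left h6] at h5
  have h7 := comm_A2 D (a := (o, true)) (b := (p, true)) (c := (q, true)) hop hpq hoq
  rw [← h7]
  exact h5

/-- `X0` contains all `u (e_1 ± e_j)`, `u (2 e_1)` -/
theorem F_all (hn : 3 ≤ n) {c : Fin n × Bool} (hok : Ok (o, true) c) : E X (o, true) c ∈ X0 := by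
  set p : Fin n := ⟨1, by omega⟩ with hp
  set q : Fin n := ⟨2, by omega⟩ with hq
  have hop : o ≠ p := fun e => by rw [e] at ho; simp [hp] at ho
  have hoq : o ≠ q := fun e => by rw [e] at ho; simp [hq] at ho
  have hpq : p ≠ q := fun e => by rw [hp, hq, Fin.mk.injEq] at e; omega
  obtain ⟨h1, h2⟩ := F_mem D R ho hK p q rfl rfl
  -- passing from one index to another
  have step : ∀ {c d : Fin n × Bool}, c.1 ≠ o → d.1 ≠ o → c.1 ≠ d.1 → E X (o, true) c ∈ X0 → E X (o, true) d ∈ X0 := by
    intro c d hc hd hcd hm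
    have h3 := refl_mem D R (isRoot_rt cs (Or.inl (Ne.symm hc) : Ok (o, true) c))
      (isRoot_rt cs (Or.inl hcd : Ok (ng c) d))
      (F_fixJ D R ho hK (Or.inl hcd : Ok (ng c) d) hc hd)
      (by rw [neg_rt]; exact F_fixJ D R ho hK (Or.inl hcd : Ok (ng (ng c)) (ng d)) hc hd) hm
    rw [refl_short (Ne.symm hc) hcd (Ne.symm hd)] at h3
    exact h3
  have hq' : ∀ {d : Fin n × Bool}, d.1 ≠ o → E X (o, true) d ∈ X0 := by
    intro d hd
    by_cases hdq : d.1 = q
    · have h3 : E X (o, true) (p, true) ∈ X0 := step hoq.symm hop.symm (Ne.symm hpq) h2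
      exact step hop.symm hd (by rw [hdq]; exact hpq) h3
    · exact step hoq.symm hd (Ne.symm hdq) h2
  by_cases hc : c.1 = o
  · rcases hok with hok | rfl
    · exact absurd hc.symm hok
    · exact (mul_mem_cancel_left (hq' (d := (p, true)) hop.symm)).1 h1
  · exact hq' hc

/-- `(u r - 1) (mu r a) = a` for the roots `r = e_1 ± e_j` -/
theorem F_Mr (hn : 3 ≤ n) {c : Fin n × Bool} (hc : c.1 ≠ o) : Mr X ρ a (rt (o, true) c) := by
  set p : Fin n := ⟨1, by omega⟩ with hp
  set q : Fin n := ⟨2, by omega⟩ with hq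
  have hop : o ≠ p := fun e => by rw [e] at ho; simp [hp] at ho
  have hoq : o ≠ q := fun e => by rw [e] at ho; simp [hq] at ho
  have hpq : p ≠ q := fun e => by rw [hp, hq, Fin.mk.injEq] at e; omega
  have hko : o ∈ Mv ρ nn a := by rw [hK]; rfl
  have hso : (sr o : Fin n → ℤ) = rt (o, true) (p, false) := by
    rw [sr_eq_rt, nx, dif_pos (by omega)]
    congr 2
    exact Fin.ext (by simp only [hp]; omega)
  have h0 : Mr X ρ a (rt (o, true) (p, false)) := by
    rw [← hso]
    exact Mr.base D R.core hko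
  have step : ∀ {c d : Fin n × Bool}, c.1 ≠ o → d.1 ≠ o → c.1 ≠ d.1 → Mr X ρ a (rt (o, true) c) →
      Mr X ρ a (rt (o, true) d) := by
    intro c d hc hd hcd hm
    have h3 := Mr.refl D (isRoot_rt cs (Or.inl (Ne.symm hc) : Ok (o, true) c))
      (isRoot_rt cs (Or.inl hcd : Ok (ng c) d))
      (F_fixJ D R ho hK (Or.inl hcd : Ok (ng c) d) hc hd)
      (by rw [neg_rt]; exact F_fixJ D R ho hK (Or.inl hcd : Ok (ng (ng c)) (ng d)) hc hd) hm
    rwa [refl_short (Ne.symm hc) hcd (Ne.symm hd)] at h3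
  by_cases hdp : c.1 = p
  · have h3 : Mr X ρ a (rt (o, true) (q, true)) := step hop.symm hoq.symm hpq h0
    exact step hoq.symm hc (by rw [hdp]; exact Ne.symm hpq) h3
  · exact step hop.symm hc (Ne.symm hdp) h0

/-- **the relation** : `(u (2 e_1) - 1) (mu (2 e_1) a) = a` -/
theorem F_rel (hn : 3 ≤ n) : Mr X ρ a (rt (o, true) (o, true)) := by
  set p : Fin n := ⟨1, by omega⟩ with hp
  have hop : o ≠ p := fun e => by rw [e] at ho; simp [hp] at ho
  set r : Fin n → ℤ := rt (o, true) (o, true) with hr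
  have hrr : IsRoot cs (isCartan n) r := isRoot_rt cs (Or.inr rfl)
  have hta : ρ (u X r) a = a := F_fixP D R ho (Or.inr rfl)
  set z : V := ρ (mu X r) a with hz
  set σ : V := a + z + ρ (u X r) z with hσ
  -- `σ` is fixed by `X0`
  have hfix : ∀ c, Ok (o, true) c → ρ (E X (o, true) c) σ = σ := by
    intro c hok
    by_cases hc : c.1 = o
    · have hc' : (o, true) = c := by
        rcases hok with h1 | h1
        · exact absurd hc.symm h1
        · exact h1
      rw [← hc']
      show ρ (u X r) σ = σ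
      rw [hσ, map_add, map_add, hta, ← rho_mul (u X r) (u X r), D.u_sq hrr, rho_one]
      abel
    · -- the root `β = e_1 - c`
      have hβ : IsRoot cs (isCartan n) (rt (o, true) (ng c)) := isRoot_rt cs (Or.inl (Ne.symm hc))
      have hcc : IsRoot cs (isCartan n) (rt c c) := isRoot_rt cs (Or.inr rfl)
      have hM : Mr X ρ a (rt (o, true) (ng c)) := F_Mr D R ho hK hn (c := ng c) hc
      have hβn := hM.neg D hβ
      set v : V := ρ (mu X (rt (o, true) (ng c))) a with hv
      have hcf : ρ (u X (rt c c)) a = a := F_fixJ D R ho hK (Or.inr rfl) hc hc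
      have hcf' : ρ (u X (-rt c c)) a = a := by
        rw [neg_rt]; exact F_fixJ D R ho hK (Or.inr rfl) hc hc
      -- `mu β` maps `2 c` to `2 e_1`
      have hrefl : rt c c - cpr cs (isCartan n) (rt c c) (rt (o, true) (ng c)) • rt (o, true) (ng c) = r := by
        have h1 := refl_long (cs := cs) (a := c) (b := (o, true)) hc
        rwa [rt_comm (ng c) (o, true)] at h1
      have m1 : ρ (mu X r) v = v := by
        rw [hv, ← hrefl, ← mu_conj_mu D hβ hcc, rho_mul, rho_mul, ← rho_mul (mu X (rt (o, true) (ng c)))⁻¹,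
          inv_mul_cancel, rho_one, mu_fix hcf hcf']
      have m2 : ρ (u X r) v = v := by
        rw [hv, ← hrefl, ← mu_conj D hβ hcc, rho_mul, rho_mul, ← rho_mul (mu X (rt (o, true) (ng c)))⁻¹,
          inv_mul_cancel, rho_one, hcf]
      -- `y = u (e_1 + c)`
      set y := E X (o, true) c with hy
      have hroot : IsRoot cs (isCartan n) (rt (o, true) c) := isRoot_rt cs (Or.inl (Ne.symm hc))
      have hrefl2 : rt (o, true) c - cpr cs (isCartan n) (rt (o, true) c) r • r = -rt (o, true) (ng c) := by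
        rw [neg_rt, ng_ng, hr, cpr_EE, dt_self, dt_ne hc]
        apply ee_injective
        rw [sub_eq_add_neg, ee_add, ee_neg, ee_smul, ee_rt, ee_rt, ee_rt, wt_ng]
        module
      have hyz : ρ y z = z + v := by
        have h1 : y * mu X r = mu X r * u X (-rt (o, true) (ng c)) := by
          rw [← hrefl2, ← mu_conj D hrr hroot, mu_inv D hrr]
          calc y * mu X r = (mu X r * mu X r) * y * mu X r := by rw [mu_sq D hrr, one_mul]
            _ = mu X r * (mu X r * y * mu X r) := by group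
        rw [hz, ← rho_mul, h1, rho_mul, hβn, map_add, m1, add_comm]
      have hya : ρ y a = a := F_fixP D R ho hok
      have hty : y * u X r = u X r * y := by
        refine comm_E D hok (Or.inr rfl) ?_ ?_ ?_ ?_
        · exact ne_ng _
        · exact ne_ng _
        · exact fun e => hc (congrArg Prod.fst e)
        · exact fun e => hc (congrArg Prod.fst e)
      have hytz : ρ y (ρ (u X r) z) = ρ (u X r) z + v := by
        rw [← rho_mul, hty, rho_mul, hyz, map_add, m2]
      rw [hσ, map_add, map_add, hya, hyz, hytz]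
      have : a + (z + v) + (ρ (u X r) z + v) = a + z + ρ (u X r) z + (v + v) := by abel
      rw [this, vv, add_zero]
  have hfix' : ∀ x ∈ X0, ρ x σ = σ := by
    have h1 : VJ cs (isCartan n) X (Mv ρ nn a)ᶜ ≤ ThmA.St ρ σ := by
      refine RGD.Sup_le fun r' hr' g hg => ?_
      obtain ⟨c, hok, rfl⟩ := F_form ho hK hr'
      rcases (D.mem_iff (isRoot_rt cs hok)).1 hg with rfl | rfl
      · exact one_mem _
      · exact hfix c hok
    intro x hx
    exact h1 (Cov.le_VJ R hx)
  rcases R.fix σ hfix' with h0 | h0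
  · -- `σ = 0`
    show ρ (u X r) z = z + a
    rw [hσ] at h0
    have h1 : ρ (u X r) z = a + z + (a + z + ρ (u X r) z) := by
      have : a + z + (a + z + ρ (u X r) z) = (a + a) + (z + z) + ρ (u X r) z := by abel
      rw [this, vv, vv]; abel
    rw [h1, h0, add_zero, add_comm]
  · -- `σ = a`
    exfalso
    have h1 : ρ (u X r) z = z := by
      have h2 : ρ (u X r) z = a + z + (a + z + ρ (u X r) z) := by
        have : a + z + (a + z + ρ (u X r) z) = (a + a) + (z + z) + ρ (u X r) z := by abel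
        rw [this, vv, vv]; abel
      rw [h2, ← hσ, h0]
      have : a + z + a = (a + a) + z := by abel
      rw [this, vv, zero_add]
    have h2 : ρ (E X (o, false) (o, false)) a = a := by
      have h3 : E X (o, false) (o, false) = mu X r * u X r * mu X r := by
        have h4 := mu_conj D hrr hrr
        rw [mu_inv D hrr] at h4
        rw [h4, cpr_self cs _ hrr]
        show u X (rt (ng (o, true)) (ng (o, true))) = _
        rw [← neg_rt]
        congr 1
        module
      rw [h3, rho_mul, rho_mul]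
      show ρ (mu X r) (ρ (u X r) z) = a
      rw [h1, hz, ← rho_mul, mu_sq D hrr, rho_one]
    have h3 : ρ (E X (o, true) (p, true)) a = a := F_fixP D R ho (Or.inl hop)
    have h4 := fix_comm h2 h3
    have h5 := comm_B2 D (a := (o, false)) (b := (p, true)) hop
    change ⁅E X (o, false) (o, false), E X (o, true) (p, true)⁆ = _ at h5
    rw [h5] at h4
    have h6 : ρ (E X (p, true) (p, true)) a = a := F_fixJ D R ho hK (Or.inr rfl) hop.symm hop.symm
    rw [rho_mul, h6] at h4
    -- `-(e_1 - e_2)`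
    have hM : Mr X ρ a (rt (o, true) (p, false)) := F_Mr D R ho hK hn (c := (p, false)) hop.symm
    have h7 := hM.neg D (isRoot_rt cs (Or.inl hop))
    rw [neg_rt] at h7
    change ρ (E X (o, false) (p, true)) a = _ at h7
    rw [h4] at h7
    have h8 : ρ (mu X (rt (o, true) (p, false))) a = 0 := by
      have := eq_add_of h7.symm
      rw [this, vv]
    have h9 := congrArg (ρ (mu X (rt (o, true) (p, false)))⁻¹) h8
    rw [rho_inv, map_zero] at h9
    exact R.a_ne h9

/-- **the case `Mv = {α_1}`** -/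
theorem first_false (hn : 3 ≤ n) : False := by
  set p : Fin n := ⟨1, by omega⟩ with hp
  have hop : o ≠ p := fun e => by rw [e] at ho; simp [hp] at ho
  set r : Fin n → ℤ := rt (o, true) (o, true) with hr
  have hrr : IsRoot cs (isCartan n) r := isRoot_rt cs (Or.inr rfl)
  have hrel : Mr X ρ a r := F_rel D R ho hK hn
  have htX : u X r ∈ X0 := F_all D R ho hK hn (c := (o, true)) (Or.inr rfl)
  obtain ⟨w, k, hk, h1, h2⟩ := Opp.opp R (S := {r}) (by
    rintro r' rfl
    exact ⟨hrr, u X r, D.u_mem hrr, htX, D.u_ne hrr⟩)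
  have h3 := h2 r rfl
  obtain ⟨f, hf, hfn, hf1⟩ := exists_perm (cs := cs) w⁻¹
  -- `w⁻¹ e_1 = -e_1`
  have hfo : f (o, true) = (o, false) := by
    obtain ⟨c, hok, e⟩ := F_form ho hK h3
    rw [hr, hf, neg_rt] at e
    have e2 := congrArg ee e
    rw [ee_rt, ee_rt] at e2
    have h4 : ng (f (o, true)) = (o, true) := by
      rcases wt_add_eq (Or.inr rfl) hok e2 with ⟨h5, -⟩ | ⟨-, h5⟩
      · exact h5
      · exact h5
    rw [← ng_ng (f (o, true)), h4]
    rfl
  set d : V := dl ρ (u X r) (ρ k a) with hd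
  have hd2 : d = ρ k (ρ (mu X r) a) := by
    have h4 : u X r * k = k * u X (-r) := by
      have h5 := D.conj_u hk.inv hrr
      rw [hr, hf, hfo, inv_inv, ← hr] at h5
      have h6 : -r = rt (o, false) (o, false) := by rw [hr, neg_rt]; rfl
      rw [h6, ← h5]; group
    rw [hd, dl, ← rho_mul, h4, rho_mul, hrel.neg D hrr, map_add, add_assoc, vv, add_zero]
  have hfix : ∀ y ∈ X0, ρ y d = d := by
    have h4 : VJ cs (isCartan n) X (Mv ρ nn a)ᶜ ≤ ThmA.St ρ d := by
      refine RGD.Sup_le fun r' hr' g hg => ?_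
      obtain ⟨c, hok, rfl⟩ := F_form ho hK hr'
      rcases (D.mem_iff (isRoot_rt cs hok)).1 hg with rfl | rfl
      · exact one_mem _
      · rw [ThmA.mem_St, hd2]
        have hroot := isRoot_rt cs hok
        have h5 := D.conj_u hk.inv hroot
        rw [hf, hfo, inv_inv] at h5
        have hokc : Ok (o, false) (f c) := by
          rcases hok with h6 | h6
          · left
            have h7 : (f (o, true)).1 ≠ (f c).1 := fun e => h6 ((hf1 _ _).1 e)
            rwa [hfo] at h7
          · right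
            rw [← h6, hfo]
        have hroot' : IsRoot cs (isCartan n) (rt (o, false) (f c)) := isRoot_rt cs hokc
        -- the reflection
        have h6 : ∃ c', Ok (o, true) c' ∧ rt (o, false) (f c) - cpr cs (isCartan n) (rt (o, false) (f c)) r • r =
            rt (o, true) c' := by
          rcases hokc with h7 | h7
          · refine ⟨f c, Or.inl h7, ?_⟩
            rw [hr, cpr_EE, show ((o, false) : Fin n × Bool) = ng (o, true) from rfl, dt_ng_left, dt_self,
              dt_ne (c := (o, true)) (Ne.symm h7)]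
            apply ee_injective
            rw [sub_eq_add_neg, ee_add, ee_neg, ee_smul, ee_rt, ee_rt, ee_rt, wt_ng]
            module
          · refine ⟨(o, true), Or.inr rfl, ?_⟩
            rw [← h7, hr, cpr_EE, show ((o, false) : Fin n × Bool) = ng (o, true) from rfl, dt_ng_left, dt_self]
            apply ee_injective
            rw [sub_eq_add_neg, ee_add, ee_neg, ee_smul, ee_rt, ee_rt, wt_ng]
            module
        obtain ⟨c', hokc', ec'⟩ := h6
        have h7 := mu_conj D hrr hroot'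
        rw [ec', mu_inv D hrr] at h7
        have h8 : u X (rt (o, true) c) * (k * mu X r) = k * mu X r * u X (rt (o, true) c') := by
          rw [← h7, ← h5]
          calc u X (rt (o, true) c) * (k * mu X r) = k * 1 * (k⁻¹ * u X (rt (o, true) c) * k) * mu X r := by group
            _ = k * (mu X r * mu X r) * (k⁻¹ * u X (rt (o, true) c) * k) * mu X r := by rw [mu_sq D hrr]
            _ = _ := by group
        rw [← rho_mul k, ← rho_mul, h8, rho_mul,
          show ρ (u X (rt (o, true) c')) a = a from F_fixP D R ho hokc']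
    intro y hy
    exact h4 (Cov.le_VJ R hy)
  obtain ⟨y, hy, t, ht, h4⟩ := R.tri (u X r) htX (D.u_ne hrr) _ h1
  apply h4
  rw [← hd]
  have h5 : dl ρ y d = 0 := by rw [dl, hfix y hy, vv]
  rw [h5, map_zero, LinearMap.zero_apply]

end

end Cfsg.Agent.Omega.EH3.Kf.SpTwo
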