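import Mathlib
import Cfsg.Agent.Omega.EH3.Kf.SpTwoA
import Cfsg.Agent.Omega.EH3.Kf.Orth

/-!
# `Sp_2n(2)`, `n ≥ 3`: the case `Mv = {α_n}` (helper532)

`X0 = ⟨X (e_i + e_j), X (2 e_i)⟩`; `n ≥ 4` is impossible by the filtration, `n = 3` by (X4).
-/

set_option autoImplicit false
set_option linter.unusedSectionVars false

namespace Cfsg.Agent.Omega.EH3.Kf.SpTwo

open CoxeterSystem Cfsg.Agent.ChevalleyStructure.CoxeterGeom Cfsg.Agent.Tits.Roots Cfsg.Agent.Tits.Core
  Cfsg.Agent.Tits.RootComb Cfsg.Agent.Nodes.Comb Cfsg.Agent.Nodes.Reps Cfsg.Agent.Nodes.BNOf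
  Cfsg.Agent.Nodes.StabComb Cfsg.Agent.Nodes.Bruhat Cfsg.Agent.Nodes.OppDec Cfsg.Agent.Nodes.LeviDec
  Cfsg.Agent.Nodes.Coroot Cfsg.Agent.Nodes.TypeC Cfsg.Agent.Nodes.TypeCForm Cfsg.Agent.Nodes.KindBC
  Cfsg.Agent.Omega.EH3.Kf.Base Cfsg.Agent.Omega.EH3.Kf.Nm Cfsg.Agent.Omega.EH3.Kf.Two
  Cfsg.Agent.Omega.EH3.Kf.TwoV
open scoped commutatorElement

variable {n : ℕ} {W Y : Type*} [Group W] [Group Y] {cs : CoxeterSystem (CoxeterMatrix.B n) W}
  {T : Subgroup Y} {nn : Fin n → Y} {X : (Fin n → ℤ) → Subgroup Y}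
  {V : Type*} [AddCommGroup V] [Module (ZMod 2) V] {ρ : Y →* (V ≃ₗ[ZMod 2] V)} {a : V}
  {b : LinearMap.BilinForm (ZMod 2) V} {DD : Submodule (ZMod 2) V} {X0 : Subgroup Y} {w0 : ℕ}

theorem ok_pp (i j : Fin n) (s : Bool) : Ok (i, s) (j, s) := by
  by_cases h : i = j
  · right; rw [h]
  · left; exact h

/-- the reflection element of `2 e_i` -/
noncomputable def NN (X : (Fin n → ℤ) → Subgroup Y) (i : Fin n) : Y := mu X (rt (i, true) (i, true))

section

variable [Finite W] (D : Dat cs (isCartan n) T nn X)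

include D

theorem NN_sq (i : Fin n) : NN X i * NN X i = 1 := mu_sq D (isRoot_rt cs (Or.inr rfl))

theorem NN_inv (i : Fin n) : (NN X i)⁻¹ = NN X i := mu_inv D (isRoot_rt cs (Or.inr rfl))

/-- `NN i` and root elements not involving `i` -/
theorem NN_comm {i : Fin n} {c d : Fin n × Bool} (hok : Ok c d) (hc : c.1 ≠ i) (hd : d.1 ≠ i) :
    E X c d * NN X i = NN X i * E X c d := by
  refine (mu_comm_u D (isRoot_rt cs (Or.inr rfl)) (isRoot_rt cs hok) ?_).symm
  rw [cpr_EE, dt_ne (c := (i, true)) hc, dt_ne (c := (i, true)) hd, add_zero]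

/-- `NN i` and root elements involving `i` -/
theorem NN_E {i : Fin n} {s : Bool} {c : Fin n × Bool} (hc : c.1 ≠ i) :
    E X (i, s) c * NN X i = NN X i * E X (i, !s) c := by
  have h1 := mu_conj D (isRoot_rt cs (Or.inr rfl : Ok ((i, true) : Fin n × Bool) (i, true)))
    (isRoot_rt cs (Or.inl (Ne.symm hc) : Ok (i, s) c))
  have h2 : rt (i, s) c - cpr cs (isCartan n) (rt (i, s) c) (rt (i, true) (i, true)) • rt (i, true) (i, true) =
      rt (i, !s) c := by
    rw [cpr_EE, dt_ne (c := (i, true)) hc]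
    apply ee_injective
    cases s
    · rw [show ((i, false) : Fin n × Bool) = ng (i, true) from rfl, dt_ng_left, dt_self, sub_eq_add_neg, ee_add,
        ee_neg, ee_smul, ee_rt, ee_rt, ee_rt, wt_ng, Bool.not_false]
      module
    · rw [dt_self, sub_eq_add_neg, ee_add, ee_neg, ee_smul, ee_rt, ee_rt, ee_rt, Bool.not_true,
        show ((i, false) : Fin n × Bool) = ng (i, true) from rfl, wt_ng]
      module
  rw [h2] at h1
  show u X (rt (i, s) c) * mu X (rt (i, true) (i, true)) = mu X (rt (i, true) (i, true)) * u X (rt (i, !s) c)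
  rw [← h1]
  have h3 := NN_sq D i
  have h4 := NN_inv D i
  unfold NN at h3 h4
  rw [h4]
  calc u X (rt (i, s) c) * mu X (rt (i, true) (i, true)) = (mu X (rt (i, true) (i, true)) *
        mu X (rt (i, true) (i, true))) * (u X (rt (i, s) c) * mu X (rt (i, true) (i, true))) := by rw [h3, one_mul]
    _ = _ := by group

theorem NN_comm_NN {i j : Fin n} (hij : i ≠ j) : NN X i * NN X j = NN X j * NN X i := by
  have h1 := mu_conj_mu D (isRoot_rt cs (Or.inr rfl : Ok ((i, true) : Fin n × Bool) (i, true)))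
    (isRoot_rt cs (Or.inr rfl : Ok ((j, true) : Fin n × Bool) (j, true)))
  rw [cpr_EE, dt_ne (c := (i, true)) (Ne.symm hij), add_zero, zero_smul, sub_zero] at h1
  exact mul_inv_eq_iff_eq_mul.1 h1

end

section

variable [Finite W] [Finite Y] (D : Dat cs (isCartan n) T nn X)
  (R : Row cs (isCartan n) T nn X ρ b a DD X0 w0) {l : Fin n} (hl : (l : ℕ) + 1 = n) (hK : Mv ρ nn a = {l})

include D R hl hK

theorem L_fix {i j : Fin n} {s : Bool} (hij : i ≠ j) : ρ (E X (i, s) (j, !s)) a = a := by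
  refine fix_J D R ⟨isRoot_rt cs (Or.inl hij), fun k hk => ?_⟩
  rw [hK] at hk
  have hk' : k = l := not_not.1 hk
  subst hk'
  exact coef_last hl

omit hl hK in
theorem L_fixP (i j : Fin n) : ρ (E X (i, true) (j, true)) a = a := by
  rcases le_total i j with h | h
  · exact fix_pos D R (isRoot_rt cs (ok_pp i j true)) (TwC.nonneg_of (ee_rt _ _) rfl h)
  · rw [E_comm]
    exact fix_pos D R (isRoot_rt cs (ok_pp j i true)) (TwC.nonneg_of (ee_rt _ _) rfl h)

omit D R in
theorem L_form {r : Fin n → ℤ} (hr : r ∈ NotJ cs (isCartan n) (Mv ρ nn a)ᶜ) :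
    ∃ i j, r = rt (i, true) (j, true) := by
  obtain ⟨k, hk, hk0⟩ := hr.2.2
  rw [hK] at hk
  have hk' : k = l := not_not.1 hk
  subst hk'
  exact last_form hl hr.1 hr.2.1 hk0

omit R hl hK in
theorem L_comm (i j i' j' : Fin n) : E X (i, true) (j, true) * E X (i', true) (j', true) =
    E X (i', true) (j', true) * E X (i, true) (j, true) := by
  refine comm_E D (ok_pp _ _ _) (ok_pp _ _ _) ?_ ?_ ?_ ?_ <;> exact fun e => by simp [ng] at e

/-- the roots `e_i + e_k`, `i ≠ k`, `i, k ≠ l` -/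
def QQ (l : Fin n) : Set (Fin n → ℤ) := {r | ∃ i k, i ≠ k ∧ i ≠ l ∧ k ≠ l ∧ r = rt (i, true) (k, true)}

theorem L_y {j : Fin n} (hj : j ≠ l) : ∃ q ∈ RGD.Sup X (QQ l),
    q * (E X (l, true) (j, true) * E X (j, true) (j, true)) ∈ X0 := by
  have hkl : l ∈ Mv ρ nn a := by rw [hK]; rfl
  obtain ⟨s, hs, hx⟩ := exists_x D R hkl
  have hso : (sr l : Fin n → ℤ) = rt (l, true) (l, true) := by
    rw [sr_eq_rt, nx, dif_neg (by omega)]
  rw [hso] at hx
  change E X (l, true) (l, true) * s ∈ X0 at hx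
  set g := E X (j, true) (l, false) with hg
  have hgfix : ρ g a = a := L_fix D R hl hK hj
  have hcomm : ∀ i k, ∀ a' ∈ X (rt (i, true) (k, true)), ∀ q ∈ RGD.Sup X (QQ l), a' * q = q * a' := by
    intro i k a' ha' q hq
    rcases (D.mem_iff (isRoot_rt cs (ok_pp i k true))).1 ha' with rfl | rfl
    · rw [one_mul, mul_one]
    · refine (comm_of_gen ?_ q hq).symm
      rintro r ⟨i', k', -, -, -, rfl⟩ a'' ha''
      rcases (D.mem_iff (isRoot_rt cs (ok_pp i' k' true))).1 ha'' with rfl | rfl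
      · rw [one_mul, mul_one]
      · exact L_comm D i' k' i k
  have hmemQ : ∀ i k, i ≠ k → i ≠ l → k ≠ l → E X (i, true) (k, true) ∈ RGD.Sup X (QQ l) := by
    intro i k h1 h2 h3
    exact RGD.le_Sup (show rt (i, true) (k, true) ∈ QQ l from ⟨i, k, h1, h2, h3, rfl⟩)
      (D.u_mem (isRoot_rt cs (ok_pp i k true)))
  have hgen : ∀ k, k ≠ l → ⁅E X (k, true) (l, true), g⁆ ∈ RGD.Sup X (QQ l) := by
    intro k hk
    by_cases hkj : k = j
    · subst hkj
      have h1 : E X (k, true) (l, true) * g = g * E X (k, true) (l, true) :=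
        comm_flip D (a := (k, true)) (b := (l, true)) hk
      rw [commutatorElement_eq_one_iff_mul_comm.2 h1]
      exact one_mem _
    · have h1 := comm_A2 D (a := (k, true)) (b := (l, true)) (c := (j, true)) hk (Ne.symm hj) hkj
      rw [hg, E_comm (j, true) (l, false)]
      change ⁅E X (k, true) (l, true), E X (l, false) (j, true)⁆ = _ at h1
      rw [h1]
      exact hmemQ k j hkj hk hj
  have hsg : ⁅s, g⁆ ∈ RGD.Sup X (QQ l) := by
    refine comm_Sup ?_ ?_ s hs
    · rintro r ⟨-, hr2⟩ a' ha' q hq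
      obtain ⟨i, k, rfl⟩ := L_form hl hK hr2
      exact hcomm i k a' ha' q hq
    · rintro r ⟨hr1, hr2⟩ a' ha'
      obtain ⟨i, k, rfl⟩ := L_form hl hK hr2
      rcases (D.mem_iff (isRoot_rt cs (ok_pp i k true))).1 ha' with rfl | rfl
      · rw [commutatorElement_one_left]; exact one_mem _
      change ⁅E X (i, true) (k, true), g⁆ ∈ _
      by_cases hil : i = l
      · by_cases hkl' : k = l
        · exfalso
          rw [hil, hkl', ← hso] at hr1
          obtain ⟨k', hk', hk0⟩ := hr1.2.2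
          rw [sr_ne (fun e => hk' (by rw [e]; rfl))] at hk0
          exact absurd hk0 (lt_irrefl _)
        · rw [hil, E_comm]
          exact hgen k hkl'
      · by_cases hkl' : k = l
        · rw [hkl']
          exact hgen i hil
        · have h1 : E X (i, true) (k, true) * g = g * E X (i, true) (k, true) := by
            refine comm_E D (ok_pp _ _ _) (Or.inl hj) ?_ ?_ ?_ ?_
            · exact fun e => by simp [ng] at e
            · exact fun e => hil (congrArg Prod.fst e)
            · exact fun e => by simp [ng] at e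
            · exact fun e => hkl' (congrArg Prod.fst e)
          rw [commutatorElement_eq_one_iff_mul_comm.2 h1]
          exact one_mem _
  refine ⟨⁅s, g⁆, hsg, ?_⟩
  have h1 := comm_mem_X0 R hx hgfix
  have h2 : ⁅E X (l, true) (l, true) * s, g⁆ = E X (l, true) (l, true) * ⁅s, g⁆ * (E X (l, true) (l, true))⁻¹ *
      ⁅E X (l, true) (l, true), g⁆ := by
    rw [commutatorElement_def, commutatorElement_def, commutatorElement_def]; group
  have h3 := comm_B2 D (a := (l, true)) (b := (j, true)) (Ne.symm hj)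
  change ⁅E X (l, true) (l, true), E X (l, false) (j, true)⁆ = _ at h3
  have h5 : E X (l, true) (l, true) * ⁅s, g⁆ = ⁅s, g⁆ * E X (l, true) (l, true) :=
    hcomm l l _ (D.u_mem (isRoot_rt cs (ok_pp l l true))) _ hsg
  have h6 : ⁅E X (l, true) (l, true), g⁆ = E X (l, true) (j, true) * E X (j, true) (j, true) := by
    rw [hg, E_comm (j, true) (l, false), h3]
  rw [h2, h5, h6] at h1
  have h4 : ⁅s, g⁆ * E X (l, true) (l, true) * (E X (l, true) (l, true))⁻¹ *
      (E X (l, true) (j, true) * E X (j, true) (j, true)) =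
      ⁅s, g⁆ * (E X (l, true) (j, true) * E X (j, true) (j, true)) := by group
  rw [← h4]
  exact h1

theorem L_short {i j : Fin n} (hij : i ≠ j) (hi : i ≠ l) (hj : j ≠ l) : E X (j, true) (i, true) ∈ X0 := by
  obtain ⟨q, hq, hy⟩ := L_y D R hl hK hj
  set g := E X (i, true) (l, false) with hg
  have hgfix : ρ g a = a := L_fix D R hl hK hi
  have h1 := comm_mem_X0 R hy hgfix
  have c1 : E X (j, true) (j, true) * g = g * E X (j, true) (j, true) := by
    refine comm_E D (ok_pp _ _ _) (Or.inl hi) ?_ ?_ ?_ ?_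
    · exact fun e => by simp [ng] at e
    · exact fun e => hj (congrArg Prod.fst e)
    · exact fun e => by simp [ng] at e
    · exact fun e => hj (congrArg Prod.fst e)
  have c2 : q * g = g * q := by
    refine comm_of_gen ?_ q hq
    rintro r ⟨i', k', h1, h2, h3, rfl⟩ a' ha'
    rcases (D.mem_iff (isRoot_rt cs (ok_pp i' k' true))).1 ha' with rfl | rfl
    · rw [one_mul, mul_one]
    · refine comm_E D (ok_pp _ _ _) (Or.inl hi) ?_ ?_ ?_ ?_
      · exact fun e => by simp [ng] at e
      · exact fun e => h2 (congrArg Prod.fst e)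
      · exact fun e => by simp [ng] at e
      · exact fun e => h3 (congrArg Prod.fst e)
  have c3 : q * E X (j, true) (i, true) = E X (j, true) (i, true) * q := by
    refine comm_of_gen ?_ q hq
    rintro r ⟨i', k', h1, h2, h3, rfl⟩ a' ha'
    rcases (D.mem_iff (isRoot_rt cs (ok_pp i' k' true))).1 ha' with rfl | rfl
    · rw [one_mul, mul_one]
    · exact L_comm D _ _ _ _
  rw [← mul_assoc, comm_mul_left c1] at h1
  have h2 : ⁅q * E X (l, true) (j, true), g⁆ = q * ⁅E X (l, true) (j, true), g⁆ * q⁻¹ * ⁅q, g⁆ := by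
    rw [commutatorElement_def, commutatorElement_def, commutatorElement_def]; group
  have h3 := comm_A2 D (a := (j, true)) (b := (l, true)) (c := (i, true)) hj (Ne.symm hi) (Ne.symm hij)
  change ⁅E X (j, true) (l, true), E X (l, false) (i, true)⁆ = _ at h3
  rw [h2, commutatorElement_eq_one_iff_mul_comm.2 c2, mul_one, hg, E_comm (l, true) (j, true),
    E_comm (i, true) (l, false), h3, c3, mul_inv_cancel_right] at h1
  exact h1

/-- `X0` contains all `u (e_i + e_k)` -/
theorem L_short' (hn : 3 ≤ n) {i k : Fin n} (hik : i ≠ k) : E X (i, true) (k, true) ∈ X0 := by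
  have key : ∀ i, i ≠ l → E X (i, true) (l, true) ∈ X0 := by
    intro i hi
    obtain ⟨m, hmi, hml⟩ : ∃ m : Fin n, m ≠ i ∧ m ≠ l := by
      by_cases hi0 : (i : ℕ) = 0
      · exact ⟨⟨1, by omega⟩, fun e => by rw [← e] at hi0; simp at hi0, fun e => by
          rw [← e] at hl; simp only at hl; omega⟩
      · exact ⟨⟨0, by omega⟩, fun e => hi0 (by rw [← e]), fun e => by
          rw [← e] at hl; simp only at hl; omega⟩
    have h1 := L_short D R hl hK hmi hml hi
    have h3 := refl_mem D R (isRoot_rt cs (Or.inl (Ne.symm hmi) : Ok (i, true) (m, true)))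
      (isRoot_rt cs (Or.inl hml : Ok (ng (m, true)) (l, true)))
      (L_fix D R hl hK (s := false) hml)
      (by rw [neg_rt]; exact L_fix D R hl hK (s := true) hml) h1
    rw [refl_short (Ne.symm hmi) hml hi] at h3
    exact h3
  by_cases hkl : k = l
  · subst hkl
    exact key i hik
  · by_cases hil : i = l
    · subst hil
      rw [E_comm]
      exact key k hkl
    · exact L_short D R hl hK (Ne.symm hik) hkl hil

/-- `X0` contains all `u (2 e_i)` -/
theorem L_long (hn : 3 ≤ n) (i : Fin n) : E X (i, true) (i, true) ∈ X0 := by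
  have key : ∀ i, i ≠ l → E X (i, true) (i, true) ∈ X0 := by
    intro i hi
    obtain ⟨q, hq, hy⟩ := L_y D R hl hK hi
    have hq0 : q ∈ X0 := by
      refine (RGD.Sup_le ?_ : RGD.Sup X (QQ l) ≤ X0) hq
      rintro r ⟨i', k', h1, h2, h3, rfl⟩ a' ha'
      rcases (D.mem_iff (isRoot_rt cs (ok_pp i' k' true))).1 ha' with rfl | rfl
      · exact one_mem _
      · exact L_short' D R hl hK hn h1
    have h1 := (mul_mem_cancel_left hq0).1 hy
    exact (mul_mem_cancel_left (L_short' D R hl hK hn (Ne.symm hi))).1 h1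
  by_cases hil : i = l
  · subst hil
    have h0 : (⟨0, by omega⟩ : Fin n) ≠ i := fun e => by rw [← e] at hl; simp only at hl; omega
    have h1 := key _ h0
    have h3 := refl_mem D R (isRoot_rt cs (Or.inr rfl : Ok ((⟨0, by omega⟩, true) : Fin n × Bool) (⟨0, by omega⟩, true)))
      (isRoot_rt cs (Or.inl h0 : Ok (ng (⟨0, by omega⟩, true)) (i, true)))
      (L_fix D R hl hK (s := false) h0)
      (by rw [neg_rt]; exact L_fix D R hl hK (s := true) h0) h1
    rw [refl_long h0] at h3
    exact h3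
  · exact key i hil

/-- `(u r - 1) (mu r a) = a` for the roots `r = 2 e_i` -/
theorem L_Mr (i : Fin n) : Mr X ρ a (rt (i, true) (i, true)) := by
  have hkl : l ∈ Mv ρ nn a := by rw [hK]; rfl
  have hso : (sr l : Fin n → ℤ) = rt (l, true) (l, true) := by
    rw [sr_eq_rt, nx, dif_neg (by omega)]
  have h0 : Mr X ρ a (rt (l, true) (l, true)) := by
    rw [← hso]
    exact Mr.base D R.core hkl
  by_cases hil : i = l
  · rw [hil]; exact h0
  · have h3 := Mr.refl D (isRoot_rt cs (Or.inr rfl : Ok ((l, true) : Fin n × Bool) (l, true)))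
      (isRoot_rt cs (Or.inl (Ne.symm hil) : Ok (ng (l, true)) (i, true)))
      (L_fix D R hl hK (s := false) (Ne.symm hil))
      (by rw [neg_rt]; exact L_fix D R hl hK (s := true) (Ne.symm hil)) h0
    rwa [refl_long (Ne.symm hil)] at h3

end

end Cfsg.Agent.Omega.EH3.Kf.SpTwo
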