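import Mathlib
import Cfsg.Agent.Omega.EH3.Kf.SpTwoB

/-!
# `Sp_2n(2)`, `n ≥ 3`: the case `Mv = {α_n}`, second part (helper532)

* `L_rel` : `(u (e_p + e_q) - 1) (NN p (NN q a)) = a`;
* `last_false` : contradiction.
-/

set_option autoImplicit false
set_option linter.unusedSectionVars false

namespace Cfsg.Agent.Omega.EH3.Kf.SpTwo

open CoxeterSystem Cfsg.Agent.ChevalleyStructure.CoxeterGeom Cfsg.Agent.Tits.Roots Cfsg.Agent.Tits.Core
  Cfsg.Agent.Tits.RootComb Cfsg.Agent.Nodes.Comb Cfsg.Agent.Nodes.Reps Cfsg.Agent.Nodes.BNOf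
  Cfsg.Agent.Nodes.StabComb Cfsg.Agent.Nodes.Bruhat Cfsg.Agent.Nodes.OppDec Cfsg.Agent.Nodes.LeviDec
  Cfsg.Agent.Nodes.Coroot Cfsg.Agent.Nodes.TypeC Cfsg.Agent.Nodes.TypeCForm Cfsg.Agent.Nodes.KindBC
  Cfsg.Agent.Omega.EH3.Kf.Base Cfsg.Agent.Omega.EH3.Kf.Nm Cfsg.Agent.Omega.EH3.Kf.Two
  Cfsg.Agent.Omega.EH3.Kf.TwoV
open scoped commutatorElement

variable {n : ℕ} {W Y : Type*} [Group W] [Group Y] {cs : CoxeterSystem (CoxeterMatrix.B n) W}
  {T : Subgroup Y} {nn : Fin n → Y} {X : (Fin n → ℤ) → Subgroup Y}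
  {V : Type*} [AddCommGroup V] [Module (ZMod 2) V] {ρ : Y →* (V ≃ₗ[ZMod 2] V)} {a : V}
  {b : LinearMap.BilinForm (ZMod 2) V} {DD : Submodule (ZMod 2) V} {X0 : Subgroup Y} {w0 : ℕ}

section

variable [Finite W] [Finite Y] (D : Dat cs (isCartan n) T nn X)
  (R : Row cs (isCartan n) T nn X ρ b a DD X0 w0) {l : Fin n} (hl : (l : ℕ) + 1 = n) (hK : Mv ρ nn a = {l})

include D R hl hK

theorem NN_cancel (i : Fin n) (v : V) : ρ (NN X i) (ρ (NN X i) v) = v := by
  rw [← rho_mul, NN_sq D, rho_one]

theorem NN_swap {i j : Fin n} (hij : i ≠ j) (v : V) : ρ (NN X i) (ρ (NN X j) v) = ρ (NN X j) (ρ (NN X i) v) := by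
  rw [← rho_mul, ← rho_mul, NN_comm_NN D hij]

/-- `E (2 e_i) (NN i a) = NN i a + a` -/
theorem L_Mr' (i : Fin n) : ρ (E X (i, true) (i, true)) (ρ (NN X i) a) = ρ (NN X i) a + a := L_Mr D R hl hK i

/-- moving `NN` to the left -/
theorem E_NN {i : Fin n} {c d : Fin n × Bool} (hok : Ok c d) (hc : c.1 ≠ i) (hd : d.1 ≠ i) (v : V) :
    ρ (E X c d) (ρ (NN X i) v) = ρ (NN X i) (ρ (E X c d) v) := by
  rw [← rho_mul, NN_comm D hok hc hd, rho_mul]

theorem E_NN' {i : Fin n} {s : Bool} {c : Fin n × Bool} (hc : c.1 ≠ i) (v : V) :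
    ρ (E X (i, s) c) (ρ (NN X i) v) = ρ (NN X i) (ρ (E X (i, !s) c) v) := by
  rw [← rho_mul, NN_E D hc, rho_mul]

/-- **the relation** -/
theorem L_rel {p q : Fin n} (hpq : p ≠ q) : ρ (E X (p, true) (q, true)) (ρ (NN X p) (ρ (NN X q) a)) =
    ρ (NN X p) (ρ (NN X q) a) + a := by
  set x := E X (p, true) (q, true) with hx
  set z : V := ρ (NN X p) (ρ (NN X q) a) with hz
  have hz' : z = ρ (NN X q) (ρ (NN X p) a) := by rw [hz, NN_swap D R hl hK hpq]
  set ζ : V := ρ x z + z + a with hζ
  have hxx : x * x = 1 := E_sq D (ok_pp p q true)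
  have hxa : ρ x a = a := L_fixP D R p q
  -- `x` fixes `NN p a` and `NN q a`
  have hxp : ρ x (ρ (NN X p) a) = ρ (NN X p) a := by
    rw [hx, E_NN' D R hl hK (c := (q, true)) (Ne.symm hpq)]
    congr 1
    have h1 := L_fix D R hl hK (s := false) hpq
    exact h1
  have hxq : ρ x (ρ (NN X q) a) = ρ (NN X q) a := by
    rw [hx, E_comm, E_NN' D R hl hK (c := (p, true)) hpq]
    congr 1
    exact L_fix D R hl hK (s := false) (Ne.symm hpq)
  -- root elements with an index outside `{p, q}`
  have hA : ∀ i j, i ≠ p → i ≠ q → ρ (E X (i, true) (j, true)) z = z := by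
    intro i j hip hiq
    by_cases hjp : j = p
    · subst hjp
      rw [hz, E_comm, E_NN' D R hl hK (c := (i, true)) hip, E_NN D R hl hK (Or.inl (Ne.symm hip)) hpq hiq]
      congr 2
      exact L_fix D R hl hK (s := false) (Ne.symm hip)
    · by_cases hjq : j = q
      · subst hjq
        rw [hz', E_comm, E_NN' D R hl hK (c := (i, true)) hiq, E_NN D R hl hK (Or.inl (Ne.symm hiq)) (Ne.symm hpq) hip]
        congr 2
        exact L_fix D R hl hK (s := false) (Ne.symm hiq)
      · rw [hz, E_NN D R hl hK (ok_pp i j true) hip hjp, E_NN D R hl hK (ok_pp i j true) hiq hjq,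
          L_fixP D R i j]
  have key : ∀ i j, ρ (E X (i, true) (j, true)) ζ = ζ := by
    intro i j
    have hc : E X (i, true) (j, true) * x = x * E X (i, true) (j, true) := L_comm D i j p q
    have h1 : ρ (E X (i, true) (j, true)) ζ = ρ x (ρ (E X (i, true) (j, true)) z) +
        ρ (E X (i, true) (j, true)) z + a := by
      rw [hζ, map_add, map_add, ← rho_mul, hc, rho_mul, L_fixP D R i j]
    have hfixz : ρ (E X (i, true) (j, true)) z = z → ρ (E X (i, true) (j, true)) ζ = ζ := by
      intro h2; rw [h1, h2]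
    have hmov : ∀ v, ρ x v = v → ρ (E X (i, true) (j, true)) z = z + v → ρ (E X (i, true) (j, true)) ζ = ζ := by
      intro v hv h2
      rw [h1, h2, map_add, hv, hζ]
      have : ρ x z + v + (z + v) + a = ρ x z + z + a + (v + v) := by abel
      rw [this, vv, add_zero]
    by_cases hip : i = p
    · by_cases hjp : j = p
      · rw [hip, hjp] at hmov ⊢
        refine hmov (ρ (NN X q) a) hxq ?_
        rw [hz', E_NN D R hl hK (Or.inr rfl) hpq hpq, L_Mr' D R hl hK, map_add]
      · by_cases hjq : j = q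
        · rw [hip, hjq]
          show ρ x ζ = ζ
          rw [hζ, map_add, map_add, ← rho_mul, hxx, rho_one, hxa]
          abel
        · refine hfixz ?_
          rw [E_comm]
          exact hA j i hjp hjq
    · by_cases hiq : i = q
      · by_cases hjq : j = q
        · rw [hiq, hjq] at hmov ⊢
          refine hmov (ρ (NN X p) a) hxp ?_
          rw [hz, E_NN D R hl hK (Or.inr rfl) (Ne.symm hpq) (Ne.symm hpq), L_Mr' D R hl hK, map_add]
        · by_cases hjp : j = p
          · rw [hiq, hjp, E_comm]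
            show ρ x ζ = ζ
            rw [hζ, map_add, map_add, ← rho_mul, hxx, rho_one, hxa]
            abel
          · refine hfixz ?_
            rw [E_comm]
            exact hA j i hjp hjq
      · exact hfixz (hA i j hip hiq)
  have hfix' : ∀ x ∈ X0, ρ x ζ = ζ := by
    have h1 : VJ cs (isCartan n) X (Mv ρ nn a)ᶜ ≤ ThmA.St ρ ζ := by
      refine RGD.Sup_le fun r' hr' g hg => ?_
      obtain ⟨i, j, rfl⟩ := L_form hl hK hr'
      rcases (D.mem_iff (isRoot_rt cs (ok_pp i j true))).1 hg with rfl | rfl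
      · exact one_mem _
      · exact key i j
    intro x hx
    exact h1 (Cov.le_VJ R hx)
  have e1 : ρ x z = z + a + ζ := by
    rw [hζ]
    have : z + a + (ρ x z + z + a) = ρ x z + (z + z) + (a + a) := by abel
    rw [this, vv, vv, add_zero, add_zero]
  rcases R.fix ζ hfix' with h0 | h0
  · rw [e1, h0, add_zero]
  · exfalso
    rw [h0, add_assoc, vv, add_zero] at e1
    -- `E (-e_p) (-e_q)` fixes `a`
    have h2 : ρ (E X (p, false) (q, false)) a = a := by
      have h3 : ρ (NN X p) (ρ (NN X q) (ρ (E X (p, false) (q, false)) a)) = ρ x z := by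
        rw [hx, hz, E_NN' D R hl hK (c := (q, true)) (Ne.symm hpq)]
        congr 1
        rw [E_comm, E_comm (p, !true) (q, true), E_NN' D R hl hK (c := (p, !true)) hpq]
        rfl
      rw [e1, hz] at h3
      exact (ρ (NN X q)).injective ((ρ (NN X p)).injective h3)
    have h4 := fix_comm (L_fixP D R p p) h2
    have h5 := comm_B2 D (a := (p, true)) (b := (q, false)) hpq
    change ⁅E X (p, true) (p, true), E X (p, false) (q, false)⁆ = _ at h5
    rw [h5] at h4
    have h6 : ρ (E X (q, false) (q, false)) a = a := by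
      have h7 : ρ (E X (p, true) (q, false)) a = a := L_fix D R hl hK (s := true) hpq
      have h8 : ρ (E X (p, true) (q, false)) (ρ (E X (q, false) (q, false)) a) =
          ρ (E X (p, true) (q, false)) a := by rw [← rho_mul, h4, h7]
      exact (ρ (E X (p, true) (q, false))).injective h8
    have h7 := (L_Mr D R hl hK q).neg D (isRoot_rt cs (ok_pp q q true))
    rw [neg_rt] at h7
    change ρ (E X (q, false) (q, false)) a = _ at h7
    rw [h6] at h7
    have h8 : ρ (mu X (rt (q, true) (q, true))) a = 0 := by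
      have := eq_add_of h7.symm
      rw [this, vv]
    have h9 := congrArg (ρ (mu X (rt (q, true) (q, true)))⁻¹) h8
    rw [rho_inv, map_zero] at h9
    exact R.a_ne h9

theorem L_relneg {p q : Fin n} (hpq : p ≠ q) : ρ (E X (p, false) (q, false)) a =
    ρ (NN X p) (ρ (NN X q) a) + a := by
  have h3 : ρ (NN X p) (ρ (NN X q) (ρ (E X (p, false) (q, false)) a)) =
      ρ (E X (p, true) (q, true)) (ρ (NN X p) (ρ (NN X q) a)) := by
    rw [E_NN' D R hl hK (c := (q, true)) (Ne.symm hpq)]
    congr 1
    rw [E_comm, E_comm (p, !true) (q, true), E_NN' D R hl hK (c := (p, !true)) hpq]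
    rfl
  rw [L_rel D R hl hK hpq] at h3
  have h4 := congrArg (fun v => ρ (NN X q) (ρ (NN X p) v)) h3
  simp only [map_add] at h4
  rw [NN_cancel D R hl hK, NN_cancel D R hl hK, NN_cancel D R hl hK, NN_cancel D R hl hK] at h4
  rw [h4, add_comm, NN_swap D R hl hK hpq]

theorem L_Mrneg (i : Fin n) : ρ (E X (i, false) (i, false)) a = ρ (NN X i) a + a := by
  have h7 := (L_Mr D R hl hK i).neg D (isRoot_rt cs (ok_pp i i true))
  rw [neg_rt] at h7
  exact h7

/-- `n ≥ 4` -/
theorem last_four (hn : 4 ≤ n) : False := by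
  have hlong : ∀ i, E X (i, true) (i, true) ∈ X0 := L_long D R hl hK (by omega)
  -- `(t_i - 1) (NN i a) = a`
  have s0 : ∀ i, dl ρ (E X (i, true) (i, true)) (ρ (NN X i) a) = a := by
    intro i
    rw [dl, L_Mr' D R hl hK]
    have : ρ (NN X i) a + a + ρ (NN X i) a = a + (ρ (NN X i) a + ρ (NN X i) a) := by abel
    rw [this, vv, add_zero]
  have s1 : ∀ i j v, i ≠ j → dl ρ (E X (i, true) (i, true)) (ρ (NN X j) v) =
      ρ (NN X j) (dl ρ (E X (i, true) (i, true)) v) := by
    intro i j v hij
    rw [dl, dl, E_NN D R hl hK (Or.inr rfl) hij hij, map_add]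
  set i0 : Fin n := ⟨0, by omega⟩ with h0
  set i1 : Fin n := ⟨1, by omega⟩ with h1
  set i2 : Fin n := ⟨2, by omega⟩ with h2
  set i3 : Fin n := ⟨3, by omega⟩ with h3
  have n01 : i0 ≠ i1 := fun e => by rw [h0, h1, Fin.mk.injEq] at e; omega
  have n02 : i0 ≠ i2 := fun e => by rw [h0, h2, Fin.mk.injEq] at e; omega
  have n03 : i0 ≠ i3 := fun e => by rw [h0, h3, Fin.mk.injEq] at e; omega
  have n12 : i1 ≠ i2 := fun e => by rw [h1, h2, Fin.mk.injEq] at e; omega
  have n13 : i1 ≠ i3 := fun e => by rw [h1, h3, Fin.mk.injEq] at e; omega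
  have n23 : i2 ≠ i3 := fun e => by rw [h2, h3, Fin.mk.injEq] at e; omega
  have l0 : Orth.Lv b a DD 0 (ρ (NN X i0) (ρ (NN X i1) (ρ (NN X i2) (ρ (NN X i3) a)))) := trivial
  have l1 := Orth.lv_dl R (hlong i3) l0
  rw [s1 _ _ _ n03.symm, s1 _ _ _ n13.symm, s1 _ _ _ n23.symm, s0] at l1
  have l2 := Orth.lv_dl R (hlong i2) l1
  rw [s1 _ _ _ n02.symm, s1 _ _ _ n12.symm, s0] at l2
  have l3 := Orth.lv_dl R (hlong i1) l2
  rw [s1 _ _ _ n01.symm, s0] at l3
  have l4 := Orth.lv_dl R (hlong i0) l3
  rw [s0] at l4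
  exact R.a_ne l4

/-- `n = 3` -/
theorem last_three (hn : n = 3) : False := by
  have hn3 : 3 ≤ n := by omega
  have hlong : ∀ i, E X (i, true) (i, true) ∈ X0 := L_long D R hl hK hn3
  obtain ⟨w, k, hk, h1, h2⟩ := Opp.opp R (S := {r | ∃ i, r = rt (i, true) (i, true)}) (by
    rintro r' ⟨i, rfl⟩
    exact ⟨isRoot_rt cs (Or.inr rfl), _, D.u_mem (isRoot_rt cs (Or.inr rfl)), hlong i, D.u_ne (isRoot_rt cs (Or.inr rfl))⟩)
  obtain ⟨f, hf, hfn, hf1⟩ := exists_perm (cs := cs) w⁻¹
  -- `w⁻¹ e_i = -e_{π i}`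
  set π : Fin n → Fin n := fun i => (f (i, true)).1 with hπ
  have hfo : ∀ i, f (i, true) = (π i, false) := by
    intro i
    have h3 := h2 _ ⟨i, rfl⟩
    obtain ⟨c, d, e⟩ := L_form hl hK h3
    rw [hf, neg_rt] at e
    have e2 := congrArg ee e
    rw [ee_rt, ee_rt] at e2
    rcases wt_add_eq (Or.inr rfl) (ok_pp c d true) e2 with ⟨h5, -⟩ | ⟨h5, -⟩ <;>
    · have h6 := congrArg Prod.snd h5
      simp only [ng_snd] at h6
      refine Prod.ext rfl ?_
      show (f (i, true)).2 = false
      revert h6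
      cases (f (i, true)).2 <;> simp
  have hπinj : ∀ i j, i ≠ j → π i ≠ π j := fun i j hij e => hij ((hf1 (i, true) (j, true)).1 e)
  -- conjugation by `k`
  have hconj : ∀ i j v, ρ (E X (i, true) (j, true)) (ρ k v) = ρ k (ρ (E X (π i, false) (π j, false)) v) := by
    intro i j v
    have h5 := D.conj_u hk.inv (isRoot_rt cs (ok_pp i j true))
    rw [hf, hfo, hfo, inv_inv] at h5
    have h6 : E X (i, true) (j, true) * k = k * E X (π i, false) (π j, false) := by
      unfold E
      rw [← h5]; group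
    rw [← rho_mul, h6, rho_mul]
  set p : Fin n := ⟨0, by omega⟩ with hp
  set q : Fin n := ⟨1, by omega⟩ with hq
  set m : Fin n := ⟨2, by omega⟩ with hm
  have hpq : p ≠ q := fun e => by rw [hp, hq, Fin.mk.injEq] at e; omega
  have hpm : p ≠ m := fun e => by rw [hp, hm, Fin.mk.injEq] at e; omega
  have hqm : q ≠ m := fun e => by rw [hq, hm, Fin.mk.injEq] at e; omega
  have hcase : ∀ i : Fin n, i = p ∨ i = q ∨ i = m := by
    intro i
    have h4 := i.2
    have h5 : (i : ℕ) = 0 ∨ (i : ℕ) = 1 ∨ (i : ℕ) = 2 := by omega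
    rcases h5 with h5 | h5 | h5
    · exact Or.inl (Fin.ext h5)
    · exact Or.inr (Or.inl (Fin.ext h5))
    · exact Or.inr (Or.inr (Fin.ext h5))
  have hxX : E X (p, true) (q, true) ∈ X0 := L_short' D R hl hK hn3 hpq
  set x := E X (p, true) (q, true) with hx
  set z : V := ρ (NN X (π p)) (ρ (NN X (π q)) a) with hz
  have hz' : z = ρ (NN X (π q)) (ρ (NN X (π p)) a) := by rw [hz, NN_swap D R hl hK (hπinj _ _ hpq)]
  set d : V := dl ρ x (ρ k a) with hd
  have hd2 : d = ρ k z := by
    rw [hd, dl, hx, hconj, L_relneg D R hl hK (hπinj _ _ hpq), map_add, add_assoc, vv, add_zero]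
  -- the elements of `X0` other than `E m m` fix `d`
  have g1 : ∀ i j, i ≠ m → ρ (E X (i, true) (j, true)) d = d := by
    intro i j him
    rw [hd2, hconj]
    congr 1
    by_cases hjm : j = m
    · rw [hjm]
      rcases hcase i with hi | hi | hi
      · rw [hi, hz, E_NN' D R hl hK (c := (π m, false)) (hπinj _ _ hpm.symm),
          E_NN D R hl hK (c := (π p, !false)) (d := (π m, false)) (Or.inl (hπinj _ _ hpm)) (hπinj _ _ hpq)
            (hπinj _ _ hqm.symm)]
        congr 2
        exact L_fix D R hl hK (s := true) (hπinj _ _ hpm)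
      · rw [hi, hz', E_NN' D R hl hK (c := (π m, false)) (hπinj _ _ hqm.symm),
          E_NN D R hl hK (c := (π q, !false)) (d := (π m, false)) (Or.inl (hπinj _ _ hqm)) (hπinj _ _ hpq.symm)
            (hπinj _ _ hpm.symm)]
        congr 2
        exact L_fix D R hl hK (s := true) (hπinj _ _ hqm)
      · exact absurd hi him
    · -- `i, j ∈ {p, q}`
      have hpp : ∀ i, ρ (E X (i, false) (i, false)) (ρ (NN X i) a) = ρ (NN X i) a := by
        intro i
        have h5 := L_Mrneg D R hl hK i
        have h6 := congrArg (ρ (NN X i)) (L_Mr' D R hl hK i)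
        rw [map_add, NN_cancel D R hl hK] at h6
        -- `E(-2e_i) = NN i E(2e_i) NN i`
        have h7 := mu_conj D (isRoot_rt cs (Or.inr rfl : Ok ((i, true) : Fin n × Bool) (i, true)))
          (isRoot_rt cs (Or.inr rfl : Ok ((i, true) : Fin n × Bool) (i, true)))
        rw [cpr_self cs _ (isRoot_rt cs (Or.inr rfl : Ok ((i, true) : Fin n × Bool) (i, true)))] at h7
        have h8 : rt (i, true) (i, true) - (2 : ℤ) • rt (i, true) (i, true) = rt (i, false) (i, false) := by
          have : rt ((i, true) : Fin n × Bool) (i, true) - (2 : ℤ) • rt (i, true) (i, true) = -rt (i, true) (i, true) := by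
            module
          rw [this, neg_rt]
          rfl
        rw [h8] at h7
        have h9 : E X (i, false) (i, false) * NN X i = NN X i * E X (i, true) (i, true) := by
          show u X (rt (i, false) (i, false)) * NN X i = NN X i * u X (rt (i, true) (i, true))
          rw [← h7]
          show NN X i * u X (rt (i, true) (i, true)) * (NN X i)⁻¹ * NN X i = _
          rw [inv_mul_cancel_right]
        rw [← rho_mul, h9, rho_mul, L_fixP D R]
      rcases hcase i with hi | hi | hi
      · rcases hcase j with hj | hj | hj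
        · rw [hi, hj, hz', E_NN D R hl hK (c := (π p, false)) (d := (π p, false)) (Or.inr rfl) (hπinj _ _ hpq)
            (hπinj _ _ hpq), hpp]
        · rw [hi, hj]
          have h5 := L_relneg D R hl hK (hπinj _ _ hpq)
          -- `y (y a) = a`
          have h6 := congrArg (ρ (E X (π p, false) (π q, false))) h5
          rw [← rho_mul, E_sq D (ok_pp _ _ _), rho_one, map_add, h5] at h6
          show ρ (E X (π p, false) (π q, false)) z = z
          have h7 : ρ (E X (π p, false) (π q, false)) z + (z + a) = a := h6.symm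
          have h8 := eq_add_of h7
          rw [h8]
          have : a + (z + a) = z + (a + a) := by abel
          rw [this, vv, add_zero]
        · exact absurd hj hjm
      · rcases hcase j with hj | hj | hj
        · rw [hi, hj, E_comm]
          have h5 := L_relneg D R hl hK (hπinj _ _ hpq)
          have h6 := congrArg (ρ (E X (π p, false) (π q, false))) h5
          rw [← rho_mul, E_sq D (ok_pp _ _ _), rho_one, map_add, h5] at h6
          show ρ (E X (π p, false) (π q, false)) z = z
          have h7 : ρ (E X (π p, false) (π q, false)) z + (z + a) = a := h6.symm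
          have h8 := eq_add_of h7
          rw [h8]
          have : a + (z + a) = z + (a + a) := by abel
          rw [this, vv, add_zero]
        · rw [hi, hj, hz, E_NN D R hl hK (c := (π q, false)) (d := (π q, false)) (Or.inr rfl) (hπinj _ _ hpq.symm)
            (hπinj _ _ hpq.symm), hpp]
        · exact absurd hj hjm
      · exact absurd hi him
  set t := E X (m, true) (m, true) with ht
  have htt : t * t = 1 := E_sq D (ok_pp m m true)
  set e' : V := dl ρ t d with he'
  have g2 : ∀ y ∈ X0, ρ y e' = e' := by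
    have h4 : VJ cs (isCartan n) X (Mv ρ nn a)ᶜ ≤ ThmA.St ρ e' := by
      refine RGD.Sup_le fun r' hr' g hg => ?_
      obtain ⟨i, j, rfl⟩ := L_form hl hK hr'
      rcases (D.mem_iff (isRoot_rt cs (ok_pp i j true))).1 hg with rfl | rfl
      · exact one_mem _
      · show ρ (E X (i, true) (j, true)) e' = e'
        have h5 : E X (i, true) (j, true) * t = t * E X (i, true) (j, true) := L_comm D i j m m
        have h6 : ρ (E X (i, true) (j, true)) d = d → ρ (E X (i, true) (j, true)) e' = e' := by
          intro h7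
          rw [he', dl, map_add, ← rho_mul, h5, rho_mul, h7]
        by_cases him : i = m
        · by_cases hjm : j = m
          · rw [him, hjm]
            show ρ t e' = e'
            rw [he', dl, map_add, ← rho_mul, htt, rho_one, add_comm]
          · refine h6 ?_
            rw [E_comm]
            exact g1 j i hjm
        · exact h6 (g1 i j him)
    intro y hy
    exact h4 (Cov.le_VJ R hy)
  have g3 := R.fix e' g2
  -- all `y ∈ X0` : `(y - 1) d ∈ {0, a}`
  have g4 : ∀ y ∈ VJ cs (isCartan n) X (Mv ρ nn a)ᶜ, dl ρ y d = 0 ∨ dl ρ y d = a := by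
    let K : Subgroup Y :=
      { carrier := {y | ρ y a = a ∧ (dl ρ y d = 0 ∨ dl ρ y d = a)}
        one_mem' := ⟨rho_one a, Or.inl (by rw [dl, rho_one, vv])⟩
        mul_mem' := by
          rintro y y' ⟨h5, h6⟩ ⟨h7, h8⟩
          refine ⟨fix_mul h5 h7, ?_⟩
          have h9 : dl ρ (y * y') d = ρ y (dl ρ y' d) + dl ρ y d := by
            rw [dl, dl, dl, map_add, rho_mul]
            have : ρ y (ρ y' d) + ρ y d + (ρ y d + d) = ρ y (ρ y' d) + d + (ρ y d + ρ y d) := by abel
            rw [this, vv, add_zero]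
          rw [h9]
          rcases h6 with h6 | h6 <;> rcases h8 with h8 | h8 <;> rw [h6, h8]
          · left; rw [map_zero, add_zero]
          · right; rw [h5, add_zero]
          · right; rw [map_zero, zero_add]
          · left; rw [h5, vv]
        inv_mem' := by
          rintro y ⟨h5, h6⟩
          refine ⟨fix_inv h5, ?_⟩
          have h9 : dl ρ y⁻¹ d = ρ y⁻¹ (dl ρ y d) := by
            rw [dl, dl, map_add, rho_inv, add_comm]
          rw [h9]
          rcases h6 with h6 | h6 <;> rw [h6]
          · left; rw [map_zero]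
          · right; exact fix_inv h5 }
    have h5 : VJ cs (isCartan n) X (Mv ρ nn a)ᶜ ≤ K := by
      refine RGD.Sup_le fun r' hr' g hg => ?_
      obtain ⟨i, j, rfl⟩ := L_form hl hK hr'
      rcases (D.mem_iff (isRoot_rt cs (ok_pp i j true))).1 hg with rfl | rfl
      · exact one_mem _
      · refine ⟨L_fixP D R i j, ?_⟩
        show dl ρ (E X (i, true) (j, true)) d = 0 ∨ dl ρ (E X (i, true) (j, true)) d = a
        by_cases him : i = m
        · by_cases hjm : j = m
          · rw [him, hjm]
            exact g3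
          · left
            rw [E_comm, dl, g1 j i hjm, vv]
        · left
          rw [dl, g1 i j him, vv]
    exact fun y hy => (h5 hy).2
  obtain ⟨y, hy, t', ht', h4⟩ := R.tri x hxX (E_ne D (ok_pp p q true)) _ h1
  apply h4
  rw [← hd]
  rcases g4 y (Cov.le_VJ R hy) with h5 | h5
  · rw [h5, map_zero, LinearMap.zero_apply]
  · rw [h5]
    exact R.one t' ht' _

/-- **the case `Mv = {α_n}`** -/
theorem last_false (hn : 3 ≤ n) : False := by
  rcases Nat.lt_or_ge 3 n with h | h
  · exact last_four D R hl hK h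
  · exact last_three D R hl hK (by omega)

end

end Cfsg.Agent.Omega.EH3.Kf.SpTwo
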