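import Mathlib
import Cfsg.Agent.Omega.EH3.Kf.TwE6
import Cfsg.Agent.Omega.EH3.Kf.Main

/-!
# EH3, Lie rows in characteristic 2: `²E₆(q)`, the literal field of `Table.Rows` (helper827)
-/

set_option autoImplicit false

namespace Cfsg.Agent.Omega.EH3.Kf.TwE6Fam

open Cfsg Cfsg.Agent.Omega.EH3.Kf.FamRow Cfsg.Agent.Omega.EH3.Kf.FamRowU Cfsg.Agent.Omega.EH3.Kf.Main

universe u

theorem twE6 : ∀ (F : Type) [Field F] [Fintype F] [CharP F 2] (q : ℕ), IsPrimePow q → Fintype.card F = q ^ 2 →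
    Fam.{u} (Lie.twistedE6 F q) := fun _ _ _ _ _ hq hF => Fam.of_kfRow (TwE6.kfRow hq hF)

end Cfsg.Agent.Omega.EH3.Kf.TwE6Fam
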