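import Cfsg.Agent.Omega.EH3.Kf.TablePlug
import Cfsg.Agent.Omega.EH3.Kf.SpRow
import Cfsg.Agent.Omega.EH3.Kf.SpTwo
import Cfsg.Agent.Omega.EH3.Kf.TwE6Fam
import Cfsg.Agent.Omega.EH3.Kf.FamOmm

/-!
# EH3, Lie rows: the table, complete (helper227)

`rows : Table.Rows` and `four_lie` (KF for the groups of Lie type of characteristic 2; the only hypothesis is `End6`,
the case `w = 6`, `End = F_4`).
-/

set_option autoImplicit false

namespace Cfsg.Agent.Omega.EH3.Kf.TableAll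

open Cfsg Subgroup Cfsg.Agent.Omega.EH3.Kf.Main Cfsg.Agent.Omega.EH3.Kf.Goal

universe u

theorem psp (F : Type) [Field F] [Fintype F] [CharP F 2] (m : ℕ) (hm : 2 ≤ m) (h2 : m = 2 → 3 ≤ Fintype.card F) :
    Fam.{u} (PSp m F) := by
  by_cases h3 : 3 ≤ m
  · exact Fam.of_kfRow (SpRow.kfRow_of m F hm fun V _ _ T nn X ρ b a D X0 w R hc => SpTwo.false h3 _ R hc)
  · obtain rfl : m = 2 := by omega
    exact Fam.of_kfRow (SpRow.kfRow_big 2 F le_rfl (by rw [Nat.card_eq_fintype_card]; exact h2 rfl))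

/-- **The table.** -/
theorem rows : Table.Rows.{u} := TablePlug.rows ⟨psp, FamOmm.omm, TwE6Fam.twE6⟩

/-- **KF for the groups of Lie type of characteristic 2.** -/
theorem four_lie (e6 : End6.{u} (fun K _ => IsLieTypeChar 2 K)) {H V : Type u} [Group H]
    [AddCommGroup V] [Module (ZMod 2) V] {ρ : H →* (V ≃ₗ[ZMod 2] V)} {b : LinearMap.BilinForm (ZMod 2) V}
    {q : V → ZMod 2} {a : V} {D : Submodule (ZMod 2) V} {P : Subgroup H} {w : ℕ} {L : Subgroup H}
    (C : Cfg ρ b q a D P w) (hL : L.Normal) (hq : IsQuasisimple L) (ho : Odd (Nat.card (center L)))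
    (hX : P ⊓ centralizer (L : Set H) = ⊥) (hK : IsLieTypeChar 2 (L ⧸ center L)) : Four ρ a P :=
  Table.four_lie rows e6 C hL hq ho hX hK

end Cfsg.Agent.Omega.EH3.Kf.TableAll
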