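import Mathlib
import Cfsg.Agent.Omega.EH3.Kf.Main
import Cfsg.Prelude.Def_LieTypeChar

/-!
# EH3, Lie rows: the table of the families of characteristic 2 (helper227)

`Rows` : one field per family; `Rows.fam : IsLieTypeChar 2 K → Fam K`; `four_lie`.
-/

set_option autoImplicit false

namespace Cfsg.Agent.Omega.EH3.Kf.Table

open Cfsg Subgroup Cfsg.Agent.Omega.EH3.Kf.FamRow Cfsg.Agent.Omega.EH3.Kf.FamRowU Cfsg.Agent.Omega.EH3.Kf.Main
  Cfsg.Agent.Omega.EH3.Kf.Goal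

universe u

/-- The rows of the families of characteristic 2. -/
structure Rows : Prop where
  /-- `PSL_n(q)`, `n ≥ 3` -/
  psl : ∀ (F : Type) [Field F] [Fintype F] [CharP F 2] (n : ℕ), 3 ≤ n →
    Fam.{u} (Matrix.ProjectiveSpecialLinearGroup (Fin n) F)
  /-- `PSL_2(q)` -/
  psl2 : ∀ (F : Type) [Field F] [Fintype F] [CharP F 2], 4 ≤ Fintype.card F →
    Fam.{u} (Matrix.ProjectiveSpecialLinearGroup (Fin 2) F)
  psp : ∀ (F : Type) [Field F] [Fintype F] [CharP F 2] (m : ℕ), 2 ≤ m → (m = 2 → 3 ≤ Fintype.card F) →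
    Fam.{u} (PSp m F)
  /-- `PSU_{2m}(q)` -/
  psuEven : ∀ (F : Type) [Field F] [Fintype F] [CharP F 2] (m q : ℕ), Fintype.card F = q ^ 2 → 2 ≤ m →
    Fam.{u} (PSU (2 * m) F q)
  /-- `PSU_{2m+1}(q)`, `m ≥ 2` -/
  psuOdd : ∀ (F : Type) [Field F] [Fintype F] [CharP F 2] (m q : ℕ), Fintype.card F = q ^ 2 → 2 ≤ m →
    Fam.{u} (PSU (2 * m + 1) F q)
  /-- `PSU_3(q)` -/
  psu3 : ∀ (F : Type) [Field F] [Fintype F] [CharP F 2] (q : ℕ), Fintype.card F = q ^ 2 → q ≠ 2 →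
    Fam.{u} (PSU 3 F q)
  omp : ∀ (F : Type) [Field F] [Fintype F] [CharP F 2] (m : ℕ), 4 ≤ m → Fam.{u} (POmega F (quadFormPlus m F))
  omm : ∀ (F : Type) [Field F] [Fintype F] [CharP F 2] (m : ℕ) (a b : F), 4 ≤ m →
    (∀ z₁ z₂ : F, z₁ ^ 2 + a * z₁ * z₂ + b * z₂ ^ 2 = 0 → z₁ = 0 ∧ z₂ = 0) →
    Fam.{u} (POmega F (quadFormMinus (m - 1) F a b))
  g2 : ∀ (F : Type) [Field F] [Fintype F] [CharP F 2], 3 ≤ Fintype.card F → Fam.{u} (Lie.chevG2.group F)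
  f4 : ∀ (F : Type) [Field F] [Fintype F] [CharP F 2], Fam.{u} (Lie.chevF4.group F)
  e6 : ∀ (F : Type) [Field F] [Fintype F] [CharP F 2], Fam.{u} (Lie.chevE6.group F)
  e7 : ∀ (F : Type) [Field F] [Fintype F] [CharP F 2], Fam.{u} (Lie.chevE7.group F)
  e8 : ∀ (F : Type) [Field F] [Fintype F] [CharP F 2], Fam.{u} (Lie.chevE8.group F)
  /-- `²E₆(q)` -/
  twE6 : ∀ (F : Type) [Field F] [Fintype F] [CharP F 2] (q : ℕ), IsPrimePow q → Fintype.card F = q ^ 2 →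
    Fam.{u} (Lie.twistedE6 F q)
  /-- `³D₄(q)` -/
  twD4 : ∀ (F : Type) [Field F] [Fintype F] [CharP F 2] (q : ℕ), IsPrimePow q → Fintype.card F = q ^ 3 →
    Fam.{u} (Lie.twistedD4 F q)
  sz : ∀ (K : Type u) [Group K], Lie.IsoSuzuki K → Fam.{u} K
  ree : ∀ (K : Type u) [Group K], Lie.Iso2F4 K → Fam.{u} K

/-- **The table.** -/
theorem Rows.fam (R : Rows.{u}) (K : Type u) [Group K] (hK : IsLieTypeChar 2 K) : Fam.{u} K := by
  rcases hK with h | h | h | h | h | h | h | h | h | h | h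
  · obtain ⟨F, _, _, _, n, hn, h2, ⟨e⟩⟩ := h
    rcases Nat.lt_or_ge n 3 with h3 | h3
    · obtain rfl : n = 2 := by omega
      exact (R.psl2 F (h2 rfl)).of_equiv e.symm
    · exact (R.psl F n h3).of_equiv e.symm
  · obtain ⟨F, _, _, _, m, hm, h2, ⟨e⟩⟩ := h
    exact (R.psp F m hm h2).of_equiv e.symm
  · obtain ⟨F, _, _, _, n, q, hq, hn, h2, ⟨e⟩⟩ := h
    rcases Nat.lt_or_ge n 4 with h3 | h3
    · obtain rfl : n = 3 := by omega
      exact (R.psu3 F q hq fun h => h2 ⟨rfl, h⟩).of_equiv e.symm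
    · rcases Nat.even_or_odd' n with ⟨m, rfl | rfl⟩
      · exact (R.psuEven F m q hq (by omega)).of_equiv e.symm
      · exact (R.psuOdd F m q hq (by omega)).of_equiv e.symm
  · obtain ⟨F, _, _, _, m, -, ho, -⟩ := h
    exfalso
    have h1 : 2 ∣ Fintype.card F := by
      obtain ⟨n, -, hn⟩ := FiniteField.card F 2
      rw [hn]
      exact dvd_pow_self 2 n.2.ne'
    exact (Nat.not_even_iff_odd.2 ho) (even_iff_two_dvd.2 h1)
  · obtain ⟨F, _, _, _, m, hm, ⟨e⟩⟩ := h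
    exact (R.omp F m hm).of_equiv e.symm
  · obtain ⟨F, _, _, _, m, a, b, hm, hab, ⟨e⟩⟩ := h
    exact (R.omm F m a b hm hab).of_equiv e.symm
  · obtain ⟨F, _, _, _, h⟩ := h
    rcases h with ⟨h3, ⟨e⟩⟩ | ⟨⟨e⟩⟩ | ⟨⟨e⟩⟩ | ⟨⟨e⟩⟩ | ⟨⟨e⟩⟩
    · exact (R.g2 F h3).of_equiv e.symm
    · exact (R.f4 F).of_equiv e.symm
    · exact (R.e6 F).of_equiv e.symm
    · exact (R.e7 F).of_equiv e.symm
    · exact (R.e8 F).of_equiv e.symm
  · obtain ⟨F, _, _, _, q, hq, h⟩ := h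
    rcases h with ⟨h3, ⟨e⟩⟩ | ⟨h3, ⟨e⟩⟩
    · exact (R.twE6 F q hq h3).of_equiv e.symm
    · exact (R.twD4 F q hq h3).of_equiv e.symm
  · exact R.sz K h.2
  · exact R.ree K h.2
  · exact absurd h.1 (by norm_num)

/-- **KF for the groups of Lie type of characteristic 2.** -/
theorem four_lie (R : Rows.{u}) (e6 : End6.{u} (fun K _ => IsLieTypeChar 2 K)) {H V : Type u} [Group H]
    [AddCommGroup V] [Module (ZMod 2) V] {ρ : H →* (V ≃ₗ[ZMod 2] V)} {b : LinearMap.BilinForm (ZMod 2) V}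
    {q : V → ZMod 2} {a : V} {D : Submodule (ZMod 2) V} {P : Subgroup H} {w : ℕ} {L : Subgroup H}
    (C : Cfg ρ b q a D P w) (hL : L.Normal) (hq : IsQuasisimple L) (ho : Odd (Nat.card (center L)))
    (hX : P ⊓ centralizer (L : Set H) = ⊥) (hK : IsLieTypeChar 2 (L ⧸ center L)) : Four ρ a P :=
  four e6 (fun K _ h => R.fam K h) C hL hq ho hX hK

end Cfsg.Agent.Omega.EH3.Kf.Table
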