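import Mathlib
import Cfsg.Agent.KFacts.RgdSL
import Cfsg.Agent.Omega.EH3.Cfg
import Cfsg.Agent.Omega.EH3.Kf.Odd
import Cfsg.Agent.Omega.EH3.Kf.Sym
import Cfsg.Agent.Omega.EH3.Kf.Goal

/-!
# EH3, Lie rows in characteristic 2: `|H : L| ≤ 2` (helper227)

`L` normal in the finite group `H`, `H` faithful and irreducible on `V`, a root group datum of characteristic 2 on `L`
with `C_V(U) = {0, a}` and one of the five diagrams of `Goal.Good`; all elements of odd order of `H` lie in `L`.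

* `a2_of_three` : `M i j = 3` gives `A2 (sr i) (sr j)`;
* `cent_G1` : the subgroup `G₁` generated by the root groups is normal in `H` with `C_H(G₁) = 1`;
* `eq_one_of_fix'` : `g ∈ N₁` trivial on all `X_i` is `1`;
* `sg_eq` : the signs of `g ∈ N₁` on `X_i` and `X_j` agree if `M i j = 3`, `|X_i| = |X_j| = 4`;
* `index_le_two` : `|H : L| ≤ 2`.
-/

set_option autoImplicit false
set_option linter.unusedSectionVars false

namespace Cfsg.Agent.Omega.EH3.Kf.Idx

open CoxeterSystem Cfsg.Agent.ChevalleyStructure.CoxeterGeom Cfsg.Agent.Tits.Roots Cfsg.Agent.Tits.Core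
  Cfsg.Agent.Tits.RootComb Cfsg.Agent.Nodes.Comb Cfsg.Agent.Nodes.Reps Cfsg.Agent.Nodes.BNOf
  Cfsg.Agent.Nodes.StabComb Cfsg.Agent.Nodes.Bruhat Cfsg.Agent.Nodes.LeviDec Cfsg.Agent.Nodes.Coroot
  Cfsg.Agent.KFacts.RgdDiag Cfsg.Agent.KFacts.RgdSL
  Cfsg.Agent.Omega.EH3.Kf.Odd Cfsg.Agent.Omega.EH3.Kf.Sym Cfsg.Agent.Omega.EH3.Kf.Goal
open Cfsg.Agent.LieRecognition.BNCox (cA)
open scoped commutatorElement

variable {I W Y : Type*} [Fintype I] [DecidableEq I] [Group W] [Group Y] {M : CoxeterMatrix I}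
  {cs : CoxeterSystem M W} {A : I → I → ℤ} {h : IsCartan M A} {p : ℕ} {T : Subgroup Y} {n : I → Y}
  {X : (I → ℤ) → Subgroup Y}

/-! ### roots in the plane of two nodes with label 3 -/

/-- pairings of a vector supported on `{i, j}` -/
theorem pairing_two {i j : I} (hij : i ≠ j) {x : I → ℤ} (hx : ∀ k, k ≠ i → k ≠ j → x k = 0) (k : I) :
    pairing A k x = A k i * x i + A k j * x j := by
  unfold pairing
  rw [← Finset.sum_subset (Finset.subset_univ {i, j}), Finset.sum_pair hij]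
  intro l _ hl
  rw [Finset.mem_insert, Finset.mem_singleton, not_or] at hl
  rw [hx l hl.1 hl.2, mul_zero]

/-- A root with support `{i, j}`, `M i j = 3`, both coefficients positive, is `sr i + sr j`. -/
theorem eq_add_of_supp {i j : I} (hij : i ≠ j) (h1 : A i j = -1) (h2 : A j i = -1) {x : I → ℤ} (hx : IsRoot cs h x)
    (hi : 0 < x i) (hj : 0 < x j) (hk : ∀ k, k ≠ i → k ≠ j → x k = 0) : x = sr i + sr j := by
  have key : ∀ i j : I, i ≠ j → A i j = -1 → A j i = -1 → ∀ x : I → ℤ, IsRoot cs h x → 0 < x i → 0 < x j →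
      (∀ k, k ≠ i → k ≠ j → x k = 0) → x j < 2 * x i → x = sr i + sr j := by
    intro i j hij h1 h2 x hx hi hj hk h3
    -- reflect in `i`
    have hp := pairing_two (A := A) hij hk i
    rw [h.diag, h1] at hp
    have hs := hx.act (cs.simple i)
    have e1 : rep cs h (cs.simple i) x i = x j - x i := by
      rw [rep_simple_apply_self, hp]; ring
    have e2 : rep cs h (cs.simple i) x j = x j := rep_simple_apply cs h i x j hij.symm
    have e3 : ∀ k, k ≠ i → rep cs h (cs.simple i) x k = x k := fun k hk' => rep_simple_apply cs h i x k hk'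
    have hpos : 0 ≤ rep cs h (cs.simple i) x := by
      rcases hs.pos_or_neg with h4 | h4
      · exact h4
      · have := h4 j
        rw [e2] at this
        exact absurd this (not_le.2 hj)
    have h5 := hpos i
    rw [e1] at h5
    change 0 ≤ x j - x i at h5
    -- reflect in `j`
    have hp' := pairing_two (A := A) hij hk j
    rw [h.diag, h2] at hp'
    have hs' := hx.act (cs.simple j)
    have f1 : rep cs h (cs.simple j) x j = x i - x j := by
      rw [rep_simple_apply_self, hp']; ring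
    have f2 : rep cs h (cs.simple j) x i = x i := rep_simple_apply cs h j x i hij
    have hpos' : 0 ≤ rep cs h (cs.simple j) x := by
      rcases hs'.pos_or_neg with h4 | h4
      · exact h4
      · have := h4 i
        rw [f2] at this
        exact absurd this (not_le.2 hi)
    have h6 := hpos' j
    rw [f1] at h6
    change 0 ≤ x i - x j at h6
    have h7 : x i = x j := by omega
    have h8 : rep cs h (cs.simple i) x = sr j := by
      refine hs.eq_sr hpos j fun k hk' => ?_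
      by_cases hki : k = i
      · subst hki
        rw [e1, h7]; ring
      · rw [e3 k hki, hk k hki hk']
    have h9 := congrFun h8 j
    rw [e2, sr_self] at h9
    funext k
    rw [Pi.add_apply]
    by_cases hki : k = i
    · subst hki
      rw [sr_self, sr_ne hij, h7, h9]; rfl
    · by_cases hkj : k = j
      · subst hkj
        rw [sr_self, sr_ne hij.symm, h9]; rfl
      · rw [sr_ne hki, sr_ne hkj, hk k hki hkj]; rfl
  by_cases h3 : x j < 2 * x i
  · exact key i j hij h1 h2 x hx hi hj hk h3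
  · rw [add_comm]
    exact key j i hij.symm h2 h1 x hx hj hi (fun k h4 h5 => hk k h5 h4) (by omega)

/-- `M i j = 3` gives `A2 (sr i) (sr j)`. -/
theorem a2_of_three [Finite W] {i j : I} (h3 : M i j = 3) : A2 cs h (sr i) (sr j) := by
  have hij : i ≠ j := by
    rintro rfl
    rw [M.diagonal] at h3
    omega
  have hA : A i j = -1 ∧ A j i = -1 := by
    rcases h.rel i j hij with h1 | h1 | h1 | h1
    · rw [h3] at h1; omega
    · exact h1.2
    · rw [h3] at h1; omega
    · rw [h3] at h1; omega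
  have sup : ∀ {x : I → ℤ}, IsRoot cs h x → 0 < x i → 0 < x j → (∀ k, k ≠ i → k ≠ j → x k = 0) →
      x = sr i + sr j := fun hx h1 h2 h3 => eq_add_of_supp hij hA.1 hA.2 hx h1 h2 h3
  have hb : ∀ z, Btwn cs h (sr i) (sr j) z → z = sr i + sr j := by
    rintro z ⟨hz, m, a, b, hm, ha, hb, he⟩
    have ei := congrFun he i
    have ej := congrFun he j
    rw [Pi.add_apply, Pi.smul_apply, Pi.smul_apply, Pi.smul_apply, sr_self, sr_ne hij] at ei
    rw [Pi.add_apply, Pi.smul_apply, Pi.smul_apply, Pi.smul_apply, sr_self, sr_ne hij.symm] at ej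
    simp only [smul_eq_mul, mul_one, mul_zero, add_zero, zero_add] at ei ej
    refine sup hz ?_ ?_ ?_
    · by_contra hc
      push Not at hc
      nlinarith
    · by_contra hc
      push Not at hc
      nlinarith
    · intro k hki hkj
      have ek := congrFun he k
      rw [Pi.add_apply, Pi.smul_apply, Pi.smul_apply, Pi.smul_apply, sr_ne hki, sr_ne hkj] at ek
      simp only [smul_eq_mul, mul_zero, add_zero] at ek
      rcases mul_eq_zero.1 ek with h5 | h5
      · omega
      · exact h5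
  have psr : ∀ k l : I, pairing A k (sr l) = A k l := by
    intro k l
    rw [sr, pairing_single, mul_one]
  have hb' : ∀ z, Btwn cs h (sr j) (sr i) z → z = sr i + sr j := fun z hz => hb z hz.symm
  have r1 : rep cs h (cs.simple i) (sr i + sr j) = sr j := by
    rw [rep_simple_eq, pairing_add, psr, psr, h.diag, hA.1]
    module
  have r2 : rep cs h (cs.simple j) (sr i + sr j) = sr i := by
    rw [rep_simple_eq, pairing_add, psr, psr, h.diag, hA.2]
    module
  have act : ∀ (w : W) {x y z : I → ℤ}, Btwn cs h x y z → Btwn cs h (rep cs h w x) (rep cs h w y) (rep cs h w z) := by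
    rintro w x y z ⟨hz, m, a, b, hm, ha, hb, he⟩
    refine ⟨hz.act w, m, a, b, hm, ha, hb, ?_⟩
    rw [← map_smul, he, map_add, map_smul, map_smul]
  refine ⟨isRoot_sr cs h i, isRoot_sr cs h j, by rw [cpr_sr, psr, hA.2], by rw [cpr_sr, psr, hA.1], hb, ?_, ?_, ?_,
    ?_, ?_⟩
  · rintro z ⟨hz, m, a, b, hm, ha, hb, he⟩
    have ei := congrFun he i
    have ej := congrFun he j
    simp only [Pi.add_apply, Pi.smul_apply, Pi.neg_apply, sr_self, sr_ne hij, smul_eq_mul, mul_one, mul_zero,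
      add_zero, mul_neg] at ei
    simp only [Pi.add_apply, Pi.smul_apply, Pi.neg_apply, sr_self, sr_ne hij.symm, smul_eq_mul, mul_one, mul_zero,
      neg_zero, zero_add] at ej
    rcases hz.pos_or_neg with h4 | h4
    · have h5 : 0 ≤ z i := h4 i
      have : 0 ≤ m * z i := mul_nonneg hm.le h5
      omega
    · have h5 : z j ≤ 0 := h4 j
      have : m * z j ≤ 0 := mul_nonpos_of_nonneg_of_nonpos hm.le h5
      omega
  · intro z hz
    have h4 := act (cs.simple i) hz
    rw [map_neg, rep_simple_sr, neg_neg, r1] at h4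
    have h5 := hb _ h4
    have h6 := congrArg (rep cs h (cs.simple i)) h5
    rw [r1, ← rep_mul_apply, cs.simple_mul_simple_self, map_one, Module.End.one_apply] at h6
    exact h6
  · intro z hz
    have h4 := act (cs.simple j) hz
    rw [map_neg, rep_simple_sr, neg_neg, r2] at h4
    have h5 := hb' _ h4
    have h6 := congrArg (rep cs h (cs.simple j)) h5
    rw [r2, ← rep_mul_apply, cs.simple_mul_simple_self, map_one, Module.End.one_apply] at h6
    exact h6
  · rintro z ⟨hz, m, a, b, hm, ha, hb, he⟩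
    have ei := congrFun he i
    have ej := congrFun he j
    simp only [Pi.add_apply, Pi.smul_apply, sr_self, sr_ne hij, smul_eq_mul, mul_one, mul_zero, add_zero] at ei
    simp only [Pi.add_apply, Pi.smul_apply, sr_self, sr_ne hij.symm, smul_eq_mul, mul_one, zero_add] at ej
    have h6 := sup hz (by
      by_contra hc
      push Not at hc
      nlinarith) (by
      by_contra hc
      push Not at hc
      nlinarith) (by
      intro k hki hkj
      have ek := congrFun he k
      simp only [Pi.add_apply, Pi.smul_apply, sr_ne hki, sr_ne hkj, smul_eq_mul, mul_zero, add_zero] at ek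
      rcases mul_eq_zero.1 ek with h5 | h5
      · omega
      · exact h5)
    have h7 := congrFun h6 i
    have h8 := congrFun h6 j
    rw [Pi.add_apply, sr_self, sr_ne hij] at h7
    rw [Pi.add_apply, sr_self, sr_ne hij.symm] at h8
    rw [h7] at ei
    rw [h8] at ej
    omega
  · rintro z ⟨hz, m, a, b, hm, ha, hb, he⟩
    have ei := congrFun he i
    have ej := congrFun he j
    simp only [Pi.add_apply, Pi.smul_apply, sr_self, sr_ne hij, smul_eq_mul, mul_one, add_zero] at ei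
    simp only [Pi.add_apply, Pi.smul_apply, sr_self, sr_ne hij.symm, smul_eq_mul, mul_one, mul_zero, add_zero,
      zero_add] at ej
    have h6 := sup hz (by
      by_contra hc
      push Not at hc
      nlinarith) (by
      by_contra hc
      push Not at hc
      nlinarith) (by
      intro k hki hkj
      have ek := congrFun he k
      simp only [Pi.add_apply, Pi.smul_apply, sr_ne hki, sr_ne hkj, smul_eq_mul, mul_zero, add_zero] at ek
      rcases mul_eq_zero.1 ek with h5 | h5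
      · omega
      · exact h5)
    have h7 := congrFun h6 i
    have h8 := congrFun h6 j
    rw [Pi.add_apply, sr_self, sr_ne hij] at h7
    rw [Pi.add_apply, sr_self, sr_ne hij.symm] at h8
    rw [h7] at ei
    rw [h8] at ej
    omega

/-! ### frame automorphisms -/

section

variable (R : RGD cs h p T n X)

include R

/-- A frame automorphism with trivial diagram symmetry, trivial on the groups `X_i`, is trivial on all root
groups. -/
theorem root_of_fix [Finite W] {β : MulAut Y} (D : Diag T X β 1)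
    (hfix : ∀ i, ∀ x ∈ X (sr i), β x = x) {r : I → ℤ} (hr : IsRoot cs h r) {u : Y} (hu : u ∈ X r) : β u = u := by
  -- the fixed subgroup
  let K0 : Subgroup Y :=
    { carrier := {x | β x = x}
      one_mem' := map_one β
      mul_mem' := by
        intro x y (hx : β x = x) (hy : β y = y)
        show β (x * y) = x * y
        rw [map_mul, hx, hy]
      inv_mem' := by
        intro x (hx : β x = x)
        show β x⁻¹ = x⁻¹
        rw [map_inv, hx] }
  have hK0 : ∀ x, x ∈ K0 ↔ β x = x := fun x => Iff.rfl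
  have hβn : ∀ i, (n i)⁻¹ * β (n i) ∈ T := fun i => (rp_simple cs R.nsys i).unique (D.rp (R := R) i)
  have hn' : ∀ i, ∃ k ∈ K0, Rp cs R.nsys (cs.simple i) k := by
    intro i
    obtain ⟨u, hu, hu1⟩ := exists_ne_one R i
    have h1 : n i * u * (n i)⁻¹ ∈ X (-sr i) := by
      have := R.conj_mem (rp_simple cs R.nsys i) (isRoot_sr cs h i) hu
      rwa [rep_simple_sr] at this
    have h2 : n i * u * (n i)⁻¹ ≠ 1 := fun h3 => hu1 (mul_eq_left.1 (mul_inv_eq_one.1 h3))
    obtain ⟨a, ha, t, ht, b, hb, e⟩ := R.rk1 i _ h1 h2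
    set v := n i * u * (n i)⁻¹ with hv
    have hk : Rp cs R.nsys (cs.simple i) (t * n i) := by
      have := (rp_of_mem (cs := cs) (hN := R.nsys) ht).mul (rp_simple cs R.nsys i)
      rwa [one_mul] at this
    have hβa := hfix i a ha
    have hβb := hfix i b hb
    have hz : v⁻¹ * β v ∈ X (-sr i) := mul_mem (inv_mem h1) ((D.neg i v).2 h1)
    have hβk : (t * n i)⁻¹ * β (t * n i) ∈ T := by
      have h3 : Rp cs R.nsys (cs.simple i) (β (t * n i)) := by
        have := (rp_of_mem (cs := cs) (hN := R.nsys) ((D.tor t).2 ht)).mul (D.rp (R := R) i)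
        rw [map_mul]
        rwa [one_mul] at this
      exact hk.unique h3
    have e1 : v⁻¹ * β v = b⁻¹ * ((t * n i)⁻¹ * β (t * n i)) * b := by
      rw [e, map_mul, map_mul, map_mul, hβa, hβb, map_mul]
      group
    have hbB : b ∈ RGD.B cs h T X := RGD.X_le_B (isRoot_sr cs h i) (sr_nonneg i) hb
    have h3 : v⁻¹ * β v ∈ RGD.B cs h T X := by
      rw [e1]
      exact mul_mem (mul_mem (inv_mem hbB) (RGD.T_le_B hβk)) hbB
    have h4 : (n i)⁻¹ * (v⁻¹ * β v) * n i ∈ X (sr i) := by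
      have := R.conj_mem' (rp_simple cs R.nsys i) (isRoot_sr cs h i).neg hz
      rwa [inv_simple, map_neg, rep_simple_sr, neg_neg] at this
    have h5 : (n i)⁻¹ * (v⁻¹ * β v) * n i = 1 := by
      refine eq_one_of_conj_mem_B R h4 (rp_simple cs R.nsys i) ?_
      have e2 : n i * ((n i)⁻¹ * (v⁻¹ * β v) * n i) * (n i)⁻¹ = v⁻¹ * β v := by group
      rw [e2]
      exact h3
    have h6 : v⁻¹ * β v = 1 := by
      have e2 : v⁻¹ * β v = n i * ((n i)⁻¹ * (v⁻¹ * β v) * n i) * (n i)⁻¹ := by group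
      rw [e2, h5]; group
    have h7 : β v = v := by
      rw [inv_mul_eq_one] at h6
      exact h6.symm
    refine ⟨t * n i, ?_, hk⟩
    have e3 : t * n i = a⁻¹ * v * b⁻¹ := by rw [e]; group
    rw [hK0, e3, map_mul, map_mul, map_inv, map_inv, hβa, hβb, h7]
  have hw : ∀ w : W, ∃ k ∈ K0, Rp cs R.nsys w k := by
    intro w
    obtain ⟨ω, rfl⟩ := cs.wordProd_surjective w
    induction ω with
    | nil => exact ⟨1, one_mem _, by rw [wordProd_nil]; exact rp_one⟩
    | cons i ω ih =>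
      obtain ⟨k, hk, hk'⟩ := ih
      obtain ⟨k', hk1, hk2⟩ := hn' i
      exact ⟨k' * k, mul_mem hk1 hk, by rw [wordProd_cons]; exact hk2.mul hk'⟩
  obtain ⟨w, i, rfl⟩ := hr
  obtain ⟨k, hk, hk'⟩ := hw w
  have h1 : k⁻¹ * u * k ∈ X (sr i) := by
    have := R.conj_mem' hk' ((isRoot_sr cs h i).act w) hu
    rwa [rep_inv_apply] at this
  have h2 : u = k * (k⁻¹ * u * k) * k⁻¹ := by group
  have h3 : u ∈ K0 := by
    rw [h2]
    exact mul_mem (mul_mem hk (hfix i _ h1)) (inv_mem hk)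
  exact h3

/-- the subgroup generated by the root groups is normal -/
theorem G1_normal (hG : GG cs h T X = ⊤) : (RGD.Sup X {x | IsRoot cs h x}).Normal := by
  rw [← Subgroup.normalizer_eq_top_iff, eq_top_iff, ← hG]
  refine sup_le ?_ Subgroup.le_normalizer
  intro t ht
  rw [mem_normalizer_iff_cj]
  have key : ∀ s ∈ T, cj s (RGD.Sup X {x | IsRoot cs h x}) ≤ RGD.Sup X {x | IsRoot cs h x} := by
    intro s hs
    rw [show cj s (RGD.Sup X {x | IsRoot cs h x}) = (RGD.Sup X {x | IsRoot cs h x}).map (MulAut.conj s).toMonoidHom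
      from rfl, Subgroup.map_le_iff_le_comap]
    refine RGD.Sup_le fun x hx u hu => ?_
    rw [Subgroup.mem_comap]
    refine RGD.le_Sup hx ?_
    have h1 := R.tor x hx s hs
    rw [← h1]
    exact Subgroup.mem_map_of_mem _ hu
  apply le_antisymm (key t ht)
  have h1 := cj_mono t (key t⁻¹ (inv_mem ht))
  rwa [cj_cj_inv] at h1

end

/-! ### `C_H(G₁) = 1` -/

section Main

variable {H : Type*} [Group H] {L : Subgroup H} [L.Normal] {T : Subgroup L} {n : I → L}
  {X : (I → ℤ) → Subgroup L}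

/-- the subgroup of `H` generated by the root groups -/
def G1 (cs : CoxeterSystem M W) (h : IsCartan M A) (X : (I → ℤ) → Subgroup L) : Subgroup H :=
  (RGD.Sup X {x | IsRoot cs h x}).map L.subtype

theorem mem_G1 {x : L} : (x : H) ∈ G1 cs h X ↔ x ∈ RGD.Sup X {x | IsRoot cs h x} := by
  unfold G1
  constructor
  · rintro ⟨y, hy, e⟩
    rw [← Subtype.ext (e : (y : H) = x)]
    exact hy
  · exact fun hx => ⟨x, hx, rfl⟩

variable [Finite H] (R : RGD cs h p T n X)

include R

/-- a `p`-subgroup of `L` is contained in `G₁` -/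
theorem pgroup_le [Finite W] [Fact p.Prime] (hG : GG cs h T X = ⊤) {P : Subgroup L} (hP : IsPGroup p P) :
    P ≤ RGD.Sup X {x | IsRoot cs h x} := by
  have hN := G1_normal R hG
  obtain ⟨P', hP'⟩ := hP.exists_le_sylow
  obtain ⟨S, hS⟩ := (R.isPGroup_Upos (cs := cs) (h := h)).exists_le_sylow
  have hSU : (S : Subgroup L) = RGD.Sup X (RGD.Pos cs h) :=
    Cfsg.Agent.Nodes.NormalForm.eq_U_of_isPGroup R S.isPGroup' hS (by rw [hG]; exact le_top)
  have hU : (S : Subgroup L) ≤ RGD.Sup X {x | IsRoot cs h x} := by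
    rw [hSU]
    exact RGD.Sup_le fun x hx => RGD.le_Sup hx.1
  obtain ⟨g, hg⟩ := MulAction.exists_smul_eq L S P'
  intro x hx
  have h1 : x ∈ (P' : Subgroup L) := hP' hx
  rw [← hg, Sylow.coe_subgroup_smul, Subgroup.mem_pointwise_smul_iff_inv_smul_mem] at h1
  have h2 : (MulAut.conj g)⁻¹ • x = g⁻¹ * x * g := by
    rw [← map_inv, MulAut.smul_def, MulAut.conj_apply, inv_inv]
  rw [h2] at h1
  have h3 := hN.conj_mem _ (hU h1) g
  have h4 : g * (g⁻¹ * x * g) * g⁻¹ = x := by group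
  rwa [h4] at h3

/-- `G₁` is normal in `H` -/
theorem G1_normal' [Finite W] [Fact p.Prime] (hG : GG cs h T X = ⊤) : (G1 cs h X : Subgroup H).Normal := by
  constructor
  intro x hx g
  obtain ⟨y, hy, rfl⟩ := hx
  have h1 : RGD.Sup X {x | IsRoot cs h x} ≤ (RGD.Sup X {x | IsRoot cs h x}).comap (cn L g).toMonoidHom := by
    refine RGD.Sup_le fun r hr u hu => ?_
    rw [Subgroup.mem_comap]
    have h2 : IsPGroup p ((X r).map (cn L g).toMonoidHom) := (R.pgrp' hr).map _
    exact pgroup_le R hG h2 (Subgroup.mem_map_of_mem _ hu)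
  have h2 := h1 hy
  rw [Subgroup.mem_comap, ← mem_G1] at h2
  exact h2

/-- `C_H(G₁) = 1` -/
theorem cent_G1 [Finite W] [Fact p.Prime] (hG : GG cs h T X = ⊤) {V : Type*} [AddCommGroup V] [Module (ZMod 2) V]
    {ρ : H →* (V ≃ₗ[ZMod 2] V)} {a : V} (hinj : Function.Injective ρ)
    (hirr : ∀ W : Submodule (ZMod 2) V, (∀ g, ∀ v ∈ W, ρ g v ∈ W) → W = ⊥ ∨ W = ⊤) (ha : a ≠ 0)
    (hUa : ∀ u ∈ RGD.Sup X (RGD.Pos cs h), ρ (u : H) a = a)
    (hcent : ∀ v, (∀ u ∈ RGD.Sup X (RGD.Pos cs h), ρ (u : H) v = v) → v = 0 ∨ v = a) {c : H}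
    (hc : ∀ x ∈ (G1 cs h X : Subgroup H), x * c = c * x) : c = 1 := by
  have hmul : ∀ (g k : H) (v : V), ρ (g * k) v = ρ g (ρ k v) := by
    intro g k v
    rw [map_mul]; rfl
  have hN := G1_normal' R hG
  let C := Subgroup.centralizer ((G1 cs h X : Subgroup H) : Set H)
  have hC : ∀ g : H, g ∈ C ↔ ∀ x ∈ (G1 cs h X : Subgroup H), x * g = g * x := fun g =>
    Subgroup.mem_centralizer_iff
  have hCN : C.Normal := by
    constructor
    intro x hx g
    rw [hC] at hx ⊢
    intro y hy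
    have h1 := hx (g⁻¹ * y * g) (by
      have := hN.conj_mem y hy g⁻¹
      rwa [inv_inv] at this)
    calc y * (g * x * g⁻¹) = g * ((g⁻¹ * y * g) * x) * g⁻¹ := by group
      _ = g * (x * (g⁻¹ * y * g)) * g⁻¹ := by rw [h1]
      _ = g * x * g⁻¹ * y := by group
  let F : Submodule (ZMod 2) V :=
    { carrier := {v | ∀ x ∈ C, ρ x v = v}
      zero_mem' := fun x _ => map_zero _
      add_mem' := by
        intro v w hv hw x hx
        show ρ x (v + w) = v + w
        rw [map_add, hv x hx, hw x hx]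
      smul_mem' := by
        intro r v hv x hx
        show ρ x (r • v) = r • v
        rw [map_smul, hv x hx] }
  have hF : ∀ v, v ∈ F ↔ ∀ x ∈ C, ρ x v = v := fun v => Iff.rfl
  have haF : a ∈ F := by
    intro x hx
    have h1 := hcent (ρ x a) (by
      intro u hu
      have h2 : (u : H) ∈ (G1 cs h X : Subgroup H) := mem_G1.2 (by
        have : RGD.Sup X (RGD.Pos cs h) ≤ RGD.Sup X {x | IsRoot cs h x} :=
          RGD.Sup_le fun x hx => RGD.le_Sup hx.1
        exact this hu)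
      rw [← hmul, (hC x).1 hx _ h2, hmul, hUa u hu])
    rcases h1 with h1 | h1
    · exfalso
      apply ha
      apply (ρ x).injective
      rw [h1, map_zero]
    · exact h1
  have h1 := hirr F (by
    intro g v hv x hx
    have h2 := hCN.conj_mem x hx g⁻¹
    rw [inv_inv] at h2
    have h3 : x * g = g * (g⁻¹ * x * g) := by group
    rw [← hmul, h3, hmul, hv _ h2])
  rcases h1 with h1 | h1
  · exfalso
    rw [h1] at haF
    exact ha haF
  · apply hinj
    ext v
    have h2 : v ∈ F := by rw [h1]; trivial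
    have h3 := h2 c ((hC c).2 hc)
    rw [h3, map_one]
    rfl

/-- an element of `N₁` trivial on all `X_i` is `1` -/
theorem eq_one_of_fix' [Finite W] (hC : ∀ c : H, (∀ x ∈ (G1 cs h X : Subgroup H), x * c = c * x) → c = 1) {g : H}
    (hg : g ∈ N1 T X) (hfix : ∀ i, ∀ x ∈ X (sr i), cn L g x = x) : g = 1 := by
  apply hC
  rintro _ ⟨y, hy, rfl⟩
  let K0 : Subgroup L :=
    { carrier := {x | cn L g x = x}
      one_mem' := map_one (cn L g)
      mul_mem' := by
        intro x y (hx : cn L g x = x) (hy : cn L g y = y)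
        show cn L g (x * y) = x * y
        rw [map_mul, hx, hy]
      inv_mem' := by
        intro x (hx : cn L g x = x)
        show cn L g x⁻¹ = x⁻¹
        rw [map_inv, hx] }
  have h1 : RGD.Sup X {x | IsRoot cs h x} ≤ K0 :=
    RGD.Sup_le fun r hr u hu => root_of_fix R (mem_N1.1 hg) hfix hr hu
  have h2 : cn L g y = y := h1 hy
  have h3 := cn_apply (L := L) g y
  rw [h2] at h3
  show (y : H) * g = g * (y : H)
  rw [eq_mul_inv_iff_mul_eq] at h3
  exact h3

end Main

/-! ### small permutations -/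

theorem exists_fixed {α : Type*} [Fintype α] [DecidableEq α] (π : Equiv.Perm α) (x0 : α) (hx : π x0 = x0)
    (hs : Equiv.Perm.sign π = -1) (hc : Fintype.card α = 4) : ∃ x, x ≠ x0 ∧ π x = x := by
  have h2 : π.support ⊆ Finset.univ.erase x0 := by
    intro x hx'
    rw [Finset.mem_erase]
    refine ⟨?_, Finset.mem_univ x⟩
    rintro rfl
    exact (Equiv.Perm.mem_support.1 hx') hx
  by_contra hcon
  push Not at hcon
  have h3 : π.support = Finset.univ.erase x0 := by
    apply Finset.Subset.antisymm h2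
    intro x hx'
    rw [Finset.mem_erase] at hx'
    exact Equiv.Perm.mem_support.2 (hcon x hx'.1)
  have h4 : π.support.card = 3 := by
    rw [h3, Finset.card_erase_of_mem (Finset.mem_univ x0), Finset.card_univ, hc]
  have h5 := (card_support_eq_three_iff.1 h4).sign
  rw [h5] at hs
  exact absurd hs (by decide)

section Main2

variable {H : Type*} [Group H] {L : Subgroup H} [L.Normal] {T : Subgroup L} {n : I → L}
  {X : (I → ℤ) → Subgroup L} [Finite H]

theorem fix_of_two {i : I} (h2 : Nat.card (X (sr i)) = 2) {g : H} (hg : g ∈ N1 T X) {x : L} (hx : x ∈ X (sr i)) :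
    cn L g x = x := by
  by_cases hx1 : x = 1
  · rw [hx1, map_one]
  · have h3 : cn L g x ∈ X (sr i) := ((mem_N1.1 hg).pos i x).2 hx
    have h4 : cn L g x ≠ 1 := fun h5 => hx1 ((cn L g).map_eq_one_iff.1 h5)
    rw [Nat.card_eq_two_iff' (1 : X (sr i))] at h2
    obtain ⟨r, hr1, hr2⟩ := h2
    have e3 := hr2 ⟨_, h3⟩ (fun e => h4 (congrArg Subtype.val e))
    have e4 := hr2 ⟨_, hx⟩ (fun e => hx1 (congrArg Subtype.val e))
    exact congrArg Subtype.val (e3.trans e4.symm)

theorem sg_of_two {i : I} (h2 : Nat.card (X (sr i)) = 2) (g : N1 T X) : sg T X i g = 1 := by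
  classical
  let _ : Fintype {x : L // x ∈ X (sr i)} := Fintype.ofFinite _
  have h1 : pa i g = 1 := by
    ext x
    rw [pa_apply, fix_of_two h2 g.2 x.2]
    rfl
  show Equiv.Perm.sign (pa i g) = 1
  rw [h1, Equiv.Perm.sign_one]

variable (R : RGD cs h p T n X)

include R

set_option maxHeartbeats 1000000 in
/-- the signs of two nodes with label 3 agree -/
theorem sg_eq [Finite W] {i j : I} (h3 : M i j = 3) (hi : Nat.card (X (sr i)) = 4) (hj : Nat.card (X (sr j)) = 4)
    {g : N1 T X} (hs : sg T X i g = -1) : sg T X j g = -1 := by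
  classical
  rcases Int.units_eq_one_or (sg T X j g) with h1 | h1
  swap
  · exact h1
  exfalso
  have hA : A2 cs h (sr i) (sr j) := a2_of_three h3
  let _ : Fintype {x : L // x ∈ X (sr i)} := Fintype.ofFinite _
  have h4 : sg T X i (g ^ 3) = -1 := by
    rw [map_pow, hs]; decide
  have h5 : Equiv.Perm.sign (pa i (g ^ 3)) = -1 := by
    rw [← h4]
    unfold sg
    rw [MonoidHom.comp_apply]
  have hc : Fintype.card {x : L // x ∈ X (sr i)} = 4 := by
    rw [← Nat.card_eq_fintype_card]; exact hi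
  obtain ⟨y, hy1, hy2⟩ := exists_fixed (pa i (g ^ 3)) ⟨1, one_mem _⟩ (by
    apply Subtype.ext
    rw [pa_apply, map_one]) h5 hc
  have hfj : ∀ v ∈ X (sr j), cn L ((g : H) ^ 3) v = v := fun v hv => cube_of_sg j hj.le h1 hv
  have hy3 : cn L ((g : H) ^ 3) y.1 = y.1 := by
    have := congrArg Subtype.val hy2
    rw [pa_apply, Subgroup.coe_pow] at this
    exact this
  have hy4 : y.1 ≠ 1 := fun e => hy1 (Subtype.ext e)
  have hfs : ∀ w ∈ X (sr i + sr j), cn L ((g : H) ^ 3) w = w := by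
    intro w hw
    obtain ⟨v, hv, rfl⟩ := A2.comm_surj R hA y.2 hy4 hw
    rw [map_commutatorElement, hy3, hfj v hv]
  have h6 : pa i (g ^ 3) ≠ 1 := by
    intro h6
    rw [h6, Equiv.Perm.sign_one] at h5
    exact absurd h5 (by decide)
  obtain ⟨x, hx⟩ : ∃ x, pa i (g ^ 3) x ≠ x := by
    by_contra hcon
    push Not at hcon
    exact h6 (Equiv.ext hcon)
  have hx0 : ((pa i (g ^ 3) x : {x : L // x ∈ X (sr i)}) : L) = cn L ((g : H) ^ 3) x.1 := by
    rw [pa_apply, Subgroup.coe_pow]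
  have hx' : cn L ((g : H) ^ 3) x.1 ∈ X (sr i) := by
    rw [← hx0]
    exact (pa i (g ^ 3) x).2
  have hx1 : cn L ((g : H) ^ 3) x.1 ≠ x.1 := by
    rw [← hx0]
    exact fun e => hx (Subtype.ext e)
  generalize cn L ((g : H) ^ 3) = β at *
  obtain ⟨v, hv, hv1⟩ := exists_ne_one R j
  have h7 := hfs _ (A2.comm_mem R hA x.2 hv)
  rw [map_commutatorElement, hfj v hv] at h7
  have h8 : ⁅(β x.1)⁻¹ * x.1, v⁆ = 1 := by
    rw [commutatorElement_eq_one_iff_mul_comm]
    rw [commutatorElement_def, commutatorElement_def] at h7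
    have h9 : β x.1 * v * (β x.1)⁻¹ = x.1 * v * x.1⁻¹ := mul_right_cancel h7
    calc (β x.1)⁻¹ * x.1 * v = (β x.1)⁻¹ * (x.1 * v * x.1⁻¹) * x.1 := by group
      _ = (β x.1)⁻¹ * (β x.1 * v * (β x.1)⁻¹) * x.1 := by rw [h9]
      _ = v * ((β x.1)⁻¹ * x.1) := by group
  refine A2.comm_ne_one R hA (mul_mem (inv_mem hx') x.2) ?_ hv hv1 h8
  intro e
  rw [inv_mul_eq_one] at e
  exact hx1 e

end Main2

/-! ### the index -/

theorem index_of_mul {H : Type*} [Group H] {L : Subgroup H} (hL : ∀ g k : H, g ∉ L → k ∉ L → g * k ∈ L) :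
    L.index ≤ 2 := by
  by_cases h1 : L = ⊤
  · rw [h1, Subgroup.index_top]; omega
  · have h2 : ∃ a, a ∉ L := by
      by_contra hcon
      push Not at hcon
      exact h1 (eq_top_iff.2 fun x _ => hcon x)
    obtain ⟨a, ha⟩ := h2
    have h3 : L.index = 2 := by
      rw [Subgroup.index_eq_two_iff]
      refine ⟨a, fun b => ?_⟩
      by_cases hb : b ∈ L
      · right
        refine ⟨hb, fun h4 => ha ?_⟩
        have := L.mul_mem (L.inv_mem hb) h4
        rwa [inv_mul_cancel_left] at this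
      · left
        exact ⟨hL b a hb ha, hb⟩
    omega

/-! ### diagram symmetries -/

theorem uA (σ τ : Equiv.Perm (Fin 5)) (hσ : ∀ i j, cA 5 (σ i) (σ j) = cA 5 i j)
    (hτ : ∀ i j, cA 5 (τ i) (τ j) = cA 5 i j) (hσ1 : σ ≠ 1) (hτ1 : τ ≠ 1) : σ * τ = 1 := by
  have key : ∀ σ : Equiv.Perm (Fin 5), (∀ i j, cA 5 (σ i) (σ j) = cA 5 i j) → σ ≠ 1 →
      σ 0 = 4 ∧ σ 1 = 3 ∧ σ 2 = 2 ∧ σ 3 = 1 ∧ σ 4 = 0 := by
    intro σ hσ hσ1
    have h : ∀ i j, tA (σ i) (σ j) = tA i j := by
      intro i j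
      rw [← tA_eq, ← tA_eq]
      exact hσ i j
    rcases keyA (σ 0) (σ 1) (by rw [h]; decide) (σ 2) (by rw [h]; decide) (by rw [h]; decide) (σ 3)
      (by rw [h]; decide) (by rw [h]; decide) (σ 4) (by rw [h]; decide) (by rw [h]; decide) with
      ⟨h0, h1, h2, h3, h4⟩ | h5
    · exfalso
      apply hσ1
      ext i
      congr 1
      fin_cases i
      · exact h0
      · exact h1
      · exact h2
      · exact h3
      · exact h4
    · exact h5
  obtain ⟨s0, s1, s2, s3, s4⟩ := key σ hσ hσ1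
  obtain ⟨t0, t1, t2, t3, t4⟩ := key τ hτ hτ1
  ext i
  rw [Equiv.Perm.mul_apply, Equiv.Perm.one_apply]
  congr 1
  fin_cases i
  · show σ (τ 0) = 0
    rw [t0, s4]
  · show σ (τ 1) = 1
    rw [t1, s3]
  · show σ (τ 2) = 2
    rw [t2, s2]
  · show σ (τ 3) = 3
    rw [t3, s1]
  · show σ (τ 4) = 4
    rw [t4, s0]

theorem uD (σ τ : Equiv.Perm (Fin 6)) (hσ : ∀ i j, Nodes.TypeD.M 4 (σ i) (σ j) = Nodes.TypeD.M 4 i j)
    (hτ : ∀ i j, Nodes.TypeD.M 4 (τ i) (τ j) = Nodes.TypeD.M 4 i j) (hσ1 : σ ≠ 1) (hτ1 : τ ≠ 1) : σ * τ = 1 := by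
  have key : ∀ σ : Equiv.Perm (Fin 6), (∀ i j, Nodes.TypeD.M 4 (σ i) (σ j) = Nodes.TypeD.M 4 i j) → σ ≠ 1 →
      σ 0 = 0 ∧ σ 1 = 1 ∧ σ 2 = 2 ∧ σ 3 = 3 ∧ σ 4 = 5 ∧ σ 5 = 4 := by
    intro σ hσ hσ1
    have h : ∀ i j, tD (σ i) (σ j) = tD i j := by
      intro i j
      rw [← tD_eq, ← tD_eq]
      exact hσ i j
    rcases keyD (σ 0) (σ 1) (by rw [h]; decide) (σ 2) (by rw [h]; decide) (by rw [h]; decide) (σ 3) (by rw [h]; decide)
      (by rw [h]; decide) (σ 4) (by rw [h]; decide) (by rw [h]; decide) (σ 5) (by rw [h]; decide) (by rw [h]; decide)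
      (by rw [h]; decide) with ⟨h0, h1, h2, h3, h4, h5⟩ | h6
    · exfalso
      apply hσ1
      ext i
      congr 1
      fin_cases i
      · exact h0
      · exact h1
      · exact h2
      · exact h3
      · exact h4
      · exact h5
    · exact h6
  obtain ⟨s0, s1, s2, s3, s4, s5⟩ := key σ hσ hσ1
  obtain ⟨t0, t1, t2, t3, t4, t5⟩ := key τ hτ hτ1
  ext i
  rw [Equiv.Perm.mul_apply, Equiv.Perm.one_apply]
  congr 1
  fin_cases i
  · show σ (τ 0) = 0
    rw [t0, s0]
  · show σ (τ 1) = 1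
    rw [t1, s1]
  · show σ (τ 2) = 2
    rw [t2, s2]
  · show σ (τ 3) = 3
    rw [t3, s3]
  · show σ (τ 4) = 4
    rw [t4, s5]
  · show σ (τ 5) = 5
    rw [t5, s4]

theorem uE (σ : Equiv.Perm (Fin 7)) (hσ : ∀ i j, CoxeterMatrix.E₇ (σ i) (σ j) = CoxeterMatrix.E₇ i j) : σ = 1 := by
  have h : ∀ i j, tE (σ i) (σ j) = tE i j := by
    intro i j
    rw [← tE_eq, ← tE_eq]
    exact hσ i j
  obtain ⟨h0, h1, h2, h3, h4, h5, h6⟩ := keyE (σ 0) (σ 2) (by rw [h]; decide) (σ 3) (by rw [h]; decide)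
    (by rw [h]; decide) (σ 1) (by rw [h]; decide) (by rw [h]; decide) (by rw [h]; decide)
    (σ 4) (by rw [h]; decide) (by rw [h]; decide) (by rw [h]; decide)
    (σ 5) (by rw [h]; decide) (by rw [h]; decide) (σ 6) (by rw [h]; decide) (by rw [h]; decide)
  ext i
  congr 1
  fin_cases i
  · exact h0
  · exact h1
  · exact h2
  · exact h3
  · exact h4
  · exact h5
  · exact h6

theorem uB (σ : Equiv.Perm (Fin 3)) (hσ : ∀ i j, CoxeterMatrix.B 3 (σ i) (σ j) = CoxeterMatrix.B 3 i j) : σ = 1 := by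
  have h : ∀ i j, tB (σ i) (σ j) = tB i j := by
    intro i j
    rw [← tB_eq, ← tB_eq]
    exact hσ i j
  obtain ⟨h0, h1, h2⟩ := keyB (σ 1) (σ 2) (by rw [h]; decide) (σ 0) (by rw [h]; decide)
  ext i
  congr 1
  fin_cases i
  · exact h0
  · exact h1
  · exact h2

/-! ### the theorem -/

section Final

variable {l : ℕ} {M : CoxeterMatrix (Fin l)} {A : Fin l → Fin l → ℤ} {h : IsCartan M A}
  {H : Type*} [Group H] [Finite H] {L : Subgroup H} [L.Normal] {T : Subgroup L} {n : Fin l → L}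
  {X : (Fin l → ℤ) → Subgroup L} {q : Fin l → ℕ} {i : Fin l}

/-- all orders `2`: the elements outside `L` multiply into `L` -/
theorem mul_of_two [Finite M.Group] (R : RGD M.toCoxeterSystem h 2 T n X) (hG : GG M.toCoxeterSystem h T X = ⊤)
    (hC : ∀ c : H, (∀ x ∈ (G1 M.toCoxeterSystem h X : Subgroup H), x * c = c * x) → c = 1)
    (hq : ∀ j, Nat.card (X (sr j)) = 2)
    (hsym : ∀ σ τ : Equiv.Perm (Fin l), (∀ i j, M (σ i) (σ j) = M i j) → (∀ i j, M (τ i) (τ j) = M i j) →
      σ ≠ 1 → τ ≠ 1 → σ * τ = 1) (g k : H) (hg : g ∉ L) (hk : k ∉ L) : g * k ∈ L := by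
  have : Fact (Nat.Prime 2) := ⟨Nat.prime_two⟩
  have hN : ∀ g ∈ N1 T X, g = (1 : H) := fun g hg => eq_one_of_fix' R hC hg fun i x hx => fix_of_two (hq i) hg hx
  obtain ⟨u, σ, hσ⟩ := exists_frame' R hG g
  obtain ⟨v, τ, hτ⟩ := exists_frame' R hG k
  have hσ1 : σ ≠ 1 := by
    rintro rfl
    have h1 := hN _ (mem_N1.2 hσ)
    apply hg
    have h2 : g = (u : H)⁻¹ := by
      rw [eq_inv_iff_mul_eq_one]
      have h3 : (u : H) * g * (u : H) * (u : H)⁻¹ = (u : H)⁻¹ * (u : H) := by rw [h1]; group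
      have h4 : g = (u : H)⁻¹ * ((u : H) * g) := by group
      rw [h4, h1]; group
    rw [h2]
    exact inv_mem u.2
  have hτ1 : τ ≠ 1 := by
    rintro rfl
    have h1 := hN _ (mem_N1.2 hτ)
    apply hk
    have h2 : k = (v : H)⁻¹ := by
      have h4 : k = (v : H)⁻¹ * ((v : H) * k) := by group
      rw [h4, h1]; group
    rw [h2]
    exact inv_mem v.2
  have h1 := hσ.mul hτ
  rw [hsym σ τ (fun i j => Diag.matrix R hσ i j) (fun i j => Diag.matrix R hτ i j) hσ1 hτ1, ← cn_mul] at h1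
  have h2 := hN _ (mem_N1.2 h1)
  have h3 : g * k = (u : H)⁻¹ * ((u : H) * g * ((v : H) * k)) * (k⁻¹ * (v : H)⁻¹ * k) := by group
  rw [h3, h2]
  have h4 : k⁻¹ * (v : H)⁻¹ * k ∈ L := by
    have := (inferInstance : L.Normal).conj_mem (v : H)⁻¹ (inv_mem v.2) k⁻¹
    rwa [inv_inv] at this
  exact mul_mem (mul_mem (inv_mem u.2) (one_mem _)) h4

/-- the case `C₃(4,4,2)` -/
theorem mul_of_C3 {M : CoxeterMatrix (Fin 3)} (hM : M = CoxeterMatrix.B 3) {A : Fin 3 → Fin 3 → ℤ} {h : IsCartan M A}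
    {T : Subgroup L} {n : Fin 3 → L} {X : (Fin 3 → ℤ) → Subgroup L}
    [Finite M.Group] (R : RGD M.toCoxeterSystem h 2 T n X) (hG : GG M.toCoxeterSystem h T X = ⊤)
    (hC : ∀ c : H, (∀ x ∈ (G1 M.toCoxeterSystem h X : Subgroup H), x * c = c * x) → c = 1)
    (hodd : ∀ g : H, Odd (orderOf g) → g ∈ L)
    (hq : ∀ j, Nat.card (X (sr j)) = ![4, 4, 2] j) (g k : H) (hg : g ∉ L) (hk : k ∉ L) : g * k ∈ L := by
  have : Fact (Nat.Prime 2) := ⟨Nat.prime_two⟩
  have h01 : M 0 1 = 3 := by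
    rw [hM, tB_eq]; decide
  have h10 : M 1 0 = 3 := by
    rw [hM, tB_eq]; decide
  have q0 : Nat.card (X (sr 0)) = 4 := hq 0
  have q1 : Nat.card (X (sr 1)) = 4 := hq 1
  have q2 : Nat.card (X (sr 2)) = 2 := hq 2
  have hT2 : ∀ g ∈ T2 T X, g ∈ L := by
    intro g hg
    obtain ⟨hg1, hg2⟩ := mem_T2.1 hg
    have h1 : g ^ 3 = 1 := by
      refine eq_one_of_fix' R hC ((N1 T X).pow_mem hg1 3) ?_
      intro i x hx
      have h5 : ∀ i : Fin 3, (![4, 4, 2] : Fin 3 → ℕ) i ≤ 4 := by decide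
      exact cube_of_sg (g := ⟨g, hg1⟩) i (by rw [hq]; exact h5 i) (hg2 i) hx
    exact hodd g (Odd.of_dvd_nat (by decide) (orderOf_dvd_of_pow_eq_one h1))
  have hN : ∀ g (hg : g ∈ N1 T X), sg T X 0 ⟨g, hg⟩ = 1 → g ∈ L := by
    intro g hg h1
    refine hT2 g (mem_T2.2 ⟨hg, fun i => ?_⟩)
    have h2 : sg T X 1 ⟨g, hg⟩ = 1 := by
      rcases Int.units_eq_one_or (sg T X 1 ⟨g, hg⟩) with h2 | h2
      · exact h2
      · have h3 := sg_eq R h10 q1 q0 h2
        rw [h1] at h3
        exact absurd h3 (by decide)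
    fin_cases i
    · exact h1
    · exact h2
    · exact sg_of_two q2 _
  obtain ⟨u, σ, hσ⟩ := exists_frame' R hG g
  obtain ⟨v, τ, hτ⟩ := exists_frame' R hG k
  have hσ1 : σ = 1 := uB σ fun i j => by
    have := Diag.matrix R hσ i j
    rwa [hM] at this
  have hτ1 : τ = 1 := uB τ fun i j => by
    have := Diag.matrix R hτ i j
    rwa [hM] at this
  subst hσ1 hτ1
  have hg' : (u : H) * g ∈ N1 T X := mem_N1.2 hσ
  have hk' : (v : H) * k ∈ N1 T X := mem_N1.2 hτ
  have h1 : sg T X 0 ⟨(u : H) * g, hg'⟩ = -1 := by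
    rcases Int.units_eq_one_or (sg T X 0 ⟨(u : H) * g, hg'⟩) with h2 | h2
    · exfalso
      apply hg
      have h3 := hN _ hg' h2
      have h4 := mul_mem (inv_mem u.2) h3
      rwa [inv_mul_cancel_left] at h4
    · exact h2
  have h2 : sg T X 0 ⟨(v : H) * k, hk'⟩ = -1 := by
    rcases Int.units_eq_one_or (sg T X 0 ⟨(v : H) * k, hk'⟩) with h2 | h2
    · exfalso
      apply hk
      have h3 := hN _ hk' h2
      have h4 := mul_mem (inv_mem v.2) h3
      rwa [inv_mul_cancel_left] at h4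
    · exact h2
  have h3 := hN _ (mul_mem hg' hk') (by
    have : (⟨(u : H) * g * ((v : H) * k), mul_mem hg' hk'⟩ : N1 T X) = ⟨(u : H) * g, hg'⟩ * ⟨(v : H) * k, hk'⟩ := rfl
    rw [this, map_mul, h1, h2]; decide)
  have h4 : g * k = (u : H)⁻¹ * ((u : H) * g * ((v : H) * k)) * (k⁻¹ * (v : H)⁻¹ * k) := by group
  rw [h4]
  have h5 : k⁻¹ * (v : H)⁻¹ * k ∈ L := by
    have := (inferInstance : L.Normal).conj_mem (v : H)⁻¹ (inv_mem v.2) k⁻¹
    rwa [inv_inv] at this
  exact mul_mem (mul_mem (inv_mem u.2) h3) h5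

/-- **`|H : L| ≤ 2`.** -/
theorem index_le_two [Finite M.Group] {V : Type*} [AddCommGroup V] [Module (ZMod 2) V]
    {ρ : H →* (V ≃ₗ[ZMod 2] V)} {a : V} (hinj : Function.Injective ρ)
    (hirr : ∀ W : Submodule (ZMod 2) V, (∀ g, ∀ v ∈ W, ρ g v ∈ W) → W = ⊥ ∨ W = ⊤) (ha : a ≠ 0)
    (hgood : Good M q i) (hodd : ∀ g : H, Odd (orderOf g) → g ∈ L)
    (R : RGD M.toCoxeterSystem h 2 T n X) (hG : GG M.toCoxeterSystem h T X = ⊤)
    (hfix : ∀ j, j ≠ i → ∀ g ∈ PJ M.toCoxeterSystem h T X {j}, ρ (g : H) a = a)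
    (hq : ∀ j, Nat.card (X (sr j)) = q j)
    (hcent : ∀ v, (∀ u ∈ RGD.Sup X (RGD.Pos M.toCoxeterSystem h), ρ (u : H) v = v) → v = 0 ∨ v = a) :
    L.index ≤ 2 := by
  have : Fact (Nat.Prime 2) := ⟨Nat.prime_two⟩
  have hUa : ∀ u ∈ RGD.Sup X (RGD.Pos M.toCoxeterSystem h), ρ (u : H) a = a := by
    have key : ∀ j : Fin l, j ≠ i → ∀ u ∈ RGD.Sup X (RGD.Pos M.toCoxeterSystem h), ρ (u : H) a = a := by
      intro j hj u hu
      refine hfix j hj u ?_
      exact B_le_PJ (RGD.U_le_B hu)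
    cases hgood with
    | A5 => exact key 0 (by decide)
    | D6 => exact key 0 (by decide)
    | D6' => exact key 0 (by decide)
    | E7 => exact key 0 (by decide)
    | C3 => exact key 0 (by decide)
  have hC : ∀ c : H, (∀ x ∈ (G1 M.toCoxeterSystem h X : Subgroup H), x * c = c * x) → c = 1 :=
    fun c hc => cent_G1 R hG hinj hirr ha hUa hcent hc
  apply index_of_mul
  cases hgood with
  | A5 => exact mul_of_two R hG hC hq fun σ τ h1 h2 h3 h4 => uA σ τ h1 h2 h3 h4
  | D6 => exact mul_of_two R hG hC hq fun σ τ h1 h2 h3 h4 => uD σ τ h1 h2 h3 h4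
  | D6' => exact mul_of_two R hG hC hq fun σ τ h1 h2 h3 h4 => uD σ τ h1 h2 h3 h4
  | E7 => exact mul_of_two R hG hC hq fun σ τ h1 _ h3 _ => absurd (uE σ h1) h3
  | C3 => exact mul_of_C3 rfl R hG hC hodd hq

end Final

end Cfsg.Agent.Omega.EH3.Kf.Idx
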