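import Mathlib
import Cfsg.Agent.Omega.EH3.Kf.ThmA
import Cfsg.Agent.KFacts.RgdAut
import Cfsg.Agent.KFacts.RgdFixU

/-!
# Modules for groups with a root group datum, defining characteristic 2 (helper810; KF3 (CR))

`Y` has a root group datum of characteristic 2 which generates it and acts on the `ZMod 2`-space `V`. `VU` is the space of
fixed points of `U = ⟨X x : x > 0⟩`. If `V` is irreducible with an invariant nondegenerate form then

* `span_eq_top` : `V` is spanned by `U⁻ V^U`;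
* `irrU` : `V^U` is an irreducible `T`-module;
* `exists_ext` : every `T`-endomorphism of `V^U` extends to a `Y`-endomorphism of `V`;
* `card_two` : if `T` is abelian and `End_Y V = {0, 1}` then `|V^U| = 2`.
-/

set_option autoImplicit false
set_option linter.unusedSectionVars false

namespace Cfsg.Agent.Omega.EH3.Kf.CR

open CoxeterSystem Cfsg.Agent.ChevalleyStructure.CoxeterGeom Cfsg.Agent.Tits.Roots Cfsg.Agent.Tits.Core
  Cfsg.Agent.Tits.RootComb Cfsg.Agent.Nodes.Comb Cfsg.Agent.Nodes.Reps Cfsg.Agent.Nodes.BNOf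
  Cfsg.Agent.Nodes.StabComb Cfsg.Agent.Nodes.Bruhat Cfsg.Agent.Nodes.OppDec Cfsg.Agent.Tits.Exchange
  Cfsg.Agent.Omega.EH3.Kf.Nm

/-! ### norms as linear maps -/

section Lin

variable {Y V : Type*} [Group Y] [AddCommGroup V] [Module (ZMod 2) V] {ρ : Y →* (V ≃ₗ[ZMod 2] V)}

/-- the fixed points of a subgroup -/
def fixS (ρ : Y →* (V ≃ₗ[ZMod 2] V)) (H : Subgroup Y) : Submodule (ZMod 2) V where
  carrier := {v | ∀ g ∈ H, ρ g v = v}
  add_mem' := by
    intro u v hu hv g hg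
    rw [map_add, hu g hg, hv g hg]
  zero_mem' := by
    intro g _
    exact map_zero _
  smul_mem' := by
    intro c v hv g hg
    rw [map_smul, hv g hg]

theorem mem_fixS {H : Subgroup Y} {v : V} : v ∈ fixS ρ H ↔ ∀ g ∈ H, ρ g v = v := Iff.rfl

theorem fixS_anti {H K : Subgroup Y} (hHK : H ≤ K) : fixS ρ K ≤ fixS ρ H := fun _ hv g hg => hv g (hHK hg)

/-- stable submodules -/
def Stab (ρ : Y →* (V ≃ₗ[ZMod 2] V)) (H : Subgroup Y) (E : Submodule (ZMod 2) V) : Prop :=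
  ∀ g ∈ H, ∀ v ∈ E, ρ g v ∈ E

/-- the norm as a linear map -/
noncomputable def NmL [Finite Y] (ρ : Y →* (V ≃ₗ[ZMod 2] V)) (H : Subgroup Y) : V →ₗ[ZMod 2] V :=
  ∑ u ∈ fs H, (ρ u).toLinearMap

theorem NmL_apply [Finite Y] (H : Subgroup Y) (v : V) : NmL ρ H v = Nm ρ H v := by
  unfold NmL Nm
  rw [LinearMap.sum_apply]
  rfl

theorem nm_add [Finite Y] (H : Subgroup Y) (v w : V) : Nm ρ H (v + w) = Nm ρ H v + Nm ρ H w := by
  rw [← NmL_apply, map_add, NmL_apply, NmL_apply]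

theorem nm_sum [Finite Y] {ι : Type*} (s : Finset ι) (H : Subgroup Y) (f : ι → V) :
    Nm ρ H (∑ i ∈ s, f i) = ∑ i ∈ s, Nm ρ H (f i) := by
  rw [← NmL_apply, map_sum]
  exact Finset.sum_congr rfl fun i _ => NmL_apply _ _

theorem nm_right [Finite Y] {H : Subgroup Y} {c : Y} (hc : c ∈ H) (v : V) : Nm ρ H (ρ c v) = Nm ρ H v := by
  unfold Nm
  refine Finset.sum_nbij' (fun u => u * c) (fun u => u * c⁻¹) ?_ ?_ ?_ ?_ ?_
  · intro u hu
    exact mem_fs.2 (mul_mem (mem_fs.1 hu) hc)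
  · intro u hu
    exact mem_fs.2 (mul_mem (mem_fs.1 hu) (inv_mem hc))
  · intro u _
    exact mul_inv_cancel_right u c
  · intro u _
    exact inv_mul_cancel_right u c
  · intro u _
    exact (rho_mul u c v).symm

theorem nm_of_fix [Finite Y] {H : Subgroup Y} {v : V} (hv : v ∈ fixS ρ H) : Nm ρ H v = Nat.card H • v := by
  unfold Nm
  rw [← card_fs, ← Finset.sum_const]
  exact Finset.sum_congr rfl fun u hu => hv u (mem_fs.1 hu)

theorem nm_of_fix_even [Finite Y] {H : Subgroup Y} {v : V} (hv : v ∈ fixS ρ H) (h2 : 2 ∣ Nat.card H) :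
    Nm ρ H v = 0 := by
  obtain ⟨k, hk⟩ := h2
  rw [nm_of_fix hv, hk, mul_comm, mul_nsmul', two_nsmul', smul_zero]

end Lin

variable {I W Y V : Type*} [Fintype I] [DecidableEq I] [Group W] [Group Y] [AddCommGroup V]
    [Module (ZMod 2) V] {M : CoxeterMatrix I} {cs : CoxeterSystem M W} {A : I → I → ℤ} {h : IsCartan M A}
    {T : Subgroup Y} {n : I → Y} {X : (I → ℤ) → Subgroup Y} {ρ : Y →* (V ≃ₗ[ZMod 2] V)}

/-- the fixed points of `U` -/
def VU (cs : CoxeterSystem M W) (h : IsCartan M A) (X : (I → ℤ) → Subgroup Y) (ρ : Y →* (V ≃ₗ[ZMod 2] V)) :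
    Submodule (ZMod 2) V := fixS ρ (RGD.Sup X (RGD.Pos cs h))

/-- the operator `e_i` -/
noncomputable def ei [Finite Y] (ρ : Y →* (V ≃ₗ[ZMod 2] V)) (X : (I → ℤ) → Subgroup Y) (n : I → Y) (i : I) :
    V →ₗ[ZMod 2] V := (NmL ρ (X (sr i))).comp (ρ (n i)).toLinearMap

theorem ei_apply [Finite Y] (i : I) (v : V) : ei ρ X n i v = Nm ρ (X (sr i)) (ρ (n i) v) := by
  unfold ei
  rw [LinearMap.comp_apply, NmL_apply]
  rfl

section A

variable [Finite Y] (R : RGD cs h 2 T n X)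

include R

theorem conj_T {w : W} {g t : Y} (hg : Rp cs R.nsys w g) (ht : t ∈ T) : g * t * g⁻¹ ∈ T := by
  have h1 := mem_normalizer_iff_cj.1 hg.mem_normalizer
  have h2 : g * t * g⁻¹ ∈ cj g T := conj_mem_cj.2 ht
  rwa [h1] at h2

theorem conj_T' {w : W} {g t : Y} (hg : Rp cs R.nsys w g) (ht : t ∈ T) : g⁻¹ * t * g ∈ T := by
  have := conj_T R hg.inv ht
  rwa [inv_inv] at this

theorem rn (i : I) : Rp cs R.nsys (cs.simple i) (n i) := rp_simple cs R.nsys i

theorem rn' (i : I) : Rp cs R.nsys (cs.simple i) (n i)⁻¹ := by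
  have := (rp_simple cs R.nsys i).inv
  rwa [inv_simple] at this

theorem conj_U {t : Y} (ht : t ∈ T) {u : Y} (hu : u ∈ RGD.Sup X (RGD.Pos cs h)) :
    t * u * t⁻¹ ∈ RGD.Sup X (RGD.Pos cs h) :=
  (Subgroup.mem_normalizer_iff.1 (R.T_le_normalizer_U ht) u).1 hu

theorem stab_VU : Stab ρ T (VU cs h X ρ) := by
  intro t ht v hv u hu
  have h1 : t⁻¹ * u * t ∈ RGD.Sup X (RGD.Pos cs h) := by
    have := conj_U R (inv_mem ht) hu
    rwa [inv_inv] at this
  have h2 : u * t = t * (t⁻¹ * u * t) := by group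
  rw [← rho_mul, h2, rho_mul, hv _ h1]

theorem ei_mem (i : I) {v : V} (hv : v ∈ VU cs h X ρ) : ei ρ X n i v ∈ VU cs h X ρ := by
  rw [ei_apply]
  have hV : ∀ g ∈ RGD.Sup X (RGD.PosNe cs h i), ρ g v = v := fun g hg =>
    hv g (RGD.Sup_mono (S := RGD.PosNe cs h i) (S' := RGD.Pos cs h) (fun z hz => ⟨hz.1, hz.2.1⟩) hg)
  set e := Nm ρ (X (sr i)) (ρ (n i) v) with he
  have hU : RGD.Sup X (RGD.Pos cs h) ≤ ThmA.St ρ e := by
    rw [R.Upos_eq i]
    refine sup_le (fun g hg => fix hg _) ?_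
    intro v' hv'
    rw [ThmA.mem_St, he]
    unfold Nm
    rw [map_sum]
    refine Finset.sum_congr rfl fun u hu => ?_
    have hu' := mem_fs.1 hu
    have h1 : u⁻¹ * v' * u ∈ RGD.Sup X (RGD.PosNe cs h i) := by
      have h2 := R.X_le_normalizer_V i (inv_mem hu')
      have h3 := (Subgroup.mem_normalizer_iff.1 h2 v').1 hv'
      rwa [inv_inv] at h3
    have h2 : (n i)⁻¹ * (u⁻¹ * v' * u) * n i ∈ RGD.Sup X (RGD.PosNe cs h i) := by
      rw [← mem_cj, R.cj_n_V i]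
      exact h1
    rw [← rho_mul, ← rho_mul, ← rho_mul]
    have h3 : v' * u * n i = u * n i * ((n i)⁻¹ * (u⁻¹ * v' * u) * n i) := by group
    rw [h3, rho_mul, hV _ h2]
  exact fun g hg => hU hg

theorem nm_tor {x : I → ℤ} (hx : IsRoot cs h x) {t : Y} (ht : t ∈ T) (v : V) :
    Nm ρ (X x) (ρ t v) = ρ t (Nm ρ (X x) v) := by
  have hc : ∀ s ∈ T, ∀ u ∈ X x, s * u * s⁻¹ ∈ X x := by
    intro s hs u hu
    rw [← R.tor x hx s hs]
    exact conj_mem_cj.2 hu
  refine Nm.conj (H := X x) (H' := X x) (g := t) (fun u hu => hc t ht u hu) (fun u hu => ?_) v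
  have := hc t⁻¹ (inv_mem ht) u hu
  rwa [inv_inv] at this

theorem ei_tor (i : I) {t : Y} (ht : t ∈ T) (v : V) :
    ρ t (ei ρ X n i v) = ei ρ X n i (ρ ((n i)⁻¹ * t * n i) v) := by
  rw [ei_apply, ei_apply, ← nm_tor R (isRoot_sr cs h i) ht, ← rho_mul, ← rho_mul]
  congr 2
  congr 1
  group

theorem ei_tor' (i : I) {t : Y} (ht : t ∈ T) (v : V) :
    ei ρ X n i (ρ t v) = ρ (n i * t * (n i)⁻¹) (ei ρ X n i v) := by
  rw [ei_tor R i (conj_T R (rn R i) ht)]
  congr 2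
  congr 1
  group

theorem even_X (i : I) : 2 ∣ Nat.card (X (sr i)) := by
  obtain ⟨u, hu, hu1⟩ := exists_ne_one R i
  obtain ⟨m, hm⟩ := IsPGroup.iff_card.1 (R.pgrp i)
  rw [hm]
  refine dvd_pow_self 2 ?_
  rintro rfl
  rw [pow_zero] at hm
  have h1 : X (sr i) = ⊥ := Subgroup.eq_bot_of_card_eq _ hm
  rw [h1] at hu
  exact hu1 (Subgroup.mem_bot.1 hu)

/-- `e_i e_i = e_i σ_i` on the fixed points of `U` -/
theorem ei_ei (i : I) : ∃ τ : Y → Y, (∀ b, τ b ∈ T) ∧ ∃ s : Finset Y, ∀ v ∈ VU cs h X ρ,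
    ei ρ X n i (ei ρ X n i v) = ei ρ X n i (∑ b ∈ s, ρ (τ b) v) := by
  classical
  have hrk : ∀ b : Y, ∃ t ∈ T, b ∈ X (sr i) → b ≠ 1 → ∃ c ∈ X (sr i), ∃ d ∈ X (sr i),
      n i * b * (n i)⁻¹ = c * t * n i * d := by
    intro b
    by_cases hb : b ∈ X (sr i) ∧ b ≠ 1
    · have h1 : n i * b * (n i)⁻¹ ∈ X (-sr i) := by
        have := R.conj_mem (rn R i) (isRoot_sr cs h i) hb.1
        rwa [rep_simple_sr] at this
      have h2 : n i * b * (n i)⁻¹ ≠ 1 := fun h3 => hb.2 (mul_eq_left.1 (mul_inv_eq_one.1 h3))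
      obtain ⟨c, hc, t, ht, d, hd, e⟩ := R.rk1 i _ h1 h2
      exact ⟨t, ht, fun _ _ => ⟨c, hc, d, hd, e⟩⟩
    · exact ⟨1, one_mem _, fun h1 h2 => absurd ⟨h1, h2⟩ hb⟩
  choose t ht hcd using hrk
  have hsq := R.sq_mem_T i
  refine ⟨fun b => (n i)⁻¹ * t b * n i * (n i * n i), fun b => mul_mem (conj_T' R (rn R i) (ht b)) hsq,
    (fs (X (sr i))).erase 1, ?_⟩
  intro v hv
  have hv2 : ρ (n i * n i) v ∈ VU cs h X ρ := stab_VU R _ hsq v hv
  have hX : ∀ {d : Y}, d ∈ X (sr i) → ∀ {w : V}, w ∈ VU cs h X ρ → ρ d w = w := fun hd w hw =>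
    hw _ (RGD.le_Sup (S := RGD.Pos cs h) ⟨isRoot_sr cs h i, sr_nonneg i⟩ hd)
  rw [map_sum]
  have e1 : ei ρ X n i (ei ρ X n i v) = ∑ b ∈ fs (X (sr i)), Nm ρ (X (sr i)) (ρ (n i * b * n i) v) := by
    rw [ei_apply, ei_apply]
    have : ρ (n i) (Nm ρ (X (sr i)) (ρ (n i) v)) = ∑ b ∈ fs (X (sr i)), ρ (n i * b * n i) v := by
      unfold Nm
      rw [map_sum]
      refine Finset.sum_congr rfl fun b _ => ?_
      rw [← rho_mul, ← rho_mul, mul_assoc]
    rw [this, nm_sum]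
  have h1 : (1 : Y) ∈ fs (X (sr i)) := mem_fs.2 (one_mem _)
  rw [e1, ← Finset.add_sum_erase _ _ h1]
  have e2 : Nm ρ (X (sr i)) (ρ (n i * 1 * n i) v) = 0 := by
    rw [mul_one]
    exact nm_of_fix_even (fun d hd => hX hd hv2) (even_X R i)
  rw [e2, zero_add]
  refine Finset.sum_congr rfl fun b hb => ?_
  rw [Finset.mem_erase] at hb
  obtain ⟨c, hc, d, hd, e⟩ := hcd b (mem_fs.1 hb.2) hb.1
  have e4 : ρ (n i * b * n i) v = ρ c (ρ (n i) (ρ ((n i)⁻¹ * t b * n i * (n i * n i)) v)) := by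
    have h5 : n i * b * n i = c * (t b * (n i * (d * (n i * n i)))) := by
      have : n i * b * n i = (n i * b * (n i)⁻¹) * (n i * n i) := by group
      rw [this, e]; group
    rw [h5, rho_mul c, rho_mul (t b), rho_mul (n i), rho_mul d, hX hd hv2, ← rho_mul (t b)]
    congr 1
    rw [← rho_mul, ← rho_mul (n i)]
    congr 2
    group
  rw [e4, nm_right hc, ei_apply]

/-! ### the norms for elements of the Weyl group -/

omit R in
/-- `v ↦ N_w (g v)` -/
noncomputable def NW (cs : CoxeterSystem M W) (h : IsCartan M A) (X : (I → ℤ) → Subgroup Y)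
    (ρ : Y →* (V ≃ₗ[ZMod 2] V)) (w : W) (g : Y) : V →ₗ[ZMod 2] V :=
  (NmL ρ (RGD.Sup X (RGD.Inv cs h w))).comp (ρ g).toLinearMap

omit R in
theorem NW_apply (w : W) (g : Y) (v : V) : NW cs h X ρ w g v = Nm ρ (RGD.Sup X (RGD.Inv cs h w)) (ρ g v) := by
  unfold NW
  rw [LinearMap.comp_apply, NmL_apply]
  rfl

theorem NW_step [Finite W] {i : I} {w : W} (hlt : cs.length (cs.simple i * w) < cs.length w) (g : Y) (v : V) :
    NW cs h X ρ w g v = ei ρ X n i (NW cs h X ρ (cs.simple i * w) ((n i)⁻¹ * g) v) := by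
  have hneg : rep cs h w⁻¹ (sr i) ≤ 0 := by
    refine nonpos_of_lt cs h _ i ?_
    rw [cs.length_inv, ← cs.length_inv (w⁻¹ * cs.simple i), mul_inv_rev, inv_inv, cs.inv_simple]
    exact hlt
  rw [NW_apply, ei_apply, NW_apply, ← ThmA.nm_step R hneg, ← rho_mul, mul_inv_cancel_left]

theorem NW_mem [Finite W] {w : W} {g : Y} (hg : Rp cs R.nsys w g) {v : V} (hv : v ∈ VU cs h X ρ) :
    NW cs h X ρ w g v ∈ VU cs h X ρ := by
  induction hn : cs.length w using Nat.strong_induction_on generalizing w g with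
  | _ k ih =>
  by_cases h1 : w = 1
  · subst h1
    have h2 : RGD.Sup X (RGD.Inv cs h (1 : W)) = ⊥ := by rw [RGD.inv_one_eq, Sup_empty]
    rw [NW_apply, h2, ThmA.nm_bot]
    exact stab_VU R _ hg.mem_of_one v hv
  · obtain ⟨i, hi⟩ := cs.exists_leftDescent_of_ne_one h1
    have hlt : cs.length (cs.simple i * w) < cs.length w := hi
    rw [NW_step R hlt]
    refine ei_mem R i (ih _ (hn ▸ hlt) ?_ rfl)
    exact (rn' R i).mul hg

theorem NW_tor {w : W} {g : Y} {t : Y} (ht : t ∈ T) (v : V) :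
    ρ t (NW cs h X ρ w g v) = NW cs h X ρ w g (ρ (g⁻¹ * t * g) v) := by
  have hN : T ≤ Subgroup.normalizer (RGD.Sup X (RGD.Inv cs h w) : Set Y) := R.T_le_normalizer fun x hx => hx.1
  rw [NW_apply, NW_apply, ← Nm.conj (H := RGD.Sup X (RGD.Inv cs h w)) (H' := RGD.Sup X (RGD.Inv cs h w)) (g := t)
    (fun u hu => (Subgroup.mem_normalizer_iff.1 (hN ht) u).1 hu) (fun u hu => by
      have := (Subgroup.mem_normalizer_iff.1 (hN (inv_mem ht)) u).1 hu
      rwa [inv_inv] at this), ← rho_mul, ← rho_mul]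
  congr 2
  congr 1
  group

/-- **The minimal space**: a `T`-stable space of fixed points of `U` stable under all `e_i`, of order at most `|E|`. -/
theorem exists_stable [Finite W] [Finite V] {E : Submodule (ZMod 2) V} (hE : E ≤ VU cs h X ρ) (hT : Stab ρ T E)
    (hne : E ≠ ⊥) : ∃ E' : Submodule (ZMod 2) V, E' ≠ ⊥ ∧ E' ≤ VU cs h X ρ ∧ Stab ρ T E' ∧
      (∀ i, ∀ v ∈ E', ei ρ X n i v ∈ E') ∧ Nat.card E' ≤ Nat.card E := by
  classical
  set S : Set W := {w | ∃ g, Rp cs R.nsys w g ∧ E.map (NW cs h X ρ w g) ≠ ⊥} with hS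
  have h1S : S.Nonempty := by
    refine ⟨1, 1, rp_one, ?_⟩
    have h2 : NW cs h X ρ (1 : W) (1 : Y) = LinearMap.id := by
      ext v
      have h2 : RGD.Sup X (RGD.Inv cs h (1 : W)) = ⊥ := by rw [RGD.inv_one_eq, Sup_empty]
      rw [NW_apply, h2, ThmA.nm_bot, rho_one]
      rfl
    rw [h2, Submodule.map_id]
    exact hne
  obtain ⟨w, ⟨g, hg, hw⟩, hmax⟩ := Set.exists_max_image S cs.length (Set.toFinite S) h1S
  refine ⟨E.map (NW cs h X ρ w g), hw, ?_, ?_, ?_, ?_⟩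
  · rintro _ ⟨v, hv, rfl⟩
    exact NW_mem R hg (hE hv)
  · rintro t ht _ ⟨v, hv, rfl⟩
    rw [NW_tor R ht]
    exact ⟨_, hT _ (conj_T' R hg ht) v hv, rfl⟩
  · rintro i _ ⟨v, hv, rfl⟩
    rcases lt_or_gt_of_ne (show cs.length (cs.simple i * w) ≠ cs.length w from by
      have := cs.length_simple_mul w i
      omega) with hlt | hgt
    · -- a left descent
      have hk : Rp cs R.nsys (cs.simple i * w) ((n i)⁻¹ * g) := (rn' R i).mul hg
      obtain ⟨τ, hτ, s, hs⟩ := ei_ei (ρ := ρ) R i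
      rw [NW_step R hlt, hs _ (NW_mem R hk (hE hv))]
      set k := (n i)⁻¹ * g with hkdef
      have e1 : ∑ b ∈ s, ρ (τ b) (NW cs h X ρ (cs.simple i * w) k v) =
          NW cs h X ρ (cs.simple i * w) k (∑ b ∈ s, ρ (k⁻¹ * τ b * k) v) := by
        rw [map_sum]
        exact Finset.sum_congr rfl fun b _ => NW_tor R (hτ b) v
      rw [e1, hkdef, ← NW_step R hlt]
      exact ⟨_, Submodule.sum_mem _ fun b _ => hT _ (conj_T' R hk (hτ b)) v hv, rfl⟩
    · -- an ascent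
      have hss : cs.simple i * (cs.simple i * w) = w := by rw [← mul_assoc, cs.simple_mul_simple_self, one_mul]
      have hlt' : cs.length (cs.simple i * (cs.simple i * w)) < cs.length (cs.simple i * w) := by rw [hss]; exact hgt
      have e1 : ei ρ X n i (NW cs h X ρ w g v) = NW cs h X ρ (cs.simple i * w) (n i * g) v := by
        rw [NW_step R hlt', hss, inv_mul_cancel_left]
      have e2 : E.map (NW cs h X ρ (cs.simple i * w) (n i * g)) = ⊥ := by
        by_contra hcon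
        have h3 := hmax (cs.simple i * w) ⟨n i * g, (rn R i).mul hg, hcon⟩
        omega
      have e3 : ei ρ X n i (NW cs h X ρ w g v) = 0 := by
        have h4 : ei ρ X n i (NW cs h X ρ w g v) ∈ E.map (NW cs h X ρ (cs.simple i * w) (n i * g)) := by
          rw [e1]; exact ⟨v, hv, rfl⟩
        rw [e2] at h4
        exact (Submodule.mem_bot _).1 h4
      rw [e3]
      exact Submodule.zero_mem _
  · exact Nat.card_le_card_of_surjective (fun v : E => (⟨NW cs h X ρ w g v, ⟨v, v.2, rfl⟩⟩ :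
      E.map (NW cs h X ρ w g))) (by
        rintro ⟨_, v, hv, rfl⟩
        exact ⟨⟨v, hv⟩, rfl⟩)

end A

end Cfsg.Agent.Omega.EH3.Kf.CR
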