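import Mathlib
import Cfsg.Agent.Omega.EH3.Kf.CR

/-!
# Modules for groups with a root group datum, defining characteristic 2, part 2 (helper810; KF3 (CR))

`Md cs h T n X ρ b` : the hypotheses. `Md.span_eq_top`, `Md.irrU`, `Md.ei_cases`, `Md.exists_ext`, `Md.fix_T`,
`Md.card_two`.
-/

set_option autoImplicit false
set_option linter.unusedSectionVars false

namespace Cfsg.Agent.Omega.EH3.Kf.CR

open CoxeterSystem Cfsg.Agent.ChevalleyStructure.CoxeterGeom Cfsg.Agent.Tits.Roots Cfsg.Agent.Tits.Core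
  Cfsg.Agent.Tits.RootComb Cfsg.Agent.Nodes.Comb Cfsg.Agent.Nodes.Reps Cfsg.Agent.Nodes.BNOf
  Cfsg.Agent.Nodes.StabComb Cfsg.Agent.Nodes.Bruhat Cfsg.Agent.Nodes.OppDec Cfsg.Agent.Tits.Exchange
  Cfsg.Agent.KFacts.RgdOpp Cfsg.Agent.Omega.EH3.Kf.Nm

variable {I W Y V : Type*} [Fintype I] [DecidableEq I] [Group W] [Group Y] [AddCommGroup V]
    [Module (ZMod 2) V] {M : CoxeterMatrix I} {cs : CoxeterSystem M W} {A : I → I → ℤ} {h : IsCartan M A}
    {T : Subgroup Y} {n : I → Y} {X : (I → ℤ) → Subgroup Y} {ρ : Y →* (V ≃ₗ[ZMod 2] V)}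

/-- the span of `U⁻ E` -/
def SP (cs : CoxeterSystem M W) (h : IsCartan M A) (X : (I → ℤ) → Subgroup Y) (ρ : Y →* (V ≃ₗ[ZMod 2] V))
    (E : Submodule (ZMod 2) V) : Submodule (ZMod 2) V :=
  Submodule.span (ZMod 2) {m | ∃ u ∈ UN cs h X, ∃ v ∈ E, m = ρ u v}

theorem mem_SP {E : Submodule (ZMod 2) V} {u : Y} (hu : u ∈ UN cs h X) {v : V} (hv : v ∈ E) :
    ρ u v ∈ SP cs h X ρ E := Submodule.subset_span ⟨u, hu, v, hv, rfl⟩

theorem le_SP {E : Submodule (ZMod 2) V} : E ≤ SP cs h X ρ E := by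
  intro v hv
  have := mem_SP (ρ := ρ) (cs := cs) (h := h) (X := X) (one_mem _) hv
  rwa [rho_one] at this

theorem SP_forall {E F : Submodule (ZMod 2) V} {g : Y} (hg : ∀ u ∈ UN cs h X, ∀ v ∈ E, ρ g (ρ u v) ∈ F) :
    ∀ m ∈ SP cs h X ρ E, ρ g m ∈ F := by
  intro m hm
  have h1 : SP cs h X ρ E ≤ F.comap (ρ g).toLinearMap := by
    refine Submodule.span_le.2 ?_
    rintro _ ⟨u, hu, v, hv, rfl⟩
    exact hg u hu v hv
  exact h1 hm

section A

variable [Finite Y] (R : RGD cs h 2 T n X)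

include R

/-- **`F₂[U⁻] E` is `Y`-stable** when `E ≤ V^U` is `T`-stable and `e_i`-stable. -/
theorem stable_SP [Finite W] (hG : GG cs h T X = ⊤) {E : Submodule (ZMod 2) V} (hE : E ≤ VU cs h X ρ)
    (hT : Stab ρ T E) (he : ∀ i, ∀ v ∈ E, ei ρ X n i v ∈ E) :
    ∀ g, ∀ m ∈ SP cs h X ρ E, ρ g m ∈ SP cs h X ρ E := by
  classical
  let K : Subgroup Y :=
    { carrier := {g | (∀ m ∈ SP cs h X ρ E, ρ g m ∈ SP cs h X ρ E) ∧ (∀ m ∈ SP cs h X ρ E, ρ g⁻¹ m ∈ SP cs h X ρ E)}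
      one_mem' := ⟨fun m hm => by rw [rho_one]; exact hm, fun m hm => by rw [inv_one, rho_one]; exact hm⟩
      mul_mem' := by
        rintro g k ⟨hg, hg'⟩ ⟨hk, hk'⟩
        refine ⟨fun m hm => ?_, fun m hm => ?_⟩
        · rw [rho_mul]; exact hg _ (hk _ hm)
        · rw [mul_inv_rev, rho_mul]; exact hk' _ (hg' _ hm)
      inv_mem' := by
        rintro g ⟨hg, hg'⟩
        exact ⟨hg', by rw [inv_inv]; exact hg⟩ }
  have hK : ∀ g, g ∈ K ↔ (∀ m ∈ SP cs h X ρ E, ρ g m ∈ SP cs h X ρ E) ∧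
      (∀ m ∈ SP cs h X ρ E, ρ g⁻¹ m ∈ SP cs h X ρ E) := fun g => Iff.rfl
  -- `U⁻`
  have hUN' : ∀ g ∈ UN cs h X, ∀ m ∈ SP cs h X ρ E, ρ g m ∈ SP cs h X ρ E := by
    intro g hg
    refine SP_forall fun u hu v hv => ?_
    rw [← rho_mul]
    exact mem_SP (mul_mem hg hu) hv
  -- `T`
  have hN : T ≤ Subgroup.normalizer (UN cs h X : Set Y) := R.T_le_normalizer fun x hx => hx.1
  have hT' : ∀ t ∈ T, ∀ m ∈ SP cs h X ρ E, ρ t m ∈ SP cs h X ρ E := by
    intro t ht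
    refine SP_forall fun u hu v hv => ?_
    have e : ρ t (ρ u v) = ρ (t * u * t⁻¹) (ρ t v) := by
      rw [← rho_mul, ← rho_mul]; congr 2; group
    rw [e]
    exact mem_SP ((Subgroup.mem_normalizer_iff.1 (hN ht) u).1 hu) (hT t ht v hv)
  -- `n i`
  have hfix : ∀ {d : Y} {i : I}, d ∈ X (sr i) → ∀ {w : V}, w ∈ VU cs h X ρ → ρ d w = w := by
    intro d i hd w hw
    exact hw _ (RGD.le_Sup (S := RGD.Pos cs h) ⟨isRoot_sr cs h _, sr_nonneg _⟩ hd)
  have hb : ∀ i, ∀ b ∈ X (sr i), b ≠ 1 → ∀ v ∈ E, ρ b (ρ (n i) v) ∈ SP cs h X ρ E := by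
    intro i b hb hb1 v hv
    have hb' : b ∈ X (-(-sr i)) := by rw [neg_neg]; exact hb
    obtain ⟨c, hc, t, ht, d, hd, e⟩ := (opp R).rk1 i b hb' hb1
    have hd2 : n i * d * (n i)⁻¹ ∈ X (sr i) := by
      have := R.conj_mem (rn R i) (isRoot_sr cs h i).neg hd
      rwa [map_neg, rep_simple_sr, neg_neg] at this
    have hsq := R.sq_mem_T i
    have e1 : ρ b (ρ (n i) v) = ρ c (ρ (t * (n i * n i)) v) := by
      have h1 : b * n i = c * (t * ((n i * d * (n i)⁻¹) * (n i * n i))) := by rw [e]; group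
      rw [← rho_mul, h1, rho_mul c, rho_mul t, rho_mul (n i * d * (n i)⁻¹),
        hfix hd2 (stab_VU R _ hsq v (hE hv)), ← rho_mul t]
    rw [e1]
    exact mem_SP (X_le_UN (isRoot_sr cs h i).neg (neg_nonpos.2 (sr_nonneg i)) hc)
      (hT _ (mul_mem ht hsq) v hv)
  have h1 : ∀ i, ∀ v ∈ E, ρ (n i) v ∈ SP cs h X ρ E := by
    intro i v hv
    have hmem : (1 : Y) ∈ fs (X (sr i)) := mem_fs.2 (one_mem _)
    have e1 : ei ρ X n i v = ρ (n i) v + ∑ b ∈ (fs (X (sr i))).erase 1, ρ b (ρ (n i) v) := by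
      rw [ei_apply]
      unfold Nm
      rw [← Finset.add_sum_erase _ _ hmem, rho_one]
    have e2 : ρ (n i) v = ei ρ X n i v - ∑ b ∈ (fs (X (sr i))).erase 1, ρ b (ρ (n i) v) := by
      rw [e1, add_sub_cancel_right]
    rw [e2]
    refine Submodule.sub_mem _ (le_SP (he i v hv)) (Submodule.sum_mem _ fun b hb' => ?_)
    rw [Finset.mem_erase] at hb'
    exact hb i b (mem_fs.1 hb'.2) hb'.1 v hv
  have hn1 : ∀ i, ∀ m ∈ SP cs h X ρ E, ρ (n i) m ∈ SP cs h X ρ E := by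
    intro i
    refine SP_forall fun u hu v hv => ?_
    have hu' : u⁻¹ ∈ RGD.Sup (fun x => X (-x)) (RGD.Pos cs h) := by rw [U_opp]; exact inv_mem hu
    obtain ⟨a, ha, r, hr, e⟩ := KFacts.RgdFixU.exists_mul_V (opp R) i hu'
    have eu : u = r⁻¹ * a⁻¹ := by rw [← inv_inv u, e]; group
    have hr2 : n i * r⁻¹ * (n i)⁻¹ ∈ UN cs h X := by
      have h2 : n i * r⁻¹ * (n i)⁻¹ ∈ cj (n i) (RGD.Sup (fun x => X (-x)) (RGD.PosNe cs h i)) :=
        conj_mem_cj.2 (inv_mem hr)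
      rw [(opp R).cj_n_V i] at h2
      have h3 := KFacts.RgdFixU.V_le_U (opp R) i h2
      rwa [U_opp] at h3
    have e1 : ρ (n i) (ρ u v) = ρ (n i * r⁻¹ * (n i)⁻¹) (ρ (n i) (ρ a⁻¹ v)) := by
      rw [eu, ← rho_mul, ← rho_mul, ← rho_mul]; congr 2; group
    rw [e1]
    refine hUN' _ hr2 _ ?_
    by_cases ha1 : a = 1
    · rw [ha1, inv_one, rho_one]
      exact h1 i v hv
    · have ha' : a⁻¹ ∈ X (-sr i) := inv_mem ha
      have hb2 : n i * a⁻¹ * (n i)⁻¹ ∈ X (sr i) := by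
        have := R.conj_mem (rn R i) (isRoot_sr cs h i).neg ha'
        rwa [map_neg, rep_simple_sr, neg_neg] at this
      have e2 : ρ (n i) (ρ a⁻¹ v) = ρ (n i * a⁻¹ * (n i)⁻¹) (ρ (n i) v) := by
        rw [← rho_mul, ← rho_mul]; congr 2; group
      rw [e2]
      refine hb i _ hb2 (fun h3 => ha1 ?_) v hv
      exact inv_eq_one.1 (mul_eq_left.1 (mul_inv_eq_one.1 h3))
  have hn2 : ∀ i, ∀ m ∈ SP cs h X ρ E, ρ (n i)⁻¹ m ∈ SP cs h X ρ E := by
    intro i m hm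
    have e : ρ (n i)⁻¹ m = ρ (n i) (ρ (n i * n i)⁻¹ m) := by
      rw [← rho_mul]; congr 2; group
    rw [e]
    exact hn1 i _ (hT' _ (inv_mem (R.sq_mem_T i)) m hm)
  have kT : T ≤ K := fun t ht => (hK t).2 ⟨hT' t ht, hT' _ (inv_mem ht)⟩
  have kN : ∀ i, n i ∈ K := fun i => (hK _).2 ⟨hn1 i, hn2 i⟩
  have kUN : UN cs h X ≤ K := fun u hu => (hK u).2 ⟨hUN' u hu, hUN' _ (inv_mem hu)⟩
  have kNN : NN cs R.nsys ≤ K := by
    rw [NN_eq]
    refine sup_le kT ((Subgroup.closure_le _).2 ?_)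
    rintro _ ⟨i, rfl⟩
    exact kN i
  have kX : ∀ x, IsRoot cs h x → X x ≤ K := by
    rintro _ ⟨w, i, rfl⟩ u hu
    obtain ⟨g, hg⟩ := exists_rp cs R.nsys (w * cs.simple i)
    have hgK : g ∈ K := kNN ⟨_, hg⟩
    have h2 : g⁻¹ * u * g ∈ X (-sr i) := by
      have := R.conj_mem' hg ⟨w, i, rfl⟩ hu
      rwa [mul_inv_rev, inv_simple, rep_mul_apply, rep_inv_apply, rep_simple_sr] at this
    have h3 := kUN (X_le_UN (isRoot_sr cs h i).neg (neg_nonpos.2 (sr_nonneg i)) h2)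
    have e : u = g * (g⁻¹ * u * g) * g⁻¹ := by group
    rw [e]
    exact mul_mem (mul_mem hgK h3) (inv_mem hgK)
  have kG : GG cs h T X ≤ K := sup_le kT (RGD.Sup_le fun x hx => kX x hx)
  intro g
  have hg : g ∈ K := kG (by rw [hG]; exact Subgroup.mem_top g)
  exact ((hK g).1 hg).1

/-- `|V^{U⁻}| = |V^U|` -/
theorem card_fix_UN [Finite W] : Nat.card (fixS ρ (UN cs h X)) = Nat.card (VU cs h X ρ) := by
  obtain ⟨k, hk⟩ := exists_rp cs R.nsys (w0 cs)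
  have h1 : fixS ρ (UN cs h X) = (VU cs h X ρ).map (ρ k).toLinearMap := by
    ext v
    rw [Submodule.mem_map]
    constructor
    · intro hv
      refine ⟨ρ k⁻¹ v, ?_, rho_inv' k v⟩
      intro u hu
      have h2 : k * u * k⁻¹ ∈ UN cs h X := by
        rw [← cj_U R hk]; exact conj_mem_cj.2 hu
      have h3 := hv _ h2
      have e : ρ u (ρ k⁻¹ v) = ρ k⁻¹ (ρ (k * u * k⁻¹) v) := by
        rw [← rho_mul, ← rho_mul]; congr 2; group
      rw [e, h3]
    · rintro ⟨w, hw, rfl⟩ u hu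
      have h2 : k⁻¹ * u * k ∈ RGD.Sup X (RGD.Pos cs h) := by
        rw [← cj_U R hk] at hu; exact mem_cj.1 hu
      have e : ρ u (ρ k w) = ρ k (ρ (k⁻¹ * u * k) w) := by
        rw [← rho_mul, ← rho_mul]; congr 2; group
      change ρ u (ρ k w) = ρ k w
      rw [e, hw _ h2]
  rw [h1]
  exact (Nat.card_congr ((ρ k).submoduleMap (VU cs h X ρ)).toEquiv).symm

end A

theorem card_dual {E : Type*} [AddCommGroup E] [Module (ZMod 2) E] [Finite E] :
    Nat.card (E →ₗ[ZMod 2] ZMod 2) = Nat.card E := by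
  rw [Module.natCard_eq_pow_finrank (K := ZMod 2) (V := E →ₗ[ZMod 2] ZMod 2),
    Module.natCard_eq_pow_finrank (K := ZMod 2) (V := E)]
  congr 1
  exact Subspace.dual_finrank_eq

/-- duality -/
theorem card_le_of_span [Finite V] {b : LinearMap.BilinForm (ZMod 2) V} (hnd : ∀ v, (∀ u, b v u = 0) → v = 0)
    (hinv : ∀ g u v, b (ρ g u) (ρ g v) = b u v) {E : Submodule (ZMod 2) V} (hs : SP cs h X ρ E = ⊤) :
    Nat.card (fixS ρ (UN cs h X)) ≤ Nat.card E := by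
  rw [← card_dual (E := E)]
  have : Finite (E →ₗ[ZMod 2] ZMod 2) := by
    refine Finite.of_injective (fun f => (f : E → ZMod 2)) DFunLike.coe_injective
  refine Nat.card_le_card_of_injective (fun x : fixS ρ (UN cs h X) => (b x.1).comp E.subtype) ?_
  rintro ⟨x, hx⟩ ⟨y, hy⟩ (e : (b x).comp E.subtype = (b y).comp E.subtype)
  apply Subtype.ext
  show x = y
  rw [← sub_eq_zero]
  apply hnd
  have hxy : x - y ∈ fixS ρ (UN cs h X) := Submodule.sub_mem _ hx hy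
  have h1 : SP cs h X ρ E ≤ LinearMap.ker (b (x - y)) := by
    refine Submodule.span_le.2 ?_
    rintro _ ⟨u, hu, v, hv, rfl⟩
    show b (x - y) (ρ u v) = 0
    have h2 : ρ u (x - y) = x - y := hxy u hu
    have h3 : b (x - y) (ρ u v) = b (x - y) v := by
      conv_lhs => rw [← h2]
      exact hinv u _ _
    rw [h3, map_sub, LinearMap.sub_apply, sub_eq_zero]
    exact LinearMap.congr_fun e ⟨v, hv⟩
  intro u
  have h2 : u ∈ SP cs h X ρ E := by rw [hs]; exact Submodule.mem_top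
  exact h1 h2

/-! ### the module -/

/-- the hypotheses of (CR) -/
structure Md (cs : CoxeterSystem M W) (h : IsCartan M A) (T : Subgroup Y) (n : I → Y)
    (X : (I → ℤ) → Subgroup Y) (ρ : Y →* (V ≃ₗ[ZMod 2] V)) (b : LinearMap.BilinForm (ZMod 2) V) : Prop where
  rgd : RGD cs h 2 T n X
  gen : GG cs h T X = ⊤
  nondeg : ∀ v, (∀ u, b v u = 0) → v = 0
  b_inv : ∀ g u v, b (ρ g u) (ρ g v) = b u v
  irr : ∀ E : Submodule (ZMod 2) V, (∀ g, ∀ v ∈ E, ρ g v ∈ E) → E = ⊥ ∨ E = ⊤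

variable {b : LinearMap.BilinForm (ZMod 2) V}

theorem eq_of_le_of_card [Finite V] {E F : Submodule (ZMod 2) V} (hEF : E ≤ F) (hc : Nat.card F ≤ Nat.card E) :
    E = F := by
  apply SetLike.coe_injective
  refine Set.eq_of_subset_of_ncard_le hEF ?_ (Set.toFinite _)
  exact hc

section B

variable [Finite Y] [Finite W] [Finite V] (N : Md cs h T n X ρ b)

include N

/-- the main step -/
theorem Md.main {E : Submodule (ZMod 2) V} (hE : E ≤ VU cs h X ρ) (hT : Stab ρ T E) (hne : E ≠ ⊥) :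
    E = VU cs h X ρ ∧ SP cs h X ρ (VU cs h X ρ) = ⊤ := by
  obtain ⟨E', hne', hE', hT', he', hc⟩ := exists_stable N.rgd hE hT hne
  have h1 : SP cs h X ρ E' = ⊤ := by
    refine (N.irr _ (stable_SP N.rgd N.gen hE' hT' he')).resolve_left fun h0 => hne' ?_
    rw [eq_bot_iff, ← h0]
    exact le_SP
  have h2 := card_le_of_span (ρ := ρ) N.nondeg N.b_inv h1
  rw [card_fix_UN N.rgd] at h2
  have h3 : E' = VU cs h X ρ := eq_of_le_of_card hE' h2
  rw [h3] at h1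
  exact ⟨eq_of_le_of_card hE (h2.trans hc), h1⟩

/-- **`V^U` is an irreducible `T`-module** -/
theorem Md.irrU {E : Submodule (ZMod 2) V} (hE : E ≤ VU cs h X ρ) (hT : Stab ρ T E) (hne : E ≠ ⊥) :
    E = VU cs h X ρ := (N.main hE hT hne).1

omit [Finite V] in
theorem Md.VU_ne [Finite V] [Nontrivial V] : VU cs h X ρ ≠ ⊥ := by
  classical
  let _ : MulAction ↥(RGD.Sup X (RGD.Pos cs h)) V :=
    MulAction.compHom V (ρ.comp (Subgroup.subtype (RGD.Sup X (RGD.Pos cs h))))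
  have hact : ∀ (g : ↥(RGD.Sup X (RGD.Pos cs h))) (v : V), g • v = ρ g.1 v := fun g v => rfl
  have h2 : 2 ∣ Nat.card V := by
    rw [Module.natCard_eq_pow_finrank (K := ZMod 2) (V := V), Nat.card_zmod]
    refine dvd_pow_self 2 ?_
    exact (Module.finrank_pos).ne'
  have h0 : (0 : V) ∈ MulAction.fixedPoints ↥(RGD.Sup X (RGD.Pos cs h)) V := by
    intro g
    rw [hact, map_zero]
  obtain ⟨v, hv, hv0⟩ := N.rgd.isPGroup_Upos.exists_fixed_point_of_prime_dvd_card_of_fixed_point V h2 h0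
  intro hbot
  have h3 : v ∈ VU cs h X ρ := by
    intro g hg
    exact hv ⟨g, hg⟩
  rw [hbot, Submodule.mem_bot] at h3
  exact hv0 h3.symm

/-- **`V` is spanned by `U⁻ V^U`** -/
theorem Md.span_eq_top [Nontrivial V] : SP cs h X ρ (VU cs h X ρ) = ⊤ :=
  (N.main le_rfl (stab_VU N.rgd) N.VU_ne).2

/-- `e_i` is zero on `V^U` or an element of the group algebra of `T` -/
theorem Md.ei_cases (i : I) : (∀ v ∈ VU cs h X ρ, ei ρ X n i v = 0) ∨
    ∃ τ : Y → Y, (∀ c, τ c ∈ T) ∧ ∃ s : Finset Y, ∀ v ∈ VU cs h X ρ, ei ρ X n i v = ∑ c ∈ s, ρ (τ c) v := by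
  set K : Submodule (ZMod 2) V := VU cs h X ρ ⊓ LinearMap.ker (ei ρ X n i) with hK
  have hKT : Stab ρ T K := by
    rintro t ht v ⟨hv, hv0⟩
    refine ⟨stab_VU N.rgd t ht v hv, ?_⟩
    rw [SetLike.mem_coe, LinearMap.mem_ker] at hv0 ⊢
    rw [ei_tor' N.rgd i ht, hv0, map_zero]
  by_cases hK0 : K = ⊥
  · right
    obtain ⟨τ, hτ, s, hs⟩ := ei_ei (ρ := ρ) N.rgd i
    refine ⟨τ, hτ, s, fun v hv => ?_⟩
    have h1 : ei ρ X n i v - ∑ c ∈ s, ρ (τ c) v ∈ K := by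
      refine ⟨Submodule.sub_mem _ (ei_mem N.rgd i hv)
        (Submodule.sum_mem _ fun c _ => stab_VU N.rgd _ (hτ c) v hv), ?_⟩
      rw [SetLike.mem_coe, LinearMap.mem_ker, map_sub, hs v hv, sub_self]
    rw [hK0, Submodule.mem_bot, sub_eq_zero] at h1
    exact h1
  · left
    have h1 := N.irrU (inf_le_left : K ≤ VU cs h X ρ) hKT hK0
    intro v hv
    rw [← h1] at hv
    exact LinearMap.mem_ker.1 hv.2

end B

/-! ### extension of endomorphisms -/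

/-- the diagonal action on `V × V` -/
def rho2 (ρ : Y →* (V ≃ₗ[ZMod 2] V)) : Y →* ((V × V) ≃ₗ[ZMod 2] (V × V)) where
  toFun g := (ρ g).prodCongr (ρ g)
  map_one' := by
    ext p
    · show ρ 1 p.1 = p.1
      rw [rho_one]
    · show ρ 1 p.2 = p.2
      rw [rho_one]
  map_mul' g k := by
    ext p
    · show ρ (g * k) p.1 = ρ g (ρ k p.1)
      rw [rho_mul]
    · show ρ (g * k) p.2 = ρ g (ρ k p.2)
      rw [rho_mul]

theorem rho2_apply (g : Y) (p : V × V) : rho2 ρ g p = (ρ g p.1, ρ g p.2) := rfl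

theorem mem_VU2 {p : V × V} : p ∈ VU cs h X (rho2 ρ) ↔ p.1 ∈ VU cs h X ρ ∧ p.2 ∈ VU cs h X ρ := by
  constructor
  · intro hp
    exact ⟨fun g hg => congrArg Prod.fst (hp g hg), fun g hg => congrArg Prod.snd (hp g hg)⟩
  · rintro ⟨h1, h2⟩ g hg
    rw [rho2_apply, h1 g hg, h2 g hg]

theorem nm2 [Finite Y] (H : Subgroup Y) (p : V × V) : Nm (rho2 ρ) H p = (Nm ρ H p.1, Nm ρ H p.2) := by
  unfold Nm
  refine Prod.ext ?_ ?_
  · rw [Prod.fst_sum]
    rfl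
  · rw [Prod.snd_sum]
    rfl

theorem ei2 [Finite Y] (i : I) (p : V × V) : ei (rho2 ρ) X n i p = (ei ρ X n i p.1, ei ρ X n i p.2) := by
  rw [ei_apply, ei_apply, ei_apply, nm2]
  rfl

/-- the form on `V × V` -/
def form2 (b : LinearMap.BilinForm (ZMod 2) V) : LinearMap.BilinForm (ZMod 2) (V × V) :=
  b.compl₁₂ (LinearMap.fst _ _ _) (LinearMap.fst _ _ _) + b.compl₁₂ (LinearMap.snd _ _ _) (LinearMap.snd _ _ _)

theorem form2_apply (p q : V × V) : form2 b p q = b p.1 q.1 + b p.2 q.2 := rfl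

section C

variable [Finite Y] [Finite W] [Finite V] [Nontrivial V] (N : Md cs h T n X ρ b)

include N

/-- **Every `T`-endomorphism of `V^U` (given by its graph `Γ`) extends to a `Y`-endomorphism of `V`.** -/
theorem Md.exists_ext {Γ : Submodule (ZMod 2) (V × V)} (h1 : ∀ p ∈ Γ, p.1 ∈ VU cs h X ρ ∧ p.2 ∈ VU cs h X ρ)
    (h2 : ∀ t ∈ T, ∀ p ∈ Γ, (ρ t p.1, ρ t p.2) ∈ Γ) (h3 : ∀ v ∈ VU cs h X ρ, ∃ w, (v, w) ∈ Γ)
    (h4 : ∀ w, ((0 : V), w) ∈ Γ → w = 0) :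
    ∃ f : V →ₗ[ZMod 2] V, (∀ g v, f (ρ g v) = ρ g (f v)) ∧ ∀ p ∈ Γ, f p.1 = p.2 := by
  have hΓ : Γ ≤ VU cs h X (rho2 ρ) := fun p hp => mem_VU2.2 (h1 p hp)
  have hΓT : Stab (rho2 ρ) T Γ := fun t ht p hp => by rw [rho2_apply]; exact h2 t ht p hp
  have hΓe : ∀ i, ∀ p ∈ Γ, ei (rho2 ρ) X n i p ∈ Γ := by
    intro i p hp
    rw [ei2]
    rcases N.ei_cases i with h0 | ⟨τ, hτ, s, hs⟩
    · rw [h0 _ (h1 p hp).1, h0 _ (h1 p hp).2]
      exact Submodule.zero_mem _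
    · rw [hs _ (h1 p hp).1, hs _ (h1 p hp).2]
      have : (∑ c ∈ s, ρ (τ c) p.1, ∑ c ∈ s, ρ (τ c) p.2) = ∑ c ∈ s, (ρ (τ c) p.1, ρ (τ c) p.2) := by
        refine Prod.ext ?_ ?_
        · rw [Prod.fst_sum]
        · rw [Prod.snd_sum]
      rw [this]
      exact Submodule.sum_mem _ fun c _ => h2 _ (hτ c) p hp
  set Q : Submodule (ZMod 2) (V × V) := SP cs h X (rho2 ρ) Γ with hQ
  have hst := stable_SP N.rgd N.gen hΓ hΓT hΓe
  -- the kernel
  set V1 : Submodule (ZMod 2) V := Q.comap (LinearMap.inr (ZMod 2) V V) with hV1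
  have hV1m : ∀ w, w ∈ V1 ↔ ((0 : V), w) ∈ Q := fun w => Iff.rfl
  have hV1s : ∀ g, ∀ v ∈ V1, ρ g v ∈ V1 := by
    intro g v hv
    rw [hV1m] at hv ⊢
    have := hst g _ hv
    rw [rho2_apply] at this
    simpa using this
  -- the projection
  have hfst : ∀ v : V, ∃ w, (v, w) ∈ Q := by
    have h5 : Q.map (LinearMap.fst (ZMod 2) V V) = ⊤ := by
      refine (N.irr _ ?_).resolve_left ?_
      · rintro g _ ⟨p, hp, rfl⟩
        exact ⟨rho2 ρ g p, hst g p hp, rfl⟩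
      · intro h0
        apply N.VU_ne
        rw [eq_bot_iff, ← h0]
        intro v hv
        obtain ⟨w, hw⟩ := h3 v hv
        exact ⟨(v, w), le_SP hw, rfl⟩
    intro v
    have h6 : v ∈ Q.map (LinearMap.fst (ZMod 2) V V) := by rw [h5]; exact Submodule.mem_top
    obtain ⟨⟨v', w⟩, hp, rfl⟩ := h6
    exact ⟨w, hp⟩
  have hV1b : V1 = ⊥ := by
    refine (N.irr _ hV1s).resolve_right fun htop => ?_
    have hQt : Q = ⊤ := by
      rw [eq_top_iff]
      rintro ⟨v, w⟩ -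
      obtain ⟨w', hw'⟩ := hfst v
      have h5 : w - w' ∈ V1 := by rw [htop]; exact Submodule.mem_top
      have h6 := Submodule.add_mem _ hw' ((hV1m _).1 h5)
      simpa using h6
    have h5 := card_le_of_span (ρ := rho2 ρ) (b := form2 b) (cs := cs) (h := h) (X := X) (fun p hp => by
      refine Prod.ext (N.nondeg _ fun u => ?_) (N.nondeg _ fun u => ?_)
      · have := hp (u, 0)
        rw [form2_apply] at this
        simpa using this
      · have := hp (0, u)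
        rw [form2_apply] at this
        simpa using this) (fun g p q => by
        rw [form2_apply, form2_apply, rho2_apply, rho2_apply, N.b_inv, N.b_inv]) hQt
    rw [card_fix_UN N.rgd] at h5
    have h6 : Nat.card Γ ≤ Nat.card (VU cs h X ρ) := by
      refine Nat.card_le_card_of_injective (fun p : Γ => (⟨p.1.1, (h1 _ p.2).1⟩ : VU cs h X ρ)) ?_
      rintro ⟨p, hp⟩ ⟨q, hq⟩ e
      have e1 : p.1 = q.1 := congrArg Subtype.val e
      apply Subtype.ext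
      show p = q
      have h7 := Submodule.sub_mem _ hp hq
      have h8 : p - q = ((0 : V), p.2 - q.2) := Prod.ext (by rw [Prod.fst_sub, e1, sub_self]) rfl
      rw [h8] at h7
      exact Prod.ext e1 (sub_eq_zero.1 (h4 _ h7))
    have h7 : Nat.card (VU cs h X ρ) * Nat.card (VU cs h X ρ) ≤ Nat.card (VU cs h X (rho2 ρ)) := by
      rw [← Nat.card_prod]
      refine Nat.card_le_card_of_injective (fun p : VU cs h X ρ × VU cs h X ρ =>
        (⟨(p.1.1, p.2.1), mem_VU2.2 ⟨p.1.2, p.2.2⟩⟩ : VU cs h X (rho2 ρ))) ?_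
      rintro ⟨⟨p1, hp1⟩, ⟨p2, hp2⟩⟩ ⟨⟨q1, hq1⟩, ⟨q2, hq2⟩⟩ e
      have e1 : (p1, p2) = (q1, q2) := congrArg Subtype.val e
      rw [Prod.mk.injEq] at e1
      obtain ⟨rfl, rfl⟩ := e1
      rfl
    have h8 : 1 < Nat.card (VU cs h X ρ) := by
      rw [Finite.one_lt_card_iff_nontrivial]
      exact Submodule.nontrivial_iff_ne_bot.2 N.VU_ne
    nlinarith
  -- the map
  have huniq : ∀ v w w', (v, w) ∈ Q → (v, w') ∈ Q → w = w' := by
    intro v w w' hw hw'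
    have h5 := Submodule.sub_mem _ hw hw'
    have h6 : (v, w) - (v, w') = ((0 : V), w - w') := Prod.ext (by simp) (by simp)
    rw [h6, ← hV1m, hV1b, Submodule.mem_bot, sub_eq_zero] at h5
    exact h5
  choose F hF using hfst
  refine ⟨{ toFun := F, map_add' := ?_, map_smul' := ?_ }, ?_, ?_⟩
  · intro u v
    refine huniq (u + v) _ _ (hF _) ?_
    have := Submodule.add_mem _ (hF u) (hF v)
    simpa using this
  · intro c v
    refine huniq (c • v) _ _ (hF _) ?_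
    have := Submodule.smul_mem _ c (hF v)
    simpa using this
  · intro g v
    refine huniq (ρ g v) _ _ (hF _) ?_
    have := hst g _ (hF v)
    rwa [rho2_apply] at this
  · rintro ⟨v, w⟩ hp
    exact huniq v _ _ (hF _) (le_SP hp)

/-- `T` acts trivially on `V^U` if `T` is abelian and `End_Y V = {0, 1}` -/
theorem Md.fix_T (hab : ∀ s ∈ T, ∀ t ∈ T, s * t = t * s)
    (hEnd : ∀ f : V →ₗ[ZMod 2] V, (∀ g v, f (ρ g v) = ρ g (f v)) → f = 0 ∨ f = LinearMap.id) :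
    ∀ t ∈ T, ∀ v ∈ VU cs h X ρ, ρ t v = v := by
  intro t ht
  set Γ : Submodule (ZMod 2) (V × V) :=
    (VU cs h X ρ).map (LinearMap.prod LinearMap.id (ρ t).toLinearMap) with hΓ
  have hΓm : ∀ p, p ∈ Γ ↔ p.1 ∈ VU cs h X ρ ∧ ρ t p.1 = p.2 := by
    rintro ⟨v, w⟩
    constructor
    · rintro ⟨v', hv', e⟩
      have e' : (v', ρ t v') = (v, w) := e
      rw [Prod.mk.injEq] at e'
      obtain ⟨rfl, rfl⟩ := e'
      exact ⟨hv', rfl⟩
    · rintro ⟨h1, h2⟩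
      exact ⟨v, h1, Prod.ext rfl h2⟩
  obtain ⟨f, hf, hfΓ⟩ := N.exists_ext (Γ := Γ) (fun p hp => by
      obtain ⟨h1, h2⟩ := (hΓm p).1 hp
      exact ⟨h1, by rw [← h2]; exact stab_VU N.rgd t ht _ h1⟩) (fun s hs p hp => by
      obtain ⟨h1, h2⟩ := (hΓm p).1 hp
      refine (hΓm _).2 ⟨stab_VU N.rgd s hs _ h1, ?_⟩
      show ρ t (ρ s p.1) = ρ s p.2
      rw [← h2, ← rho_mul, ← rho_mul, hab t ht s hs]) (fun v hv => ⟨ρ t v, (hΓm _).2 ⟨hv, rfl⟩⟩) (fun w hw => by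
      obtain ⟨h1, h2⟩ := (hΓm _).1 hw
      have h3 : ρ t (0 : V) = w := h2
      rw [← h3, map_zero])
  rcases hEnd f hf with rfl | rfl
  · exfalso
    apply N.VU_ne
    rw [eq_bot_iff]
    intro v hv
    have h1 := hfΓ (v, ρ t v) ((hΓm _).2 ⟨hv, rfl⟩)
    rw [LinearMap.zero_apply] at h1
    rw [Submodule.mem_bot]
    have h2 : ρ t v = 0 := h1.symm
    have h3 := rho_inv (ρ := ρ) t v
    rw [h2, map_zero] at h3
    exact h3.symm
  · intro v hv
    exact (hfΓ (v, ρ t v) ((hΓm _).2 ⟨hv, rfl⟩)).symm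

/-- **`|V^U| = 2`** -/
theorem Md.exists_unique_fix (hab : ∀ s ∈ T, ∀ t ∈ T, s * t = t * s)
    (hEnd : ∀ f : V →ₗ[ZMod 2] V, (∀ g v, f (ρ g v) = ρ g (f v)) → f = 0 ∨ f = LinearMap.id) :
    ∃ a : V, a ≠ 0 ∧ (∀ v, v ∈ VU cs h X ρ ↔ v = 0 ∨ v = a) ∧ ∀ g ∈ RGD.B cs h T X, ρ g a = a := by
  obtain ⟨a, ha, ha0⟩ := (Submodule.ne_bot_iff _).1 N.VU_ne
  have hT := N.fix_T hab hEnd
  have h1 : Submodule.span (ZMod 2) {a} = VU cs h X ρ := by
    refine N.irrU ?_ ?_ ?_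
    · rw [Submodule.span_singleton_le_iff_mem]
      exact ha
    · intro t ht v hv
      rw [Submodule.mem_span_singleton] at hv ⊢
      obtain ⟨c, rfl⟩ := hv
      exact ⟨c, by rw [map_smul, hT t ht a ha]⟩
    · rw [Ne, Submodule.span_singleton_eq_bot]
      exact ha0
  refine ⟨a, ha0, fun v => ?_, fun g hg => ?_⟩
  · rw [← h1, Submodule.mem_span_singleton]
    constructor
    · rintro ⟨c, rfl⟩
      have hc : c = 0 ∨ c = 1 := by revert c; decide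
      rcases hc with rfl | rfl
      · exact Or.inl (zero_smul _ _)
      · exact Or.inr (one_smul _ _)
    · rintro (rfl | rfl)
      · exact ⟨0, zero_smul _ _⟩
      · exact ⟨1, one_smul _ _⟩
  · obtain ⟨t, ht, u, hu, rfl⟩ := N.rgd.mem_B.1 hg
    rw [rho_mul, ha u hu, hT t ht a ha]

end C

end Cfsg.Agent.Omega.EH3.Kf.CR
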