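import Cfsg.Agent.KFacts.SLRow.Row
import Cfsg.Agent.KFacts.SysSp
import Cfsg.Agent.Omega.EH3.Kf.TorSys

/-!
# EH3, Lie rows in characteristic 2: the data of the groups of type `A`, `D`, `E` and `F₄` (helper827)

`HasTor M m Z` : `Z` has a root group datum of characteristic two over `M.toCoxeterSystem` with abelian torus and
elementary abelian root groups of order `2 ^ m` (`TorSys.TorDat`).

For a surjective `f : Z → Y` with central kernel of odd order, `Z` perfect (in particular for an isomorphism):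

* `psl` : `Y = PSL_{l+1}(F)`, every `l`: `HasTor (cA l) m Z`;
* `psp` : `Y = PSp_{2k}(F)`, `k ≥ 1`: `HasTor (CoxeterMatrix.B k) m Z`;
* `oplus` : `Y = PΩ⁺_{2(l+2)}(F)`, `l ≥ 2`: `HasTor (TypeD.M l) m Z`;
* `datE6`, `datE7`, `datE8`, `datF4`;
* `of_PSLChar`, `of_PSpChar`, `of_POmegaPlusChar`, `of_Exceptional` : the same from the predicates of `IsLieTypeChar 2`.
-/

set_option autoImplicit false
set_option linter.unusedSectionVars false

namespace Cfsg.Agent.Omega.EH3.Kf.DataSL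

open Cfsg
open CoxeterSystem Cfsg.Agent.ChevalleyStructure.CoxeterGeom Cfsg.Agent.Tits.Roots Cfsg.Agent.Tits.Core
  Cfsg.Agent.Nodes.Reps Cfsg.Agent.Nodes.BNOf Cfsg.Agent.Nodes.RGDLib Cfsg.Agent.KFacts.ChevTwo
  Cfsg.Agent.Omega.EH3.Kf.Tor Cfsg.Agent.Omega.EH3.Kf.TorSys
open Cfsg.Agent.KFacts.SLRow
open scoped commutatorElement

universe u

/-- The group has a root group datum of diagram `M` in characteristic two with abelian torus and elementary abelian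
root groups of order `2 ^ m`. -/
def HasTor {l : ℕ} (M : CoxeterMatrix (Fin l)) (m : ℕ) (Z : Type*) [Group Z] : Prop :=
  Finite M.Group ∧ ∃ (A : Fin l → Fin l → ℤ) (h : IsCartan M A) (T : Subgroup Z) (n : Fin l → Z)
    (X : (Fin l → ℤ) → Subgroup Z), TorDat M.toCoxeterSystem h m T n X

/-- `f` is a central extension by an odd group, `Z` perfect. -/
structure Cover {Z Y : Type*} [Group Z] [Group Y] (f : Z →* Y) : Prop where
  ker : f.ker ≤ Subgroup.center Z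
  odd : (Nat.card f.ker).Coprime 2
  surj : Function.Surjective f
  perf : ⁅(⊤ : Subgroup Z), (⊤ : Subgroup Z)⁆ = ⊤

theorem Cover.comp {Z Y Y' : Type*} [Group Z] [Group Y] [Group Y'] {f : Z →* Y} (hf : Cover f) (e : Y ≃* Y') :
    Cover (e.toMonoidHom.comp f) := by
  have hk : (e.toMonoidHom.comp f).ker = f.ker := by
    ext z
    rw [MonoidHom.mem_ker, MonoidHom.mem_ker, MonoidHom.comp_apply]
    exact ⟨fun h => e.injective (h.trans (map_one e).symm), fun h => by rw [h]; exact map_one e⟩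
  refine ⟨hk ▸ hf.ker, ?_, e.surjective.comp hf.surj, hf.perf⟩
  rw [hk]
  exact hf.odd

theorem Cover.of_equiv {Z Y : Type*} [Group Z] [Group Y] (e : Z ≃* Y)
    (hp : ⁅(⊤ : Subgroup Z), (⊤ : Subgroup Z)⁆ = ⊤) : Cover e.toMonoidHom := by
  have hk : e.toMonoidHom.ker = ⊥ := by
    rw [MonoidHom.ker_eq_bot_iff]
    exact e.injective
  refine ⟨hk ▸ bot_le, ?_, e.surjective, hp⟩
  rw [hk, Subgroup.card_bot]
  exact Nat.coprime_one_left 2

variable {Z : Type*} [Group Z] [Finite Z] {m : ℕ}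

theorem of_sys {l : ℕ} {M : CoxeterMatrix (Fin l)} [hW : Finite M.Group] {A : Fin l → Fin l → ℤ} {h : IsCartan M A}
    {K : Type*} [Field K] [Finite K] [CharP K 2] {Y : Type*} [Group Y] {T : Subgroup Y} {n : Fin l → Y}
    {X : (Fin l → ℤ) → Subgroup Y} {e : (Fin l → ℤ) → K → Y} {R : RGD M.toCoxeterSystem h 2 T n X} (S : Sys R e)
    (hG1 : RGD.Sup X {x | IsRoot M.toCoxeterSystem h x} = ⊤) (hN : KFacts.RgdCent.NoCent M.toCoxeterSystem h T X)
    (hm : Nat.card K = 2 ^ m) {f : Z →* Y} (hf : Cover f) : HasTor M m Z :=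
  ⟨hW, A, h, exists_torDat S hG1 hN hm f hf.ker hf.odd hf.surj hf.perf⟩

theorem of_isSLC {q l : ℕ} {M : CoxeterMatrix (Fin l)} {Y : Type*} [Group Y] (hY : Row.IsSLC q M Y) (hm : q = 2 ^ m)
    {f : Z →* Y} (hf : Cover f) : HasTor M m Z := by
  obtain ⟨A, h, T, n, X, F, _, _, _, e, hW, hq, hM, D, S⟩ := hY
  exact of_sys S D.gen D.cent (hq.trans hm) hf

/-! ### The groups -/

variable {F : Type} [Field F] [Finite F] [CharP F 2]

open Cfsg.Agent.LieRecognition.BNCox (cA) in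
theorem psl {l : ℕ} (hm : Nat.card F = 2 ^ m)
    {f : Z →* Matrix.ProjectiveSpecialLinearGroup (Fin (l + 1)) F} (hf : Cover f) : HasTor (cA l) m Z := by
  have : Fact (Nat.Prime 2) := ⟨Nat.prime_two⟩
  have h2 : ∀ t : F, t + t = 0 := CharTwo.add_self_eq_zero
  have hW : Finite (cA l).Group := Cfsg.Agent.Nodes.RootsA.finite_W (cA l).toCoxeterSystem
    (Cfsg.Agent.Nodes.RootsA.isCartan l)
  exact of_sys (SysA.sys_PSL (cA l).toCoxeterSystem (Cfsg.Agent.Nodes.RootsA.isCartan l))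
    (Cfsg.Agent.Nodes.RGDTypeA.G1_psl_eq_top _ _) (Psl.noCent h2 _ _) hm hf

open Cfsg.Agent.Nodes.TypeD in
theorem oplus {l : ℕ} (hl : 2 ≤ l) (hm : Nat.card F = 2 ^ m) {f : Z →* POmega F (quadFormPlus (l + 2) F)}
    (hf : Cover f) : HasTor (M l) m Z :=
  of_isSLC (Row.isSLC_OPlus hl F) hm hf

open Cfsg.Agent.Nodes.TypeC in
/-- `PSp_{2k}(F)`. -/
theorem psp {k : ℕ} (hk : 0 < k) (hm : Nat.card F = 2 ^ m) {f : Z →* PSp k F} (hf : Cover f) :
    HasTor (CoxeterMatrix.B k) m Z := by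
  have : Fact (Nat.Prime 2) := ⟨Nat.prime_two⟩
  have hW : Finite (CoxeterMatrix.B k).Group := finite_W (CoxeterMatrix.B k).toCoxeterSystem
  exact of_sys (KFacts.SysSp.sys_PSp k F (CoxeterMatrix.B k).toCoxeterSystem) (KFacts.SysSp.sup_eq_top_PSp hk F _)
    (KFacts.SysSp.noCent_PSp k F _) hm hf

open Cfsg.Lie in
theorem datE6 (hm : Nat.card F = 2 ^ m) {f : Z →* ↥(chevE6.group F)} (hf : Cover f) :
    HasTor CoxeterMatrix.E₆ m Z := of_isSLC (Row.isSLC_E6 F) hm hf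

open Cfsg.Lie in
theorem datE7 (hm : Nat.card F = 2 ^ m) {f : Z →* ↥(chevE7.group F)} (hf : Cover f) :
    HasTor CoxeterMatrix.E₇ m Z := of_isSLC (Row.isSLC_E7 F) hm hf

open Cfsg.Lie in
theorem datE8 (hm : Nat.card F = 2 ^ m) {f : Z →* ↥(chevE8.group F)} (hf : Cover f) :
    HasTor CoxeterMatrix.E₈ m Z := of_isSLC (Row.isSLC_E8 F) hm hf

open Cfsg.Lie Cfsg.Agent.ChevalleyStructure Cfsg.Agent.ChevalleyStructure.CoxeterGeomTypes Cfsg.Agent.Nodes.RGDChev in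
theorem datF4 (hm : Nat.card F = 2 ^ m) {f : Z →* ↥(chevF4.group F)} (hf : Cover f) :
    HasTor CoxeterMatrix.F₄ m Z := by
  have : Fact (Nat.Prime 2) := ⟨Nat.prime_two⟩
  have hp : IsType chevF4 4 CoxeterMatrix.F₄ := by simp [IsType, typeList]
  have hW : Finite (CoxeterMatrix.F₄).Group := finite_W hp (CoxeterMatrix.F₄).toCoxeterSystem
  exact of_sys (KFacts.ChevTwoInst.sys hp KFacts.ChevTwoInst.twoOK_F4 (CoxeterMatrix.F₄).toCoxeterSystem)
    (G1_eq_top hp _) (Row.noCent_group hp (by simp) F _) hm hf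

/-! ### The predicates of `IsLieTypeChar 2` -/

theorem card_eq_two_pow (F : Type) [Field F] [Fintype F] [CharP F 2] : ∃ m, 1 ≤ m ∧ Nat.card F = 2 ^ m := by
  obtain ⟨n, -, hn⟩ := FiniteField.card F 2
  exact ⟨n, n.2, by rw [Nat.card_eq_fintype_card]; exact hn⟩

theorem of_PSLChar {Y : Type*} [Group Y] (h : IsPSLChar 2 Y) {f : Z →* Y} (hf : Cover f) :
    ∃ l m, 1 ≤ l ∧ 1 ≤ m ∧ (l = 1 → 2 ≤ m) ∧ HasTor (Cfsg.Agent.LieRecognition.BNCox.cA l) m Z := by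
  obtain ⟨F, _, _, _, k, hk, h2, ⟨e⟩⟩ := h
  obtain ⟨m, hm, hF⟩ := card_eq_two_pow F
  obtain ⟨l, rfl⟩ : ∃ l, k = l + 1 := ⟨k - 1, by omega⟩
  refine ⟨l, m, by omega, hm, fun hl => ?_, psl hF (hf.comp e)⟩
  have h3 := h2 (by omega)
  rw [← Nat.card_eq_fintype_card, hF] at h3
  by_contra h4
  have : m = 1 := by omega
  subst this
  omega

theorem of_POmegaPlusChar {Y : Type*} [Group Y] (h : IsPOmegaPlusChar 2 Y) {f : Z →* Y} (hf : Cover f) :
    ∃ l m, 2 ≤ l ∧ 1 ≤ m ∧ HasTor (Cfsg.Agent.Nodes.TypeD.M l) m Z := by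
  obtain ⟨F, _, _, _, k, hk, ⟨e⟩⟩ := h
  obtain ⟨m, hm, hF⟩ := card_eq_two_pow F
  obtain ⟨l, rfl⟩ : ∃ l, k = l + 2 := ⟨k - 2, by omega⟩
  exact ⟨l, m, by omega, hm, oplus (by omega) hF (hf.comp e)⟩

theorem of_PSpChar {Y : Type*} [Group Y] (h : IsPSpChar 2 Y) {f : Z →* Y} (hf : Cover f) :
    ∃ k m, 2 ≤ k ∧ 1 ≤ m ∧ (k = 2 → 2 ≤ m) ∧ HasTor (CoxeterMatrix.B k) m Z := by
  obtain ⟨F, _, _, _, k, hk, h2, ⟨e⟩⟩ := h
  obtain ⟨m, hm, hF⟩ := card_eq_two_pow F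
  refine ⟨k, m, hk, hm, fun hl => ?_, psp (by omega) hF (hf.comp e)⟩
  have h3 := h2 hl
  rw [← Nat.card_eq_fintype_card, hF] at h3
  by_contra h4
  have : m = 1 := by omega
  subst this
  omega

/-- The exceptional groups other than `G₂`. -/
theorem of_Exceptional {Y : Type*} [Group Y] (h : IsExceptionalChevChar 2 Y) {f : Z →* Y} (hf : Cover f) :
    (∃ (F : Type) (_ : Field F) (_ : Fintype F) (_ : CharP F 2), 3 ≤ Fintype.card F ∧
      Nonempty (Y ≃* Lie.chevG2.group F)) ∨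
    ∃ m, 1 ≤ m ∧ (HasTor CoxeterMatrix.F₄ m Z ∨ HasTor CoxeterMatrix.E₆ m Z ∨ HasTor CoxeterMatrix.E₇ m Z ∨
      HasTor CoxeterMatrix.E₈ m Z) := by
  obtain ⟨F, _, _, _, h⟩ := h
  obtain ⟨m, hm, hF⟩ := card_eq_two_pow F
  rcases h with ⟨h3, h⟩ | ⟨⟨e⟩⟩ | ⟨⟨e⟩⟩ | ⟨⟨e⟩⟩ | ⟨⟨e⟩⟩
  · exact Or.inl ⟨F, inferInstance, inferInstance, inferInstance, h3, h⟩
  · exact Or.inr ⟨m, hm, Or.inl (datF4 hF (hf.comp e))⟩
  · exact Or.inr ⟨m, hm, Or.inr (Or.inl (datE6 hF (hf.comp e)))⟩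
  · exact Or.inr ⟨m, hm, Or.inr (Or.inr (Or.inl (datE7 hF (hf.comp e))))⟩
  · exact Or.inr ⟨m, hm, Or.inr (Or.inr (Or.inr (datE8 hF (hf.comp e))))⟩

end Cfsg.Agent.Omega.EH3.Kf.DataSL
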