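import Mathlib
import Cfsg.Agent.Omega.EH3.Kf.FamRow
import Cfsg.Agent.Nodes.RGDChev

/-!
# EH3, Lie rows in characteristic 2: the bundle of data of the Chevalley groups `D.group K` (helper737)

* `tor_comm` : the torus of `RGDChev.rgd` is abelian (any characteristic);
* `el` : the root groups have exponent two in characteristic two;
* `bd : Bd M h T n X` for all types of `RGDChev`.
-/

set_option autoImplicit false

namespace Cfsg.Agent.Omega.EH3.Kf.FamChev

open CoxeterSystem Cfsg.Agent.ChevalleyStructure.CoxeterGeom Cfsg.Agent.Tits.Roots Cfsg.Agent.Tits.Core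
  Cfsg.Agent.Tits.RootComb Cfsg.Agent.Nodes.Comb Cfsg.Agent.Nodes.Reps Cfsg.Agent.Nodes.BNOf
open Cfsg.Lie Cfsg.Agent.ChevalleyStructure Cfsg.Agent.ChevalleyStructure.Elts
  Cfsg.Agent.ChevalleyStructure.RootVec Cfsg.Agent.ChevalleyStructure.RootVecTab
  Cfsg.Agent.ChevalleyStructure.NPerm Cfsg.Agent.ChevalleyStructure.CoxeterGeomTypes
open Cfsg.Agent.Nodes.RGDChev Cfsg.Agent.Omega.EH3.Kf.FamRow
open scoped commutatorElement

universe u

variable {D : ChevalleyDatum} {l : ℕ} {M : CoxeterMatrix (Fin l)} (hp : IsType D l M) {K : Type u} [Field K]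

include hp

/-- The torus is abelian. -/
theorem tor_comm {s t : ↥(D.group K)} (hs : s ∈ (D.diagonalSubgroup K).subgroupOf (D.group K))
    (ht : t ∈ (D.diagonalSubgroup K).subgroupOf (D.group K)) : s * t = t * s := by
  obtain ⟨χ, hχ⟩ := HMatDiagAll.mem_torus.1 (HMatDiagAll.diagonalSubgroup_le_torus hp.inList
    (Subgroup.mem_subgroupOf.1 hs))
  obtain ⟨ψ, hψ⟩ := HMatDiagAll.mem_torus.1 (HMatDiagAll.diagonalSubgroup_le_torus hp.inList
    (Subgroup.mem_subgroupOf.1 ht))
  apply Subtype.ext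
  apply Units.ext
  show ((s : GL D.Idx K) : Matrix D.Idx D.Idx K) * ((t : GL D.Idx K) : Matrix D.Idx D.Idx K) =
    ((t : GL D.Idx K) : Matrix D.Idx D.Idx K) * ((s : GL D.Idx K) : Matrix D.Idx D.Idx K)
  rw [hχ, hψ, Matrix.diagonal_mul_diagonal, Matrix.diagonal_mul_diagonal]
  congr 1
  funext i
  exact mul_comm _ _

/-- `xG t ∈ X (vec r)` in the group. -/
theorem mem_X_iff {r : ℕ} (hr : r < D.nroots) {g : ↥(D.group K)} :
    g ∈ (XV D l K (vec D l r)).subgroupOf (D.group K) ↔ ∃ t, (g : GL D.Idx K) = xG hp.inList r t := by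
  rw [Subgroup.mem_subgroupOf, XV_vec hp K hr, mem_rootSubgroup_iff hp.inList]

theorem xG_sq [CharP K 2] (r : ℕ) (t : K) : xG hp.inList r t * xG hp.inList r t = 1 := by
  rw [xG_add, CharTwo.add_self_eq_zero, xG_zero]

theorem xG_inv_eq [CharP K 2] (r : ℕ) (t : K) : (xG hp.inList r t)⁻¹ = xG hp.inList r t :=
  inv_eq_of_mul_eq_one_left (xG_sq hp r t)

theorem el [CharP K 2] {r : ℕ} (hr : r < D.nroots) {g : ↥(D.group K)}
    (hg : g ∈ (XV D l K (vec D l r)).subgroupOf (D.group K)) : g * g = 1 := by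
  obtain ⟨t, ht⟩ := (mem_X_iff hp hr).1 hg
  apply Subtype.ext
  show (g : GL D.Idx K) * (g : GL D.Idx K) = 1
  rw [ht, xG_sq hp]

/-- **The bundle of data of `D.group K`.** -/
theorem bd [Finite K] [CharP K 2] : Bd M hp.isCartan ((D.diagonalSubgroup K).subgroupOf (D.group K))
    (fun i => (⟨nn hp K i, nn_mem_group hp i⟩ : ↥(D.group K)))
    (fun x => (XV D l K x).subgroupOf (D.group K)) where
  fin := finite_W hp M.toCoxeterSystem
  rgd := by
    have : Fact (Nat.Prime 2) := ⟨Nat.prime_two⟩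
    exact rgd (K := K) hp M.toCoxeterSystem 2
  gen := by
    rw [← G1_eq_top hp M.toCoxeterSystem (K := K)]
    unfold RGD.Sup Nodes.RGDLib.G1
    apply le_antisymm
    · refine iSup_le fun z => ?_
      exact le_iSup (fun x : {x // IsRoot M.toCoxeterSystem hp.isCartan x} => (XV D l K x).subgroupOf (D.group K))
        ⟨z.1, z.2⟩
    · refine iSup_le fun z => ?_
      exact le_iSup (fun x : {x // x ∈ {x | IsRoot M.toCoxeterSystem hp.isCartan x}} =>
        (XV D l K x).subgroupOf (D.group K)) ⟨z.1, z.2⟩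
  ab s hs t ht := tor_comm hp hs ht
  el i u hu := by
    rw [← vec_simple hp i] at hu
    exact el hp (simple_lt hp.inList (lt_rank hp i)) hu

/-- the commutator of two root elements in characteristic two -/
theorem comm_two [CharP K 2] {r s : ℕ} (hr : r < D.nroots) (hs : s < D.nroots) (hrs : s ≠ r)
    (hneg : s ≠ D.neg r) (t u : K) :
    ⁅xG hp.inList s u, xG hp.inList r t⁆ = wordG hp.inList (D.commWord K r s t u) := by
  rw [← comm_xG hp hr hs hrs hneg, xG_inv_eq hp, xG_inv_eq hp]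

end Cfsg.Agent.Omega.EH3.Kf.FamChev
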