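import Mathlib
import Cfsg.Agent.Nodes.KindF
import Cfsg.Agent.KFacts.ChevTwoSysInst
import Cfsg.Agent.Omega.EH3.Kf.Lev
import Cfsg.Agent.Omega.EH3.Kf.Obt
import Cfsg.Agent.Omega.EH3.Kf.FamRow
import Cfsg.Agent.Omega.EH3.Kf.FamChev

/-!
# EH3, Lie rows in characteristic 2: `F_4(q)` has no row (helper134)

* `false_of_obt` : no `Row` of type `F_4` (leading roots);
* `FFour.false` : root groups of order `2`;
* `kfRow` : `F_4(q)`, all even `q`.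
-/

set_option autoImplicit false
set_option linter.unusedSectionVars false

namespace Cfsg.Agent.Omega.EH3.Kf.FFour

open CoxeterSystem Cfsg.Agent.ChevalleyStructure.CoxeterGeom Cfsg.Agent.Tits.Roots Cfsg.Agent.Tits.Core
  Cfsg.Agent.Tits.RootComb Cfsg.Agent.Nodes.Comb Cfsg.Agent.Nodes.Reps Cfsg.Agent.Nodes.BNOf
  Cfsg.Agent.Nodes.StabComb Cfsg.Agent.Nodes.LeviDec Cfsg.Agent.Nodes.Coroot
  Cfsg.Agent.Omega.EH3.Kf.Lead Cfsg.Agent.Omega.EH3.Kf.Base Cfsg.Agent.Omega.EH3.Kf.Two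
  Cfsg.Agent.Omega.EH3.Kf.ThmA Cfsg.Agent.Omega.EH3.Kf.Obt Cfsg.Agent.Omega.EH3.Kf.FamRow
open Cfsg.Lie Cfsg.Agent.ChevalleyStructure Cfsg.Agent.ChevalleyStructure.CoxeterGeomTypes Cfsg.Agent.Nodes.RGDChev
  Cfsg.Agent.Nodes.KindChev
open scoped commutatorElement

/-! ### The root system of type `F_4` (nodes `0`, `1` short) -/

/-- positive roots -/
def Rt (x : Fin 4 → ℤ) : Prop := (∃ r ∈ Finset.range 48, ∀ i, vec chevF4 4 r i = x i) ∧ ∀ i, 0 ≤ x i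

instance (x : Fin 4 → ℤ) : Decidable (Rt x) := by unfold Rt; infer_instance

/-- `x`, `y` are positive roots with an obtuse angle and sum `z` -/
def Lk (x y z : Fin 4 → ℤ) : Prop := Rt x ∧ Rt y ∧ (∀ i, x i + y i = z i) ∧
  0 < qf (cartanOf chevF4 4) Nodes.KindF.d x x ∧ qf (cartanOf chevF4 4) Nodes.KindF.d y x < 0

instance (x y z : Fin 4 → ℤ) : Decidable (Lk x y z) := by unfold Lk qf pairing; infer_instance

set_option backward.isDefEq.respectTransparency false in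
theorem table :
    (Lk ![0, 0, 0, 1] ![0, 0, 1, 0] ![0, 0, 1, 1] ∧ Lk ![0, 0, 1, 1] ![0, 2, 1, 0] ![0, 2, 2, 1] ∧
      Lk ![0, 2, 2, 1] ![2, 2, 1, 0] ![2, 4, 3, 1] ∧ Lk ![0, 0, 0, 1] ![2, 4, 3, 1] ![2, 4, 3, 2]) ∧
    (Lk ![1, 0, 0, 0] ![0, 1, 0, 0] ![1, 1, 0, 0] ∧ Lk ![1, 1, 0, 0] ![0, 1, 1, 0] ![1, 2, 1, 0] ∧
      Lk ![1, 2, 1, 0] ![0, 1, 1, 1] ![1, 3, 2, 1] ∧ Lk ![1, 0, 0, 0] ![1, 3, 2, 1] ![2, 3, 2, 1]) ∧
    (Lk ![0, 1, 0, 0] ![1, 0, 0, 0] ![1, 1, 0, 0] ∧ Lk ![0, 1, 0, 0] ![0, 0, 1, 0] ![0, 1, 1, 0] ∧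
      Lk ![1, 1, 0, 0] ![0, 1, 1, 0] ![1, 2, 1, 0]) ∧
    (Lk ![0, 0, 1, 0] ![0, 1, 0, 0] ![0, 1, 1, 0] ∧ Lk ![0, 0, 1, 0] ![0, 0, 0, 1] ![0, 0, 1, 1] ∧
      Lk ![0, 0, 1, 1] ![0, 1, 0, 0] ![0, 1, 1, 1] ∧ Lk ![0, 1, 1, 0] ![1, 0, 0, 0] ![1, 1, 1, 0] ∧
      Lk ![1, 1, 1, 0] ![0, 1, 1, 1] ![1, 2, 2, 1]) := by
  decide +kernel

set_option backward.isDefEq.respectTransparency false in
theorem hd : ∀ i j, Nodes.KindF.d i * cartanOf chevF4 4 i j = Nodes.KindF.d j * cartanOf chevF4 4 j i := by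
  decide +kernel

theorem six : ∀ i j, CoxeterMatrix.F₄ i j ≠ 6 := fun i j => by fin_cases i <;> fin_cases j <;> decide

variable {W Y V : Type*} [Group W] [Group Y] [AddCommGroup V] [Module (ZMod 2) V]
    {cs : CoxeterSystem CoxeterMatrix.F₄ W} {h : IsCartan CoxeterMatrix.F₄ (cartanOf chevF4 4)}
    {T : Subgroup Y} {n : Fin 4 → Y} {X : (Fin 4 → ℤ) → Subgroup Y} {ρ : Y →* (V ≃ₗ[ZMod 2] V)}
    {b : LinearMap.BilinForm (ZMod 2) V} {a : V} {D : Submodule (ZMod 2) V} {X0 : Subgroup Y} {w : ℕ}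

theorem Rt.pos {x : Fin 4 → ℤ} (hx : Rt x) : x ∈ RGD.Pos cs h := by
  obtain ⟨⟨r, hr, e⟩, h0⟩ := hx
  exact ⟨(isRoot_iff Nodes.KindF.isType cs x).2 ⟨r, Finset.mem_range.1 hr, funext e⟩, h0⟩

theorem Lk.cpr_neg [Finite W] {x y z : Fin 4 → ℤ} (H : Lk x y z) : cpr cs h y x < 0 := by
  obtain ⟨hx, hy, -, h1, h2⟩ := H
  have h3 := cpr_mul_qf cs h hd y (Rt.pos (cs := cs) (h := h) hx).1
  by_contra hcon
  push Not at hcon
  have h4 := mul_nonneg hcon h1.le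
  rw [h3] at h4
  omega

variable [Finite W] [Finite Y]

theorem Lk.idl (R : Row cs h T n X ρ b a D X0 w) (O : Obt cs h X) {k : Fin 4} {x y z : Fin 4 → ℤ}
    (H : Lk x y z) (hx : Idl cs h X (wt k) X0 x) : Idl cs h X (wt k) X0 z := by
  have h1 : z = x + y := funext fun i => (H.2.2.1 i).symm
  rw [h1]
  exact idl_add R O (wt_pos k) hx H.2.1.pos H.cpr_neg

theorem Lk.false (R : Row cs h T n X ρ b a D X0 w) (O : Obt cs h X) {k : Fin 4} {x y z : Fin 4 → ℤ}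
    (H : Lk x y z) (hx : Idl cs h X (wt k) X0 x) (hy : Idl cs h X (wt k) X0 y) : False :=
  idl_false R O (wt_pos k) hx hy H.cpr_neg

/-- **No `Row` of type `F_4`.** -/
theorem false_of_obt (R : Row cs h T n X ρ b a D X0 w) (O : Obt cs h X) : False := by
  obtain ⟨⟨a1, a2, a3, a4⟩, ⟨b1, b2, b3, b4⟩, ⟨c1, c2, c3⟩, ⟨d1, d2, d3, d4, d5⟩⟩ := table
  obtain ⟨k, hk⟩ := Lev.exists_mv R
  have h0 := idl_sr R hk
  have e0 : (sr 0 : Fin 4 → ℤ) = ![1, 0, 0, 0] := by decide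
  have e1 : (sr 1 : Fin 4 → ℤ) = ![0, 1, 0, 0] := by decide
  have e2 : (sr 2 : Fin 4 → ℤ) = ![0, 0, 1, 0] := by decide
  have e3 : (sr 3 : Fin 4 → ℤ) = ![0, 0, 0, 1] := by decide
  fin_cases k
  · have h0 : Idl cs h X (wt 0) X0 ![1, 0, 0, 0] := e0 ▸ h0
    exact b4.false R O h0 (b3.idl R O (b2.idl R O (b1.idl R O h0)))
  · have h0 : Idl cs h X (wt 1) X0 ![0, 1, 0, 0] := e1 ▸ h0
    exact c3.false R O (c1.idl R O h0) (c2.idl R O h0)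
  · have h0 : Idl cs h X (wt 2) X0 ![0, 0, 1, 0] := e2 ▸ h0
    exact d5.false R O (d4.idl R O (d1.idl R O h0)) (d3.idl R O (d2.idl R O h0))
  · have h0 : Idl cs h X (wt 3) X0 ![0, 0, 0, 1] := e3 ▸ h0
    exact a4.false R O h0 (a3.idl R O (a2.idl R O (a1.idl R O h0)))

/-- **No `Row` for `F_4(2)`.** -/
theorem false (R : Row cs h T n X ρ b a D X0 w) (h2 : ∀ i, Nat.card (X (sr i)) = 2) : False :=
  false_of_obt R (Obt.of_dat (⟨R.rgd, h2, six⟩ : Dat cs h T n X))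

section Family

universe u v

variable (K : Type v) [Field K] [Finite K] [CharP K 2]

instance finite_FF : Finite CoxeterMatrix.F₄.Group := finite_W Nodes.KindF.isType CoxeterMatrix.F₄.toCoxeterSystem

/-- **`F_4(q)`, `q` even, has no row.** -/
theorem rowEnd : RowEnd.{u} CoxeterMatrix.F₄ Nodes.KindF.isType.isCartan
    ((chevF4.diagonalSubgroup K).subgroupOf (chevF4.group K))
    (fun i => (⟨nn Nodes.KindF.isType K i, nn_mem_group Nodes.KindF.isType i⟩ : ↥(chevF4.group K)))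
    (fun x => (XV chevF4 4 K x).subgroupOf (chevF4.group K)) := by
  intro V _ _ ρ b a D X0 w R
  exact (false_of_obt R (Obt.of_sys six
    (KFacts.ChevTwoInst.sys (K := K) Nodes.KindF.isType KFacts.ChevTwoInst.twoOK_F4
      CoxeterMatrix.F₄.toCoxeterSystem))).elim

theorem kfRow : KfRow.{u} ↥(chevF4.group K) :=
  ⟨4, CoxeterMatrix.F₄, _, Nodes.KindF.isType.isCartan, _, _, _, FamChev.bd Nodes.KindF.isType, rowEnd K⟩

end Family

end Cfsg.Agent.Omega.EH3.Kf.FFour
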