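import Cfsg.Agent.Omega.EH3.Kf.FFour
import Cfsg.Agent.Omega.EH3.Kf.Table

/-!
# EH3, Lie rows in characteristic 2: the field `f4` of `Table.Rows` (helper134)
-/

set_option autoImplicit false

namespace Cfsg.Agent.Omega.EH3.Kf.FFourFam

open Cfsg Cfsg.Agent.Omega.EH3.Kf.Main

universe u

/-- The field `f4` of `Table.Rows`. -/
theorem f4 : ∀ (F : Type) [Field F] [Fintype F] [CharP F 2], Fam.{u} (Lie.chevF4.group F) :=
  fun F _ _ _ => Fam.of_kfRow (FFour.kfRow F)

end Cfsg.Agent.Omega.EH3.Kf.FFourFam
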