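import Mathlib
import Cfsg.Agent.Omega.EH3.Kf.FamRow
import Cfsg.Agent.Omega.EH3.Kf.TwC

/-!
# EH3, Lie rows in characteristic 2: families without a row (helper737)

* `false_of_pair` : the root groups of the roots that are not fundamental lie in `[U, U]`, and two root groups of roots
  with all coefficients positive do not commute: there is no `Row`.
* `rowEnd_of_pair`, `kfRow_of_pair` : the same for the interface `FamRow`.
-/

set_option autoImplicit false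

namespace Cfsg.Agent.Omega.EH3.Kf.NoRow

open CoxeterSystem Cfsg.Agent.ChevalleyStructure.CoxeterGeom Cfsg.Agent.Tits.Roots Cfsg.Agent.Tits.Core
  Cfsg.Agent.Tits.RootComb Cfsg.Agent.Nodes.Comb Cfsg.Agent.Nodes.Reps Cfsg.Agent.Nodes.BNOf
  Cfsg.Agent.Nodes.StabComb Cfsg.Agent.Nodes.Bruhat Cfsg.Agent.Nodes.LeviDec Cfsg.Agent.Nodes.RGDLib
  Cfsg.Agent.Omega.EH3.Kf.Base Cfsg.Agent.Omega.EH3.Kf.Out Cfsg.Agent.Omega.EH3.Kf.Goal
  Cfsg.Agent.Omega.EH3.Kf.FamRow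

universe u v

section

variable {I W Y V : Type*} [Fintype I] [DecidableEq I] [Group W] [Group Y] [AddCommGroup V]
    [Module (ZMod 2) V] {M : CoxeterMatrix I} {cs : CoxeterSystem M W} {A : I → I → ℤ} {h : IsCartan M A}
    {T : Subgroup Y} {n : I → Y} {X : (I → ℤ) → Subgroup Y} {ρ : Y →* (V ≃ₗ[ZMod 2] V)}
    {b : LinearMap.BilinForm (ZMod 2) V} {a : V} {D : Submodule (ZMod 2) V} {X0 : Subgroup Y} {w : ℕ}

/-- `V_J` is abelian and contains all root groups of roots with full support. -/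
theorem false_of_pair [Finite W] [Finite Y] (R : Row cs h T n X ρ b a D X0 w)
    (hgen : ∀ x, IsRoot cs h x → 0 ≤ x → (∀ i, x ≠ sr i) →
      X x ≤ ⁅RGD.Sup X (RGD.Pos cs h), RGD.Sup X (RGD.Pos cs h)⁆)
    {x y : I → ℤ} (hx : IsRoot cs h x) (hy : IsRoot cs h y) (hfx : ∀ k, 0 < x k) (hfy : ∀ k, 0 < y k)
    (hne : ⁅X x, X y⁆ ≠ ⊥) : False := by
  have hX : X0 = VJ cs h X (Mv ρ n a)ᶜ := Cov.eq_VJ R (fun u hu => ThmA.thmA R.core le_rfl u hu) hgen
  obtain ⟨k, hk⟩ := TwC.mv_nonempty R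
  exact hne (TwC.comm_bot R hX (x := x) (y := y) ⟨hx, fun i => (hfx i).le⟩ ⟨hy, fun i => (hfy i).le⟩ hk hk
    (hfx k) (hfy k))

end

/-- The same for the family level. -/
theorem rowEnd_of_pair {K : Type v} [Group K] [Finite K] {l : ℕ} {M : CoxeterMatrix (Fin l)}
    {A : Fin l → Fin l → ℤ} {h : IsCartan M A} {T : Subgroup K} {n : Fin l → K} {X : (Fin l → ℤ) → Subgroup K}
    (B : Bd M h T n X)
    (hgen : ∀ x, IsRoot M.toCoxeterSystem h x → 0 ≤ x → (∀ i, x ≠ sr i) →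
      X x ≤ ⁅RGD.Sup X (RGD.Pos M.toCoxeterSystem h), RGD.Sup X (RGD.Pos M.toCoxeterSystem h)⁆)
    {x y : Fin l → ℤ} (hx : IsRoot M.toCoxeterSystem h x) (hy : IsRoot M.toCoxeterSystem h y)
    (hfx : ∀ k, 0 < x k) (hfy : ∀ k, 0 < y k) (hne : ⁅X x, X y⁆ ≠ ⊥) : RowEnd.{u} M h T n X := by
  intro V _ _ ρ b a D X0 w R
  have : Finite M.Group := B.fin
  exact (false_of_pair R hgen hx hy hfx hfy hne).elim

/-- The row of `K`. -/
theorem kfRow_of_pair {K : Type v} [Group K] [Finite K] {l : ℕ} {M : CoxeterMatrix (Fin l)}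
    {A : Fin l → Fin l → ℤ} {h : IsCartan M A} {T : Subgroup K} {n : Fin l → K} {X : (Fin l → ℤ) → Subgroup K}
    (B : Bd M h T n X)
    (hgen : ∀ x, IsRoot M.toCoxeterSystem h x → 0 ≤ x → (∀ i, x ≠ sr i) →
      X x ≤ ⁅RGD.Sup X (RGD.Pos M.toCoxeterSystem h), RGD.Sup X (RGD.Pos M.toCoxeterSystem h)⁆)
    {x y : Fin l → ℤ} (hx : IsRoot M.toCoxeterSystem h x) (hy : IsRoot M.toCoxeterSystem h y)
    (hfx : ∀ k, 0 < x k) (hfy : ∀ k, 0 < y k) (hne : ⁅X x, X y⁆ ≠ ⊥) : KfRow.{u} K :=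
  ⟨l, M, A, h, T, n, X, B, rowEnd_of_pair B hgen hx hy hfx hfy hne⟩

end Cfsg.Agent.Omega.EH3.Kf.NoRow
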