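import Mathlib
import Cfsg.Agent.Omega.EH3.Kf.NoRow
import Cfsg.Agent.Nodes.RGDTwD4
import Cfsg.Agent.Hexagon.TwD4Par

/-!
# EH3, Lie rows in characteristic 2: `³D₄(q)`, `q` even, has no row (helper737)

* `hexGen` : from the positive relations of the hexagon (`SplitTwo.HexRel`) in characteristic 2 with `σ ≠ 1`: the root
  groups of the roots that are not fundamental lie in `[U, U]`
  (`c = crs c 1 + crs (τ s) 1 + crs (τ A) B`, `τ` the trace of `c`, `s = crs A B` of trace 1);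
* `hex_ne` : `[X 3, X 5] ≠ 1`;
* `bd`, `kfRow : KfRow ↥(twistedD4 K q)`.
-/

set_option autoImplicit false
set_option linter.unusedSectionVars false

namespace Cfsg.Agent.Omega.EH3.Kf.FamD4

open Cfsg.Agent.SplitTwo
open scoped commutatorElement

universe u v w

section Hex

variable {E : Type*} [Field E] [CharP E 2] {σ : E ≃+* E} {G : Type*} [Group G] {x1 x2 x3 x4 x5 x6 : E → G}

theorem kk_eq {G : Type*} [Group G] (a b : G) : kk a b = ⁅a⁻¹, b⁻¹⁆ := by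
  rw [kk, commutatorElement_def]; group

theorem kk_mem {G : Type*} [Group G] {U : Subgroup G} {a b : G} (ha : a ∈ U) (hb : b ∈ U) : kk a b ∈ ⁅U, U⁆ := by
  rw [kk_eq]
  exact Subgroup.commutator_mem_commutator (inv_mem ha) (inv_mem hb)

theorem two_eq (E : Type*) [Field E] [CharP E 2] : (2 : E) = 0 := by exact_mod_cast CharP.cast_eq_zero E 2

theorem trc_fix {t : E} (ht : σ t = t) : trc σ t 1 = t := by
  rw [trc, mul_one, ht, ht]
  linear_combination t * two_eq E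

theorem map_trc (hc : ∀ a, σ (σ (σ a)) = a) (a b : E) : σ (trc σ a b) = trc σ a b := by
  simp only [trc, map_add, hc]; ring

/-- every element is a sum of cross products -/
theorem crs_sum (hc : ∀ a, σ (σ (σ a)) = a) {B : E} (hB : σ B ≠ B) (c : E) :
    ∃ v a : E, c = crs σ c 1 + crs σ v 1 + crs σ a B := by
  have h2 := two_eq E
  have hd : σ B + σ (σ B) ≠ 0 := by
    intro h
    apply hB
    apply σ.injective
    exact (CharTwo.add_eq_zero.1 h).symm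
  obtain ⟨A, hA⟩ : ∃ A, A * (σ B + σ (σ B)) = 1 := ⟨(σ B + σ (σ B))⁻¹, inv_mul_cancel₀ hd⟩
  have e2 : σ A * (σ (σ B) + B) = 1 := by
    have := congrArg σ hA
    rwa [map_mul, map_add, map_one, hc] at this
  have e3 : σ (σ A) * (B + σ B) = 1 := by
    have := congrArg σ e2
    rwa [map_mul, map_add, map_one, hc] at this
  obtain ⟨τ, hτ⟩ : ∃ τ, τ = c + σ c + σ (σ c) := ⟨_, rfl⟩
  have ht : σ τ = τ := by rw [hτ, map_add, map_add, hc]; ring
  refine ⟨τ * crs σ A B, τ * A, ?_⟩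
  have h1 : crs σ c 1 = σ c + σ (σ c) := by simp only [crs, map_one, mul_one]
  have h4 : crs σ (τ * crs σ A B) 1 = τ * (σ (crs σ A B) + σ (σ (crs σ A B))) := by
    generalize crs σ A B = s
    simp only [crs, map_one, mul_one, map_mul, ht]
    ring
  have h5 : crs σ (τ * A) B = τ * crs σ A B := by
    simp only [crs, map_mul, ht]
    ring
  have h6 : crs σ A B + σ (crs σ A B) + σ (σ (crs σ A B)) = 1 := by
    simp only [crs, map_add, map_mul, hc]
    linear_combination hA + e2 + e3 + h2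
  rw [h1, h4, h5]
  linear_combination (-(σ c) - σ (σ c)) * h2 - hτ - τ * h6

/-- **Generation in a hexagon, characteristic 2, `σ ≠ 1`.** -/
theorem hexGen (R : HexRel σ x1 x2 x3 x4 x5 x6) {U : Subgroup G} (h1 : ∀ a, x1 a ∈ U) (h3 : ∀ a, x3 a ∈ U)
    (h5 : ∀ a, x5 a ∈ U) (h6 : ∀ t, σ t = t → x6 t ∈ U) (hB : ∃ B, σ B ≠ B) :
    (∀ t, σ t = t → x2 t ∈ ⁅U, U⁆) ∧ (∀ a, x3 a ∈ ⁅U, U⁆) ∧ (∀ t, σ t = t → x4 t ∈ ⁅U, U⁆) ∧
      (∀ a, x5 a ∈ ⁅U, U⁆) := by
  have k2 : ∀ t, σ t = t → x2 t ∈ ⁅U, U⁆ := by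
    intro t ht
    have := kk_mem (h1 t) (h3 1)
    rwa [R.c13, trc_fix ht] at this
  have k4 : ∀ t, σ t = t → x4 t ∈ ⁅U, U⁆ := by
    intro t ht
    have := kk_mem (h3 t) (h5 1)
    rwa [R.c35, trc_fix ht] at this
  have k3' : ∀ a b, x3 (crs σ a b) ∈ ⁅U, U⁆ := by
    intro a b
    have := kk_mem (h1 a) (h5 b)
    rw [R.c15] at this
    have e2 := k2 (-(trc σ (shp σ a) b)) (by rw [map_neg, map_trc R.cube])
    have e4 := k4 (trc σ a (shp σ b)) (map_trc R.cube _ _)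
    exact (Subgroup.mul_mem_cancel_left _ e2).1 ((Subgroup.mul_mem_cancel_right _ e4).1 this)
  have k3 : ∀ a, x3 a ∈ ⁅U, U⁆ := by
    intro a
    obtain ⟨B, hB⟩ := hB
    obtain ⟨v, y, h⟩ := crs_sum R.cube hB a
    rw [h, R.add3, R.add3]
    exact mul_mem (mul_mem (k3' _ _) (k3' _ _)) (k3' _ _)
  refine ⟨k2, k3, k4, fun a => ?_⟩
  have := kk_mem (h1 (-a)) (h6 1 (map_one σ))
  rw [R.c16 _ _ (map_one σ)] at this
  have fn : ∀ a : E, σ (nrm σ a) = nrm σ a := fun a => by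
    simp only [nrm, map_mul, R.cube]; ring
  have e2 := k2 (-(1 * nrm σ (-a))) (by rw [map_neg, map_mul, map_one, fn])
  have e3 := k3 (1 * shp σ (-a))
  have e4 := k4 (1 ^ 2 * nrm σ (-a)) (by rw [map_mul, map_pow, map_one, fn])
  have e5 := (Subgroup.mul_mem_cancel_left _ (mul_mem (mul_mem e2 e3) e4)).1 this
  rwa [one_mul, neg_neg] at e5

theorem hex_ne {X : ZMod (2 * 6) → Subgroup G} (P : HexPar σ X x1 x2 x3 x4 x5 x6) : ⁅X 3, X 5⁆ ≠ ⊥ := by
  intro h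
  have h1 : ⁅(x3 1)⁻¹, (x5 1)⁻¹⁆ ∈ ⁅X 3, X 5⁆ :=
    Subgroup.commutator_mem_commutator (inv_mem ((P.mem3 _).2 ⟨1, rfl⟩)) (inv_mem ((P.mem5 _).2 ⟨1, rfl⟩))
  rw [h, Subgroup.mem_bot, ← kk_eq, P.rel.c35, trc_fix (map_one σ)] at h1
  have h0 : x4 0 = 1 := by
    have := P.rel.add4 0 0 (map_zero σ) (map_zero σ)
    rw [add_zero] at this
    exact left_eq_mul.1 this
  exact one_ne_zero (P.inj4 1 0 (map_one σ) (map_zero σ) (by rw [h1, h0]))

end Hex

open CoxeterSystem Cfsg.Agent.ChevalleyStructure.CoxeterGeom Cfsg.Agent.Tits.Roots Cfsg.Agent.Tits.Core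
  Cfsg.Agent.Nodes.BNOf Cfsg.Agent.Nodes.RGDTwGen Cfsg.Agent.Nodes.RGDChev Cfsg.Agent.Nodes.RGDFold
open Cfsg.Lie Cfsg.Agent.ChevalleyStructure
  Cfsg.Agent.ChevalleyStructure.TwistedU Cfsg.Agent.ChevalleyStructure.TwistedFix
open Cfsg.Agent.ChevalleyStructure.D4Fixed (sig)
open Cfsg.Agent.ChevalleyStructure.D4U
open Cfsg.Agent.Nodes Cfsg.Agent.Nodes.RGDTwD4 Cfsg.Agent.Hexagon
open Cfsg.Agent.Omega.EH3.Kf.FamRow Cfsg.Agent.Omega.EH3.Kf.NoRow

/-! ### tables -/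

theorem cls5 : ∀ k < chevD4.nroots, (V chevD4 J k = V chevD4 J 19 ↔ k ∈ [19, 16, 15]) := by decide +kernel
theorem cls3 : ∀ k < chevD4.nroots, (V chevD4 J k = V chevD4 J 20 ↔ k ∈ [20, 21, 17]) := by decide +kernel
theorem cls2 : ∀ k < chevD4.nroots, (V chevD4 J k = V chevD4 J 22 ↔ k ∈ [22]) := by decide +kernel
theorem cls4 : ∀ k < chevD4.nroots, (V chevD4 J k = V chevD4 J 23 ↔ k ∈ [23]) := by decide +kernel

theorem L_1 : TwD4RGD.L 1 = [18, 13, 12] := by decide +kernel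
theorem L_2 : TwD4RGD.L 2 = [22] := by decide +kernel
theorem L_3 : TwD4RGD.L 3 = [20, 21, 17] := by decide +kernel
theorem L_4 : TwD4RGD.L 4 = [23] := by decide +kernel
theorem L_5 : TwD4RGD.L 5 = [19, 16, 15] := by decide +kernel
theorem L_6 : TwD4RGD.L 6 = [14] := by decide +kernel

theorem six_tab : ∀ r ∈ L.flatten, V chevD4 J r = sr 0 ∨ V chevD4 J r = sr 1 ∨ V chevD4 J r = V chevD4 J 19 ∨
    V chevD4 J r = V chevD4 J 20 ∨ V chevD4 J r = V chevD4 J 22 ∨ V chevD4 J r = V chevD4 J 23 := by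
  decide +kernel

theorem pos_tab : ∀ k, 0 < V chevD4 J 19 k ∧ 0 < V chevD4 J 20 k ∧ 0 < V chevD4 J 22 k ∧ 0 < V chevD4 J 23 k := by
  decide +kernel

variable {K : Type v} [Field K] {q : ℕ} {φ : K →+* K}

/-- the two forms of the root groups -/
theorem X_eq (hle : twistedD4 K q ≤ D4Fixed.fix φ) {z : Fin 2 → ℤ} {o : List ℕ} {k : ZMod (2 * 6)}
    (ho : ∀ k < chevD4.nroots, (V chevD4 J k = z ↔ k ∈ o)) (ho' : ∀ k ∈ o, k < chevD4.nroots)
    (hL : TwD4RGD.L k = o) : RGDTwD4.X φ q z = TwD4RGD.X K q k := by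
  ext g
  show (g : GL chevD4.Idx K) ∈ R chevD4 RGDTwD4.hp K J (sig φ) z ↔ (g : GL chevD4.Idx K) ∈ RS K (TwD4RGD.L k)
  rw [R_eq ho ho', xG_eq, hL]
  exact and_iff_left (hle g.2)

section

variable (hle : twistedD4 K q ≤ D4Fixed.fix φ)

include hle

theorem X_sr0 : RGDTwD4.X φ q (sr 0) = TwD4RGD.X K q 6 := X_eq hle cls0 (by decide +kernel) L_6
theorem X_sr1 : RGDTwD4.X φ q (sr 1) = TwD4RGD.X K q 1 := X_eq hle cls1 (by decide +kernel) L_1
theorem X_19 : RGDTwD4.X φ q (V chevD4 J 19) = TwD4RGD.X K q 5 := X_eq hle cls5 (by decide +kernel) L_5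
theorem X_20 : RGDTwD4.X φ q (V chevD4 J 20) = TwD4RGD.X K q 3 := X_eq hle cls3 (by decide +kernel) L_3
theorem X_22 : RGDTwD4.X φ q (V chevD4 J 22) = TwD4RGD.X K q 2 := X_eq hle cls2 (by decide +kernel) L_2
theorem X_23 : RGDTwD4.X φ q (V chevD4 J 23) = TwD4RGD.X K q 4 := X_eq hle cls4 (by decide +kernel) L_4

end

/-- the roots -/
theorem isRoot_V {W : Type*} [Group W] (cs : CoxeterSystem CoxeterMatrix.G₂ W) {r : ℕ} (hr : r < chevD4.nroots) :
    IsRoot cs RGDTwD4.isCartan (V chevD4 J r) :=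
  (foldData.isRoot_iff (cs := cs) (h := RGDTwD4.isCartan) RGDTwD4.hp.checked
    (fun i _ hr => wp_lt RGDTwD4.hp (J i) hr) _).2 ⟨r, hr, rfl⟩

theorem pos_cases {W : Type*} [Group W] (cs : CoxeterSystem CoxeterMatrix.G₂ W) {z : Fin 2 → ℤ}
    (hz : IsRoot cs RGDTwD4.isCartan z) (h0 : 0 ≤ z) (hs : ∀ i, z ≠ sr i) :
    z = V chevD4 J 19 ∨ z = V chevD4 J 20 ∨ z = V chevD4 J 22 ∨ z = V chevD4 J 23 := by
  obtain ⟨r, hr, rfl⟩ := (foldData.isRoot_iff (cs := cs) (h := RGDTwD4.isCartan) RGDTwD4.hp.checked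
    (fun i _ hr => wp_lt RGDTwD4.hp (J i) hr) _).1 hz
  have h1 := (foldData.posL r hr).2 fun i => h0 i
  rcases six_tab r h1 with h | h | h | h | h | h
  · exact absurd h (hs 0)
  · exact absurd h (hs 1)
  · exact Or.inl h
  · exact Or.inr (Or.inl h)
  · exact Or.inr (Or.inr (Or.inl h))
  · exact Or.inr (Or.inr (Or.inr h))

theorem tor_comm {s t : ↥(twistedD4 K q)} (hs : s ∈ RGDTwD4.T K q) (ht : t ∈ RGDTwD4.T K q) : s * t = t * s := by
  obtain ⟨χ, hχ⟩ := HMatDiagAll.mem_torus.1 (HMatDiagAll.diagonalSubgroup_le_torus RGDTwD4.hp.inList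
    (Subgroup.mem_subgroupOf.1 hs).1)
  obtain ⟨ψ, hψ⟩ := HMatDiagAll.mem_torus.1 (HMatDiagAll.diagonalSubgroup_le_torus RGDTwD4.hp.inList
    (Subgroup.mem_subgroupOf.1 ht).1)
  apply Subtype.ext
  apply Units.ext
  show ((s : GL chevD4.Idx K) : Matrix chevD4.Idx chevD4.Idx K) * ((t : GL chevD4.Idx K) : Matrix chevD4.Idx chevD4.Idx K) =
    ((t : GL chevD4.Idx K) : Matrix chevD4.Idx chevD4.Idx K) * ((s : GL chevD4.Idx K) : Matrix chevD4.Idx chevD4.Idx K)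
  rw [hχ, hψ, Matrix.diagonal_mul_diagonal, Matrix.diagonal_mul_diagonal]
  congr 1
  funext i
  exact mul_comm _ _

/-- the field has elements which are not fixed -/
theorem exists_moved [Fintype K] (hK : Fintype.card K = q ^ 3) (hφ : ∀ x, φ x = x ^ q) : ∃ B, φ B ≠ B := by
  by_contra hcon
  push Not at hcon
  have hq1 : 1 < q := by
    by_contra hq
    have h1 : 1 < Fintype.card K := Fintype.one_lt_card
    rw [hK] at h1
    have h2 : q ^ 3 ≤ 1 := Nat.pow_le_one_iff (by norm_num) |>.2 (by omega)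
    omega
  -- all units satisfy `x ^ (q - 1) = 1`
  have h1 : Monoid.exponent Kˣ ∣ q - 1 := by
    apply Monoid.exponent_dvd_of_forall_pow_eq_one
    intro x
    apply Units.ext
    have h2 := hcon (x : K)
    rw [hφ] at h2
    have h3 : (x : K) * (x : K) ^ (q - 1) = x * 1 := by
      rw [← pow_succ', Nat.sub_add_cancel hq1.le, h2, mul_one]
    rw [Units.val_pow_eq_pow_val, Units.val_one]
    exact mul_left_cancel₀ x.ne_zero h3
  rw [IsCyclic.exponent_eq_card, Nat.card_units, Nat.card_eq_fintype_card, hK] at h1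
  have h2 := Nat.le_of_dvd (by omega) h1
  have h3 : q < q ^ 3 := by
    calc q = q ^ 1 := (pow_one q).symm
      _ < q ^ 3 := Nat.pow_lt_pow_right hq1 (by norm_num)
  omega

/-- **The bundle of data of `³D₄(q)`, `q` even.** -/
theorem bd [Fintype K] [CharP K 2] (hK : Fintype.card K = q ^ 3) (hφ : ∀ x, φ x = x ^ q) {σ : K ≃+* K}
    (hσ : ∀ x, σ x = φ x) (h3 : ∀ a, σ (σ (σ a)) = a) :
    Bd CoxeterMatrix.G₂ RGDTwD4.isCartan (RGDTwD4.T K q) (RGDTwD4.n hφ) (RGDTwD4.X φ q) where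
  fin := finite_W (hp := RGDTwD4.hp) CoxeterMatrix.G₂.toCoxeterSystem RGDTwD4.isCartan foldData
  rgd := by
    have : Fact (Nat.Prime 2) := ⟨Nat.prime_two⟩
    exact RGDTwD4.rgd CoxeterMatrix.G₂.toCoxeterSystem hK hφ 2
  gen := RGDTwD4.G1_eq_top CoxeterMatrix.G₂.toCoxeterSystem hK hφ
  ab s hs t ht := tor_comm hs ht
  el i u hu := by
    have hle := D4Fixed.twisted_le_fix hK hφ
    have P := TwD4Par.hexPar hφ hle hσ h3
    fin_cases i
    · change u ∈ RGDTwD4.X φ q (sr 0) at hu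
      rw [X_sr0 hle, P.mem6] at hu
      obtain ⟨t, ht, rfl⟩ := hu
      rw [← P.rel.add6 t t ht ht, CharTwo.add_self_eq_zero]
      have := P.rel.add6 0 0 (map_zero σ) (map_zero σ)
      rw [add_zero] at this
      exact left_eq_mul.1 this
    · change u ∈ RGDTwD4.X φ q (sr 1) at hu
      rw [X_sr1 hle, P.mem1] at hu
      obtain ⟨t, rfl⟩ := hu
      rw [← P.rel.add1 t t, CharTwo.add_self_eq_zero]
      have := P.rel.add1 0 0
      rw [add_zero] at this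
      exact left_eq_mul.1 this

/-- **`³D₄(q)`, `q` even.** -/
theorem kfRow [Fintype K] [CharP K 2] (hq : IsPrimePow q) (hK : Fintype.card K = q ^ 3) :
    KfRow.{u} ↥(twistedD4 K q) := by
  obtain ⟨φ, hφ⟩ := D4Fixed.exists_frob hq hK
  let σ : K ≃+* K := RingEquiv.ofBijective φ ((Finite.injective_iff_bijective).1 φ.injective)
  have hσ : ∀ x, σ x = φ x := fun x => rfl
  have h3 : ∀ a, σ (σ (σ a)) = a := by
    intro t
    rw [hσ, hσ, hσ, hφ, hφ, hφ, ← pow_mul, ← pow_mul]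
    have : q * (q * q) = q ^ 3 := by ring
    rw [this, ← hK]
    exact FiniteField.pow_card t
  have hle := D4Fixed.twisted_le_fix hK hφ
  have P := TwD4Par.hexPar hφ hle hσ h3
  let cs := CoxeterMatrix.G₂.toCoxeterSystem
  have hfin : Finite ↥(twistedD4 K q) := inferInstance
  have hlt : ∀ r : ℕ, r < 24 → r < chevD4.nroots := fun r hr => hr
  have hle' : ∀ {z : Fin 2 → ℤ}, z ∈ RGD.Pos cs RGDTwD4.isCartan →
      RGDTwD4.X φ q z ≤ RGD.Sup (RGDTwD4.X φ q) (RGD.Pos cs RGDTwD4.isCartan) := fun hz => RGD.le_Sup hz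
  have p0 : (sr 0 : Fin 2 → ℤ) ∈ RGD.Pos cs RGDTwD4.isCartan := ⟨isRoot_sr cs _ 0, sr_nonneg 0⟩
  have p1 : (sr 1 : Fin 2 → ℤ) ∈ RGD.Pos cs RGDTwD4.isCartan := ⟨isRoot_sr cs _ 1, sr_nonneg 1⟩
  have p5 : V chevD4 J 19 ∈ RGD.Pos cs RGDTwD4.isCartan :=
    ⟨isRoot_V cs (hlt 19 (by norm_num)), fun k => (pos_tab k).1.le⟩
  have p3 : V chevD4 J 20 ∈ RGD.Pos cs RGDTwD4.isCartan :=
    ⟨isRoot_V cs (hlt 20 (by norm_num)), fun k => (pos_tab k).2.1.le⟩
  obtain ⟨B, hB⟩ := exists_moved hK hφ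
  obtain ⟨g2, g3, g4, g5⟩ := hexGen P.rel (U := RGD.Sup (RGDTwD4.X φ q) (RGD.Pos cs RGDTwD4.isCartan))
    (fun a => hle' p1 (by rw [X_sr1 hle, P.mem1]; exact ⟨a, rfl⟩))
    (fun a => hle' p3 (by rw [X_20 hle, P.mem3]; exact ⟨a, rfl⟩))
    (fun a => hle' p5 (by rw [X_19 hle, P.mem5]; exact ⟨a, rfl⟩))
    (fun t ht => hle' p0 (by rw [X_sr0 hle, P.mem6]; exact ⟨t, ht, rfl⟩)) ⟨B, hB⟩
  refine kfRow_of_pair (bd hK hφ hσ h3) (x := V chevD4 J 20) (y := V chevD4 J 19) ?_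
    (isRoot_V _ (hlt 20 (by norm_num))) (isRoot_V _ (hlt 19 (by norm_num))) (fun k => (pos_tab k).2.1)
    (fun k => (pos_tab k).1) ?_
  · intro z hz h0 hs
    rcases pos_cases cs hz h0 hs with rfl | rfl | rfl | rfl
    · rw [X_19 hle]
      intro g hg
      obtain ⟨a, rfl⟩ := (P.mem5 g).1 hg
      exact g5 a
    · rw [X_20 hle]
      intro g hg
      obtain ⟨a, rfl⟩ := (P.mem3 g).1 hg
      exact g3 a
    · rw [X_22 hle]
      intro g hg
      obtain ⟨t, ht, rfl⟩ := (P.mem2 g).1 hg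
      exact g2 t ht
    · rw [X_23 hle]
      intro g hg
      obtain ⟨t, ht, rfl⟩ := (P.mem4 g).1 hg
      exact g4 t ht
  · rw [X_20 hle, X_19 hle]
    exact hex_ne P

/-- **The row of `³D₄(q)`**, in the form of `IsTwistedE6D4Char`. -/
theorem kfRow_of_equiv {G : Type w} [Group G] [Fintype K] [CharP K 2] (hq : IsPrimePow q)
    (hK : Fintype.card K = q ^ 3) (e : G ≃* ↥(twistedD4 K q)) : KfRow.{u} G :=
  (kfRow hq hK).of_equiv e.symm

end Cfsg.Agent.Omega.EH3.Kf.FamD4
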