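import Mathlib
import Cfsg.Agent.Omega.EH3.Kf.NoRow
import Cfsg.Agent.Omega.EH3.Kf.FamChev

/-!
# EH3, Lie rows in characteristic 2: `G₂(q)`, `q > 2` even, has no row (helper737)

`[X_9, X_8] = X_11`, `[X_9, X_7] = X_10`, `[x_6(u), x_7(t)] = x_8(tu) x_9(t²u) x_10(t³u) x_11(t³u²)`; the roots `8`, `9`
have full support.
-/

set_option autoImplicit false
set_option linter.unusedSectionVars false

namespace Cfsg.Agent.Omega.EH3.Kf.FamG2

open CoxeterSystem Cfsg.Agent.ChevalleyStructure.CoxeterGeom Cfsg.Agent.Tits.Roots Cfsg.Agent.Tits.Core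
  Cfsg.Agent.Tits.RootComb Cfsg.Agent.Nodes.Comb Cfsg.Agent.Nodes.Reps Cfsg.Agent.Nodes.BNOf
open Cfsg.Lie Cfsg.Agent.ChevalleyStructure Cfsg.Agent.ChevalleyStructure.Elts
  Cfsg.Agent.ChevalleyStructure.RootVec Cfsg.Agent.ChevalleyStructure.RootVecTab
  Cfsg.Agent.ChevalleyStructure.NPerm Cfsg.Agent.ChevalleyStructure.CoxeterGeomTypes
open Cfsg.Agent.Nodes.RGDChev Cfsg.Agent.Omega.EH3.Kf.FamRow Cfsg.Agent.Omega.EH3.Kf.FamChev
  Cfsg.Agent.Omega.EH3.Kf.NoRow
open scoped commutatorElement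

universe u v w

theorem isType : IsType chevG2 2 CoxeterMatrix.G₂ := by simp [IsType, typeList]

/-! ### the tables -/

theorem vec6 : vec chevG2 2 6 = sr 1 := vec_simple isType 1
theorem vec7 : vec chevG2 2 7 = sr 0 := vec_simple isType 0

theorem pos_tab : ∀ r < 12, (∀ k : Fin 2, 0 ≤ rt chevG2 r k) → r = 6 ∨ r = 7 ∨ r = 8 ∨ r = 9 ∨ r = 10 ∨ r = 11 := by
  decide +kernel

theorem pos_tab' : ∀ r < 12, (r = 6 ∨ r = 7 ∨ r = 8 ∨ r = 9 ∨ r = 10 ∨ r = 11) → ∀ k : Fin 2, 0 ≤ rt chevG2 r k := by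
  decide +kernel

theorem full_tab : ∀ k : Fin 2, 0 < rt chevG2 8 k ∧ 0 < rt chevG2 9 k := by
  decide +kernel

theorem neg_tab : chevG2.neg 7 ≠ 6 ∧ chevG2.neg 7 ≠ 9 ∧ chevG2.neg 8 ≠ 9 := by decide +kernel

theorem terms_tab : chevG2.commTerms 7 6 = [(8, -1, 1, 1), (9, 1, 2, 1), (10, 1, 3, 1), (11, 1, 3, 2)] ∧
    chevG2.commTerms 7 9 = [(10, 3, 1, 1)] ∧ chevG2.commTerms 8 9 = [(11, 3, 1, 1)] := by
  decide +kernel

variable {K : Type v} [Field K] [CharP K 2]

/-- the root element of `G₂(K)` -/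
noncomputable def e (K : Type v) [Field K] (r : ℕ) (t : K) : ↥(chevG2.group K) :=
  ⟨xG isType.inList r t, xG_mem_group isType.inList r t⟩

theorem e_add (r : ℕ) (t u : K) : e K r t * e K r u = e K r (t + u) := Subtype.ext (xG_add isType.inList r t u)

theorem e_zero (r : ℕ) : e K r 0 = 1 := Subtype.ext (xG_zero isType.inList r)

theorem e_ne {r : ℕ} (hr : r < 12) {t : K} (ht : t ≠ 0) : e K r t ≠ 1 := by
  intro h
  exact ht ((xG_eq_one_iff isType.inList hr t).1 (congrArg Subtype.val h))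

theorem three : (3 : K) = 1 := by
  have h2 : (2 : K) = 0 := by exact_mod_cast CharP.cast_eq_zero K 2
  linear_combination h2

theorem comm_8_9 (t u : K) : ⁅e K 9 u, e K 8 t⁆ = e K 11 (t * u) := by
  apply Subtype.ext
  show ⁅xG isType.inList 9 u, xG isType.inList 8 t⁆ = xG isType.inList 11 (t * u)
  rw [comm_two isType (by decide) (by decide) (by decide) neg_tab.2.2.symm]
  unfold ChevalleyDatum.commWord
  rw [terms_tab.2.2]
  simp only [List.map_cons, List.map_nil, wordG_cons, wordG_nil, mul_one, pow_one, CharTwo.neg_eq]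
  congr 1
  push_cast
  rw [three, one_mul]

theorem comm_7_9 (t u : K) : ⁅e K 9 u, e K 7 t⁆ = e K 10 (t * u) := by
  apply Subtype.ext
  show ⁅xG isType.inList 9 u, xG isType.inList 7 t⁆ = xG isType.inList 10 (t * u)
  rw [comm_two isType (by decide) (by decide) (by decide) neg_tab.2.1.symm]
  unfold ChevalleyDatum.commWord
  rw [terms_tab.2.1]
  simp only [List.map_cons, List.map_nil, wordG_cons, wordG_nil, mul_one, pow_one, CharTwo.neg_eq]
  congr 1
  push_cast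
  rw [three, one_mul]

theorem comm_7_6 (t u : K) : ⁅e K 6 u, e K 7 t⁆ =
    e K 8 (t * u) * (e K 9 (t ^ 2 * u) * (e K 10 (t ^ 3 * u) * e K 11 (t ^ 3 * u ^ 2))) := by
  apply Subtype.ext
  show ⁅xG isType.inList 6 u, xG isType.inList 7 t⁆ = xG isType.inList 8 (t * u) *
    (xG isType.inList 9 (t ^ 2 * u) * (xG isType.inList 10 (t ^ 3 * u) * xG isType.inList 11 (t ^ 3 * u ^ 2)))
  rw [comm_two isType (by decide) (by decide) (by decide) neg_tab.1.symm]
  unfold ChevalleyDatum.commWord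
  rw [terms_tab.1]
  simp only [List.map_cons, List.map_nil, wordG_cons, wordG_nil, mul_one, pow_one, CharTwo.neg_eq]
  push_cast
  simp only [CharTwo.neg_eq, one_mul]

/-- the root groups -/
abbrev X (K : Type v) [Field K] (x : Fin 2 → ℤ) : Subgroup ↥(chevG2.group K) :=
  (XV chevG2 2 K x).subgroupOf (chevG2.group K)

theorem e_mem {r : ℕ} (hr : r < 12) (t : K) : e K r t ∈ X K (vec chevG2 2 r) :=
  (mem_X_iff isType hr).2 ⟨t, rfl⟩

theorem mem_X {r : ℕ} (hr : r < 12) {g : ↥(chevG2.group K)} (hg : g ∈ X K (vec chevG2 2 r)) :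
    ∃ t, g = e K r t := by
  obtain ⟨t, ht⟩ := (mem_X_iff isType hr).1 hg
  exact ⟨t, Subtype.ext ht⟩

/-- `U` -/
abbrev U (K : Type v) [Field K] : Subgroup ↥(chevG2.group K) :=
  RGD.Sup (X K) (RGD.Pos CoxeterMatrix.G₂.toCoxeterSystem isType.isCartan)

theorem e_mem_U {r : ℕ} (hr : r < 12) (h : r = 6 ∨ r = 7 ∨ r = 8 ∨ r = 9 ∨ r = 10 ∨ r = 11) (t : K) :
    e K r t ∈ U K := by
  have hx : vec chevG2 2 r ∈ RGD.Pos CoxeterMatrix.G₂.toCoxeterSystem isType.isCartan :=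
    ⟨isRoot_vec isType CoxeterMatrix.G₂.toCoxeterSystem hr, fun k => pos_tab' r hr h k⟩
  exact RGD.le_Sup (X := X K) hx (e_mem hr t)

/-- all root groups of roots that are not fundamental lie in `[U, U]` -/
theorem mem_comm (hK : ∃ t : K, t ≠ 0 ∧ t ≠ 1) {r : ℕ} (hr : r = 8 ∨ r = 9 ∨ r = 10 ∨ r = 11) (c : K) :
    e K r c ∈ ⁅U K, U K⁆ := by
  have h11 : ∀ c : K, e K 11 c ∈ ⁅U K, U K⁆ := by
    intro c
    rw [show c = 1 * c from (one_mul c).symm, ← comm_8_9]
    exact Subgroup.commutator_mem_commutator (e_mem_U (by norm_num) (by norm_num) c)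
      (e_mem_U (by norm_num) (by norm_num) 1)
  have h10 : ∀ c : K, e K 10 c ∈ ⁅U K, U K⁆ := by
    intro c
    rw [show c = 1 * c from (one_mul c).symm, ← comm_7_9]
    exact Subgroup.commutator_mem_commutator (e_mem_U (by norm_num) (by norm_num) c)
      (e_mem_U (by norm_num) (by norm_num) 1)
  have h89 : ∀ t s : K, t ≠ 0 → e K 8 s * e K 9 (t * s) ∈ ⁅U K, U K⁆ := by
    intro t s ht
    have h1 : ⁅e K 6 (t⁻¹ * s), e K 7 t⁆ ∈ ⁅U K, U K⁆ :=
      Subgroup.commutator_mem_commutator (e_mem_U (by norm_num) (by norm_num) _)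
        (e_mem_U (by norm_num) (by norm_num) _)
    rw [comm_7_6, ← mul_assoc, show t * (t⁻¹ * s) = s by field_simp,
      show t ^ 2 * (t⁻¹ * s) = t * s by field_simp] at h1
    exact (Subgroup.mul_mem_cancel_right _ (mul_mem (h10 _) (h11 _))).1 h1
  have h9 : ∀ c : K, e K 9 c ∈ ⁅U K, U K⁆ := by
    intro c
    obtain ⟨t, ht0, ht1⟩ := hK
    have hs : t - 1 ≠ 0 := sub_ne_zero.2 ht1
    have h1 := h89 t (c / (t - 1)) ht0
    have h2 := h89 1 (c / (t - 1)) one_ne_zero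
    have h3 := mul_mem (inv_mem h2) h1
    have h4 : (e K 8 (c / (t - 1)) * e K 9 (1 * (c / (t - 1))))⁻¹ * (e K 8 (c / (t - 1)) * e K 9 (t * (c / (t - 1)))) =
        (e K 9 (1 * (c / (t - 1))))⁻¹ * e K 9 (t * (c / (t - 1))) := by group
    have h5 : (e K 9 (1 * (c / (t - 1))))⁻¹ = e K 9 (-(1 * (c / (t - 1)))) := by
      rw [inv_eq_iff_mul_eq_one, e_add, add_neg_cancel, e_zero]
    rw [h4, h5, e_add] at h3
    have h6 : -(1 * (c / (t - 1))) + t * (c / (t - 1)) = c := by field_simp; ring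
    rwa [h6] at h3
  rcases hr with rfl | rfl | rfl | rfl
  · have h1 := h89 1 c one_ne_zero
    exact (Subgroup.mul_mem_cancel_right _ (h9 _)).1 h1
  · exact h9 c
  · exact h10 c
  · exact h11 c

/-- **`G₂(q)`, `q > 2` even.** -/
theorem kfRow [Finite K] (hK : ∃ t : K, t ≠ 0 ∧ t ≠ 1) : KfRow.{u} ↥(chevG2.group K) := by
  refine kfRow_of_pair (bd isType (K := K)) (x := vec chevG2 2 8) (y := vec chevG2 2 9) ?_
    (isRoot_vec isType _ (by decide)) (isRoot_vec isType _ (by decide)) (fun k => (full_tab k).1)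
    (fun k => (full_tab k).2) ?_
  · intro x hx h0 hs
    obtain ⟨r, hr, rfl⟩ := (isRoot_iff isType _ _).1 hx
    have h1 := pos_tab r hr (fun k => h0 k)
    have h2 : r = 8 ∨ r = 9 ∨ r = 10 ∨ r = 11 := by
      rcases h1 with rfl | rfl | h1
      · exact absurd vec6 (hs 1)
      · exact absurd vec7 (hs 0)
      · exact h1
    intro g hg
    obtain ⟨t, rfl⟩ := mem_X hr hg
    exact mem_comm hK h2 t
  · intro h
    have h1 : ⁅e K 8 1, e K 9 1⁆ ∈ ⁅X K (vec chevG2 2 8), X K (vec chevG2 2 9)⁆ :=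
      Subgroup.commutator_mem_commutator (e_mem (by norm_num) 1) (e_mem (by norm_num) 1)
    rw [h, Subgroup.mem_bot] at h1
    have h2 : ⁅e K 9 1, e K 8 (1 : K)⁆ = 1 := by rw [← commutatorElement_inv, h1, inv_one]
    rw [comm_8_9] at h2
    exact e_ne (by norm_num) (by rw [mul_one]; exact one_ne_zero) h2

theorem exists_ne_of_card [Fintype K] (h : 3 ≤ Fintype.card K) : ∃ t : K, t ≠ 0 ∧ t ≠ 1 := by
  classical
  by_contra hcon
  push Not at hcon
  have h1 : (Finset.univ : Finset K) ⊆ {0, 1} := by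
    intro t _
    rw [Finset.mem_insert, Finset.mem_singleton]
    by_cases h0 : t = 0
    · exact Or.inl h0
    · exact Or.inr (hcon t h0)
  have h2 := Finset.card_le_card h1
  have h3 : ({0, 1} : Finset K).card ≤ 2 := Finset.card_le_two
  rw [Finset.card_univ] at h2
  omega

/-- **The row of `G₂(q)`**, in the form of `IsExceptionalChevChar`. -/
theorem kfRow_of_equiv {G : Type u} [Group G] [Fintype K] (h : 3 ≤ Fintype.card K)
    (e : G ≃* ↥(chevG2.group K)) : KfRow.{w} G :=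
  (kfRow (exists_ne_of_card h)).of_equiv e.symm

end Cfsg.Agent.Omega.EH3.Kf.FamG2
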