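import Cfsg.Agent.Omega.EH3.Kf.Node
import Cfsg.Agent.Nodes.RootsA

/-!
# EH3, Lie rows in characteristic 2: piece K5, type `A_n` (helper827; blueprints/OMEGA-EH3-KF3-helper227.md)

`list_A : NodeOK cs h i m` and not all triples killed (for `m = 1`) ==> `n = 1`, or `n = 5`, `i = 2`, `m = 1`.
-/

set_option autoImplicit false
set_option linter.unusedSectionVars false

namespace Cfsg.Agent.Omega.EH3.Kf.ListA

open CoxeterSystem Cfsg.Agent.ChevalleyStructure.CoxeterGeom Cfsg.Agent.Tits.Roots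
  Cfsg.Agent.Nodes.RootsA Cfsg.Agent.Omega.EH3.Kf.Node
open Cfsg.Agent.LieRecognition.BNCox (cA cA_apply)

variable {n : ℕ} {W : Type*} [Group W] {cs : CoxeterSystem (cA n) W} {A : Fin n → Fin n → ℤ} {h : IsCartan (cA n) A}

theorem exists_perm (w : W) : ∃ σ : Equiv.Perm (Fin (n + 1)), ∀ a b, rep cs h w (rtA a b) = rtA (σ a) (σ b) := by
  obtain ⟨ω, rfl⟩ := cs.wordProd_surjective w
  induction ω with
  | nil => exact ⟨1, fun a b => by rw [wordProd_nil, map_one, Module.End.one_apply]; rfl⟩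
  | cons j ω ih =>
    obtain ⟨σ, hσ⟩ := ih
    exact ⟨Equiv.swap j.castSucc j.succ * σ, fun a b => by
      rw [wordProd_cons, rep_mul_apply, hσ, rep_simple_rtA]; rfl⟩

theorem rtA_one {a b : Fin (n + 1)} {i : Fin n} (ha : a.val ≤ i.val) (hb : i.val < b.val) : rtA a b i = 1 := by
  rw [rtA_apply, if_pos ha, if_neg (by omega)]; rfl

theorem of_rtA_one {a b : Fin (n + 1)} {i : Fin n} (h1 : rtA a b i = 1) : a.val ≤ i.val ∧ i.val < b.val := by
  rw [rtA_apply] at h1
  split_ifs at h1 <;> omega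

theorem of_rtA_neg_one {a b : Fin (n + 1)} {i : Fin n} (h1 : rtA a b i = -1) : b.val ≤ i.val ∧ i.val < a.val := by
  rw [rtA_apply] at h1
  split_ifs at h1 <;> omega

/-- **(E)** for `A_n`. -/
theorem eq_of_opp {i : Fin n} (hE : ∃ w : W, ∀ x, IsRoot cs h x → x i = 1 → (rep cs h w x) i = -1) :
    n = 2 * i.val + 1 := by
  obtain ⟨w, hw⟩ := hE
  obtain ⟨σ, hσ⟩ := exists_perm (cs := cs) (h := h) w
  have hi := i.2
  have key : ∀ a b : Fin (n + 1), a.val ≤ i.val → i.val < b.val → (σ b).val ≤ i.val ∧ i.val < (σ a).val := by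
    intro a b ha hb
    have h1 := hw (rtA a b) (isRoot_rtA cs h (fun e => by rw [e] at ha; omega)) (rtA_one ha hb)
    rw [hσ] at h1
    exact of_rtA_neg_one h1
  have c1 : (Finset.Iic i.castSucc).card = i.val + 1 := by
    rw [Fin.card_Iic]; rfl
  have c2 : (Finset.Iic i.castSucc)ᶜ.card = n - i.val := by
    rw [Finset.card_compl, c1, Fintype.card_fin]; omega
  have m1 : ∀ a : Fin (n + 1), a ∈ Finset.Iic i.castSucc ↔ a.val ≤ i.val := fun a => by
    rw [Finset.mem_Iic]; exact Iff.rfl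
  have h1 : (Finset.Iic i.castSucc).card ≤ ((Finset.Iic i.castSucc)ᶜ).card := by
    refine Finset.card_le_card_of_injOn σ ?_ σ.injective.injOn
    intro a ha
    rw [Finset.mem_coe, m1] at ha
    rw [Finset.mem_coe, Finset.mem_compl, m1]
    have := (key a (Fin.last n) ha (by rw [Fin.val_last]; exact hi)).2
    omega
  have h2 : ((Finset.Iic i.castSucc)ᶜ).card ≤ (Finset.Iic i.castSucc).card := by
    refine Finset.card_le_card_of_injOn σ ?_ σ.injective.injOn
    intro a ha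
    rw [Finset.mem_coe, Finset.mem_compl, m1] at ha
    rw [Finset.mem_coe, m1]
    exact (key 0 a (by simp) (by omega)).1
  rw [c1, c2] at h1 h2
  omega

theorem co_sub (x y : Fin n → ℤ) (j : ℕ) : co (x - y) j = co x j - co y j := by
  unfold co
  split_ifs <;> (try simp only [Pi.sub_apply]) <;> ring

/-- **(F)** for `A_n`. -/
theorem orth_le {i : Fin n} {m : ℕ} (hn : n = 2 * i.val + 1)
    (hF : ∀ s : Finset (Fin n → ℤ), (∀ x ∈ s, IsRoot cs h x ∧ x i = 1) →
      (∀ x ∈ s, ∀ y ∈ s, x ≠ y → ¬ IsRoot cs h (x - y)) → m * s.card ≤ 3) : m * (i.val + 1) ≤ 3 := by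
  classical
  let f : Fin (i.val + 1) → (Fin n → ℤ) := fun d => rtA ⟨d.val, by omega⟩ ⟨n - d.val, by omega⟩
  have hf : ∀ d, (f d) i = 1 := fun d => rtA_one (by show d.val ≤ i.val; omega)
    (by show i.val < n - d.val; have := d.2; omega)
  have hinj : Function.Injective f := by
    intro d e hde
    have hne : (⟨d.val, by omega⟩ : Fin (n + 1)) ≠ ⟨n - d.val, by omega⟩ := by
      intro h0
      have h1 : d.val = n - d.val := congrArg Fin.val h0
      have := d.2
      omega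
    have := congrArg Fin.val (rtA_inj hne hde).1
    exact Fin.ext this
  have h1 := hF (Finset.univ.image f) (by
    intro x hx
    obtain ⟨d, -, rfl⟩ := Finset.mem_image.1 hx
    refine ⟨isRoot_rtA cs h ?_, hf d⟩
    intro h0
    have h1 : d.val = n - d.val := congrArg Fin.val h0
    have := d.2
    omega) (by
    intro x hx y hy hxy
    obtain ⟨d, -, rfl⟩ := Finset.mem_image.1 hx
    obtain ⟨e, -, rfl⟩ := Finset.mem_image.1 hy
    have hde : d.val ≠ e.val := fun h0 => hxy (by rw [Fin.ext h0])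
    intro hr
    obtain ⟨a, b, hab, hxe⟩ := (isRoot_iff cs h).1 hr
    have e1 := congrArg (fun x => co x d.val) hxe
    have e2 := congrArg (fun x => co x (n - e.val)) hxe
    simp only [co_sub, f] at e1 e2
    have g1 := co_rtA (n := n) ⟨d.val, by omega⟩ ⟨n - d.val, by omega⟩ ⟨d.val, by omega⟩
    have g2 := co_rtA (n := n) ⟨e.val, by omega⟩ ⟨n - e.val, by omega⟩ ⟨d.val, by omega⟩
    have g3 := co_rtA (n := n) a b ⟨d.val, by omega⟩
    have g4 := co_rtA (n := n) ⟨d.val, by omega⟩ ⟨n - d.val, by omega⟩ ⟨n - e.val, by omega⟩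
    have g5 := co_rtA (n := n) ⟨e.val, by omega⟩ ⟨n - e.val, by omega⟩ ⟨n - e.val, by omega⟩
    have g6 := co_rtA (n := n) a b ⟨n - e.val, by omega⟩
    simp only [Fin.ext_iff] at g1 g2 g3 g4 g5 g6
    rw [g1, g2, g3] at e1
    rw [g4, g5, g6] at e2
    have hd := d.2
    have he := e.2
    rw [if_pos trivial, if_neg (by omega), if_neg hde, if_neg (by omega)] at e1
    rw [if_neg (by omega), if_neg (by omega), if_neg (by omega), if_pos trivial] at e2
    split_ifs at e1 e2 <;> omega)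
  rwa [Finset.card_image_of_injective _ hinj, Finset.card_univ, Fintype.card_fin] at h1

/-! ### `A_3` -/

/-- the root given by two codes -/
def r3 (a b : Fin 4) : Fin 3 → ℤ := rtA (n := 3) a b

def isR (x : Fin 3 → ℤ) : Prop := ∃ a b : Fin 4, a ≠ b ∧ x = r3 a b

instance (x : Fin 3 → ℤ) : Decidable (isR x) := by unfold isR; infer_instance

def kd (α β ε : Fin 3 → ℤ) : Prop :=
  ∃ c d : Fin 4, c ≠ d ∧ (r3 c d) 1 = 0 ∧ isR (β - r3 c d) ∧ (isR (α + r3 c d) → α + r3 c d = ε) ∧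
    (isR (ε + r3 c d) → ε + r3 c d = α)

instance (α β ε : Fin 3 → ℤ) : Decidable (kd α β ε) := by unfold kd; infer_instance

def hf (p : Fin 2 × Fin 2) : Fin 3 → ℤ := r3 ⟨p.1.val, by omega⟩ ⟨p.2.val + 2, by omega⟩

set_option maxRecDepth 100000 in
set_option synthInstance.maxHeartbeats 400000 in
theorem kd_all : ∀ p q r : Fin 2 × Fin 2, p ≠ q → q ≠ r → p ≠ r →
    kd (hf p) (hf q) (hf r) ∨ kd (hf q) (hf p) (hf r) ∨ kd (hf p) (hf r) (hf q) := by decide

theorem kills_A3 {W : Type*} [Group W] (cs : CoxeterSystem (cA 3) W) {A : Fin 3 → Fin 3 → ℤ}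
    (h : IsCartan (cA 3) A) : Kills cs h 1 := by
  have hR : ∀ x, IsRoot cs h x ↔ isR x := fun x => isRoot_iff cs h
  have hK : ∀ α β ε, kd α β ε → Killed cs h 1 α β ε := by
    rintro α β ε ⟨c, d, h1, h2, h3, h4, h5⟩
    exact ⟨r3 c d, (hR _).2 ⟨c, d, h1, rfl⟩, h2, (hR _).2 h3, fun h6 => h4 ((hR _).1 h6), fun h6 => h5 ((hR _).1 h6)⟩
  have hc : ∀ x, IsRoot cs h x → x 1 = 1 → ∃ p, x = hf p := by
    intro x hx hx1
    obtain ⟨a, b, -, rfl⟩ := (isRoot_iff cs h).1 hx
    obtain ⟨h1, h2⟩ := of_rtA_one hx1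
    have h1' : a.val ≤ 1 := h1
    have h2' : 1 < b.val := h2
    have hb := b.2
    refine ⟨(⟨a.val, by omega⟩, ⟨b.val - 2, by omega⟩), ?_⟩
    unfold hf r3
    congr 1
    exact Fin.ext (by simp; omega)
  intro α β ε hα hβ hε hα1 hβ1 hε1 h1 h2 h3
  obtain ⟨p, rfl⟩ := hc α hα hα1
  obtain ⟨q, rfl⟩ := hc β hβ hβ1
  obtain ⟨r, rfl⟩ := hc ε hε hε1
  rcases kd_all p q r (fun e => h1 (by rw [e])) (fun e => h2 (by rw [e])) (fun e => h3 (by rw [e])) with h4 | h4 | h4
  · exact Or.inl (hK _ _ _ h4)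
  · exact Or.inr (Or.inl (hK _ _ _ h4))
  · exact Or.inr (Or.inr (hK _ _ _ h4))

/-- **Type `A_n`.** -/
theorem list_A {i : Fin n} {m : ℕ} (hm : 1 ≤ m) (N : NodeOK cs h i m) (hG : m = 1 → ¬ Kills cs h i) :
    (n = 1 ∧ m ≤ 3) ∨ (n = 5 ∧ i.val = 2 ∧ m = 1) := by
  have h1 := eq_of_opp N.opp
  have h2 := orth_le h1 N.orth
  have h3 : i.val ≤ 2 := by
    by_contra h4
    have : 1 * 4 ≤ m * (i.val + 1) := Nat.mul_le_mul hm (by omega)
    omega
  obtain h4 | h4 | h4 : i.val = 0 ∨ i.val = 1 ∨ i.val = 2 := by omega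
  · left
    exact ⟨by omega, N.le_three⟩
  · exfalso
    have hn : n = 3 := by omega
    subst hn
    have h5 : i = 1 := Fin.ext h4
    subst h5
    have h6 : m = 1 := by
      rw [h4] at h2
      omega
    exact hG h6 (kills_A3 cs h)
  · right
    refine ⟨by omega, h4, ?_⟩
    rw [h4] at h2
    omega

end Cfsg.Agent.Omega.EH3.Kf.ListA
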