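import Cfsg.Agent.Omega.EH3.Kf.Node
import Cfsg.Agent.Nodes.TypeD

/-!
# EH3, Lie rows in characteristic 2: piece K5, type `D_{n+2}` (helper827; blueprints/OMEGA-EH3-KF3-helper227.md)

`list_D : NodeOK cs h i m` and not all triples killed (for `m = 1`) ==> `n = 4` (type `D_6`), `i = 4` or `5`, `m = 1`.
-/

set_option autoImplicit false
set_option linter.unusedSectionVars false

namespace Cfsg.Agent.Omega.EH3.Kf.ListD

open CoxeterSystem Cfsg.Agent.ChevalleyStructure.CoxeterGeom Cfsg.Agent.Tits.Roots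
  Cfsg.Agent.Nodes.TypeD Cfsg.Agent.Omega.EH3.Kf.Node
open Cfsg.Agent.Nodes.TypeC (wt wt_apply ng ng_fst ng_snd ng_ng wt_ng)

variable {n : ℕ}

/-! ### The Cartan matrix -/

theorem M_ne (i j : Fin (n + 2)) : M n i j ≠ 4 ∧ M n i j ≠ 6 := by
  rw [M_apply]
  split_ifs <;> constructor <;> decide

theorem A_eq {B : Fin (n + 2) → Fin (n + 2) → ℤ} (h : IsCartan (M n) B) : B = A n := by
  funext i j
  rw [Nodes.SimplyLaced.cart_eq (fun i j => (M_ne i j).1) (fun i j => (M_ne i j).2) h,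
    Nodes.SimplyLaced.cart_eq (fun i j => (M_ne i j).1) (fun i j => (M_ne i j).2) (isCartan n)]

/-! ### The form in `ε`-coordinates -/

/-- the standard form -/
def ip (u v : Fin (n + 2) → ℤ) : ℤ := ∑ k, u k * v k

theorem ip_add_left (u u' v : Fin (n + 2) → ℤ) : ip (u + u') v = ip u v + ip u' v := by
  simp only [ip, Pi.add_apply, add_mul, Finset.sum_add_distrib]

theorem ip_add_right (u v v' : Fin (n + 2) → ℤ) : ip u (v + v') = ip u v + ip u v' := by
  simp only [ip, Pi.add_apply, mul_add, Finset.sum_add_distrib]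

theorem ip_comm (u v : Fin (n + 2) → ℤ) : ip u v = ip v u := by
  simp only [ip, mul_comm]

theorem ip_wt_right (u : Fin (n + 2) → ℤ) (a : Fin (n + 2) × Bool) :
    ip u (wt a) = (if a.2 then 1 else -1) * u a.1 := by
  unfold ip
  simp only [wt_apply]
  rw [Finset.sum_eq_single a.1]
  · rw [if_pos rfl, mul_comm]
  · intro k _ hk
    rw [if_neg hk, mul_zero]
  · intro h0
    exact absurd (Finset.mem_univ _) h0

theorem ip_wt (a b : Fin (n + 2) × Bool) :
    ip (wt a) (wt b) = if a.1 = b.1 then (if a.2 = b.2 then 1 else -1) else 0 := by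
  rw [ip_wt_right, wt_apply]
  by_cases h1 : a.1 = b.1
  · rw [if_pos h1.symm, if_pos h1]
    cases a.2 <;> cases b.2 <;> rfl
  · rw [if_neg (Ne.symm h1), if_neg h1, mul_zero]

theorem ip_wt_ne {a b : Fin (n + 2) × Bool} (h1 : a.1 ≠ b.1) : ip (wt a) (wt b) = 0 := by rw [ip_wt, if_neg h1]

theorem ip_wt_self (a : Fin (n + 2) × Bool) : ip (wt a) (wt a) = 1 := by rw [ip_wt, if_pos rfl, if_pos rfl]

theorem ip_wt_ng (a : Fin (n + 2) × Bool) : ip (wt a) (wt (ng a)) = -1 := by
  rw [ip_wt, ng_fst, if_pos rfl, ng_snd, if_neg]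
  cases a.2 <;> decide

theorem ip_ng_right (u : Fin (n + 2) → ℤ) (a : Fin (n + 2) × Bool) : ip u (wt (ng a)) = -ip u (wt a) := by
  rw [ip_wt_right, ip_wt_right, ng_fst, ng_snd]
  cases a.2 <;> simp

section Root

variable {W : Type*} [Group W] {cs : CoxeterSystem (M n) W}

theorem ip_root {x : Fin (n + 2) → ℤ} (hx : IsRoot cs (isCartan n) x) : ip (ee x) (ee x) = 2 := by
  obtain ⟨a, b, hab, e⟩ := exists_of_isRoot cs hx
  rw [e, ip_add_left, ip_add_right, ip_add_right, ip_wt_self, ip_wt_self, ip_wt_ne hab, ip_wt_ne (Ne.symm hab)]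
  rfl

theorem not_add {x y : Fin (n + 2) → ℤ} (hx : IsRoot cs (isCartan n) x) (hy : IsRoot cs (isCartan n) y)
    (h0 : 0 ≤ ip (ee x) (ee y)) : ¬ IsRoot cs (isCartan n) (x + y) := by
  intro h1
  have h2 := ip_root h1
  rw [ee_add, ip_add_left, ip_add_right, ip_add_right, ip_root hx, ip_root hy, ip_comm (ee y)] at h2
  omega

theorem not_sub {x y : Fin (n + 2) → ℤ} (hx : IsRoot cs (isCartan n) x) (hy : IsRoot cs (isCartan n) y)
    (h0 : ip (ee x) (ee y) = 0) : ¬ IsRoot cs (isCartan n) (x - y) := by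
  intro h1
  have h2 := ip_root h1
  have h3 : ee (x - y) = ee x + ee (-y) := by rw [← ee_add, sub_eq_add_neg]
  have h4 := ip_root hy.neg
  have h5 : ip (ee x) (ee (-y)) = 0 := by
    rw [ee_neg]
    have : ip (ee x) (-ee y) = -ip (ee x) (ee y) := by simp [ip]
    rw [this, h0, neg_zero]
  rw [h3, ip_add_left, ip_add_right, ip_add_right, ip_root hx, h4, ip_comm (ee (-y)), h5] at h2
  omega

/-- the root with given coordinates -/
theorem exists_root {a b : Fin (n + 2) × Bool} (hab : a.1 ≠ b.1) :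
    ∃ x, IsRoot cs (isCartan n) x ∧ ee x = wt a + wt b := rt_of_ok (cs := cs) hab

theorem isRoot_of {x : Fin (n + 2) → ℤ} {a b : Fin (n + 2) × Bool} (hab : a.1 ≠ b.1) (e : ee x = wt a + wt b) :
    IsRoot cs (isCartan n) x := isRoot_iff.2 ⟨a, b, hab, e⟩

end Root

/-! ### Coefficients -/

theorem sum_ee (x : Fin (n + 2) → ℤ) (m : Fin (n + 2)) : ∑ k ∈ Finset.Iic m, ee x k =
    if (m : ℕ) < n then x m else if (m : ℕ) = n then x m + x (Fin.last (n + 1)) else 2 * x m := by
  have h1 : ∀ k, ee x k = ∑ j, x j * bt j k := by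
    intro k
    simp [ee, Finset.sum_apply]
  simp only [h1]
  rw [Finset.sum_comm]
  simp only [← Finset.mul_sum, sum_bt]
  have hm := m.2
  rw [Fin.sum_univ_castSucc]
  have h2 : ∀ i : Fin (n + 1), ((i.castSucc : Fin (n + 2)) : ℕ) + 1 < n + 2 := fun i => by
    have := i.2
    simp only [Fin.val_castSucc]
    omega
  have h3 : ¬ ((Fin.last (n + 1) : Fin (n + 2)) : ℕ) + 1 < n + 2 := by simp
  simp only [h2, h3, if_true, if_false]
  by_cases h4 : (m : ℕ) < n + 1
  · have h5 : m = (⟨m, h4⟩ : Fin (n + 1)).castSucc := by ext; simp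
    rw [Finset.sum_eq_single (⟨m, h4⟩ : Fin (n + 1))]
    · rw [← h5, if_pos rfl]
      split_ifs <;> omega
    · intro j _ hj
      rw [if_neg, mul_zero]
      intro h'
      apply hj
      ext
      have := congrArg Fin.val h'
      simpa using this.symm
    · simp
  · have h5 : m = Fin.last (n + 1) := by ext; simp; omega
    rw [Finset.sum_eq_zero]
    · subst h5
      have h6 : ((Fin.last (n + 1) : Fin (n + 2)) : ℕ) = n + 1 := by simp
      rw [h6, if_neg (by omega), if_pos rfl, if_neg (by omega), if_neg (by omega)]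
      ring
    · intro j _
      rw [if_neg, mul_zero]
      rintro h'
      have := congrArg Fin.val h'
      have hj := j.2
      simp at this
      omega

theorem coef_zero (hn : 0 < n) (x : Fin (n + 2) → ℤ) : x 0 = ee x 0 := by
  have h1 := sum_ee x 0
  have h2 : Finset.Iic (0 : Fin (n + 2)) = {0} := by
    ext k
    simp only [Finset.mem_Iic, Finset.mem_singleton]
    exact Fin.le_zero_iff
  rw [h2, Finset.sum_singleton] at h1
  rw [h1, Fin.val_zero, if_pos hn]

/-- the signs of the node `i ∈ {n, n + 1}` -/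
def g0 (i j : Fin (n + 2)) : ℤ := if (i : ℕ) = n ∧ (j : ℕ) = n + 1 then -1 else 1

theorem g0_cases (i j : Fin (n + 2)) : g0 i j = 1 ∨ g0 i j = -1 := by
  unfold g0; split_ifs <;> simp

theorem coef_spin {i : Fin (n + 2)} (hi : n ≤ (i : ℕ)) (x : Fin (n + 2) → ℤ) : 2 * x i = ∑ j, g0 i j * ee x j := by
  have h1 := sum_ee x (Fin.last (n + 1))
  have h2 : Finset.Iic (Fin.last (n + 1)) = Finset.univ := by
    ext k
    simp only [Finset.mem_Iic, Finset.mem_univ, iff_true]
    exact Fin.le_last k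
  rw [h2, Fin.val_last, if_neg (by omega), if_neg (by omega)] at h1
  have hi2 := i.2
  by_cases h3 : (i : ℕ) = n
  · have h4 := sum_ee x i
    rw [if_neg (by omega), if_pos h3] at h4
    have h5 : ∑ k, ee x k = ∑ k ∈ Finset.Iic i, ee x k + ee x (Fin.last (n + 1)) := by
      have e1 : (Finset.univ : Finset (Fin (n + 2))) = insert (Fin.last (n + 1)) (Finset.Iic i) := by
        ext k
        simp only [Finset.mem_univ, Finset.mem_insert, Finset.mem_Iic, true_iff]
        by_cases h6 : k = Fin.last (n + 1)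
        · exact Or.inl h6
        · right
          have h7 : (k : ℕ) ≠ n + 1 := fun e => h6 (Fin.ext (by rw [e, Fin.val_last]))
          have h8 := k.2
          show (k : ℕ) ≤ (i : ℕ)
          omega
      rw [e1, Finset.sum_insert, add_comm]
      rw [Finset.mem_Iic]
      intro h6
      have h7 : n + 1 ≤ (i : ℕ) := h6
      omega
    have h6 : ∑ j, g0 i j * ee x j = ∑ k, ee x k - 2 * ee x (Fin.last (n + 1)) := by
      have e2 : ∀ j, g0 i j * ee x j = ee x j + (if j = Fin.last (n + 1) then -2 * ee x j else 0) := by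
        intro j
        unfold g0
        by_cases h7 : j = Fin.last (n + 1)
        · rw [if_pos h7, if_pos ⟨h3, by rw [h7, Fin.val_last]⟩]; ring
        · rw [if_neg h7, if_neg]
          · ring
          · rintro ⟨-, h8⟩
            exact h7 (Fin.ext (by rw [h8, Fin.val_last]))
      simp only [e2, Finset.sum_add_distrib, Finset.sum_ite_eq', Finset.mem_univ, if_true]
      ring
    rw [h6]
    linarith
  · have h4 : i = Fin.last (n + 1) := Fin.ext (by rw [Fin.val_last]; omega)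
    rw [h4, ← h1]
    refine Finset.sum_congr rfl fun j _ => ?_
    unfold g0
    rw [if_neg, one_mul]
    rintro ⟨h5, -⟩
    rw [Fin.val_last] at h5
    omega

/-! ### The nodes `1 ≤ i < n` -/

section Nodes

variable {W : Type*} [Group W] {cs : CoxeterSystem (M n) W}

theorem node_cases {i : Fin (n + 2)} (h1 : ∀ x, IsRoot cs (isCartan n) x → x i ≤ 1) : (i : ℕ) = 0 ∨ n ≤ (i : ℕ) := by
  by_contra h2
  push Not at h2
  have h01 : ((0 : Fin (n + 2)), true).1 ≠ ((1 : Fin (n + 2)), true).1 := by simp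
  obtain ⟨x, hx, e⟩ := exists_root (cs := cs) h01
  have h3 := sum_ee x i
  rw [if_pos h2.2, e] at h3
  have h4 : ∑ k ∈ Finset.Iic i, (wt ((0 : Fin (n + 2)), true) + wt ((1 : Fin (n + 2)), true)) k = 2 := by
    simp only [Pi.add_apply, Finset.sum_add_distrib, wt, Finset.sum_pi_single', Finset.mem_Iic]
    have a0 : (0 : Fin (n + 2)) ≤ i := Fin.zero_le i
    have a1 : (1 : Fin (n + 2)) ≤ i := by
      rw [Fin.le_def]
      have : ((1 : Fin (n + 2)) : ℕ) = 1 := rfl
      omega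
    rw [if_pos a0, if_pos a1]
    rfl
  rw [h4] at h3
  have := h1 x hx
  omega

/-! ### The node `0` -/

theorem of_zero (hn : 0 < n) {x : Fin (n + 2) → ℤ} (hx : IsRoot cs (isCartan n) x) (h1 : x 0 = 1) :
    ∃ b : Fin (n + 2) × Bool, b.1 ≠ 0 ∧ ee x = wt ((0 : Fin (n + 2)), true) + wt b := by
  obtain ⟨a, b, hab, e⟩ := exists_of_isRoot cs hx
  rw [coef_zero hn x, e, Pi.add_apply, wt_apply, wt_apply] at h1
  have hab' : a.1 ≠ b.1 := hab
  by_cases ha : (0 : Fin (n + 2)) = a.1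
  · have hb : (0 : Fin (n + 2)) ≠ b.1 := fun h => hab' (ha.symm.trans h)
    rw [if_pos ha, if_neg hb] at h1
    refine ⟨b, hb.symm, ?_⟩
    have : a = ((0 : Fin (n + 2)), true) := by
      refine Prod.ext ha.symm ?_
      cases h2 : a.2
      · rw [h2] at h1; simp at h1
      · rfl
    rw [e, this]
  · by_cases hb : (0 : Fin (n + 2)) = b.1
    · rw [if_neg ha, if_pos hb] at h1
      refine ⟨a, fun h => ha h.symm, ?_⟩
      have : b = ((0 : Fin (n + 2)), true) := by
        refine Prod.ext hb.symm ?_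
        cases h2 : b.2
        · rw [h2] at h1; simp at h1
        · rfl
      rw [e, this]
      exact add_comm _ _
    · rw [if_neg ha, if_neg hb] at h1
      omega

theorem killed_zero (hn : 2 ≤ n) {α β ε : Fin (n + 2) → ℤ} (hα : IsRoot cs (isCartan n) α)
    (hε : IsRoot cs (isCartan n) ε) {b1 b2 b3 : Fin (n + 2) × Bool}
    (e1 : ee α = wt ((0 : Fin (n + 2)), true) + wt b1) (e2 : ee β = wt ((0 : Fin (n + 2)), true) + wt b2)
    (e3 : ee ε = wt ((0 : Fin (n + 2)), true) + wt b3) (h2 : b2.1 ≠ 0)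
    (h12 : b1.1 ≠ b2.1) (h32 : b3.1 ≠ b2.1) : Killed cs (isCartan n) 0 α β ε := by
  classical
  obtain ⟨k, hk⟩ : ∃ k : Fin (n + 2), k ∉ ({0, b1.1, b2.1} : Finset (Fin (n + 2))) := by
    by_contra hc
    push Not at hc
    have c1 : (Finset.univ : Finset (Fin (n + 2))) ⊆ {0, b1.1, b2.1} := fun k _ => hc k
    have c2 := Finset.card_le_card c1
    have c3 := Finset.card_le_three (a := (0 : Fin (n + 2))) (b := b1.1) (c := b2.1)
    rw [Finset.card_univ, Fintype.card_fin] at c2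
    omega
  simp only [Finset.mem_insert, Finset.mem_singleton, not_or] at hk
  obtain ⟨k0, k1, k2⟩ := hk
  obtain ⟨d, hd1, hd2⟩ : ∃ d : Fin (n + 2) × Bool, d.1 = k ∧ 0 ≤ ip (wt b3) (wt d) := by
    by_cases h4 : b3.1 = k
    · exact ⟨b3, h4, by rw [ip_wt_self]; omega⟩
    · exact ⟨(k, true), rfl, by rw [ip_wt_ne h4]⟩
  have hd0 : (0 : Fin (n + 2)) ≠ d.1 := by rw [hd1]; exact Ne.symm k0
  have hbd : b2.1 ≠ d.1 := by rw [hd1]; exact Ne.symm k2
  obtain ⟨δ, hδ, e⟩ := exists_root (cs := cs) hbd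
  have z0 : ∀ b : Fin (n + 2) × Bool, b.1 ≠ 0 → ip (wt ((0 : Fin (n + 2)), true)) (wt b) = 0 :=
    fun b hb => ip_wt_ne (Ne.symm hb)
  refine ⟨δ, hδ, ?_, ?_, fun h4 => absurd h4 (not_add hα hδ ?_), fun h4 => absurd h4 (not_add hε hδ ?_)⟩
  · rw [coef_zero (by omega) δ, e, Pi.add_apply, wt_apply, wt_apply, if_neg (Ne.symm h2), if_neg hd0]
    rfl
  · refine isRoot_of (a := ((0 : Fin (n + 2)), true)) (b := ng d) (by rw [ng_fst]; exact hd0) ?_
    rw [sub_eq_add_neg, ee_add, ee_neg, e2, e, wt_ng]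
    abel
  · rw [e1, e, ip_add_left, ip_add_right, ip_add_right, z0 _ h2, z0 _ (Ne.symm hd0), ip_wt_ne h12,
      ip_wt_ne (by rw [hd1]; exact Ne.symm k1)]
    omega
  · rw [e3, e, ip_add_left, ip_add_right, ip_add_right, z0 _ h2, z0 _ (Ne.symm hd0), ip_wt_ne h32]
    omega

theorem kills_zero (hn : 2 ≤ n) : Kills cs (isCartan n) 0 := by
  intro α β ε hα hβ hε hα1 hβ1 hε1 h1 h2 h3
  obtain ⟨b1, k1, e1⟩ := of_zero (by omega) hα hα1
  obtain ⟨b2, k2, e2⟩ := of_zero (by omega) hβ hβ1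
  obtain ⟨b3, k3, e3⟩ := of_zero (by omega) hε hε1
  have n12 : b1 ≠ b2 := fun h => h1 (ee_injective (by rw [e1, e2, h]))
  have n23 : b2 ≠ b3 := fun h => h2 (ee_injective (by rw [e2, e3, h]))
  have n13 : b1 ≠ b3 := fun h => h3 (ee_injective (by rw [e1, e3, h]))
  by_cases c12 : b1.1 = b2.1
  · have c13 : b1.1 ≠ b3.1 := by
      intro c13
      have d12 : b1.2 ≠ b2.2 := fun h => n12 (Prod.ext c12 h)
      have d13 : b1.2 ≠ b3.2 := fun h => n13 (Prod.ext c13 h)
      have d23 : b2.2 ≠ b3.2 := fun h => n23 (Prod.ext (c12.symm.trans c13) h)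
      revert d12 d13 d23
      cases b1.2 <;> cases b2.2 <;> cases b3.2 <;> simp
    exact Or.inr (Or.inr (killed_zero hn hα hβ e1 e3 e2 k3 c13 (fun h => c13 (c12.trans h))))
  · by_cases c32 : b3.1 = b2.1
    · exact Or.inr (Or.inl (killed_zero hn hβ hε e2 e1 e3 k1 (Ne.symm c12) (fun h => c12 (h.symm.trans c32))))
    · exact Or.inl (killed_zero hn hα hε e1 e2 e3 k2 c12 c32)

/-! ### The spin nodes -/

theorem ip_bt (g : Fin (n + 2) → ℤ) (k : Fin (n + 2)) : ip g (bt k) = Cf k g := by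
  unfold bt
  rw [ip_add_right, ip_wt_right, ip_wt_right]
  unfold nx Cf
  by_cases h : (k : ℕ) + 1 < n + 2
  · rw [dif_pos h, dif_pos h]
    simp only [if_true, Bool.false_eq_true, if_false]
    ring
  · rw [dif_neg h, dif_neg h]
    simp only [if_true]
    ring

theorem ip_sub_smul_right (u v : Fin (n + 2) → ℤ) (c : ℤ) (b : Fin (n + 2) → ℤ) :
    ip u (v - c • b) = ip u v - c * ip u b := by
  simp only [ip, Pi.sub_apply, Pi.smul_apply, smul_eq_mul, mul_sub, Finset.sum_sub_distrib, Finset.mul_sum]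
  congr 1
  exact Finset.sum_congr rfl fun _ _ => by ring

theorem Cf_even {g : Fin (n + 2) → ℤ} (hg : ∀ j, g j % 2 = 1) (k : Fin (n + 2)) : Cf k g % 2 = 0 := by
  unfold Cf
  split_ifs with h
  · have h1 := hg k
    have h2 := hg ⟨k + 1, h⟩
    omega
  · have h1 := hg k
    have h2 := hg (pd n)
    omega

theorem sum_bt_all (k : Fin (n + 2)) : (∑ j, bt k j) = 0 ∨ (∑ j, bt k j) = 2 := by
  have h1 : ∑ j, bt k j = ip (fun _ => 1) (bt k) := by simp [ip]
  rw [h1, ip_bt]
  unfold Cf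
  split_ifs <;> simp

theorem exists_sign (i : Fin (n + 2)) (hi : n ≤ (i : ℕ)) (w : W) : ∃ g : Fin (n + 2) → ℤ, (∀ j, g j % 2 = 1) ∧
    (∑ j, g j - ∑ j, g0 i j) % 4 = 0 ∧ ∀ x, 2 * (rep cs (isCartan n) w x) i = ip g (ee x) := by
  induction w using cs.simple_induction_right with
  | one =>
    refine ⟨g0 i, fun j => ?_, by simp, fun x => ?_⟩
    · rcases g0_cases i j with h | h <;> rw [h] <;> rfl
    · rw [map_one, Module.End.one_apply, coef_spin hi]; rfl
  | mul_simple_right w k ih =>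
    obtain ⟨g, h1, h2, h3⟩ := ih
    have hc := Cf_even h1 k
    refine ⟨g - Cf k g • bt k, fun j => ?_, ?_, fun x => ?_⟩
    · rw [Pi.sub_apply, Pi.smul_apply, smul_eq_mul]
      have h4 := h1 j
      obtain ⟨c, hc⟩ : ∃ c, Cf k g = 2 * c := ⟨Cf k g / 2, by omega⟩
      rw [hc, mul_assoc]
      omega
    · have h4 : ∑ j, (g - Cf k g • bt k) j = ∑ j, g j - Cf k g * ∑ j, bt k j := by
        simp only [Pi.sub_apply, Pi.smul_apply, smul_eq_mul, Finset.sum_sub_distrib, Finset.mul_sum]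
      rw [h4]
      rcases sum_bt_all k with h5 | h5 <;> rw [h5] <;> omega
    · rw [rep_mul_apply, rep_simple, h3, ee_refl, ip_sub_smul_right, ip_bt, ip_comm (g - Cf k g • bt k),
        ip_sub_smul_right, ip_bt, ip_comm (ee x) g]
      ring

/-- the signed index `j` with the sign of `g0` -/
def sp (i j : Fin (n + 2)) : Fin (n + 2) × Bool := (j, decide (g0 i j = 1))

theorem ip_sp (g : Fin (n + 2) → ℤ) (i j : Fin (n + 2)) : ip g (wt (sp i j)) = g0 i j * g j := by
  rw [ip_wt_right]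
  unfold sp
  rcases g0_cases i j with h | h <;> rw [h] <;> simp

theorem coef_sp {i : Fin (n + 2)} (hi : n ≤ (i : ℕ)) {x : Fin (n + 2) → ℤ} {a b : Fin (n + 2)}
    (e : ee x = wt (sp i a) + wt (sp i b)) : x i = 1 := by
  have h1 : 2 * x i = ip (g0 i) (ee x) := coef_spin hi x
  rw [e, ip_add_right, ip_sp, ip_sp] at h1
  rcases g0_cases i a with h2 | h2 <;> rcases g0_cases i b with h3 | h3 <;> rw [h2, h3] at h1 <;> omega

theorem of_coef {i : Fin (n + 2)} (hi : n ≤ (i : ℕ)) {x : Fin (n + 2) → ℤ} (hx : IsRoot cs (isCartan n) x)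
    (hx1 : x i = 1) : ∃ a b : Fin (n + 2), a ≠ b ∧ ee x = wt (sp i a) + wt (sp i b) := by
  obtain ⟨a, b, hab, e⟩ := exists_of_isRoot cs hx
  have h1 : 2 * x i = ip (g0 i) (ee x) := coef_spin hi x
  rw [hx1, e, ip_add_right, ip_wt_right, ip_wt_right] at h1
  have key : ∀ c : Fin (n + 2) × Bool, (if c.2 then 1 else -1) * g0 i c.1 ≤ 1 ∧
      ((if c.2 then 1 else -1) * g0 i c.1 = 1 → c = sp i c.1) := by
    intro c
    unfold sp
    rcases g0_cases i c.1 with h | h <;> rw [h] <;> cases h2 : c.2 <;> simp <;> exact Prod.ext rfl h2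
  have k1 := key a
  have k2 := key b
  refine ⟨a.1, b.1, hab, ?_⟩
  rw [e, ← k1.2 (by omega), ← k2.2 (by omega)]

/-- **(E)** for the spin nodes. -/
theorem even_of_opp (hn : 2 ≤ n) {i : Fin (n + 2)} (hi : n ≤ (i : ℕ))
    (hE : ∃ w : W, ∀ x, IsRoot cs (isCartan n) x → x i = 1 → (rep cs (isCartan n) w x) i = -1) : n % 2 = 0 := by
  obtain ⟨w, hw⟩ := hE
  obtain ⟨g, h1, h2, h3⟩ := exists_sign (cs := cs) i hi w
  have key : ∀ a b : Fin (n + 2), a ≠ b → g0 i a * g a + g0 i b * g b = -2 := by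
    intro a b hab
    obtain ⟨x, hx, e⟩ := exists_root (cs := cs) (a := sp i a) (b := sp i b) hab
    have h4 := hw x hx (coef_sp hi e)
    have h5 := h3 x
    rw [h4, e, ip_add_right, ip_sp, ip_sp] at h5
    omega
  have key2 : ∀ a, g a = -g0 i a := by
    intro a
    obtain ⟨b, c, hab, hac, hbc⟩ : ∃ b c : Fin (n + 2), a ≠ b ∧ a ≠ c ∧ b ≠ c := by
      classical
      have c1 : 2 ≤ ((Finset.univ : Finset (Fin (n + 2))).erase a).card := by
        rw [Finset.card_erase_of_mem (Finset.mem_univ a), Finset.card_univ, Fintype.card_fin]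
        omega
      obtain ⟨b, hb, c, hc, hbc⟩ := Finset.one_lt_card.1 (lt_of_lt_of_le one_lt_two c1)
      exact ⟨b, c, (Finset.ne_of_mem_erase hb).symm, (Finset.ne_of_mem_erase hc).symm, hbc⟩
    have k1 := key a b hab
    have k2 := key a c hac
    have k3 := key b c hbc
    have k4 : g0 i a * g a = -1 := by omega
    rcases g0_cases i a with h | h <;> rw [h] at k4 ⊢ <;> omega
  have h4 : ∑ j, g j = -∑ j, g0 i j := by
    rw [← Finset.sum_neg_distrib]
    exact Finset.sum_congr rfl fun j _ => key2 j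
  have h5 : ∀ s : Finset (Fin (n + 2)), (∑ j ∈ s, g0 i j - s.card) % 2 = 0 := by
    classical
    intro s
    induction s using Finset.induction_on with
    | empty => simp
    | insert a s ha ih =>
      rw [Finset.sum_insert ha, Finset.card_insert_of_notMem ha]
      push_cast
      rcases g0_cases i a with h | h <;> rw [h] <;> omega
  have h6 := h5 Finset.univ
  rw [Finset.card_univ, Fintype.card_fin] at h6
  push_cast at h6
  omega

/-- **(F)** for the spin nodes. -/
theorem orth_le {i : Fin (n + 2)} (hi : n ≤ (i : ℕ)) {m c : ℕ} (hc : n + 2 = 2 * c)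
    (hF : ∀ s : Finset (Fin (n + 2) → ℤ), (∀ x ∈ s, IsRoot cs (isCartan n) x ∧ x i = 1) →
      (∀ x ∈ s, ∀ y ∈ s, x ≠ y → ¬ IsRoot cs (isCartan n) (x - y)) → m * s.card ≤ 3) : m * c ≤ 3 := by
  classical
  have h1 : ∀ d : Fin c, ∃ x, IsRoot cs (isCartan n) x ∧
      ee x = wt (sp i ⟨2 * d.val, by omega⟩) + wt (sp i ⟨2 * d.val + 1, by omega⟩) := by
    intro d
    refine exists_root (cs := cs) ?_
    intro h
    have := congrArg Fin.val h
    simp [sp] at this
  choose f hf1 hf2 using h1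
  have hip : ∀ d e, d ≠ e → ip (ee (f d)) (ee (f e)) = 0 := by
    intro d e hde
    have hde' : d.val ≠ e.val := fun h => hde (Fin.ext h)
    rw [hf2, hf2, ip_add_left, ip_add_right, ip_add_right, ip_wt_ne, ip_wt_ne, ip_wt_ne, ip_wt_ne] <;>
      (try rfl) <;> (intro h; have := congrArg Fin.val h; simp only [sp] at this; omega)
  have hinj : Function.Injective f := by
    intro d e hde
    by_contra hne
    have h2 := hip d e hne
    rw [hde, ip_root (hf1 e)] at h2
    omega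
  have h2 := hF (Finset.univ.image f) (by
    intro x hx
    obtain ⟨d, -, rfl⟩ := Finset.mem_image.1 hx
    exact ⟨hf1 d, coef_sp hi (hf2 d)⟩) (by
    intro x hx y hy hxy
    obtain ⟨d, -, rfl⟩ := Finset.mem_image.1 hx
    obtain ⟨e, -, rfl⟩ := Finset.mem_image.1 hy
    exact not_sub (hf1 d) (hf1 e) (hip d e (fun h => hxy (by rw [h]))))
  rwa [Finset.card_image_of_injective _ hinj, Finset.card_univ, Fintype.card_fin] at h2

end Nodes

/-! ### The spin nodes of `D_4` -/

/-- `j` is one of the two indices -/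
def In {N : ℕ} (p : Fin N × Fin N) (j : Fin N) : Prop := j = p.1 ∨ j = p.2

instance {N : ℕ} (p : Fin N × Fin N) (j : Fin N) : Decidable (In p j) := by unfold In; infer_instance

def kd {N : ℕ} (p q r : Fin N × Fin N) : Prop :=
  ∃ j k : Fin N, In q j ∧ ¬ In q k ∧ ¬ (In p k ∧ ¬ In p j) ∧ ¬ (In r k ∧ ¬ In r j)

instance {N : ℕ} (p q r : Fin N × Fin N) : Decidable (kd p q r) := by unfold kd; infer_instance

/-- the table of pairs -/
def tb (c : Fin 6) : Fin 4 × Fin 4 :=
  match c with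
  | 0 => (0, 1) | 1 => (0, 2) | 2 => (0, 3) | 3 => (1, 2) | 4 => (1, 3) | 5 => (2, 3)

set_option maxRecDepth 100000 in
theorem kd_all : ∀ p q r : Fin 6, p ≠ q → q ≠ r → p ≠ r →
    kd (tb p) (tb q) (tb r) ∨ kd (tb q) (tb p) (tb r) ∨ kd (tb p) (tb r) (tb q) := by decide

theorem tb_surj : ∀ a b : Fin 4, a ≠ b → ∃ c, tb c = (a, b) ∨ tb c = (b, a) := by decide

theorem tb_ne : ∀ c, (tb c).1 ≠ (tb c).2 := by decide

theorem ip_pair (i : Fin (n + 2)) {p : Fin (n + 2) × Fin (n + 2)} (hp : p.1 ≠ p.2) (j : Fin (n + 2)) :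
    ip (wt (sp i p.1) + wt (sp i p.2)) (wt (sp i j)) = if In p j then 1 else 0 := by
  rw [ip_add_left]
  by_cases h1 : j = p.1
  · rw [if_pos (show In p j from Or.inl h1), h1, ip_wt_self, ip_wt_ne (a := sp i p.2) (b := sp i p.1) hp.symm, add_zero]
  · by_cases h2 : j = p.2
    · rw [if_pos (show In p j from Or.inr h2), h2, ip_wt_self, ip_wt_ne (a := sp i p.1) (b := sp i p.2) hp, zero_add]
    · rw [if_neg (show ¬ In p j from fun h => h.elim h1 h2), ip_wt_ne (a := sp i p.1) (b := sp i j) (Ne.symm h1),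
        ip_wt_ne (a := sp i p.2) (b := sp i j) (Ne.symm h2), add_zero]

section Last

variable {W : Type*} [Group W] {cs : CoxeterSystem (M n) W}

theorem killed_spin {i : Fin (n + 2)} (hi : n ≤ (i : ℕ)) {α β ε : Fin (n + 2) → ℤ}
    (hα : IsRoot cs (isCartan n) α) (hε : IsRoot cs (isCartan n) ε) {p q r : Fin (n + 2) × Fin (n + 2)}
    (hp : p.1 ≠ p.2) (hr : r.1 ≠ r.2)
    (e1 : ee α = wt (sp i p.1) + wt (sp i p.2)) (e2 : ee β = wt (sp i q.1) + wt (sp i q.2))
    (e3 : ee ε = wt (sp i r.1) + wt (sp i r.2)) (hk : kd p q r) : Killed cs (isCartan n) i α β ε := by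
  obtain ⟨j, k, h1, h2, h3, h4⟩ := hk
  have hjk : j ≠ k := fun h => h2 (h ▸ h1)
  obtain ⟨δ, hδ, e⟩ := exists_root (cs := cs) (a := sp i j) (b := ng (sp i k)) hjk
  have key : ∀ (x : Fin (n + 2) → ℤ) (s : Fin (n + 2) × Fin (n + 2)), s.1 ≠ s.2 →
      ee x = wt (sp i s.1) + wt (sp i s.2) → ¬ (In s k ∧ ¬ In s j) → 0 ≤ ip (ee x) (ee δ) := by
    intro x s hs ex hn
    rw [ex, e, ip_add_right, ip_ng_right, ip_pair i hs, ip_pair i hs]
    by_cases c1 : In s k
    · have c2 : In s j := by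
        by_contra c2
        exact hn ⟨c1, c2⟩
      rw [if_pos c1, if_pos c2]
      omega
    · rw [if_neg c1]
      split_ifs <;> omega
  refine ⟨δ, hδ, ?_, ?_, fun h5 => absurd h5 (not_add hα hδ (key α p hp e1 h3)),
    fun h5 => absurd h5 (not_add hε hδ (key ε r hr e3 h4))⟩
  · have h5 : 2 * δ i = ip (g0 i) (ee δ) := coef_spin hi δ
    rw [e, ip_add_right, ip_ng_right, ip_sp, ip_sp] at h5
    rcases g0_cases i j with h6 | h6 <;> rcases g0_cases i k with h7 | h7 <;> rw [h6, h7] at h5 <;> omega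
  · rcases h1 with h1 | h1
    · have hk2 : q.2 ≠ k := fun h => h2 (Or.inr h.symm)
      refine isRoot_of (a := sp i q.2) (b := sp i k) hk2 ?_
      rw [sub_eq_add_neg, ee_add, ee_neg, e2, e, wt_ng, h1]
      abel
    · have hk2 : q.1 ≠ k := fun h => h2 (Or.inl h.symm)
      refine isRoot_of (a := sp i q.1) (b := sp i k) hk2 ?_
      rw [sub_eq_add_neg, ee_add, ee_neg, e2, e, wt_ng, h1]
      abel

end Last

theorem kills_spin {W : Type*} [Group W] {cs : CoxeterSystem (M 2) W} {i : Fin (2 + 2)} (hi : 2 ≤ (i : ℕ)) :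
    Kills cs (isCartan 2) i := by
  have hc : ∀ x, IsRoot cs (isCartan 2) x → x i = 1 → ∃ c, ee x = wt (sp i (tb c).1) + wt (sp i (tb c).2) := by
    intro x hx hx1
    obtain ⟨a, b, hab, e⟩ := of_coef hi hx hx1
    obtain ⟨c, hc | hc⟩ := tb_surj a b hab
    · exact ⟨c, by rw [hc]; exact e⟩
    · exact ⟨c, by rw [hc]; exact e.trans (add_comm _ _)⟩
  intro α β ε hα hβ hε hα1 hβ1 hε1 h1 h2 h3
  obtain ⟨p, e1⟩ := hc α hα hα1
  obtain ⟨q, e2⟩ := hc β hβ hβ1
  obtain ⟨r, e3⟩ := hc ε hε hε1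
  rcases kd_all p q r (fun e => h1 (ee_injective (by rw [e1, e2, e]))) (fun e => h2 (ee_injective (by rw [e2, e3, e])))
    (fun e => h3 (ee_injective (by rw [e1, e3, e]))) with h4 | h4 | h4
  · exact Or.inl (killed_spin hi hα hε (tb_ne p) (tb_ne r) e1 e2 e3 h4)
  · exact Or.inr (Or.inl (killed_spin hi hβ hε (tb_ne q) (tb_ne r) e2 e1 e3 h4))
  · exact Or.inr (Or.inr (killed_spin hi hα hβ (tb_ne p) (tb_ne q) e1 e3 e2 h4))

/-- **Type `D_{n+2}`, `n ≥ 2`.** -/
theorem list_D {W : Type*} [Group W] {cs : CoxeterSystem (M n) W} {B : Fin (n + 2) → Fin (n + 2) → ℤ}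
    {h : IsCartan (M n) B} {i : Fin (n + 2)} {m : ℕ} (hn : 2 ≤ n) (hm : 1 ≤ m) (N : NodeOK cs h i m)
    (hG : m = 1 → ¬ Kills cs h i) : n = 4 ∧ (i.val = 4 ∨ i.val = 5) ∧ m = 1 := by
  obtain rfl := A_eq h
  have hi2 := i.2
  rcases node_cases N.le_one with h1 | h1
  · exfalso
    have hi : i = 0 := Fin.ext h1
    subst hi
    have h01 : ((0 : Fin (n + 2)), true).1 ≠ ((1 : Fin (n + 2)), true).1 := by simp
    have h02 : ((0 : Fin (n + 2)), true).1 ≠ ((1 : Fin (n + 2)), false).1 := by simp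
    obtain ⟨x, hx, ex⟩ := exists_root (cs := cs) h01
    obtain ⟨y, hy, ey⟩ := exists_root (cs := cs) h02
    have hx0 : x 0 = 1 := by
      rw [coef_zero (by omega) x, ex]
      simp [wt_apply]
    have hy0 : y 0 = 1 := by
      rw [coef_zero (by omega) y, ey]
      simp [wt_apply]
    have hxy : ip (ee x) (ee y) = 0 := by
      rw [ex, ey, ip_add_left, ip_add_right, ip_add_right, ip_wt_self, ip_wt_ne h02, ip_wt_ne (Ne.symm h01), ip_wt,
        if_pos rfl, if_neg (by simp)]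
      rfl
    have hne : x ≠ y := by
      intro e
      rw [e, ip_root hy] at hxy
      omega
    have h2 := N.orth {x, y} (by
      intro z hz
      rw [Finset.mem_insert, Finset.mem_singleton] at hz
      rcases hz with rfl | rfl
      · exact ⟨hx, hx0⟩
      · exact ⟨hy, hy0⟩) (by
      intro z hz z' hz' hne'
      rw [Finset.mem_insert, Finset.mem_singleton] at hz hz'
      rcases hz with rfl | rfl <;> rcases hz' with rfl | rfl
      · exact absurd rfl hne'
      · exact not_sub hx hy hxy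
      · exact not_sub hy hx (by rw [ip_comm]; exact hxy)
      · exact absurd rfl hne')
    rw [Finset.card_pair hne] at h2
    exact hG (by omega) (kills_zero hn)
  · have h2 := even_of_opp hn h1 N.opp
    obtain ⟨c, hc⟩ : ∃ c, n + 2 = 2 * c := ⟨(n + 2) / 2, by omega⟩
    have h3 := orth_le h1 hc N.orth
    have h4 : c ≤ 3 := by
      have : 1 * c ≤ m * c := Nat.mul_le_mul_right c hm
      omega
    have h5 : m = 1 := by
      by_contra h6
      have : 2 * c ≤ m * c := Nat.mul_le_mul_right c (by omega)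
      omega
    obtain h6 | h6 : n = 2 ∨ n = 4 := by omega
    · exfalso
      subst h6
      exact hG h5 (kills_spin h1)
    · refine ⟨h6, ?_, h5⟩
      omega

end Cfsg.Agent.Omega.EH3.Kf.ListD
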