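import Cfsg.Agent.Omega.EH3.Kf.Node

/-!
# EH3, Lie rows in characteristic 2: piece K5, types `E_6`, `E_7`, `E_8` (helper827; blueprints/OMEGA-EH3-KF3-helper227.md)

* `list_E6 : ¬ NodeOK cs h i m` (`1 ≤ m`);
* `list_E7 : NodeOK cs h i m` (`1 ≤ m`) ==> `i = 6`, `m = 1`;
* `list_E8 : ¬ NodeOK cs h i m`.
-/

set_option autoImplicit false
set_option linter.unusedSectionVars false

namespace Cfsg.Agent.Omega.EH3.Kf.ListE

open CoxeterSystem CoxeterMatrix Cfsg.Agent.ChevalleyStructure.CoxeterGeom Cfsg.Agent.Tits.Roots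
  Cfsg.Agent.Omega.EH3.Kf.Node

section General

variable {I W : Type*} [Fintype I] [DecidableEq I] [Group W] {M : CoxeterMatrix I} {cs : CoxeterSystem M W}
  {A : I → I → ℤ} {h : IsCartan M A}

theorem base {x : I → ℤ} (j : I) (e : ∀ k, x k = if k = j then 1 else 0) : IsRoot cs h x := by
  have h1 : x = sr j := by
    funext k
    rw [e k, sr, Pi.single_apply]
  rw [h1]
  exact isRoot_sr cs h j

theorem up {x y : I → ℤ} (j : I) (hx : IsRoot cs h x) (hp : pairing A j x = -1)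
    (e : ∀ k, y k = x k + if k = j then 1 else 0) : IsRoot cs h y := by
  have h1 := hx.act (cs.simple j)
  rw [rep_simple, refl_apply, hp] at h1
  have h2 : y = x - Pi.single j (-1) := by
    funext k
    rw [e k, Pi.sub_apply, Pi.single_apply]
    split_ifs <;> omega
  rwa [h2]

/-- the quadratic form -/
def bq (A : I → I → ℤ) (x y : I → ℤ) : ℤ := ∑ i, x i * pairing A i y

theorem bq_sub_right (x y z : I → ℤ) : bq A x (y - z) = bq A x y - bq A x z := by
  have : ∀ i, pairing A i (y - z) = pairing A i y - pairing A i z := fun i => by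
    simp only [pairing, Pi.sub_apply, mul_sub, Finset.sum_sub_distrib]
  simp only [bq, this, mul_sub, Finset.sum_sub_distrib]

theorem bq_sub_left (x y z : I → ℤ) : bq A (x - y) z = bq A x z - bq A y z := by
  simp only [bq, Pi.sub_apply, sub_mul, Finset.sum_sub_distrib]

theorem bq_comm (hA : ∀ i j, A i j = A j i) (x y : I → ℤ) : bq A x y = bq A y x := by
  simp only [bq, pairing, Finset.mul_sum]
  rw [Finset.sum_comm]
  refine Finset.sum_congr rfl fun i _ => Finset.sum_congr rfl fun j _ => ?_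
  rw [hA j i]
  ring

theorem bq_single_left (j : I) (c : ℤ) (y : I → ℤ) : bq A (Pi.single j c) y = c * pairing A j y := by
  simp only [bq, Pi.single_apply, ite_mul, zero_mul, Finset.sum_ite_eq', Finset.mem_univ, if_true]

theorem bq_root (hA : ∀ i j, A i j = A j i) {x : I → ℤ} (hx : IsRoot cs h x) : bq A x x = 2 := by
  obtain ⟨w, i, rfl⟩ := hx
  induction w using cs.simple_induction_left with
  | one =>
    rw [map_one, Module.End.one_apply, sr, bq_single_left, pairing_single, h.diag]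
    rfl
  | mul_simple_left w j ih =>
    rw [rep_mul_apply, rep_simple, refl_apply, bq_sub_left, bq_sub_right, bq_sub_right, ih, bq_single_left,
      bq_single_left, bq_comm hA _ (Pi.single j _), bq_single_left, pairing_single, h.diag]
    ring

/-- A functional invariant modulo three. -/
theorem mod_three (c : I → ℤ) (hc : ∀ j, (∑ k, c k * A j k) % 3 = 0) (i : I) (w : W) :
    (∑ k, c k * (rep cs h w (sr k)) i - c i) % 3 = 0 := by
  induction w using cs.simple_induction_right with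
  | one =>
    have h1 : ∑ k, c k * (rep cs h (1 : W) (sr k)) i = c i := by
      simp only [map_one, Module.End.one_apply, sr, Pi.single_apply, mul_ite, mul_one, mul_zero,
        Finset.sum_ite_eq, Finset.mem_univ, if_true]
    rw [h1, sub_self]
    rfl
  | mul_simple_right w j ih =>
    have h1 : ∀ k, (rep cs h (w * cs.simple j) (sr k)) i = (rep cs h w (sr k)) i - A j k * (rep cs h w (sr j)) i := by
      intro k
      have h2 : refl A j (sr k) = sr k - A j k • sr j := by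
        rw [refl_apply]
        congr 1
        rw [sr, pairing_single, mul_one]
        funext l
        rw [Pi.single_apply, Pi.smul_apply, sr, Pi.single_apply]
        split_ifs <;> simp
      rw [rep_mul_apply, rep_simple, h2, map_sub, map_smul, Pi.sub_apply, Pi.smul_apply, smul_eq_mul]
    have h2 : ∑ k, c k * (rep cs h (w * cs.simple j) (sr k)) i =
        ∑ k, c k * (rep cs h w (sr k)) i - (∑ k, c k * A j k) * (rep cs h w (sr j)) i := by
      rw [Finset.sum_mul, ← Finset.sum_sub_distrib]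
      exact Finset.sum_congr rfl fun k _ => by rw [h1]; ring
    obtain ⟨d, hd⟩ : ∃ d, ∑ k, c k * A j k = 3 * d := ⟨_, (Int.mul_ediv_cancel' (Int.dvd_of_emod_eq_zero (hc j))).symm⟩
    rw [h2, hd, mul_assoc]
    omega

theorem opp_zero {i k : I} {w : W} (hw : ∀ x, IsRoot cs h x → x i = 1 → (rep cs h w x) i = -1)
    {x y : I → ℤ} (hx : IsRoot cs h x) (hy : IsRoot cs h y) (hx1 : x i = 1) (hy1 : y i = 1)
    (e : ∀ l, y l = x l + if l = k then 1 else 0) : (rep cs h w (sr k)) i = 0 := by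
  have h1 : y = x + sr k := by
    funext l
    rw [e l, Pi.add_apply, sr, Pi.single_apply]
  have h2 := hw y hy hy1
  rw [h1, map_add, Pi.add_apply, hw x hx hx1] at h2
  omega

end General

/-- The Cartan matrix of type `E_6`. -/
def C6 : Fin 6 → Fin 6 → ℤ :=
  ![![2, 0, -1, 0, 0, 0],
    ![0, 2, 0, -1, 0, 0],
    ![-1, 0, 2, -1, 0, 0],
    ![0, -1, -1, 2, -1, 0],
    ![0, 0, 0, -1, 2, -1],
    ![0, 0, 0, 0, -1, 2]]

set_option backward.isDefEq.respectTransparency false in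
set_option maxRecDepth 100000 in
theorem ne6 : ∀ i j : Fin 6, E₆ i j ≠ 4 ∧ E₆ i j ≠ 6 := by decide

set_option maxRecDepth 100000 in
theorem tab6 : ∀ i j, (if i = j then 2 else if E₆ i j = 3 then -1 else 0) = C6 i j := by decide

theorem A_eq6 {A : Fin 6 → Fin 6 → ℤ} (h : IsCartan E₆ A) : A = C6 := by
  funext i j
  rw [Nodes.SimplyLaced.cart_eq (fun i j => (ne6 i j).1) (fun i j => (ne6 i j).2) h, tab6]

/-- The Cartan matrix of type `E_7`. -/
def C7 : Fin 7 → Fin 7 → ℤ :=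
  ![![2, 0, -1, 0, 0, 0, 0],
    ![0, 2, 0, -1, 0, 0, 0],
    ![-1, 0, 2, -1, 0, 0, 0],
    ![0, -1, -1, 2, -1, 0, 0],
    ![0, 0, 0, -1, 2, -1, 0],
    ![0, 0, 0, 0, -1, 2, -1],
    ![0, 0, 0, 0, 0, -1, 2]]

set_option backward.isDefEq.respectTransparency false in
set_option maxRecDepth 100000 in
theorem ne7 : ∀ i j : Fin 7, E₇ i j ≠ 4 ∧ E₇ i j ≠ 6 := by decide

set_option maxRecDepth 100000 in
theorem tab7 : ∀ i j, (if i = j then 2 else if E₇ i j = 3 then -1 else 0) = C7 i j := by decide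

theorem A_eq7 {A : Fin 7 → Fin 7 → ℤ} (h : IsCartan E₇ A) : A = C7 := by
  funext i j
  rw [Nodes.SimplyLaced.cart_eq (fun i j => (ne7 i j).1) (fun i j => (ne7 i j).2) h, tab7]

/-- The Cartan matrix of type `E_8`. -/
def C8 : Fin 8 → Fin 8 → ℤ :=
  ![![2, 0, -1, 0, 0, 0, 0, 0],
    ![0, 2, 0, -1, 0, 0, 0, 0],
    ![-1, 0, 2, -1, 0, 0, 0, 0],
    ![0, -1, -1, 2, -1, 0, 0, 0],
    ![0, 0, 0, -1, 2, -1, 0, 0],
    ![0, 0, 0, 0, -1, 2, -1, 0],
    ![0, 0, 0, 0, 0, -1, 2, -1],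
    ![0, 0, 0, 0, 0, 0, -1, 2]]

set_option backward.isDefEq.respectTransparency false in
set_option maxRecDepth 100000 in
theorem ne8 : ∀ i j : Fin 8, E₈ i j ≠ 4 ∧ E₈ i j ≠ 6 := by decide

set_option maxRecDepth 100000 in
theorem tab8 : ∀ i j, (if i = j then 2 else if E₈ i j = 3 then -1 else 0) = C8 i j := by decide

theorem A_eq8 {A : Fin 8 → Fin 8 → ℤ} (h : IsCartan E₈ A) : A = C8 := by
  funext i j
  rw [Nodes.SimplyLaced.cart_eq (fun i j => (ne8 i j).1) (fun i j => (ne8 i j).2) h, tab8]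

theorem top8 {W : Type*} [Group W] (cs : CoxeterSystem E₈ W) (h : IsCartan E₈ C8) :
    IsRoot cs h ![2, 3, 4, 6, 5, 4, 3, 2] := by
  have r0 : IsRoot cs h ![0, 0, 0, 0, 0, 0, 0, 1] := base 7 (by decide)
  have r1 : IsRoot cs h ![0, 0, 0, 0, 0, 0, 1, 1] := up 6 r0 (by decide) (by decide)
  have r2 : IsRoot cs h ![0, 0, 0, 0, 0, 1, 1, 1] := up 5 r1 (by decide) (by decide)
  have r3 : IsRoot cs h ![0, 0, 0, 0, 1, 1, 1, 1] := up 4 r2 (by decide) (by decide)
  have r4 : IsRoot cs h ![0, 0, 0, 1, 1, 1, 1, 1] := up 3 r3 (by decide) (by decide)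
  have r5 : IsRoot cs h ![0, 0, 1, 1, 1, 1, 1, 1] := up 2 r4 (by decide) (by decide)
  have r6 : IsRoot cs h ![0, 1, 1, 1, 1, 1, 1, 1] := up 1 r5 (by decide) (by decide)
  have r7 : IsRoot cs h ![0, 1, 1, 2, 1, 1, 1, 1] := up 3 r6 (by decide) (by decide)
  have r8 : IsRoot cs h ![0, 1, 1, 2, 2, 1, 1, 1] := up 4 r7 (by decide) (by decide)
  have r9 : IsRoot cs h ![0, 1, 1, 2, 2, 2, 1, 1] := up 5 r8 (by decide) (by decide)
  have r10 : IsRoot cs h ![0, 1, 1, 2, 2, 2, 2, 1] := up 6 r9 (by decide) (by decide)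
  have r11 : IsRoot cs h ![1, 1, 1, 2, 2, 2, 2, 1] := up 0 r10 (by decide) (by decide)
  have r12 : IsRoot cs h ![1, 1, 2, 2, 2, 2, 2, 1] := up 2 r11 (by decide) (by decide)
  have r13 : IsRoot cs h ![1, 1, 2, 3, 2, 2, 2, 1] := up 3 r12 (by decide) (by decide)
  have r14 : IsRoot cs h ![1, 1, 2, 3, 3, 2, 2, 1] := up 4 r13 (by decide) (by decide)
  have r15 : IsRoot cs h ![1, 1, 2, 3, 3, 3, 2, 1] := up 5 r14 (by decide) (by decide)
  have r16 : IsRoot cs h ![1, 2, 2, 3, 3, 3, 2, 1] := up 1 r15 (by decide) (by decide)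
  have r17 : IsRoot cs h ![1, 2, 2, 4, 3, 3, 2, 1] := up 3 r16 (by decide) (by decide)
  have r18 : IsRoot cs h ![1, 2, 2, 4, 4, 3, 2, 1] := up 4 r17 (by decide) (by decide)
  have r19 : IsRoot cs h ![1, 2, 3, 4, 4, 3, 2, 1] := up 2 r18 (by decide) (by decide)
  have r20 : IsRoot cs h ![1, 2, 3, 5, 4, 3, 2, 1] := up 3 r19 (by decide) (by decide)
  have r21 : IsRoot cs h ![2, 2, 3, 5, 4, 3, 2, 1] := up 0 r20 (by decide) (by decide)
  have r22 : IsRoot cs h ![2, 2, 4, 5, 4, 3, 2, 1] := up 2 r21 (by decide) (by decide)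
  have r23 : IsRoot cs h ![2, 3, 4, 5, 4, 3, 2, 1] := up 1 r22 (by decide) (by decide)
  have r24 : IsRoot cs h ![2, 3, 4, 6, 4, 3, 2, 1] := up 3 r23 (by decide) (by decide)
  have r25 : IsRoot cs h ![2, 3, 4, 6, 5, 3, 2, 1] := up 4 r24 (by decide) (by decide)
  have r26 : IsRoot cs h ![2, 3, 4, 6, 5, 4, 2, 1] := up 5 r25 (by decide) (by decide)
  have r27 : IsRoot cs h ![2, 3, 4, 6, 5, 4, 3, 1] := up 6 r26 (by decide) (by decide)
  have r28 : IsRoot cs h ![2, 3, 4, 6, 5, 4, 3, 2] := up 7 r27 (by decide) (by decide)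
  exact r28

theorem top7 {W : Type*} [Group W] (cs : CoxeterSystem E₇ W) (h : IsCartan E₇ C7) :
    IsRoot cs h ![2, 2, 3, 4, 3, 2, 1] := by
  have r0 : IsRoot cs h ![0, 0, 0, 0, 0, 0, 1] := base 6 (by decide)
  have r1 : IsRoot cs h ![0, 0, 0, 0, 0, 1, 1] := up 5 r0 (by decide) (by decide)
  have r2 : IsRoot cs h ![0, 0, 0, 0, 1, 1, 1] := up 4 r1 (by decide) (by decide)
  have r3 : IsRoot cs h ![0, 0, 0, 1, 1, 1, 1] := up 3 r2 (by decide) (by decide)
  have r4 : IsRoot cs h ![0, 0, 1, 1, 1, 1, 1] := up 2 r3 (by decide) (by decide)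
  have r5 : IsRoot cs h ![0, 1, 1, 1, 1, 1, 1] := up 1 r4 (by decide) (by decide)
  have r6 : IsRoot cs h ![0, 1, 1, 2, 1, 1, 1] := up 3 r5 (by decide) (by decide)
  have r7 : IsRoot cs h ![0, 1, 1, 2, 2, 1, 1] := up 4 r6 (by decide) (by decide)
  have r8 : IsRoot cs h ![0, 1, 1, 2, 2, 2, 1] := up 5 r7 (by decide) (by decide)
  have r9 : IsRoot cs h ![1, 1, 1, 2, 2, 2, 1] := up 0 r8 (by decide) (by decide)
  have r10 : IsRoot cs h ![1, 1, 2, 2, 2, 2, 1] := up 2 r9 (by decide) (by decide)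
  have r11 : IsRoot cs h ![1, 1, 2, 3, 2, 2, 1] := up 3 r10 (by decide) (by decide)
  have r12 : IsRoot cs h ![1, 1, 2, 3, 3, 2, 1] := up 4 r11 (by decide) (by decide)
  have r13 : IsRoot cs h ![1, 2, 2, 3, 3, 2, 1] := up 1 r12 (by decide) (by decide)
  have r14 : IsRoot cs h ![1, 2, 2, 4, 3, 2, 1] := up 3 r13 (by decide) (by decide)
  have r15 : IsRoot cs h ![1, 2, 3, 4, 3, 2, 1] := up 2 r14 (by decide) (by decide)
  have r16 : IsRoot cs h ![2, 2, 3, 4, 3, 2, 1] := up 0 r15 (by decide) (by decide)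
  exact r16

theorem mid7 {W : Type*} [Group W] (cs : CoxeterSystem E₇ W) (h : IsCartan E₇ C7) :
    IsRoot cs h ![0, 1, 1, 2, 2, 2, 1] := by
  have r0 : IsRoot cs h ![0, 0, 0, 0, 0, 0, 1] := base 6 (by decide)
  have r1 : IsRoot cs h ![0, 0, 0, 0, 0, 1, 1] := up 5 r0 (by decide) (by decide)
  have r2 : IsRoot cs h ![0, 0, 0, 0, 1, 1, 1] := up 4 r1 (by decide) (by decide)
  have r3 : IsRoot cs h ![0, 0, 0, 1, 1, 1, 1] := up 3 r2 (by decide) (by decide)
  have r4 : IsRoot cs h ![0, 0, 1, 1, 1, 1, 1] := up 2 r3 (by decide) (by decide)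
  have r5 : IsRoot cs h ![0, 1, 1, 1, 1, 1, 1] := up 1 r4 (by decide) (by decide)
  have r6 : IsRoot cs h ![0, 1, 1, 2, 1, 1, 1] := up 3 r5 (by decide) (by decide)
  have r7 : IsRoot cs h ![0, 1, 1, 2, 2, 1, 1] := up 4 r6 (by decide) (by decide)
  have r8 : IsRoot cs h ![0, 1, 1, 2, 2, 2, 1] := up 5 r7 (by decide) (by decide)
  exact r8

theorem top6 {W : Type*} [Group W] (cs : CoxeterSystem E₆ W) (h : IsCartan E₆ C6) :
    IsRoot cs h ![1, 2, 2, 3, 2, 1] := by
  have r0 : IsRoot cs h ![0, 0, 0, 0, 0, 1] := base 5 (by decide)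
  have r1 : IsRoot cs h ![0, 0, 0, 0, 1, 1] := up 4 r0 (by decide) (by decide)
  have r2 : IsRoot cs h ![0, 0, 0, 1, 1, 1] := up 3 r1 (by decide) (by decide)
  have r3 : IsRoot cs h ![0, 0, 1, 1, 1, 1] := up 2 r2 (by decide) (by decide)
  have r4 : IsRoot cs h ![0, 1, 1, 1, 1, 1] := up 1 r3 (by decide) (by decide)
  have r5 : IsRoot cs h ![0, 1, 1, 2, 1, 1] := up 3 r4 (by decide) (by decide)
  have r6 : IsRoot cs h ![0, 1, 1, 2, 2, 1] := up 4 r5 (by decide) (by decide)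
  have r7 : IsRoot cs h ![1, 1, 1, 2, 2, 1] := up 0 r6 (by decide) (by decide)
  have r8 : IsRoot cs h ![1, 1, 2, 2, 2, 1] := up 2 r7 (by decide) (by decide)
  have r9 : IsRoot cs h ![1, 1, 2, 3, 2, 1] := up 3 r8 (by decide) (by decide)
  have r10 : IsRoot cs h ![1, 2, 2, 3, 2, 1] := up 1 r9 (by decide) (by decide)
  exact r10

theorem opp6_zero {W : Type*} [Group W] {cs : CoxeterSystem E₆ W} {h : IsCartan E₆ C6} {w : W}
    (hw : ∀ x, IsRoot cs h x → x 0 = 1 → (rep cs h w x) 0 = -1) : False := by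
  have r0 : IsRoot cs h ![1, 0, 0, 0, 0, 0] := base 0 (by decide)
  have r2 : IsRoot cs h ![1, 0, 1, 0, 0, 0] := up 2 r0 (by decide) (by decide)
  have z2 := opp_zero (k := 2) hw r0 r2 (by decide) (by decide) (by decide)
  have r3 : IsRoot cs h ![1, 0, 1, 1, 0, 0] := up 3 r2 (by decide) (by decide)
  have z3 := opp_zero (k := 3) hw r2 r3 (by decide) (by decide) (by decide)
  have r1 : IsRoot cs h ![1, 1, 1, 1, 0, 0] := up 1 r3 (by decide) (by decide)
  have z1 := opp_zero (k := 1) hw r3 r1 (by decide) (by decide) (by decide)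
  have r4 : IsRoot cs h ![1, 0, 1, 1, 1, 0] := up 4 r3 (by decide) (by decide)
  have z4 := opp_zero (k := 4) hw r3 r4 (by decide) (by decide) (by decide)
  have r5 : IsRoot cs h ![1, 0, 1, 1, 1, 1] := up 5 r4 (by decide) (by decide)
  have z5 := opp_zero (k := 5) hw r4 r5 (by decide) (by decide) (by decide)
  have zi := hw _ (isRoot_sr cs h 0) (sr_self 0)
  have h1 := mod_three (cs := cs) (h := h) ![1, 0, 2, 0, 1, 2] (by decide) 0 w
  rw [Fin.sum_univ_six, z1, z2, z3, z4, z5, zi] at h1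
  revert h1
  decide

theorem opp6_five {W : Type*} [Group W] {cs : CoxeterSystem E₆ W} {h : IsCartan E₆ C6} {w : W}
    (hw : ∀ x, IsRoot cs h x → x 5 = 1 → (rep cs h w x) 5 = -1) : False := by
  have r5 : IsRoot cs h ![0, 0, 0, 0, 0, 1] := base 5 (by decide)
  have r4 : IsRoot cs h ![0, 0, 0, 0, 1, 1] := up 4 r5 (by decide) (by decide)
  have z4 := opp_zero (k := 4) hw r5 r4 (by decide) (by decide) (by decide)
  have r3 : IsRoot cs h ![0, 0, 0, 1, 1, 1] := up 3 r4 (by decide) (by decide)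
  have z3 := opp_zero (k := 3) hw r4 r3 (by decide) (by decide) (by decide)
  have r1 : IsRoot cs h ![0, 1, 0, 1, 1, 1] := up 1 r3 (by decide) (by decide)
  have z1 := opp_zero (k := 1) hw r3 r1 (by decide) (by decide) (by decide)
  have r2 : IsRoot cs h ![0, 0, 1, 1, 1, 1] := up 2 r3 (by decide) (by decide)
  have z2 := opp_zero (k := 2) hw r3 r2 (by decide) (by decide) (by decide)
  have r0 : IsRoot cs h ![1, 0, 1, 1, 1, 1] := up 0 r2 (by decide) (by decide)
  have z0 := opp_zero (k := 0) hw r2 r0 (by decide) (by decide) (by decide)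
  have zi := hw _ (isRoot_sr cs h 5) (sr_self 5)
  have h1 := mod_three (cs := cs) (h := h) ![1, 0, 2, 0, 1, 2] (by decide) 5 w
  rw [Fin.sum_univ_six, z0, z1, z2, z3, z4, zi] at h1
  revert h1
  decide

/-- **Type `E_6`.** -/
theorem list_E6 {W : Type*} [Group W] {cs : CoxeterSystem E₆ W} {A : Fin 6 → Fin 6 → ℤ} {h : IsCartan E₆ A}
    {i : Fin 6} {m : ℕ} : ¬ NodeOK cs h i m := by
  intro N
  obtain rfl := A_eq6 h
  obtain ⟨w, hw⟩ := N.opp
  have h1 := N.le_one _ (top6 cs h)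
  have h2 : i = 0 ∨ i = 5 := by
    revert h1
    clear N hw
    revert i
    decide
  rcases h2 with rfl | rfl
  · exact opp6_zero hw
  · exact opp6_five hw

/-- **Type `E_7`.** -/
theorem list_E7 {W : Type*} [Group W] {cs : CoxeterSystem E₇ W} {A : Fin 7 → Fin 7 → ℤ} {h : IsCartan E₇ A}
    {i : Fin 7} {m : ℕ} (hm : 1 ≤ m) (N : NodeOK cs h i m) : i = 6 ∧ m = 1 := by
  obtain rfl := A_eq7 h
  have h1 := N.le_one _ (top7 cs h)
  have h2 : i = 6 := by
    revert h1
    clear N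
    revert i
    decide
  subst h2
  refine ⟨rfl, ?_⟩
  have hsymm : ∀ i j, C7 i j = C7 j i := by decide
  have r1 := top7 cs h
  have r2 := mid7 cs h
  have r3 : IsRoot cs h ![0, 0, 0, 0, 0, 0, 1] := base 6 (by decide)
  have key : ∀ x y, IsRoot cs h x → IsRoot cs h y → bq C7 x y = 0 → ¬ IsRoot cs h (x - y) := by
    intro x y hx hy hxy hr
    have h3 := bq_root hsymm hr
    rw [bq_sub_left, bq_sub_right, bq_sub_right, bq_root hsymm hx, bq_root hsymm hy, hxy, bq_comm hsymm y x, hxy] at h3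
    omega
  have o12 : bq C7 ![2, 2, 3, 4, 3, 2, 1] ![0, 1, 1, 2, 2, 2, 1] = 0 := by decide
  have o13 : bq C7 ![2, 2, 3, 4, 3, 2, 1] ![0, 0, 0, 0, 0, 0, 1] = 0 := by decide
  have o23 : bq C7 ![0, 1, 1, 2, 2, 2, 1] ![0, 0, 0, 0, 0, 0, 1] = 0 := by decide
  have h3 := N.orth {![2, 2, 3, 4, 3, 2, 1], ![0, 1, 1, 2, 2, 2, 1], ![0, 0, 0, 0, 0, 0, 1]} (by
    intro x hx
    simp only [Finset.mem_insert, Finset.mem_singleton] at hx
    rcases hx with rfl | rfl | rfl
    · exact ⟨r1, by decide⟩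
    · exact ⟨r2, by decide⟩
    · exact ⟨r3, by decide⟩) (by
    intro x hx y hy hxy
    simp only [Finset.mem_insert, Finset.mem_singleton] at hx hy
    rcases hx with rfl | rfl | rfl <;> rcases hy with rfl | rfl | rfl
    · exact absurd rfl hxy
    · exact key _ _ r1 r2 o12
    · exact key _ _ r1 r3 o13
    · exact key _ _ r2 r1 (by rw [bq_comm hsymm]; exact o12)
    · exact absurd rfl hxy
    · exact key _ _ r2 r3 o23
    · exact key _ _ r3 r1 (by rw [bq_comm hsymm]; exact o13)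
    · exact key _ _ r3 r2 (by rw [bq_comm hsymm]; exact o23)
    · exact absurd rfl hxy)
  have h4 : ({![2, 2, 3, 4, 3, 2, 1], ![0, 1, 1, 2, 2, 2, 1], ![0, 0, 0, 0, 0, 0, 1]} : Finset (Fin 7 → ℤ)).card = 3 := by
    decide
  rw [h4] at h3
  omega

/-- **Type `E_8`.** -/
theorem list_E8 {W : Type*} [Group W] {cs : CoxeterSystem E₈ W} {A : Fin 8 → Fin 8 → ℤ} {h : IsCartan E₈ A}
    {i : Fin 8} {m : ℕ} : ¬ NodeOK cs h i m := by
  intro N
  obtain rfl := A_eq8 h
  have h1 := N.le_one _ (top8 cs h)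
  revert h1
  clear N
  revert i
  decide

end Cfsg.Agent.Omega.EH3.Kf.ListE
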