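import Cfsg.Agent.Nodes.RGDLift
import Cfsg.Agent.KFacts.ChevTwoSys

/-!
# Root group data over a central quotient of order prime to `p` (EH3, Lie rows, front; helper909)

`Over f cs h p T n X T' n' X'` : the root group datum `(T, n, X)` of `Y` lies over the root group datum
`(T', n', X')` of `Y'`: `f : Y → Y'` is onto and injective on `p`-subgroups, `X x` = the `p`-elements over `X' x`.

* `exists_over` : existence (`Y` finite and perfect, `ker f` central of order prime to `p`);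
* `Over.card_X`, `Over.map_Sup`, `Over.eq_of_map`, `Over.le_of_map`, `Over.comm_iff`, `Over.commutator_eq` :
  transfer of the properties of the root groups;
* `exists_sys` : the coordinates `Sys` (characteristic two, no triple bonds) are lifted as well.
-/

set_option autoImplicit false
set_option linter.unusedSectionVars false
set_option linter.dupNamespace false

namespace Cfsg.Agent.Omega.EH3.Kf.Over

open CoxeterSystem Cfsg.Agent.ChevalleyStructure.CoxeterGeom Cfsg.Agent.Tits.Roots Cfsg.Agent.Tits.Core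
  Cfsg.Agent.Tits.RootComb Cfsg.Agent.Nodes.Comb Cfsg.Agent.Nodes.Reps Cfsg.Agent.Nodes.BNOf
  Cfsg.Agent.Nodes.RGDLib Cfsg.Agent.Nodes.RGDLift Cfsg.Agent.Nodes.Bruhat Cfsg.Agent.Nodes.Coroot
  Cfsg.Agent.KFacts.ChevTwo Cfsg.Agent.Nodes.PosPair
open scoped commutatorElement

variable {I W Y Y' : Type*} [Fintype I] [DecidableEq I] [Group W] [Group Y] [Group Y']
  {M : CoxeterMatrix I}

/-- The root group datum of `Y` lies over the root group datum of `Y'`. -/
structure Over (f : Y →* Y') (cs : CoxeterSystem M W) {A : I → I → ℤ} (h : IsCartan M A) (p : ℕ) (T : Subgroup Y)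
    (n : I → Y) (X : (I → ℤ) → Subgroup Y) (T' : Subgroup Y') (n' : I → Y') (X' : (I → ℤ) → Subgroup Y') :
    Prop where
  rgd : RGD cs h p T n X
  rgd' : RGD cs h p T' n' X'
  G1 : G1 cs h X = ⊤
  surj : Function.Surjective f
  T_eq : T = T'.comap f
  n_map : ∀ i, f (n i) = n' i
  X_map : ∀ x, IsRoot cs h x → (X x).map f = X' x
  mem_X : ∀ x, IsRoot cs h x → ∀ y, y ∈ X x ↔ f y ∈ X' x ∧ ∃ k : ℕ, y ^ p ^ k = 1
  inj : ∀ y : Y, (∃ k : ℕ, y ^ p ^ k = 1) → f y = 1 → y = 1

variable {cs : CoxeterSystem M W} {A : I → I → ℤ} {h : IsCartan M A} {p : ℕ}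
  {T : Subgroup Y} {n : I → Y} {X : (I → ℤ) → Subgroup Y}
  {T' : Subgroup Y'} {n' : I → Y'} {X' : (I → ℤ) → Subgroup Y'} {f : Y →* Y'}

/-- A perfect group is generated by a subgroup covering a central quotient. -/
theorem eq_top_of_perfect (hf : f.ker ≤ Subgroup.center Y) (hY : commutator Y = ⊤) {H : Subgroup Y}
    (hH : H.map f = ⊤) : H = ⊤ := by
  rw [eq_top_iff, ← hY, commutator_def, Subgroup.commutator_le]
  intro a _ b _
  have key : ∀ a : Y, ∃ z ∈ Subgroup.center Y, ∃ k ∈ H, a = z * k := by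
    intro a
    have h1 : f a ∈ H.map f := by rw [hH]; exact Subgroup.mem_top _
    obtain ⟨k, hk, e⟩ := h1
    refine ⟨a * k⁻¹, hf ?_, k, hk, by group⟩
    rw [MonoidHom.mem_ker, map_mul, map_inv, e, mul_inv_cancel]
  obtain ⟨z, hz, k, hk, rfl⟩ := key a
  obtain ⟨z', hz', k', hk', rfl⟩ := key b
  rw [Subgroup.mem_center_iff] at hz hz'
  have h1 : ⁅z * k, z' * k'⁆ = ⁅k, k'⁆ := by
    have e1 : z * k * (z' * k') * (z * k)⁻¹ * (z' * k')⁻¹ = z * z' * (k * k') * (z * z')⁻¹ * (k' * k)⁻¹ *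
        (k' * k * k⁻¹ * k'⁻¹) := by
      have a1 := hz' (z * k)
      have a2 := hz (k' * (z'))
      have c1 : ∀ g, z⁻¹ * g = g * z⁻¹ := fun g => by
        have := hz g
        calc z⁻¹ * g = z⁻¹ * (g * z) * z⁻¹ := by group
          _ = z⁻¹ * (z * g) * z⁻¹ := by rw [this]
          _ = g * z⁻¹ := by group
      have c2 : ∀ g, z'⁻¹ * g = g * z'⁻¹ := fun g => by
        have := hz' g
        calc z'⁻¹ * g = z'⁻¹ * (g * z') * z'⁻¹ := by group
          _ = z'⁻¹ * (z' * g) * z'⁻¹ := by rw [this]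
          _ = g * z'⁻¹ := by group
      calc z * k * (z' * k') * (z * k)⁻¹ * (z' * k')⁻¹
          = z * (k * z') * k' * (k⁻¹ * z⁻¹) * (k'⁻¹ * z'⁻¹) := by group
        _ = z * (z' * k) * k' * (z⁻¹ * k⁻¹) * (z'⁻¹ * k'⁻¹) := by rw [hz' k, c1 k⁻¹, c2 k'⁻¹]
        _ = z * z' * (k * k') * (z⁻¹ * (k⁻¹ * z'⁻¹)) * k'⁻¹ := by group
        _ = z * z' * (k * k') * (z⁻¹ * (z'⁻¹ * k⁻¹)) * k'⁻¹ := by rw [c2 k⁻¹]
        _ = z * z' * (k * k') * (z'⁻¹ * z⁻¹) * (k⁻¹ * k'⁻¹) := by rw [← mul_assoc z⁻¹, c1 z'⁻¹]; group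
        _ = _ := by group
    rw [commutatorElement_def, commutatorElement_def, e1]
    have h2 : z * z' * (k * k') = k * k' * (z * z') := by
      calc z * z' * (k * k') = z * (z' * (k * k')) := by group
        _ = z * (k * k' * z') := by rw [hz']
        _ = (z * (k * k')) * z' := by group
        _ = (k * k' * z) * z' := by rw [hz]
        _ = _ := by group
    rw [h2]
    group
  rw [h1, commutatorElement_def]
  exact mul_mem (mul_mem (mul_mem hk hk') (inv_mem hk)) (inv_mem hk')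

/-- **Existence.** -/
theorem exists_over [Finite W] [Finite Y] [Fact p.Prime] (hs : Function.Surjective f)
    (hf : f.ker ≤ Subgroup.center Y) (hp : (Nat.card f.ker).Coprime p) (hY : commutator Y = ⊤)
    (R' : RGD cs h p T' n' X') (hG : Nodes.RGDLib.G1 cs h X' = ⊤) {n : I → Y} (hn : ∀ i, f (n i) = n' i) :
    Over f cs h p (T'.comap f) n (fun x => lft p f (X' x)) T' n' X' := by
  have hmap : ∀ x, IsRoot cs h x → (lft p f (X' x)).map f = X' x := fun x hx =>
    map_lft hf hp hs (R'.pgrp' hx)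
  refine ⟨rgd_lift hf hp hs R' hn, R', ?_, hs, rfl, hn, hmap, fun x hx y => mem_lft hf (R'.pgrp' hx), ?_⟩
  · apply eq_top_of_perfect hf hY
    rw [← hG]
    unfold Nodes.RGDLib.G1 RGD.Sup
    rw [Subgroup.map_iSup]
    exact iSup_congr fun x => hmap _ x.2
  · rintro y ⟨k, hk⟩ h1
    exact eq_one_of_ker hp h1 hk

theorem exists_over' [Finite W] [Finite Y] [Fact p.Prime] (hs : Function.Surjective f)
    (hf : f.ker ≤ Subgroup.center Y) (hp : (Nat.card f.ker).Coprime p) (hY : commutator Y = ⊤)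
    (R' : RGD cs h p T' n' X') (hG : Nodes.RGDLib.G1 cs h X' = ⊤) :
    ∃ (T : Subgroup Y) (n : I → Y) (X : (I → ℤ) → Subgroup Y), Over f cs h p T n X T' n' X' := by
  choose g hg using hs
  exact ⟨_, fun i => g (n' i), _, exists_over (fun y => ⟨g y, hg y⟩) hf hp hY R' hG fun i => hg _⟩

namespace Over

variable (O : Over f cs h p T n X T' n' X')

include O

theorem GG : GG cs h T X = ⊤ := by
  rw [eq_top_iff, ← O.G1]
  exact le_sup_right

theorem inj_on {P : Subgroup Y} (hP : IsPGroup p P) : Set.InjOn f (P : Set Y) := by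
  intro a ha b hb hab
  have h1 : a * b⁻¹ ∈ P := mul_mem ha (inv_mem hb)
  obtain ⟨k, hk⟩ := hP ⟨_, h1⟩
  have h2 := O.inj (a * b⁻¹) ⟨k, by simpa using congrArg Subtype.val hk⟩
    (by rw [map_mul, map_inv, hab, mul_inv_cancel])
  exact mul_inv_eq_one.1 h2

theorem le_of_map {P Q R : Subgroup Y} (hR : IsPGroup p R) (hP : P ≤ R) (hQ : Q ≤ R) (hPQ : P.map f ≤ Q.map f) :
    P ≤ Q := by
  intro a ha
  obtain ⟨b, hb, e⟩ := hPQ (Subgroup.mem_map_of_mem f ha)
  have := O.inj_on hR (hQ hb) (hP ha) e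
  rwa [← this]

theorem eq_of_map {P Q R : Subgroup Y} (hR : IsPGroup p R) (hP : P ≤ R) (hQ : Q ≤ R) (hPQ : P.map f = Q.map f) :
    P = Q :=
  le_antisymm (O.le_of_map hR hP hQ hPQ.le) (O.le_of_map hR hQ hP hPQ.ge)

theorem card_of_map {P : Subgroup Y} (hP : IsPGroup p P) : Nat.card ↥(P.map f) = Nat.card ↥P := by
  have h1 : Function.Injective (f.comp P.subtype) := by
    intro a b hab
    exact Subtype.ext (O.inj_on hP a.2 b.2 hab)
  have h2 : (f.comp P.subtype).range = P.map f := by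
    ext y
    constructor
    · rintro ⟨a, rfl⟩
      exact ⟨a, a.2, rfl⟩
    · rintro ⟨a, ha, rfl⟩
      exact ⟨⟨a, ha⟩, rfl⟩
  rw [← h2]
  exact (Nat.card_congr (MonoidHom.ofInjective h1).toEquiv).symm

theorem card_X [Finite W] {x : I → ℤ} (hx : IsRoot cs h x) : Nat.card ↥(X x) = Nat.card ↥(X' x) := by
  rw [← O.X_map x hx]
  exact (O.card_of_map (O.rgd.pgrp' hx)).symm

theorem map_Sup {S : Set (I → ℤ)} (hS : ∀ x ∈ S, IsRoot cs h x) : (RGD.Sup X S).map f = RGD.Sup X' S := by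
  unfold RGD.Sup
  rw [Subgroup.map_iSup]
  exact iSup_congr fun x => O.X_map _ (hS x.1 x.2)

theorem comm_iff {P : Subgroup Y} (hP : IsPGroup p P) {a b : Y} (ha : a ∈ P) (hb : b ∈ P) :
    a * b = b * a ↔ f a * f b = f b * f a := by
  rw [← map_mul, ← map_mul]
  exact ⟨fun e => by rw [e], fun e => O.inj_on hP (mul_mem ha hb) (mul_mem hb ha) e⟩

/-- Commutators of subgroups of a `p`-group. -/
theorem commutator_eq {P Q Z R : Subgroup Y} (hR : IsPGroup p R) (hP : P ≤ R) (hQ : Q ≤ R) (hZ : Z ≤ R)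
    (e : ⁅P.map f, Q.map f⁆ = Z.map f) : ⁅P, Q⁆ = Z := by
  refine O.eq_of_map hR ?_ hZ (by rw [Subgroup.map_commutator, e])
  rw [Subgroup.commutator_le]
  intro a ha b hb
  rw [commutatorElement_def]
  exact mul_mem (mul_mem (mul_mem (hP ha) (hQ hb)) (inv_mem (hP ha))) (inv_mem (hQ hb))

end Over

/-! ### Coordinates -/

section Sys

variable {F : Type*} [Field F] {e' : (I → ℤ) → F → Y'}

/-- **The lift of the coordinates.** -/
theorem exists_sys [Finite W] [Finite Y] [Fact p.Prime] (hs : Function.Surjective f)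
    (hf : f.ker ≤ Subgroup.center Y) (hp : (Nat.card f.ker).Coprime p) (hY : commutator Y = ⊤)
    {R' : RGD cs h p T' n' X'} (hG : Nodes.RGDLib.G1 cs h X' = ⊤) (S' : Sys R' e') :
    ∃ (T : Subgroup Y) (n : I → Y) (X : (I → ℤ) → Subgroup Y) (e : (I → ℤ) → F → Y)
      (O : Over f cs h p T n X T' n' X'), Sys O.rgd e ∧ ∀ x t, f (e x t) = e' x t := by
  classical
  have hmap : ∀ x, IsRoot cs h x → (lft p f (X' x)).map f = X' x := fun x hx =>
    map_lft hf hp hs (R'.pgrp' hx)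
  have h0 : ∀ x t, ∃ y, f y = e' x t ∧ (IsRoot cs h x → y ∈ lft p f (X' x)) := by
    intro x t
    by_cases hx : IsRoot cs h x
    · have h1 : e' x t ∈ (lft p f (X' x)).map f := by
        rw [hmap x hx]
        exact (S'.mem_X x hx _).2 ⟨t, rfl⟩
      obtain ⟨y, hy, hyx⟩ := h1
      exact ⟨y, hyx, fun _ => hy⟩
    · obtain ⟨y, hy⟩ := hs (e' x t)
      exact ⟨y, hy, fun h1 => absurd h1 hx⟩
  choose e he hel' using h0
  have nc_map : ∀ x c, f (nc e x c) = nc e' x c := fun x c => by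
    rw [nc_def, nc_def, map_mul, map_mul, he, he]
  have nel_map : ∀ x, f (nel e x) = nel e' x := fun x => by
    unfold nel
    exact nc_map x 1
  have hel_map : ∀ x c, f (hel e x c) = hel e' x c := fun x c => by
    rw [hel_def, hel_def, map_mul, nc_map, nel_map]
  have O : Over f cs h p (T'.comap f) (fun i => nel e (sr i)) (fun x => lft p f (X' x)) T' n' X' :=
    exists_over hs hf hp hY R' hG fun i => by rw [nel_map, S'.n_eq]
  -- equality of `p`-elements
  have key : ∀ x, IsRoot cs h x → ∀ a ∈ lft p f (X' x), ∀ t, f a = e' x t → a = e x t := by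
    intro x hx a ha t hat
    exact O.inj_on (isPGroup_lft hf (R'.pgrp' hx)) ha (hel' x t hx) (by rw [hat, he])
  have D := S'.data
  -- conjugation
  have hcj : ∀ (g : Y) (x y : I → ℤ) (t u : F), IsRoot cs h x → IsRoot cs h y →
      f g * e' x t * (f g)⁻¹ = e' y u → g * e x t * g⁻¹ = e y u := by
    intro g x y t u hx hy e1
    refine key y hy _ ?_ u (by rw [map_mul, map_mul, map_inv, he, e1])
    rw [mem_lft hf (R'.pgrp' hy)]
    obtain ⟨h1, k, hk⟩ := (mem_lft hf (R'.pgrp' hx)).1 (hel' x t hx)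
    refine ⟨?_, k, ?_⟩
    · rw [map_mul, map_mul, map_inv, he, e1]
      exact (S'.mem_X y hy _).2 ⟨u, rfl⟩
    · rw [conj_pow, hk, mul_one, mul_inv_cancel]
  -- commutators
  have hcm : ∀ (x y : I → ℤ) (t u : F) (c : Y), IsRoot cs h x → IsRoot cs h y → x ≠ -y →
      c ∈ (lft p f (X' x) ⊔ lft p f (X' y)) ⊔ btw cs h (fun x => lft p f (X' x)) x y →
      ⁅e' x t, e' y u⁆ = f c → ⁅e x t, e y u⁆ = c := by
    intro x y t u c hx hy hxy hc e1
    have hP := isPGroup_pair O.rgd hx hy hxy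
    have ha : e x t ∈ (lft p f (X' x) ⊔ lft p f (X' y)) ⊔ btw cs h (fun x => lft p f (X' x)) x y :=
      Subgroup.mem_sup_left (Subgroup.mem_sup_left (hel' x t hx))
    have hb : e y u ∈ (lft p f (X' x) ⊔ lft p f (X' y)) ⊔ btw cs h (fun x => lft p f (X' x)) x y :=
      Subgroup.mem_sup_left (Subgroup.mem_sup_right (hel' y u hy))
    refine O.inj_on hP ?_ hc (by rw [map_commutatorElement, he, he, e1])
    rw [commutatorElement_def]
    exact mul_mem (mul_mem (mul_mem ha hb) (inv_mem ha)) (inv_mem hb)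
  have hbt : ∀ x y z t, Btwn cs h x y z → e z t ∈ btw cs h (fun x => lft p f (X' x)) x y := by
    intro x y z t hz
    exact le_btw_of hz (hel' z t hz.1)
  refine ⟨_, _, _, e, O, ⟨⟨D.two, ?_, ?_, ?_, ?_, D.lace, ?_, ?_, ?_⟩, ?_, fun i => rfl, ?_⟩, he⟩
  · intro x hx t u
    exact (key x hx _ (mul_mem (hel' x t hx) (hel' x u hx)) _ (by rw [map_mul, he, he, D.add x hx])).symm
  · intro x hx t e1
    apply D.inj x hx
    rw [← he, e1, map_one]
  · intro i x hx t
    apply hcj _ _ _ _ _ hx (hx.act _)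
    rw [nel_map, D.refl i x hx]
  · intro i x hx c hc t
    apply hcj _ _ _ _ _ hx hx
    rw [hel_map, D.tor i x hx c hc]
  · intro x y hx hy h1 h2 h3 t u
    exact hcm x y t u 1 hx hy h2 (one_mem _) (by rw [D.comm0 x y hx hy h1 h2 h3, map_one])
  · intro x y hx hy h1 h2 t u
    have hxy : x ≠ -y := by
      rintro rfl
      rw [cpr_neg cs h y hy, cpr_self cs h hy] at h1
      omega
    have hr := isRoot_refl cs h hx hy
    rw [h1, neg_one_smul, sub_neg_eq_add] at hr
    have hb : Btwn cs h x y (x + y) :=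
      ⟨hr, 1, 1, 1, one_pos, one_pos, one_pos, by rw [one_smul, one_smul, one_smul]⟩
    exact hcm x y t u _ hx hy hxy (Subgroup.mem_sup_right (hbt x y _ _ hb)) (by rw [he, D.comm1 x y hx hy h1 h2])
  · intro x y hx hy h1 h2 t u
    have hxy : x ≠ -y := by
      rintro rfl
      rw [cpr_neg_right cs h y hy, cpr_self cs h hy] at h2
      omega
    have hr := isRoot_refl cs h hy hx
    rw [h2, neg_one_smul, sub_neg_eq_add, add_comm] at hr
    have hr2 := isRoot_refl cs h hx hy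
    rw [h1, neg_smul, sub_neg_eq_add] at hr2
    have hb : Btwn cs h x y (x + y) :=
      ⟨hr, 1, 1, 1, one_pos, one_pos, one_pos, by rw [one_smul, one_smul, one_smul]⟩
    have hb2 : Btwn cs h x y (x + (2 : ℤ) • y) :=
      ⟨hr2, 1, 1, 2, one_pos, one_pos, two_pos, by rw [one_smul, one_smul]⟩
    exact hcm x y t u _ hx hy hxy (Subgroup.mem_sup_right (mul_mem (hbt x y _ _ hb) (hbt x y _ _ hb2)))
      (by rw [map_mul, he, he, D.comm2 x y hx hy h1 h2])
  · intro x hx g
    rw [mem_lft hf (R'.pgrp' hx)]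
    constructor
    · rintro ⟨h1, k, hk⟩
      obtain ⟨t, ht⟩ := (S'.mem_X x hx _).1 h1
      exact ⟨t, (key x hx g ((mem_lft hf (R'.pgrp' hx)).2 ⟨h1, k, hk⟩) t ht.symm).symm⟩
    · rintro ⟨t, rfl⟩
      exact (mem_lft hf (R'.pgrp' hx)).1 (hel' x t hx)
  · intro t ht
    obtain ⟨χ, hχ⟩ := S'.chi _ ht
    exact ⟨χ, fun x hx u => hcj _ _ _ _ _ hx hx (hχ x hx u)⟩

end Sys

end Cfsg.Agent.Omega.EH3.Kf.Over
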