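import Cfsg.Agent.Omega.EH3.Kf.Orth
import Cfsg.Agent.Omega.EH3.Kf.Tri
import Cfsg.Agent.Omega.EH3.Kf.ListA
import Cfsg.Agent.Omega.EH3.Kf.ListD
import Cfsg.Agent.Omega.EH3.Kf.ListE
import Cfsg.Agent.KFacts.SLRow.Def

/-!
# EH3, Lie rows in characteristic 2: the simply laced rows (helper827; blueprints/OMEGA-EH3-KF3-helper227.md)

`R : Row cs h T n X ρ b a D X0 w`, all root groups of order `q = 2 ^ m`, `m ≥ 1`.

* `core` : (C)-(G): one node `i` moves `a`, `X0 = O_2(P_J)`, `J = {i}ᶜ`;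
* `row_A`, `row_D`, `row_E6`, `row_E7`, `row_E8` : the lists. What is left: `A_5`, `i = 2`, `q = 2`; `D_6`, `i = 4, 5`, `q = 2`;
  `E_7`, `i = 6`, `q = 2`.
-/

set_option autoImplicit false
set_option linter.unusedSectionVars false

namespace Cfsg.Agent.Omega.EH3.Kf.RowSL

open CoxeterSystem CoxeterMatrix Cfsg.Agent.ChevalleyStructure.CoxeterGeom Cfsg.Agent.Tits.Roots Cfsg.Agent.Tits.Core
  Cfsg.Agent.Tits.RootComb Cfsg.Agent.Nodes.Comb Cfsg.Agent.Nodes.Reps Cfsg.Agent.Nodes.BNOf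
  Cfsg.Agent.Nodes.StabComb Cfsg.Agent.Nodes.Bruhat Cfsg.Agent.Nodes.LeviDec Cfsg.Agent.KFacts.RgdSL
  Cfsg.Agent.Nodes.PosPair Cfsg.Agent.Omega.EH3.Kf.Base Cfsg.Agent.Omega.EH3.Kf.Node
open Cfsg.Agent.LieRecognition.BNCox (cA cA_apply)

section General

variable {I W Y V : Type*} [Fintype I] [DecidableEq I] [Group W] [Group Y] [AddCommGroup V] [Module (ZMod 2) V]
  {M : CoxeterMatrix I} {cs : CoxeterSystem M W} {A : I → I → ℤ} {h : IsCartan M A} {T : Subgroup Y} {n : I → Y}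
  {X : (I → ℤ) → Subgroup Y} {ρ : Y →* (V ≃ₗ[ZMod 2] V)}
  {b : LinearMap.BilinForm (ZMod 2) V} {a : V} {D : Submodule (ZMod 2) V} {X0 : Subgroup Y} {w : ℕ}

/-- the unipotent radical in terms of the coefficient at `i` -/
theorem VJ_eq {i : I} (hle : ∀ x, IsRoot cs h x → x i ≤ 1) :
    VJ cs h X ({i}ᶜ : Set I) = RGD.Sup X {x | IsRoot cs h x ∧ x i = 1} := by
  unfold VJ
  congr 1
  ext x
  constructor
  · rintro ⟨hx, -, k, hk, hk0⟩
    have hki : k = i := not_not.1 hk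
    subst hki
    have := hle x hx
    exact ⟨hx, by omega⟩
  · rintro ⟨hx, hx1⟩
    exact ⟨hx, nonneg_of_pos_apply hx (k := i) (by omega), i, not_not.2 rfl, by omega⟩

/-- **(C)-(G)** for a simply laced row with connected diagram. -/
theorem core [Finite W] [Finite Y] (R : Row cs h T n X ρ b a D X0 w) (h4 : ∀ i j, M i j ≠ 4) (h6 : ∀ i j, M i j ≠ 6)
    (hconn : KFacts.SLRow.Def.Conn M) {m : ℕ} (hm : ∀ x, IsRoot cs h x → Nat.card (X x) = 2 ^ m) :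
    ∃ i, Mv ρ n a = {i} ∧ X0 = VJ cs h X {i}ᶜ ∧ NodeOK cs h i m ∧ (m = 1 → ¬ Kills cs h i) := by
  have hs : SL cs h := fun x y hx hy => Nodes.SimplyLaced.cpr_symm cs h h4 h6 hx hy
  obtain ⟨i, hi, hX0, N⟩ := Orth.nodeOK R hs (fun J h1 h2 => by
    obtain ⟨a, ha, b, hb, hab⟩ := hconn J h1 (Set.nonempty_compl.2 h2)
    exact ⟨a, ha, b, hb, hab⟩) hm
  refine ⟨i, hi, hX0, N, fun h1 => ?_⟩
  subst h1
  refine Tri.not_kills R hs (fun x hx => by rw [hm x hx, pow_one]) (by rw [hX0, VJ_eq N.le_one]) ?_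
  intro x hx hx0 g hg
  refine Opp.PJ_fix R ?_
  rw [hi]
  refine LJ_le_PJ (X_le_LJ ⟨hx, fun k hk => ?_⟩ hg)
  have hki : k = i := not_not.1 hk
  rw [hki]
  exact hx0

end General

variable {W Y V : Type*} [Group W] [Group Y] [AddCommGroup V] [Module (ZMod 2) V] {l : ℕ} {T : Subgroup Y}
  {ρ : Y →* (V ≃ₗ[ZMod 2] V)} {b : LinearMap.BilinForm (ZMod 2) V} {a : V} {D : Submodule (ZMod 2) V}
  {X0 : Subgroup Y} {w : ℕ}

theorem conn_cA : KFacts.SLRow.Def.Conn (cA l) := by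
  refine KFacts.SLRow.Def.conn_of_parent (fun i => (i : ℕ)) (fun i => ⟨(i : ℕ) - 1, by have := i.2; omega⟩) ?_ ?_ ?_
  · intro i j hi hj
    exact Fin.ext (by omega)
  · intro i hi
    show (i : ℕ) - 1 < i
    omega
  · intro i hi
    show LieRecognition.CoxClass.mA i ((i : ℕ) - 1) ≠ 2
    unfold LieRecognition.CoxClass.mA
    split_ifs <;> omega

theorem cA_ne (i j : Fin l) : cA l i j ≠ 4 ∧ cA l i j ≠ 6 := by
  rw [cA_apply]
  unfold LieRecognition.CoxClass.mA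
  split_ifs <;> omega

theorem conn_M (l : ℕ) (hl : 1 ≤ l) : KFacts.SLRow.Def.Conn (Nodes.TypeD.M l) := by
  refine KFacts.SLRow.Def.conn_of_parent (fun i => (i : ℕ)) (fun i => if (i : ℕ) = l + 1 then ⟨l - 1, by omega⟩ else
    ⟨(i : ℕ) - 1, by have := i.2; omega⟩) ?_ ?_ ?_
  · intro i j hi hj
    exact Fin.ext (by omega)
  · intro i hi
    have := i.2
    split_ifs with h1
    · show l - 1 < (i : ℕ)
      omega
    · show (i : ℕ) - 1 < i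
      omega
  · intro i hi
    have := i.2
    have key : ∀ j : Fin (l + 2), (i : ℕ) ≠ j → Nodes.TypeD.Adj j i → Nodes.TypeD.M l i j ≠ 2 := by
      intro j hij hj
      rw [Nodes.TypeD.M_apply, if_neg (fun e => hij (congrArg Fin.val e)), if_pos (Or.inr hj)]
      norm_num
    by_cases h1 : (i : ℕ) = l + 1
    · rw [if_pos h1]
      exact key _ (show (i : ℕ) ≠ l - 1 by omega) (Or.inr ⟨h1, show l - 1 + 2 = (i : ℕ) by omega⟩)
    · rw [if_neg h1]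
      exact key _ (show (i : ℕ) ≠ i - 1 by omega) (Or.inl ⟨by omega, show (i : ℕ) - 1 + 1 = i by omega⟩)

/-- **The rows `A_l(q)`.** -/
theorem row_A {cs : CoxeterSystem (cA l) W} {A : Fin l → Fin l → ℤ} {h : IsCartan (cA l) A} {n : Fin l → Y}
    {X : (Fin l → ℤ) → Subgroup Y} [Finite W] [Finite Y] (R : Row cs h T n X ρ b a D X0 w) {m : ℕ} (hm1 : 1 ≤ m)
    (hm : ∀ x, IsRoot cs h x → Nat.card (X x) = 2 ^ m) :
    l = 5 ∧ m = 1 ∧ ∃ i : Fin l, i.val = 2 ∧ Mv ρ n a = {i} ∧ X0 = VJ cs h X {i}ᶜ := by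
  obtain ⟨i, hi, hX0, N, hk⟩ := core R (fun i j => (cA_ne i j).1) (fun i j => (cA_ne i j).2) conn_cA hm
  rcases ListA.list_A hm1 N hk with ⟨h1, h2⟩ | ⟨h1, h2, h3⟩
  · exfalso
    -- rank one: `|X0| ≤ 8`
    subst h1
    have h3 : X0 ≤ X (sr i) := by
      rw [hX0, VJ_eq N.le_one]
      refine iSup_le ?_
      rintro ⟨x, hx, hx1⟩
      have : x = sr i := by
        funext k
        rw [Subsingleton.elim k i, hx1, sr_self]
      subst this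
      exact le_refl _
    have h4 := Subgroup.card_le_of_le h3
    rw [R.card_X, hm _ (isRoot_sr cs h i)] at h4
    have h5 := (Nat.pow_le_pow_iff_right (by norm_num : 1 < 2)).1 h4
    have h6 := R.six
    omega
  · exact ⟨h1, h3, i, h2, hi, hX0⟩

/-- **The rows `D_l(q)`, `l ≥ 4`.** -/
theorem row_D {cs : CoxeterSystem (Nodes.TypeD.M l) W} {A : Fin (l + 2) → Fin (l + 2) → ℤ}
    {h : IsCartan (Nodes.TypeD.M l) A} {n : Fin (l + 2) → Y}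
    {X : (Fin (l + 2) → ℤ) → Subgroup Y} [Finite W] [Finite Y] (R : Row cs h T n X ρ b a D X0 w) (hl : 2 ≤ l) {m : ℕ}
    (hm1 : 1 ≤ m) (hm : ∀ x, IsRoot cs h x → Nat.card (X x) = 2 ^ m) :
    l = 4 ∧ m = 1 ∧ ∃ i : Fin (l + 2), (i.val = 4 ∨ i.val = 5) ∧ Mv ρ n a = {i} ∧ X0 = VJ cs h X {i}ᶜ := by
  obtain ⟨i, hi, hX0, N, hk⟩ := core R (fun i j => (ListD.M_ne i j).1) (fun i j => (ListD.M_ne i j).2)
    (conn_M l (by omega)) hm
  obtain ⟨h1, h2, h3⟩ := ListD.list_D hl hm1 N hk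
  exact ⟨h1, h3, i, h2, hi, hX0⟩

theorem ne_E6 (i j : Fin 6) : E₆ i j ≠ 4 ∧ E₆ i j ≠ 6 := ListE.ne6 i j
theorem ne_E7 (i j : Fin 7) : E₇ i j ≠ 4 ∧ E₇ i j ≠ 6 := ListE.ne7 i j
theorem ne_E8 (i j : Fin 8) : E₈ i j ≠ 4 ∧ E₈ i j ≠ 6 := ListE.ne8 i j

theorem conn_E6 : KFacts.SLRow.Def.Conn E₆ :=
  KFacts.SLRow.Def.conn_of_parent ![0, 3, 1, 2, 3, 4] ![0, 3, 0, 2, 3, 4] (by decide) (by decide) (by decide)
theorem conn_E7 : KFacts.SLRow.Def.Conn E₇ :=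
  KFacts.SLRow.Def.conn_of_parent ![0, 3, 1, 2, 3, 4, 5] ![0, 3, 0, 2, 3, 4, 5] (by decide) (by decide) (by decide)
theorem conn_E8 : KFacts.SLRow.Def.Conn E₈ :=
  KFacts.SLRow.Def.conn_of_parent ![0, 3, 1, 2, 3, 4, 5, 6] ![0, 3, 0, 2, 3, 4, 5, 6] (by decide) (by decide)
    (by decide)

/-- **The rows `E_6(q)`.** -/
theorem row_E6 {cs : CoxeterSystem E₆ W} {A : Fin 6 → Fin 6 → ℤ} {h : IsCartan E₆ A} {n : Fin 6 → Y}
    {X : (Fin 6 → ℤ) → Subgroup Y} [Finite W] [Finite Y] (R : Row cs h T n X ρ b a D X0 w) {m : ℕ}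
    (hm : ∀ x, IsRoot cs h x → Nat.card (X x) = 2 ^ m) : False := by
  obtain ⟨i, -, -, N, -⟩ := core R (fun i j => (ne_E6 i j).1) (fun i j => (ne_E6 i j).2) conn_E6 hm
  exact ListE.list_E6 N

/-- **The rows `E_7(q)`.** -/
theorem row_E7 {cs : CoxeterSystem E₇ W} {A : Fin 7 → Fin 7 → ℤ} {h : IsCartan E₇ A} {n : Fin 7 → Y}
    {X : (Fin 7 → ℤ) → Subgroup Y} [Finite W] [Finite Y] (R : Row cs h T n X ρ b a D X0 w) {m : ℕ} (hm1 : 1 ≤ m)
    (hm : ∀ x, IsRoot cs h x → Nat.card (X x) = 2 ^ m) :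
    m = 1 ∧ Mv ρ n a = {6} ∧ X0 = VJ cs h X {6}ᶜ := by
  obtain ⟨i, hi, hX0, N, -⟩ := core R (fun i j => (ne_E7 i j).1) (fun i j => (ne_E7 i j).2) conn_E7 hm
  obtain ⟨rfl, h2⟩ := ListE.list_E7 hm1 N
  exact ⟨h2, hi, hX0⟩

/-- **The rows `E_8(q)`.** -/
theorem row_E8 {cs : CoxeterSystem E₈ W} {A : Fin 8 → Fin 8 → ℤ} {h : IsCartan E₈ A} {n : Fin 8 → Y}
    {X : (Fin 8 → ℤ) → Subgroup Y} [Finite W] [Finite Y] (R : Row cs h T n X ρ b a D X0 w) {m : ℕ}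
    (hm : ∀ x, IsRoot cs h x → Nat.card (X x) = 2 ^ m) : False := by
  obtain ⟨i, -, -, N, -⟩ := core R (fun i j => (ne_E8 i j).1) (fun i j => (ne_E8 i j).2) conn_E8 hm
  exact ListE.list_E8 N

end Cfsg.Agent.Omega.EH3.Kf.RowSL
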