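import Mathlib
import Cfsg.Agent.Omega.EH3.Kf.Goal
import Cfsg.Agent.Omega.EH3.Kf.SLEnd

/-!
# EH3, Lie rows: the simply laced rows in the form of `Goal` (helper227)

From `SLEnd` (helper134): a `Row` of type `A_l`, `D_l`, `E_7` with `|X_x| = 2^m` gives `Good M q i ∧ EndAt ..`.
-/

set_option autoImplicit false

namespace Cfsg.Agent.Omega.EH3.Kf.SLRow

open CoxeterSystem Cfsg.Agent.ChevalleyStructure.CoxeterGeom Cfsg.Agent.Tits.Roots Cfsg.Agent.Tits.Core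
  Cfsg.Agent.Tits.RootComb Cfsg.Agent.Nodes.Comb Cfsg.Agent.Nodes.Reps Cfsg.Agent.Nodes.BNOf
  Cfsg.Agent.Nodes.StabComb Cfsg.Agent.Nodes.Bruhat Cfsg.Agent.Nodes.LeviDec Cfsg.Agent.Nodes.RGDLib
  Cfsg.Agent.Omega.EH3.Kf.Base Cfsg.Agent.Omega.EH3.Kf.Out Cfsg.Agent.Omega.EH3.Kf.Odd
  Cfsg.Agent.Omega.EH3.Kf.Sym Cfsg.Agent.Omega.EH3.Kf.Goal Cfsg.Agent.Omega.EH3.Kf.SLEnd
open Cfsg.Agent.LieRecognition.BNCox (cA)

variable {I W Y V : Type*} [Fintype I] [DecidableEq I] [Group W] [Group Y] [AddCommGroup V]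
    [Module (ZMod 2) V] {b : LinearMap.BilinForm (ZMod 2) V} {T : Subgroup Y}
    {ρ : Y →* (V ≃ₗ[ZMod 2] V)} {a : V} {D : Submodule (ZMod 2) V} {X0 : Subgroup Y} {w m : ℕ}

/-- the end data from the moved node -/
theorem endAt_of {M : CoxeterMatrix I} {cs : CoxeterSystem M W} {A : I → I → ℤ} {h : IsCartan M A}
    {n : I → Y} {X : (I → ℤ) → Subgroup Y} {i : I} (hK : Mv ρ n a = {i}) (hX : X0 = VJ cs h X {i}ᶜ)
    (hm : ∀ x, IsRoot cs h x → Nat.card (X x) = 2 ^ 1) : EndAt cs h n X ρ a X0 (fun _ => 2) i where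
  eq := hX
  fix _ hj := fix_other hK hj
  card j := by rw [hm _ (isRoot_sr cs h j), pow_one]

/-- **Type `A_l`.** -/
theorem row_A {l : ℕ} {W : Type*} [Group W] [Finite W] [Finite Y] {cs : CoxeterSystem (cA l) W}
    {A : Fin l → Fin l → ℤ} {h : IsCartan (cA l) A} {n : Fin l → Y} {X : (Fin l → ℤ) → Subgroup Y}
    (R : Row cs h T n X ρ b a D X0 w) (hm : ∀ x, IsRoot cs h x → Nat.card (X x) = 2 ^ m) :
    ∃ (q : Fin l → ℕ) (i : Fin l), Good (cA l) q i ∧ EndAt cs h n X ρ a X0 q i := by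
  obtain ⟨rfl, rfl, i, hi, hK, hX⟩ := end_A R hm
  obtain rfl : i = 2 := Fin.ext hi
  exact ⟨_, _, Good.A5, endAt_of hK hX hm⟩

/-- **Type `D_l`.** -/
theorem row_D {l : ℕ} (hl : 2 ≤ l) {W : Type*} [Group W] [Finite W] [Finite Y]
    {cs : CoxeterSystem (Cfsg.Agent.Nodes.TypeD.M l) W}
    {A : Fin (l + 2) → Fin (l + 2) → ℤ} {h : IsCartan (Cfsg.Agent.Nodes.TypeD.M l) A} {n : Fin (l + 2) → Y}
    {X : (Fin (l + 2) → ℤ) → Subgroup Y}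
    (R : Row cs h T n X ρ b a D X0 w) (hm : ∀ x, IsRoot cs h x → Nat.card (X x) = 2 ^ m) :
    ∃ (q : Fin (l + 2) → ℕ) (i : Fin (l + 2)),
      Good (Cfsg.Agent.Nodes.TypeD.M l) q i ∧ EndAt cs h n X ρ a X0 q i := by
  obtain ⟨rfl, rfl, i, hi, hK, hX⟩ := end_D hl R hm
  rcases hi with hi | hi
  · obtain rfl : i = 4 := Fin.ext hi
    exact ⟨_, _, Good.D6, endAt_of hK hX hm⟩
  · obtain rfl : i = 5 := Fin.ext hi
    exact ⟨_, _, Good.D6', endAt_of hK hX hm⟩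

/-- **Type `E_6`.** -/
theorem row_E6 {W : Type*} [Group W] [Finite W] [Finite Y] {cs : CoxeterSystem CoxeterMatrix.E₆ W}
    {A : Fin 6 → Fin 6 → ℤ} {h : IsCartan CoxeterMatrix.E₆ A} {n : Fin 6 → Y} {X : (Fin 6 → ℤ) → Subgroup Y}
    (R : Row cs h T n X ρ b a D X0 w) (hm : ∀ x, IsRoot cs h x → Nat.card (X x) = 2 ^ m) :
    ∃ (q : Fin 6 → ℕ) (i : Fin 6), Good CoxeterMatrix.E₆ q i ∧ EndAt cs h n X ρ a X0 q i :=
  (end_E6 R hm).elim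

/-- **Type `E_7`.** -/
theorem row_E7 {W : Type*} [Group W] [Finite W] [Finite Y] {cs : CoxeterSystem CoxeterMatrix.E₇ W}
    {A : Fin 7 → Fin 7 → ℤ} {h : IsCartan CoxeterMatrix.E₇ A} {n : Fin 7 → Y} {X : (Fin 7 → ℤ) → Subgroup Y}
    (R : Row cs h T n X ρ b a D X0 w) (hm : ∀ x, IsRoot cs h x → Nat.card (X x) = 2 ^ m) :
    ∃ (q : Fin 7 → ℕ) (i : Fin 7), Good CoxeterMatrix.E₇ q i ∧ EndAt cs h n X ρ a X0 q i := by
  obtain ⟨rfl, hK, hX⟩ := end_E7 R hm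
  exact ⟨_, _, Good.E7, endAt_of hK hX hm⟩

/-- **Type `E_8`.** -/
theorem row_E8 {W : Type*} [Group W] [Finite W] [Finite Y] {cs : CoxeterSystem CoxeterMatrix.E₈ W}
    {A : Fin 8 → Fin 8 → ℤ} {h : IsCartan CoxeterMatrix.E₈ A} {n : Fin 8 → Y} {X : (Fin 8 → ℤ) → Subgroup Y}
    (R : Row cs h T n X ρ b a D X0 w) (hm : ∀ x, IsRoot cs h x → Nat.card (X x) = 2 ^ m) :
    ∃ (q : Fin 8 → ℕ) (i : Fin 8), Good CoxeterMatrix.E₈ q i ∧ EndAt cs h n X ρ a X0 q i :=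
  (end_E8 R hm).elim

end Cfsg.Agent.Omega.EH3.Kf.SLRow
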