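import Mathlib
import Cfsg.Agent.Omega.EH3.Kf.SpRow
import Cfsg.Agent.Omega.EH3.Kf.SpTwo
import Cfsg.Agent.Omega.EH3.Kf.Main

/-!
# EH3, Lie rows in characteristic 2: the family `PSp_{2m}(q)` (helper924)

`kfRow` : `KfRow (PSp n F)` for `n ≥ 2`, `n ≥ 3` if `q = 2` (`q ≥ 4`: `SpBig`, `SpRow`; `q = 2`: helper532, `SpTwo`);
`psp` : the field `Table.Rows.psp`.
-/

set_option autoImplicit false

namespace Cfsg.Agent.Omega.EH3.Kf.SpFin

open Cfsg
open Cfsg.Agent.Omega.EH3.Kf.Goal Cfsg.Agent.Omega.EH3.Kf.Main Cfsg.Agent.Omega.EH3.Kf.SpRow Cfsg.Agent.Omega.EH3.Kf.FamRow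

universe u v

theorem kfRow (n : ℕ) (F : Type v) [Field F] [Finite F] [CharP F 2] (hn : 2 ≤ n) (h3 : n = 2 → 2 < Nat.card F) :
    KfRow.{u} (PSp n F) := by
  rcases Nat.lt_or_ge 2 n with h | h
  · refine kfRow_of n F hn fun V _ _ T nn X ρ b a D X0 w R h2 => ?_
    have : Finite F := inferInstance
    exact SpTwo.false h _ R h2
  · exact kfRow_big n F hn (h3 (by omega))

/-- **The field `psp` of `Table.Rows`.** -/
theorem psp : ∀ (F : Type) [Field F] [Fintype F] [CharP F 2] (m : ℕ), 2 ≤ m → (m = 2 → 3 ≤ Fintype.card F) →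
    Fam.{u} (PSp m F) := by
  intro F _ _ _ m hm h2
  exact Fam.of_kfRow (kfRow m F hm fun h => by rw [Nat.card_eq_fintype_card]; exact h2 h)

end Cfsg.Agent.Omega.EH3.Kf.SpFin
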