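import Mathlib
import Cfsg.Agent.Omega.EH3.Kf.Main
import Cfsg.Agent.Omega.EH3.Kf.FamG2
import Cfsg.Agent.Omega.EH3.Kf.FamD4

/-!
# EH3, Lie rows: the fields `g2` and `twD4` of `Table.Rows` (helper737)
-/

set_option autoImplicit false

namespace Cfsg.Agent.Omega.EH3.Kf.TableGD

open Cfsg Cfsg.Agent.Omega.EH3.Kf.FamRow Cfsg.Agent.Omega.EH3.Kf.Main

universe u

/-- the field `g2` of `Table.Rows` -/
theorem g2 : ∀ (F : Type) [Field F] [Fintype F] [CharP F 2], 3 ≤ Fintype.card F → Fam.{u} (Lie.chevG2.group F) :=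
  fun _ _ _ _ h => Fam.of_kfRow (FamG2.kfRow (FamG2.exists_ne_of_card h))

/-- the field `twD4` of `Table.Rows` -/
theorem twD4 : ∀ (F : Type) [Field F] [Fintype F] [CharP F 2] (q : ℕ), IsPrimePow q → Fintype.card F = q ^ 3 →
    Fam.{u} (Lie.twistedD4 F q) :=
  fun _ _ _ _ _ hq hF => Fam.of_kfRow (FamD4.kfRow hq hF)

end Cfsg.Agent.Omega.EH3.Kf.TableGD
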