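import Mathlib
import Cfsg.Agent.Omega.EH3.Kf.TwRow
import Cfsg.Agent.Omega.EH3.Kf.UOdd
import Cfsg.Agent.Omega.EH3.Kf.Main

/-!
# EH3, Lie rows in characteristic 2: `PSU_{2m}(q)`, `m ≥ 2` (helper94; K6)

`kfRow_even`, `psuEven` (the field of `Table.Rows`): the end data are those of `U₆(2)`.
-/

set_option autoImplicit false
set_option linter.unusedVariables false
set_option linter.unusedSectionVars false

namespace Cfsg.Agent.Omega.EH3.Kf.TwUni

open CoxeterSystem Cfsg.Agent.ChevalleyStructure.CoxeterGeom Cfsg.Agent.Tits.Roots Cfsg.Agent.Tits.Core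
  Cfsg.Agent.Tits.RootComb Cfsg.Agent.Nodes.TypeC
open Cfsg.Agent.Nodes.Comb Cfsg.Agent.Nodes.Reps Cfsg.Agent.Nodes.WittRoot Cfsg.Agent.Nodes.BNOf
open Cfsg.Agent.Nodes.StabComb Cfsg.Agent.Nodes.Bruhat Cfsg.Agent.Nodes.LeviDec
open Cfsg.Agent.Nodes.RGDLib Cfsg.Agent.Nodes.WittAll
open Cfsg Cfsg.Agent.LieClassical.HermBasic
open Cfsg.Agent.TitsThree Cfsg.Agent.TitsThree.Siegel Cfsg.Agent.TitsThree.SiegelGen
  Cfsg.Agent.TitsThree.WittFrame Cfsg.Agent.TitsThree.WBridge Cfsg.Agent.TitsThree.WittWeyl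
  Cfsg.Agent.TitsThree.FrameCN Cfsg.Agent.TitsThree.KSideU Cfsg.Agent.TitsThree.KSideUDesc
open Cfsg.Agent.Omega.EH3.Kf.TwC Cfsg.Agent.Omega.EH3.Kf.TwWitt Cfsg.Agent.Omega.EH3.Kf.TwRow
  Cfsg.Agent.Omega.EH3.Kf.Base Cfsg.Agent.Omega.EH3.Kf.FamRow Cfsg.Agent.Omega.EH3.Kf.Goal
open scoped commutatorElement Pointwise

universe u

/-! ### The order of a commuting join -/

theorem card_sup_le {Y : Type*} [Group Y] [Finite Y] {A B : Subgroup Y} (h : ∀ u ∈ A, ∀ v ∈ B, u * v = v * u) :
    Nat.card (A ⊔ B : Subgroup Y) ≤ Nat.card A * Nat.card B := by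
  have hn : A ≤ Subgroup.normalizer (B : Set Y) := by
    intro g hg
    rw [Subgroup.mem_normalizer_iff]
    intro v
    refine ⟨fun hv => ?_, fun hv => ?_⟩
    · rw [h g hg v hv, mul_inv_cancel_right]; exact hv
    · have h1 := h g⁻¹ (inv_mem hg) _ hv
      have h2 : v = g⁻¹ * (g * v * g⁻¹) * g := by group
      rw [h2, h1, inv_mul_cancel_right]
      exact hv
  have e : ((A ⊔ B : Subgroup Y) : Set Y) = (A : Set Y) * (B : Set Y) :=
    Subgroup.coe_mul_of_left_le_normalizer_right _ _ hn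
  have h1 : Nat.card (A ⊔ B : Subgroup Y) = Nat.card ((A : Set Y) * (B : Set Y) : Set Y) := by
    rw [← e]; rfl
  rw [h1]
  exact Set.natCard_mul_le

/-- `|VJ| ≤ 16` for `n = 2`, `|F| = 4`, `|Adm| = 2` -/
theorem card_VJ_two {F : Type*} [Field F] {V' : Type*} [AddCommGroup V'] [Module F V'] {H : HForm F V'}
    {Fr : Frame H (Fin 2)} {K : Type*} [Group K] [Finite K] (M : Model Fr K) [CharP F 2] [Finite V']
    (hA : AmbT Fr 2 M.I) {W : Type*} [Group W] {cs : CoxeterSystem (CoxeterMatrix.B 2) W}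
    (hab : ∀ u ∈ VJ cs (isCartan 2) (Nodes.WittModel.X M) ({1}ᶜ : Set (Fin 2)),
      ∀ v ∈ VJ cs (isCartan 2) (Nodes.WittModel.X M) ({1}ᶜ : Set (Fin 2)), u * v = v * u) {c d : ℕ}
    (hc : Nat.card F = c) (hd : Nat.card Fr.Adm = d) :
    Nat.card (VJ cs (isCartan 2) (Nodes.WittModel.X M) ({1}ᶜ : Set (Fin 2))) ≤ c * d * d := by
  have : Fact (Nat.Prime 2) := ⟨Nat.prime_two⟩
  obtain ⟨x, hx, ex⟩ := exists_root cs (a := ((0 : Fin 2), true)) (b := (1, true)) (Or.inl (by decide)) rfl (by decide)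
  obtain ⟨y, hy, ey⟩ := exists_root cs (a := ((0 : Fin 2), true)) (b := (0, true)) (Or.inr rfl) rfl le_rfl
  obtain ⟨z, hz, ez⟩ := exists_root cs (a := ((1 : Fin 2), true)) (b := (1, true)) (Or.inr rfl) rfl le_rfl
  set U := VJ cs (isCartan 2) (Nodes.WittModel.X M) ({1}ᶜ : Set (Fin 2)) with hU
  have m1 : ∀ {r : Fin 2 → ℤ}, r ∈ RGD.Pos cs (isCartan 2) → 0 < r 1 → Nodes.WittModel.X M r ≤ U := by
    intro r hr h1
    exact RGD.le_Sup ⟨hr.1, hr.2, 1, fun h => h rfl, h1⟩
  have hxU := m1 hx (pos_add ex (by decide))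
  have hyU := m1 hy (pos_add ey (by decide))
  have hzU := m1 hz (pos_add ez (by decide))
  have hle : U ≤ (Nodes.WittModel.X M x ⊔ Nodes.WittModel.X M y) ⊔ Nodes.WittModel.X M z := by
    refine RGD.Sup_le ?_
    rintro r ⟨hr, h0, i, hi, hri⟩
    have hi1 : i = 1 := by
      by_contra hne
      exact hi hne
    subst hi1
    obtain ⟨⟨i, s⟩, ⟨j, t⟩, hs1, hij, hok, e⟩ := exists_pos hr h0
    simp only at hs1 hij
    subst hs1
    have h3 := coef e 1
    rcases hok with h4 | h4
    · -- short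
      have hi0 : i = 0 := by
        have : i ≠ j := h4
        omega
      have hj1 : j = 1 := by
        have : i ≠ j := h4
        omega
      subst hi0 hj1
      cases t
      · exfalso
        simp [sn] at h3
        omega
      · have : r = x := ee_injective (e.trans ex.symm)
        subst this
        exact le_sup_left.trans le_sup_left
    · have h5 := (Prod.mk.inj h4).1
      have h6 := (Prod.mk.inj h4).2
      subst h5 h6
      rcases (show i = 0 ∨ i = 1 by omega) with h7 | h7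
      · subst h7
        have : r = y := ee_injective (e.trans ey.symm)
        subst this
        exact le_sup_right.trans le_sup_left
      · subst h7
        have : r = z := ee_injective (e.trans ez.symm)
        subst this
        exact le_sup_right
  have h1 : Nat.card U ≤ Nat.card ((Nodes.WittModel.X M x ⊔ Nodes.WittModel.X M y) ⊔ Nodes.WittModel.X M z : Subgroup K) :=
    Subgroup.card_le_of_le hle
  have h2 := card_sup_le (A := Nodes.WittModel.X M x ⊔ Nodes.WittModel.X M y) (B := Nodes.WittModel.X M z)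
    fun u hu v hv => hab u (sup_le hxU hyU hu) v (hzU hv)
  have h3 := card_sup_le (A := Nodes.WittModel.X M x) (B := Nodes.WittModel.X M y)
    fun u hu v hv => hab u (hxU hu) v (hyU hv)
  rw [card_short M hA (a := (0, true)) (b := (1, true)) (by decide) ex, card_long M hA ey, hc, hd] at h3
  rw [card_long M hA ez, hd] at h2
  exact h1.trans (h2.trans (Nat.mul_le_mul_right _ h3))

/-! ### The unitary groups of even dimension -/

section Unitary

variable {F : Type*} [Field F] [Fintype F] [CharP F 2] {q N m : ℕ} (hF : Fintype.card F = q ^ 2) (hN : 3 ≤ N)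
  (W : WFrame (PU hF N) m) (hW : W.V0 = ⊥)

include hW

omit [CharP F 2] in
theorem w_zero (p : (toFrame W).Adm) : p.w = 0 := by
  have h1 := (toFrame W).ok_mem p.ok
  have h2 : p.w ∈ W.V0 := h1
  rw [hW] at h2
  exact (Submodule.mem_bot F).1 h2

omit [CharP F 2] in
theorem c_eq (p : (toFrame W).Adm) : p.c + p.c ^ q = 0 := by
  have h2 := p.ok.2
  rw [ok_iff, w_zero hF W hW p, herm_zero_left, neg_zero] at h2
  exact h2

theorem htr (p : (toFrame W).Adm) : ∃ t, p = Frame.Adm.tr t := by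
  have h1 := c_eq hF W hW p
  have h2 : p.c ^ q = p.c := by
    have h3 := eq_neg_of_add_eq_zero_right h1
    rw [h3, CharTwo.neg_eq]
  obtain ⟨t, ht⟩ := exists_trace_eq hF h2
  refine ⟨t, Frame.Adm.ext ?_ ?_⟩
  · rw [w_zero hF W hW]; rfl
  · rw [Frame.Adm.tr_c]
    show p.c = t - (1 : F)⁻¹ * t ^ q
    rw [inv_one, one_mul, CharTwo.sub_eq_add, ht]

theorem card_adm : Nat.card (toFrame W).Adm = q := by
  classical
  -- the trace
  let f : F →+ F :=
    { toFun := fun t => t + t ^ q
      map_zero' := by rw [zero_pow_q hF, add_zero]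
      map_add' := fun s t => by rw [add_pow_q hF]; ring }
  have hf : ∀ t, f t = t + t ^ q := fun _ => rfl
  have e1 : Nat.card (toFrame W).Adm = Nat.card f.ker := by
    refine Nat.card_congr
      { toFun := fun p => ⟨p.c, (AddMonoidHom.mem_ker).2 (by rw [hf]; exact c_eq hF W hW p)⟩
        invFun := fun c => ⟨0, c.1, ⟨W.V0.zero_mem, by
          rw [ok_iff, herm_zero_left, neg_zero]
          exact AddMonoidHom.mem_ker.1 c.2⟩⟩
        left_inv := fun p => Frame.Adm.ext (w_zero hF W hW p).symm rfl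
        right_inv := fun c => rfl }
  have e2 : f.range = f.ker := by
    ext c
    rw [AddMonoidHom.mem_ker, AddMonoidHom.mem_range, hf]
    constructor
    · rintro ⟨t, rfl⟩
      rw [hf, add_pow_q hF, pow_q_pow_q hF, add_comm (t ^ q) t, CharTwo.add_self_eq_zero]
    · intro hc
      have h3 : c ^ q = c := by
        have h3 := eq_neg_of_add_eq_zero_right hc
        rw [h3, CharTwo.neg_eq]
      obtain ⟨t, ht⟩ := exists_trace_eq hF h3
      exact ⟨t, ht⟩
  have e3 : Nat.card F = Nat.card f.ker * Nat.card f.range := by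
    have h1 := AddSubgroup.card_eq_card_quotient_mul_card_addSubgroup f.ker
    rw [Nat.card_congr (QuotientAddGroup.quotientKerEquivRange f).toEquiv] at h1
    rw [h1, mul_comm]
  rw [e2, Nat.card_eq_fintype_card, hF, ← e1] at e3
  have : q * q = Nat.card (toFrame W).Adm * Nat.card (toFrame W).Adm := by rw [← sq]; exact e3
  exact (Nat.mul_self_inj.1 this).symm

end Unitary

/-- **`KfRow` for the unitary groups of even dimension `≥ 4`.** -/
theorem kfRow_even {F : Type*} [Field F] [Fintype F] [CharP F 2] {m q : ℕ} (hF : Fintype.card F = q ^ 2)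
    (hm : 2 ≤ m) : KfRow.{u} (PSU (2 * m) F q) := by
  have hN : 3 ≤ 2 * m := by omega
  have : Fact (Nat.Prime 2) := ⟨Nat.prime_two⟩
  have : Finite (PSU (2 * m) F q) := Quotient.finite _
  obtain ⟨W, hW⟩ := exists_wframe_even (N := 2 * m) hF rfl
  obtain ⟨p0, hp0, -⟩ := Nodes.WittU.exists_adm hF W
  set M := KInstU.model hF hN W with hM
  have hA1 : Amb (toFrame W) M.I := Nodes.WittU.amb_U hF W
  have hA : AmbT (toFrame W) 2 M.I := AmbT.of_amb hA1 2
  obtain ⟨k, hk⟩ : ∃ k, q = 2 ^ k := by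
    obtain ⟨j, -, hj⟩ := FiniteField.card F 2
    rw [hF] at hj
    have h1 : q ∣ 2 ^ (j : ℕ) := by rw [← hj]; exact dvd_pow_self q two_ne_zero
    obtain ⟨k, -, hk⟩ := (Nat.dvd_prime_pow Nat.prime_two).1 h1
    exact ⟨k, hk⟩
  have hk0 : 0 < k := by
    rcases Nat.eq_zero_or_pos k with h | h
    · exfalso
      have h1 := Fintype.one_lt_card (α := F)
      rw [hF, hk, h] at h1
      norm_num at h1
    · exact h
  have hcard := card_adm hF W hW
  refine ⟨m, CoxeterMatrix.B m, A m, isCartan m, Nodes.WittModel.T M, fun i => M.φ ⟨Nodes.WittRGD.nn (toFrame W) p0 i,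
    nn_mem hA p0 i⟩, Nodes.WittModel.X M, ⟨finite_W (CoxeterMatrix.B m).toCoxeterSystem,
    rgdC_model M hA hp0 _, Nodes.WittModel.G1_eq_top _ (by omega) _, ?_, ?_⟩, ?_⟩
  · -- `T` is abelian
    exact UOdd.T_comm M hA1 (d := 0) (Submodule.zero_mem _) fun w hw => ⟨0, by
      have h2 : w ∈ W.V0 := hw
      rw [hW] at h2
      rw [(Submodule.mem_bot F).1 h2, smul_zero]⟩
  · intro i u hu
    by_cases hi : (i : ℕ) + 1 < m
    · exact UOdd.sq_of_lt M hi hu
    · obtain ⟨p, rfl⟩ := (UOdd.mem_X_last M hi).1 hu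
      rw [← Z_mul, (UOdd.sq_eq_one hA1).2 (w_zero hF W hW p), Z_one]
  · intro V _ _ ρ b a D X0 w R
    obtain ⟨h1, h3, i, hi, hK, hX⟩ := even_le M R hA (by omega) (htr hF W hW) hp0 hk0 (by rw [hcard, hk])
    subst h1
    rw [pow_one] at hk
    subst hk
    have hm3 : m = 3 := by
      by_contra hne
      have hm2 : m = 2 := by omega
      subst hm2
      have hi1 : i = 1 := Fin.ext (by simp; omega)
      subst hi1
      have h4 := card_VJ_two M hA (cs := (CoxeterMatrix.B 2).toCoxeterSystem) (by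
        rw [← hX]
        exact fun u hu v hv => Cov.comm_X0 R hu hv) (c := 4) (d := 2)
        (by rw [Nat.card_eq_fintype_card, hF]; norm_num) hcard
      rw [← hX, R.card_X] at h4
      have h5 : 2 ^ 5 ≤ 2 ^ (w - 1) := Nat.pow_le_pow_right (by norm_num) (by have := R.six; omega)
      omega
    subst hm3
    have hi2 : i = 2 := Fin.ext (by simp; omega)
    subst hi2
    refine ⟨![4, 4, 2], 2, Good.C3, hX, ?_, ?_⟩
    · intro j hj
      by_contra hne
      have : j ∈ Mv ρ (fun i => M.φ ⟨Nodes.WittRGD.nn (toFrame W) p0 i, nn_mem hA p0 i⟩) a := hne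
      rw [hK] at this
      exact hj this
    · have hF4 : Nat.card F = 4 := by rw [Nat.card_eq_fintype_card, hF]; norm_num
      have key : ∀ j : Fin 3, (j : ℕ) + 1 < 3 → Nat.card (Nodes.WittModel.X M (sr j)) = 4 := by
        intro j hj
        rw [← hF4]
        refine card_short M hA (a := (j, true)) (b := (⟨j + 1, hj⟩, false)) (by simp [Fin.ext_iff]) ?_
        rw [ee_sr, bt, nx, dif_pos hj]
      intro j
      match j with
      | 0 => exact key 0 (by decide)
      | 1 => exact key 1 (by decide)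
      | 2 =>
        rw [card_long M hA (a := ((2 : Fin 3), true)) (by rw [ee_sr, bt, nx, dif_neg (by decide)]), hcard]
        rfl

/-- **The field `psuEven` of `Table.Rows`.** -/
theorem psuEven (F : Type) [Field F] [Fintype F] [CharP F 2] (m q : ℕ) (hF : Fintype.card F = q ^ 2) (hm : 2 ≤ m) :
    Main.Fam.{u} (PSU (2 * m) F q) := Or.inr (KfRow.toU (kfRow_even hF hm))

end Cfsg.Agent.Omega.EH3.Kf.TwUni
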