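import Cfsg.Agent.Omega.EH3.Kf.TableSL
import Cfsg.Agent.Omega.EH3.Kf.FamG2
import Cfsg.Agent.Omega.EH3.Kf.FamD4
import Cfsg.Agent.Omega.EH3.Kf.FFour
import Cfsg.Agent.Omega.EH3.Kf.TwUni
import Cfsg.Agent.Omega.EH3.Kf.UOdd
import Cfsg.Agent.Omega.EH3.Rank1.UThree
import Cfsg.Agent.Omega.EH3.Rank1.Suz
import Cfsg.Agent.Omega.EH3.RowTwF4

/-!
# EH3, Lie rows: the table, plugged (helper227)

`Open` : the fields of `Table.Rows` which are missing; `rows : Open → Table.Rows`.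
-/

set_option autoImplicit false

namespace Cfsg.Agent.Omega.EH3.Kf.TablePlug

open Cfsg Cfsg.Agent.Omega.EH3.Kf.Main

universe u

/-- the missing rows -/
structure Open : Prop where
  psp : ∀ (F : Type) [Field F] [Fintype F] [CharP F 2] (m : ℕ), 2 ≤ m → (m = 2 → 3 ≤ Fintype.card F) →
    Fam.{u} (PSp m F)
  omm : ∀ (F : Type) [Field F] [Fintype F] [CharP F 2] (m : ℕ) (a b : F), 4 ≤ m →
    (∀ z₁ z₂ : F, z₁ ^ 2 + a * z₁ * z₂ + b * z₂ ^ 2 = 0 → z₁ = 0 ∧ z₂ = 0) →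
    Fam.{u} (POmega F (quadFormMinus (m - 1) F a b))
  twE6 : ∀ (F : Type) [Field F] [Fintype F] [CharP F 2] (q : ℕ), IsPrimePow q → Fintype.card F = q ^ 2 →
    Fam.{u} (Lie.twistedE6 F q)

theorem rows (O : Open.{u}) : Table.Rows.{u} where
  psl := TableSL.psl
  psl2 F _ _ _ _ := Fam.of_kfRow (SLFam.kfRow_PSL (n := 1) F)
  psp := O.psp
  psuEven := TwUni.psuEven
  psuOdd _ _ _ _ _ _ hF hm := Or.inr (UOdd.kfRowU hF hm)
  psu3 _ _ _ _ _ hF hq := Fam.of_row (Rank1.UThree.row_u3' hF hq (MulEquiv.refl _))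
  omp := TableSL.omp
  omm := O.omm
  g2 _ _ _ _ h := Fam.of_kfRow (FamG2.kfRow_of_equiv h (MulEquiv.refl _))
  f4 F _ _ _ := Fam.of_kfRow (FFour.kfRow F)
  e6 := TableSL.e6
  e7 := TableSL.e7
  e8 := TableSL.e8
  twE6 := O.twE6
  twD4 _ _ _ _ _ hq hF := Fam.of_kfRow (FamD4.kfRow hq hF)
  sz _ _ h := Fam.of_row (Rank1.row_sz h)
  ree _ _ h := Fam.of_row (TwF4Row.row_twF4 h)

end Cfsg.Agent.Omega.EH3.Kf.TablePlug
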