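import Cfsg.Agent.Omega.EH3.Kf.Table
import Cfsg.Agent.Omega.EH3.Kf.SLFam

/-!
# EH3, Lie rows: the fields `psl`, `omp`, `e6`, `e7`, `e8` of `Table.Rows` (helper227)
-/

set_option autoImplicit false

namespace Cfsg.Agent.Omega.EH3.Kf.TableSL

open Cfsg Cfsg.Agent.Omega.EH3.Kf.Main

universe u

theorem psl (F : Type) [Field F] [Fintype F] [CharP F 2] (n : ℕ) (hn : 3 ≤ n) :
    Fam.{u} (Matrix.ProjectiveSpecialLinearGroup (Fin n) F) := by
  obtain ⟨m, rfl⟩ : ∃ m, n = m + 1 := ⟨n - 1, by omega⟩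
  exact Fam.of_kfRow (SLFam.kfRow_PSL F)

theorem omp (F : Type) [Field F] [Fintype F] [CharP F 2] (m : ℕ) (hm : 4 ≤ m) :
    Fam.{u} (POmega F (quadFormPlus m F)) := by
  obtain ⟨n, rfl⟩ : ∃ n, m = n + 2 := ⟨m - 2, by omega⟩
  exact Fam.of_kfRow (SLFam.kfRow_OPlus (by omega) F)

theorem e6 (F : Type) [Field F] [Fintype F] [CharP F 2] : Fam.{u} (Lie.chevE6.group F) :=
  Fam.of_kfRow (SLFam.kfRow_E6 F)

theorem e7 (F : Type) [Field F] [Fintype F] [CharP F 2] : Fam.{u} (Lie.chevE7.group F) :=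
  Fam.of_kfRow (SLFam.kfRow_E7 F)

theorem e8 (F : Type) [Field F] [Fintype F] [CharP F 2] : Fam.{u} (Lie.chevE8.group F) :=
  Fam.of_kfRow (SLFam.kfRow_E8 F)

end Cfsg.Agent.Omega.EH3.Kf.TableSL
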